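import Cfsg.Agent.SuzType.PairZ

/-!
# The order of a group of Suzuki type
-/

set_option autoImplicit false

namespace CfsgLib.SuzType

open CfsgLib.LargeExtraspecial

namespace Four

variable {G : Type*} [Group G] [Finite G] {z s θ t : G} {Q P : Subgroup G} {π : G → V6}
  (T : Four z Q π P s θ t)
include T

theorem orderOf_t : orderOf t = 2 := CfsgLib.CITGroups.orderOf_two_of_mul_self T.t_sq T.t_ne_one

/-- Every involution is conjugate to `z` or to `t`. -/
theorem isConj_cases {x : G} (hx : orderOf x = 2) : IsConj z x ∨ IsConj t x := by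
  obtain ⟨a, b, -, -, hab, hall⟩ := T.frame.two_classes
  have hzt := T.not_isConj_z
  rcases hall z T.frame.data.sub.two with hz | hz <;> rcases hall t T.orderOf_t with ht | ht
  · exact absurd (hz.trans ht.symm) hzt
  · rcases hall x hx with h | h
    exacts [Or.inl (hz.trans h.symm), Or.inr (ht.trans h.symm)]
  · rcases hall x hx with h | h
    exacts [Or.inr (ht.trans h.symm), Or.inl (hz.trans h.symm)]
  · exact absurd (hz.trans ht.symm) hzt

/-- The order of `G`. -/
theorem card_eq : Nat.card G = 448345497600 := by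
  rw [CfsgLib.Small.thompson_order z t T.frame.data.sub.two T.orderOf_t T.not_isConj_z
    (fun x hx => T.isConj_cases hx), T.card_pairs_z, T.card_pairs_t, T.card_cent_t,
    T.frame.data.card_cent]
  norm_num

theorem card_eq_factored : Nat.card G = 2 ^ 13 * 3 ^ 7 * 5 ^ 2 * 7 * 11 * 13 := by
  rw [T.card_eq]; norm_num

end Four

/-- The standard configuration in a group of Suzuki type. -/
theorem exists_four_of_type {G : Type*} [Group G] [Finite G] (z : G) (hz : orderOf z = 2)
    (Q : Subgroup (Subgroup.centralizer ({z} : Set G))) [Q.Normal]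
    (hF : Cfsg.generalizedFittingSubgroup (Subgroup.centralizer ({z} : Set G)) = Q)
    (hQ : Cfsg.IsExtraspecial 2 Q) (hcard : Nat.card Q = 2 ^ 7)
    (e : (Subgroup.centralizer ({z} : Set G)) ⧸ Q ≃*
      Cfsg.Omega (ZMod 2) (Cfsg.quadFormMinus 2 (ZMod 2) 1 1))
    (hnwc : ∃ g : G, (∃ hq : g * z * g⁻¹ ∈ Subgroup.centralizer ({z} : Set G),
      (⟨g * z * g⁻¹, hq⟩ : Subgroup.centralizer ({z} : Set G)) ∈ Q) ∧ g * z * g⁻¹ ≠ z) :
    ∃ (Q' P : Subgroup G) (π : G → V6) (s θ t : G), Four z Q' π P s θ t := by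
  obtain ⟨Q', π, D⟩ := exists_data z hz Q hF hQ hcard e hnwc
  obtain ⟨P, s, F⟩ := exists_frame D
  obtain ⟨θ, t, T⟩ := exists_four F
  exact ⟨Q', P, π, s, θ, t, T⟩

end CfsgLib.SuzType
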