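import Cfsg.Agent.SuzType.SevenCent

/-!
# Involutions centralising an element of order seven
-/

set_option autoImplicit false

namespace CfsgLib.SuzType

theorem alt_four_comm : ∀ a b : alternatingGroup (Fin 4), a * a = 1 → b * b = 1 → a * b = b * a := by
  decide +kernel

namespace Four

open CfsgLib.LargeExtraspecial

variable {G : Type*} [Group G] [Finite G] {z s θ t : G} {Q P : Subgroup G} {π : G → V6}
  (T : Four z Q π P s θ t)
include T

theorem commute_of_seven {x u v : G} (hx : orderOf x = 7) (hu : u * u = 1) (hv : v * v = 1)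
    (hux : u * x = x * u) (hvx : v * x = x * v) : u * v = v * u := by
  obtain ⟨e⟩ := T.cent_seven_equiv (B := Subgroup.zpowers x) (by rw [Nat.card_zpowers, hx])
  have hmem : ∀ w, w * x = x * w →
      w ∈ Subgroup.centralizer (Subgroup.zpowers x : Set G) := fun w hw => by
    rw [Subgroup.mem_centralizer_iff]
    intro y hy
    obtain ⟨i, rfl⟩ := Subgroup.mem_zpowers_iff.1 hy
    exact ((show Commute x w from hw.symm).zpow_left i).eq
  obtain ⟨a, ha⟩ : ∃ a, a = e ⟨u, hmem u hux⟩ := ⟨_, rfl⟩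
  obtain ⟨b, hb⟩ : ∃ b, b = e ⟨v, hmem v hvx⟩ := ⟨_, rfl⟩
  have key : ∀ {w : G} (hw : w * w = 1) (hwx : w * x = x * w),
      (e ⟨w, hmem w hwx⟩).2 * (e ⟨w, hmem w hwx⟩).2 = 1 := fun {w} hw hwx => by
    rw [← Prod.snd_mul, ← map_mul]
    rw [show (⟨w, hmem w hwx⟩ : Subgroup.centralizer (Subgroup.zpowers x : Set G)) * ⟨w, hmem w hwx⟩
      = 1 from Subtype.ext hw, map_one, Prod.snd_one]
  have hab : a * b = b * a := Prod.ext (mul_comm _ _)
    (alt_four_comm _ _ (ha ▸ key hu hux) (hb ▸ key hv hvx))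
  rw [ha, hb, ← map_mul, ← map_mul] at hab
  exact congrArg Subtype.val (e.injective hab)

end Four

end CfsgLib.SuzType
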