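import Cfsg.Agent.SuzType.Classes

/-!
# The anisotropic involutions are not conjugate to `z`
-/

set_option autoImplicit false

namespace CfsgLib.SuzType

open CfsgLib.LargeExtraspecial

theorem fixed_count : ∀ u : V6, InU u →
    16 ≤ (Finset.univ.filter fun v => sie u v = v).card := by decide +kernel

theorem orth3_std : s0 ∈ orth3 a0 u0 ∧ mk6 4 ∈ orth3 a0 u0 ∧ mk6 8 ∈ orth3 a0 u0 := by
  decide +kernel

theorem pr_aniso : okPair (16, 32) = true ∧ pr (16, 32) s0 = s0 ∧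
    pr (16, 32) (mk6 4) = mk6 4 ∧ pr (16, 32) (mk6 8) = mk6 8 ∧ pr (16, 32) a0 ≠ a0 ∧
    ∀ v : V6, pr (16, 32) (pr (16, 32) (pr (16, 32) v)) = v := by decide +kernel

theorem a0_ne : a0 ≠ 0 ∧ u0 ≠ 0 ∧ a0 ≠ u0 := by decide

/-- The isometries fixing `s0`, `4` and `8`. -/
def stab3 : Subgroup (Equiv.Perm V6) where
  carrier := {σ | IsIso6 σ ∧ σ s0 = s0 ∧ σ (mk6 4) = mk6 4 ∧ σ (mk6 8) = mk6 8}
  one_mem' := ⟨⟨fun _ _ => rfl, fun _ => rfl⟩, rfl, rfl, rfl⟩
  mul_mem' := by
    rintro σ τ ⟨hσ, h1, h2, h3⟩ ⟨hτ, h1', h2', h3'⟩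
    exact ⟨⟨fun u v => by simp [hσ.add, hτ.add], fun v => by simp [hσ.quad, hτ.quad]⟩,
      by simp [h1, h1'], by simp [h2, h2'], by simp [h3, h3']⟩
  inv_mem' := by
    rintro σ ⟨hσ, h1, h2, h3⟩
    refine ⟨⟨fun u v => σ.injective ?_, fun v => ?_⟩, ?_, ?_, ?_⟩
    · simp [hσ.add]
    · rw [← hσ.quad]; simp
    · exact σ.injective (by simp [h1])
    · exact σ.injective (by simp [h2])
    · exact σ.injective (by simp [h3])

theorem card_stab3_le : Nat.card stab3 ≤ 24 := by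
  classical
  have hmem : ∀ σ : stab3, (σ.1 d0, σ.1 a0, σ.1 u0) ∈ candList.toFinset := by
    rintro ⟨σ, hσ, h1, h2, h3⟩
    have hL : ∀ v, b6 v (mk6 4) = false → b6 v (mk6 8) = false → σ v ∈
        (((List.range 64).map mk6).filter fun v =>
          b6 v (mk6 4) == false && b6 v (mk6 8) == false) := fun v h h' => by
      have e4 : b6 (σ v) (mk6 4) = false := by rw [← h2, hσ.polar]; exact h
      have e8 : b6 (σ v) (mk6 8) = false := by rw [← h3, hσ.polar]; exact h'
      simp [List.mem_filter, mem_range_mk6, e4, e8]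
    simp only [List.mem_toFinset, candList, List.mem_flatMap, List.mem_map]
    have hs : ∀ v, b6 (σ v) s0 = b6 v s0 := fun v => by conv_lhs => rw [← h1, hσ.polar]
    refine ⟨σ d0, List.mem_filter.2 ⟨hL _ (by decide) (by decide), ?_⟩, σ a0,
      List.mem_filter.2 ⟨hL _ (by decide) (by decide), ?_⟩, σ u0,
      List.mem_filter.2 ⟨hL _ (by decide) (by decide), ?_⟩, rfl⟩
    · rw [hσ.quad, hs]; decide
    · rw [hσ.quad, hs, hσ.polar]; decide
    · rw [hσ.quad, hs, hσ.polar, hσ.polar]; decide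
  have h := Nat.card_le_card_of_injective (fun σ => (⟨_, hmem σ⟩ : candList.toFinset))
    fun σ τ h => Subtype.ext (Equiv.ext fun v => by
      obtain ⟨σ, hσ, h1, h2, h3⟩ := σ
      obtain ⟨τ, hτ, h1', h2', h3'⟩ := τ
      have h' : (σ d0, σ a0, σ u0) = (τ d0, τ a0, τ u0) :=
        congrArg (fun t : candList.toFinset => (t : V6 × V6 × V6)) h
      simp only [Prod.mk.injEq] at h'
      have hcode : code6 σ = code6 τ := by
        show [σ s0, σ d0, σ (mk6 4), σ (mk6 8), σ a0, σ u0] =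
          [τ s0, τ d0, τ (mk6 4), τ (mk6 8), τ a0, τ u0]
        rw [h1, h2, h3, h1', h2', h3', h'.1, h'.2.1, h'.2.2]
      show σ v = τ v
      rw [← hσ.app6_code v, ← hτ.app6_code v, hcode])
  rw [Nat.card_eq_finsetCard] at h
  exact h.trans ((List.toFinset_card_le _).trans candList_card.le)

namespace Frame

variable {G : Type*} [Group G] [Finite G] {z s : G} {Q P : Subgroup G} {π : G → V6}
  (F : Frame z Q π P s)
include F

/-- A lower bound for the centralizer in `Q` of an involution of `C(z)` outside `Q`. -/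
theorem exists_centralizing {x : G} (hx : x * z = z * x) (h2 : x * x = 1) (hxQ : x ∉ Q) :
    ∃ K : Subgroup G, 16 ≤ Nat.card K ∧ ∀ q ∈ K, q ∈ Q ∧ q * x = x * q := by
  classical
  obtain ⟨c, u, hc, hu, -, hact⟩ := F.data.exists_conj_sie hx h2 hxQ
  have hci : c⁻¹ * z = z * c⁻¹ := (Commute.inv_left hc).eq
  obtain ⟨y, hy⟩ : ∃ y, y = c * x * c⁻¹ := ⟨_, rfl⟩
  rw [← hy] at hact
  have hyz : y * z = z * y := hy ▸ ((Commute.mul_left hc hx).mul_left (Commute.inv_left hc)).eq
  set T := Finset.univ.filter fun v => sie u v = v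
  have hzmem : ∀ b : Bool, (if b then z else 1) ∈ Q := fun b => by
    cases b <;> simp [F.data.sub.z_mem]
  set e : T × Bool → G := fun p => (if p.2 then z else 1) * F.data.sec p.1.1 with he
  have heQ : ∀ p, e p ∈ Q := fun p => mul_mem (hzmem _) (F.data.sec_mem _)
  have heπ : ∀ p, π (e p) = p.1.1 := fun p => by
    show π (_ * _) = _
    rw [F.data.map_mul _ (hzmem _) _ (F.data.sec_mem _), F.data.π_sec]
    cases p.2 <;> simp [F.data.π_z, F.data.π_one]
  have hinj : Function.Injective e := by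
    rintro ⟨v, b⟩ ⟨v', b'⟩ h
    have hv : v = v' := Subtype.ext (by rw [← heπ (v, b), h, heπ])
    subst hv
    have h2 : (if b then z else 1) = (if b' then z else 1) := mul_right_cancel h
    have hne := F.data.sub.ne_one
    cases b <;> cases b'
    · rfl
    · exact absurd h2.symm hne
    · exact absurd h2 hne
    · rfl
  have hcomm : ∀ p, y * e p * y⁻¹ = e p ∨ y * e p * y⁻¹ = z * e p := fun p => by
    have h : π (e p) = π (y * e p * y⁻¹) := by
      rw [← F.data.act_π hyz (heQ p), hact, heπ]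
      exact (Finset.mem_filter.1 p.1.2).2.symm
    exact F.data.eq_or_eq_of_π_eq (heQ p) (F.data.sub.conj_mem hyz (heQ p)) h
  let K₀ : Subgroup G := Q ⊓ Subgroup.centralizer ({y} : Set G)
  have hK₀ : 16 ≤ Nat.card K₀ := by
    have h32 : 32 ≤ Nat.card (T × Bool) := by
      rw [Nat.card_prod, Nat.card_eq_finsetCard, Nat.card_eq_fintype_card, Fintype.card_bool]
      have := fixed_count u hu
      show 32 ≤ T.card * 2
      have : 16 ≤ T.card := this
      omega
    by_cases hall : ∀ p, y * e p * y⁻¹ = e p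
    · have := Nat.card_le_card_of_injective (fun p => (⟨e p, heQ p,
        Subgroup.mem_centralizer_singleton_iff.2 (mul_inv_eq_iff_eq_mul.1 (hall p)).symm⟩ : K₀))
        fun a b h => hinj (congrArg Subtype.val h)
      omega
    · push Not at hall
      obtain ⟨p1, hp1⟩ := hall
      have hp1' := (hcomm p1).resolve_left hp1
      have key : ∀ p, y * e p * y⁻¹ ≠ e p →
          ((e p1)⁻¹ * e p) * y = y * ((e p1)⁻¹ * e p) := fun p hp => by
        have hp' := (hcomm p).resolve_left hp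
        refine (mul_inv_eq_iff_eq_mul.1 ?_).symm
        calc y * ((e p1)⁻¹ * e p) * y⁻¹ = (y * e p1 * y⁻¹)⁻¹ * (y * e p * y⁻¹) := by group
          _ = (e p1)⁻¹ * e p := by rw [hp1', hp']; group
      let j : T × Bool → K₀ × Bool := fun p =>
        if hp : y * e p * y⁻¹ = e p then
          (⟨e p, heQ p, Subgroup.mem_centralizer_singleton_iff.2 (mul_inv_eq_iff_eq_mul.1 hp).symm⟩, false)
        else (⟨(e p1)⁻¹ * e p, Q.mul_mem (Q.inv_mem (heQ p1)) (heQ p),
          Subgroup.mem_centralizer_singleton_iff.2 (key p hp)⟩, true)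
      have hj : Function.Injective j := fun a b h => by
        simp only [j] at h
        split at h <;> split at h <;> simp only [Prod.mk.injEq, Bool.false_eq_true,
          Bool.true_eq_false, and_false] at h
        · exact hinj (congrArg (fun t : K₀ => (t : G)) h.1 :)
        · exact hinj (mul_left_cancel (congrArg (fun t : K₀ => (t : G)) h.1 :))
      have := Nat.card_le_card_of_injective j hj
      have hb : Nat.card (K₀ × Bool) = Nat.card K₀ * 2 := by
        rw [Nat.card_prod, Nat.card_eq_fintype_card (α := Bool), Fintype.card_bool]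
      omega
  refine ⟨K₀.map (MulAut.conj c⁻¹).toMonoidHom, ?_, ?_⟩
  · rw [Subgroup.card_map_of_injective (MulAut.conj c⁻¹).injective]; exact hK₀
  · rintro _ ⟨q, ⟨hq, hqy⟩, rfl⟩
    simp only [MulEquiv.coe_toMonoidHom, MulAut.conj_apply]
    refine ⟨F.data.sub.conj_mem hci hq, ?_⟩
    have h := (Commute.conj_iff c⁻¹).2
      (show Commute q y from Subgroup.mem_centralizer_singleton_iff.1 hqy)
    rw [hy, show c⁻¹ * (c * x * c⁻¹) * (c⁻¹)⁻¹ = x by group] at h
    exact h.eq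

/-- Standard anisotropic involutions are not conjugate to `z`. -/
theorem not_isConj {a w : G} (ha : a ∈ Q) (has : a * s = s * a) (hw : w ∈ P) (hwz : w * z = z * w)
    (hA : cls π a = a0) (hU : F.ups w = u0) :
    ¬ IsConj z (a * w) := by
  classical
  intro hconj
  obtain ⟨g, hg⟩ := isConj_iff.1 hconj
  obtain ⟨ha0ne, hu0ne, hne⟩ := a0_ne
  obtain ⟨x, hx⟩ : ∃ x, x = a * w := ⟨_, rfl⟩
  rw [← hx] at hg
  have hxz : x * z = z * x := hx ▸ (Commute.mul_left (F.data.Q_comm ha) hwz).eq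
  have hxQ : x ∉ Q := fun h => by
    have hwQ : w ∈ Q := by
      rw [show w = a⁻¹ * x by rw [hx]; group]; exact mul_mem (inv_mem ha) h
    exact hu0ne (by rw [← hU, F.ups_memE (F.memE_of_mem hwQ hw)])
  have hactx : ∀ v, F.data.act x v = sie u0 v := fun v => by
    rw [hx, F.data.act_mul (F.data.Q_comm ha) hwz, F.data.act_of_mem ha, F.act_W hw hwz, hU]
  have hcard : 9 ≤ Nat.card Q := by rw [F.data.card]; norm_num
  -- key consequence of the containment lemma
  have hkey : ∀ {h : G}, g⁻¹ * (h * z * h⁻¹) * g ∈ Q → h * z * h⁻¹ ≠ x → h⁻¹ * x * h ∈ Q := by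
    intro h hm hne'
    have e1 : (g⁻¹ * h) * z * (g⁻¹ * h)⁻¹ = g⁻¹ * (h * z * h⁻¹) * g := by group
    obtain ⟨q, hq, hqe⟩ := F.data.sub.mem_of_conj_mem hcard (g := g⁻¹ * h) (e1 ▸ hm) (fun e => hne' (by
      rw [← hg]
      calc h * z * h⁻¹ = g * ((g⁻¹ * h) * z * (g⁻¹ * h)⁻¹) * g⁻¹ := by group
        _ = g * z * g⁻¹ := by rw [e]))
    simp only [MulEquiv.coe_toMonoidHom, MulAut.conj_apply] at hqe
    have : q = h⁻¹ * x * h := by
      rw [← hg, ← hqe]; group
    exact this ▸ hq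
  have hzX : g⁻¹ * z * g ∉ Q := fun hm => by
    have := hkey (h := 1) (by simpa using hm) (by
      intro e; apply hxQ; rw [← e]; simp [F.data.sub.z_mem])
    exact hxQ (by simpa using this)
  -- centralizer of `x` in `Q`
  have hCs : ∀ c ∈ Q, c * x = x * c → c * s = s * c ∧ π c ∈ orth3 a0 u0 := by
    intro c hc hcx
    have hfix : sie u0 (π c) = π c := by
      rw [← hactx, F.data.act_π hxz hc, mul_inv_eq_iff_eq_mul.2 hcx.symm]
    have ho : b6 (π c) s0 = false :=
      sie_moves u0 std_pair.2.1 hu0ne _ (Or.inl (by rw [hfix, add_self6]))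
    have hcs : c * s = s * c := (F.comm_s_iff hc).2 ho
    have h := F.conj_aw ha has hw hwz hc hcs
    rw [← hx, hA, hU, mul_inv_eq_iff_eq_mul.2 hcx, eq_comm] at h
    have h1 := mul_eq_right.1 h
    obtain ⟨hz1, -, -, hzs1, -, -⟩ := F.zs_facts
    have hzzs : z * (z * s) = s := by rw [← mul_assoc, F.data.sub.mul_self, one_mul]
    have hA' : b6 (cls π c) a0 = false ∧ b6 (cls π c) u0 = false := by
      cases hb1 : b6 (cls π c) a0 <;> cases hb2 : b6 (cls π c) u0 <;> rw [hb1, hb2] at h1 <;>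
        simp [hz1, hzs1, hzzs, F.pair.subP.ne_one] at h1 ⊢
    refine ⟨hcs, Finset.mem_filter.2 ⟨Finset.mem_univ _, ho, ?_, ?_⟩⟩
    · rw [← b6_pU ho (inU_orth _ std_pair.1).1, show pU a0 = a0 from std_pair.1]; exact hA'.1
    · rw [← b6_pU ho (inU_orth _ std_pair.2.1).1, show pU u0 = u0 from std_pair.2.1]; exact hA'.2
  have hlift : ∀ v ∈ orth3 a0 u0, ∃ c ∈ Q, c * x = x * c ∧ π c = v := by
    intro v hv
    obtain ⟨-, ho, hva, hvu⟩ := Finset.mem_filter.1 hv
    obtain ⟨c, hc, hcs, rfl⟩ := F.exists_mem v ho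
    refine ⟨c, hc, mul_inv_eq_iff_eq_mul.1 ?_, rfl⟩
    have h1 : b6 (cls π c) a0 = false := by
      rw [cls, ← show pU a0 = a0 from std_pair.1, b6_pU ho (inU_orth _ std_pair.1).1]; exact hva
    have h2 : b6 (cls π c) u0 = false := by
      rw [cls, ← show pU u0 = u0 from std_pair.2.1, b6_pU ho (inU_orth _ std_pair.2.1).1]; exact hvu
    rw [hx, F.conj_aw ha has hw hwz hc hcs, hA, hU, h1, h2]; simp
  have hnormX : ∀ {c m : G}, c * x = x * c → g⁻¹ * m * g ∈ Q → g⁻¹ * (c * m * c⁻¹) * g ∈ Q := by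
    intro c m hcx hm
    have h : (g⁻¹ * c * g) * z = z * (g⁻¹ * c * g) := by
      calc g⁻¹ * c * g * z = g⁻¹ * (c * (g * z * g⁻¹)) * g := by group
        _ = g⁻¹ * ((g * z * g⁻¹) * c) * g := by rw [hg, hcx]
        _ = z * (g⁻¹ * c * g) := by group
    have := F.data.sub.conj_mem h hm
    rw [show g⁻¹ * (c * m * c⁻¹) * g = (g⁻¹ * c * g) * (g⁻¹ * m * g) * (g⁻¹ * c * g)⁻¹ by group]
    exact this
  have htriv : ∀ m ∈ Q, m * x = x * m → g⁻¹ * m * g ∈ Q → m = 1 := by
    intro m hm hmx hmX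
    obtain ⟨hms, hmo⟩ := hCs m hm hmx
    have hrad : ∀ v ∈ orth3 a0 u0, b6 (π m) v = false := by
      intro v hv
      obtain ⟨c, hc, hcx, rfl⟩ := hlift v hv
      rw [b6_comm]
      refine (F.data.commute_iff hc hm).1 ?_
      rcases F.data.sub.comm_eq hc hm with e | e
      · exact mul_inv_eq_iff_eq_mul.1 (mul_inv_eq_one.1 e)
      · exfalso
        apply hzX
        rw [← e, show g⁻¹ * (c * m * c⁻¹ * m⁻¹) * g = (g⁻¹ * (c * m * c⁻¹) * g) * (g⁻¹ * m * g)⁻¹
          by group]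
        exact mul_mem (hnormX hcx hmX) (inv_mem hmX)
    rcases (F.memE_iff_cls hm).2 (radical_orth3 _ hmo hrad) with r | r | r | r
    · exact r
    · exact absurd (r ▸ hmX) hzX
    · exfalso
      obtain ⟨y, hy0, hy1⟩ := F.exists_swap
      have h := hkey (h := y) (by rw [hy0, ← r]; exact hmX) (by
        intro e; apply hxQ; rw [← e, hy0]; exact F.pair.mem)
      have hxP := (F.swap_mem hy0 hy1).1 h
      rw [show y * (y⁻¹ * x * y) * y⁻¹ = x by group] at hxP
      have haP : a ∈ P := by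
        rw [show a = x * w⁻¹ by rw [hx]; group]; exact mul_mem hxP (inv_mem hw)
      exact ha0ne (by rw [← hA, F.cls_memE (F.memE_of_mem ha haP)])
    · exfalso
      obtain ⟨y, hy0, hy1⟩ := F.exists_swap
      obtain ⟨q, hq, hqz, hqs, hqs', hqb⟩ := F.exists_not_comm
      have hz' : (q * y) * z * (q * y)⁻¹ = z * s := by
        rw [← hqs, ← hy0]; group
      have h := hkey (h := q * y) (by rw [hz', ← r]; exact hmX) (by
        intro e; apply hxQ; rw [← e, hz']; exact mul_mem F.data.sub.z_mem F.pair.mem)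
      have hxP := (F.swap_mem hy0 hy1).1 h
      rw [show y * ((q * y)⁻¹ * x * (q * y)) * y⁻¹ = q⁻¹ * x * q by group] at hxP
      have hwz' : q⁻¹ * x * q * z = z * (q⁻¹ * x * q) :=
        ((Commute.mul_left (Commute.inv_left hqz) hxz).mul_left hqz).eq
      obtain ⟨a', ha', has', hA', heq⟩ := F.conj_W_eq hq hqs' hqb hxP hwz'
      obtain ⟨w', hw'⟩ : ∃ w', w' = q⁻¹ * x * q := ⟨_, rfl⟩
      rw [← hw'] at hA' heq hxP hwz'
      have hxx : a' * w' = a * w := by
        rw [← heq, ← hx, hw']; group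
      have hE : MemE z s (a'⁻¹ * a) := by
        refine F.memE_of_mem (mul_mem (inv_mem ha') ha) ?_
        rw [show a'⁻¹ * a = w' * w⁻¹ by
          calc a'⁻¹ * a = a'⁻¹ * (a * w) * w⁻¹ := by group
            _ = w' * w⁻¹ := by rw [← hxx]; group]
        exact mul_mem hxP (inv_mem hw)
      have hwQ : w' * w⁻¹ = a'⁻¹ * a := by
        calc w' * w⁻¹ = a'⁻¹ * (a' * w') * w⁻¹ := by group
          _ = a'⁻¹ * a := by rw [hxx]; group
      have h1 := F.cls_memE hE
      rw [F.cls_mul (inv_mem ha') ha, F.cls_inv ha', hA, hA'] at h1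
      have h2 := F.ups_memE hE
      have hwi : w⁻¹ * z = z * w⁻¹ := (Commute.inv_left hwz).eq
      have h3 : F.ups (w' * w⁻¹) = F.ups w' + u0 := by
        have h0 : F.ups (w⁻¹) + u0 = 0 := by
          rw [← hU, ← F.ups_mul (inv_mem hw) hwi hw hwz, inv_mul_cancel,
            F.ups_memE (Or.inl rfl)]
        rw [F.ups_mul hxP hwz' (inv_mem hw) hwi, eq_of_add_eq_zero6 h0]
      rw [hwQ, h2] at h3
      exact hne ((eq_of_add_eq_zero6 h1).symm.trans (eq_of_add_eq_zero6 h3.symm))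
  -- the 2-group `T = C(z) ∩ g Q g⁻¹`
  set T : Subgroup G := Q.map (MulAut.conj g).toMonoidHom ⊓ Subgroup.centralizer ({z} : Set G)
  have hT : ∀ t ∈ T, g⁻¹ * t * g ∈ Q ∧ t * z = z * t ∧ t * x = x * t := by
    rintro _ ⟨⟨q, hq, rfl⟩, ht⟩
    refine ⟨by simpa [mul_assoc] using hq, Subgroup.mem_centralizer_singleton_iff.1 ht, ?_⟩
    show g * q * g⁻¹ * x = x * (g * q * g⁻¹)
    have := (Commute.conj_iff g).2 (show Commute q z from F.data.Q_comm hq)
    rw [hg] at this
    exact this.eq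
  have hfixT : ∀ t ∈ T, ∀ v ∈ orth3 a0 u0, F.data.act t v = v := by
    intro t ht v hv
    obtain ⟨htX, htz, htx⟩ := hT t ht
    obtain ⟨c, hc, hcx, rfl⟩ := hlift v hv
    have h1 : t * c * t⁻¹ * c⁻¹ ∈ Q := mul_mem (F.data.sub.conj_mem htz hc) (inv_mem hc)
    have h2 : g⁻¹ * (t * c * t⁻¹ * c⁻¹) * g ∈ Q := by
      rw [show g⁻¹ * (t * c * t⁻¹ * c⁻¹) * g = (g⁻¹ * t * g) * (g⁻¹ * (c * t * c⁻¹) * g)⁻¹ by group]
      exact mul_mem htX (inv_mem (hnormX hcx htX))
    have h3 : t * c * t⁻¹ * c⁻¹ * x = x * (t * c * t⁻¹ * c⁻¹) :=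
      (((Commute.mul_left htx hcx).mul_left (Commute.inv_left htx)).mul_left
        (Commute.inv_left hcx)).eq
    have h4 : t * c * t⁻¹ = c := mul_inv_eq_one.1 (htriv _ h1 h3 h2)
    rw [F.data.act_π htz hc, h4]
  have hTQ : ∀ t ∈ T, t ∈ Q → t = 1 := fun t ht htQ =>
    htriv t htQ (hT t ht).2.2 (hT t ht).1
  let f : T →* Equiv.Perm V6 :=
    F.data.actHom.comp (Subgroup.inclusion (inf_le_right : T ≤ Subgroup.centralizer ({z} : Set G)))
  have hf : ∀ (t : T) v, f t v = F.data.act (t : G) v := fun t v => rfl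
  have hfinj : Function.Injective f := by
    rw [← MonoidHom.ker_eq_bot_iff, eq_bot_iff]
    intro t ht
    refine Subgroup.mem_bot.2 (Subtype.ext (hTQ t t.2 (F.data.mem_of_act (hT t t.2).2.1 fun v => ?_)))
    rw [← hf, MonoidHom.mem_ker.1 ht]; rfl
  have hfM : f.range ≤ stab3 := by
    rintro _ ⟨t, rfl⟩
    obtain ⟨o1, o2, o3⟩ := orth3_std
    exact ⟨F.data.act_iso (hT t t.2).2.1, hfixT t t.2 _ o1, hfixT t t.2 _ o2, hfixT t t.2 _ o3⟩
  have h16 : 16 ≤ Nat.card T := by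
    have hz' : (g⁻¹ * z * g) * z = z * (g⁻¹ * z * g) := by
      have h := (Commute.conj_iff g⁻¹).2 (show Commute x z from hxz)
      rw [← hg, show g⁻¹ * (g * z * g⁻¹) * (g⁻¹)⁻¹ = z by group, inv_inv] at h
      exact h.eq.symm
    obtain ⟨K, hK, hKm⟩ := F.exists_centralizing hz' (by
      rw [show g⁻¹ * z * g * (g⁻¹ * z * g) = g⁻¹ * (z * z) * g by group, F.data.sub.mul_self]
      group) hzX
    refine hK.trans (Nat.card_le_card_of_injective (fun k => (⟨g * k * g⁻¹, ⟨k, (hKm k k.2).1, rfl⟩,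
      Subgroup.mem_centralizer_singleton_iff.2 ?_⟩ : T)) fun a b h => Subtype.ext
        (mul_left_cancel (mul_right_cancel (congrArg Subtype.val h))))
    have h := (Commute.conj_iff g).2 (show Commute (k : G) (g⁻¹ * z * g) from (hKm k k.2).2)
    rw [show g * (g⁻¹ * z * g) * g⁻¹ = z by group] at h
    exact h.eq
  have : Fact (Nat.Prime 2) := ⟨Nat.prime_two⟩
  have hTp : IsPGroup 2 T := (F.data.sub.extra.1.1.map _).to_le inf_le_left
  obtain ⟨k, hk⟩ := hTp.exists_card_eq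
  have hd : 2 ^ k ∣ Nat.card stab3 := by
    rw [← hk, Nat.card_congr (MonoidHom.ofInjective hfinj).toEquiv]
    exact Subgroup.card_dvd_of_le hfM
  obtain ⟨hok, h1, h4, h8, hmov, hcube⟩ := pr_aniso
  obtain ⟨c, hc, hcv⟩ := F.data.exists_pr hok
  obtain ⟨σ, hσ⟩ : ∃ σ, σ = F.data.actHom ⟨c, Subgroup.mem_centralizer_singleton_iff.2 hc⟩ :=
    ⟨_, rfl⟩
  have hσv : ∀ v, σ v = pr (16, 32) v := fun v => by rw [hσ]; exact hcv v
  have hσM : σ ∈ stab3 := ⟨by rw [hσ]; exact F.data.act_iso hc, by rw [hσv, h1], by rw [hσv, h4],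
    by rw [hσv, h8]⟩
  have : Fact (Nat.Prime 3) := ⟨Nat.prime_three⟩
  have h3σ : orderOf σ = 3 := by
    refine orderOf_eq_prime (Equiv.ext fun v => ?_) fun e => hmov ?_
    · simp only [pow_succ, pow_zero, one_mul, Equiv.Perm.mul_apply, hσv, Equiv.Perm.one_apply]
      exact hcube v
    · rw [← hσv, e]; rfl
  have hd3 : 3 ∣ Nat.card stab3 := by
    have h := orderOf_dvd_natCard (⟨σ, hσM⟩ : stab3)
    rwa [Subgroup.orderOf_mk, h3σ] at h
  have hk4 : 4 ≤ k := by
    by_contra hlt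
    have : 2 ^ k ≤ 2 ^ 3 := Nat.pow_le_pow_right (by norm_num) (by omega)
    omega
  have hd16 : 16 ∣ Nat.card stab3 := (pow_dvd_pow 2 hk4).trans hd
  have h48 : 48 ∣ Nat.card stab3 := Nat.Coprime.mul_dvd_of_dvd_of_dvd (by norm_num : Nat.Coprime 16 3) hd16 hd3
  have hpos : 0 < Nat.card stab3 := Nat.card_pos
  have := Nat.le_of_dvd hpos h48
  have := card_stab3_le
  omega

/-- There are exactly two classes of involutions. -/
theorem two_classes : ∃ a b : G, orderOf a = 2 ∧ orderOf b = 2 ∧ ¬ IsConj a b ∧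
    ∀ x : G, orderOf x = 2 → IsConj x a ∨ IsConj x b := by
  have : Fact (Nat.Prime 2) := ⟨Nat.prime_two⟩
  obtain ⟨a, w, ha, has, hw, hwz, hA, hU, h2⟩ := F.exists_std
  have hne : a * w ≠ 1 := fun e => a0_ne.2.1 (by
    have hwQ : w ∈ Q := by rw [show w = a⁻¹ by rw [eq_inv_of_mul_eq_one_right e]]; exact inv_mem ha
    rw [← hU, F.ups_memE (F.memE_of_mem hwQ hw)])
  refine ⟨z, a * w, F.data.sub.two, orderOf_eq_prime (by rw [pow_two, h2]) hne,
    F.not_isConj ha has hw hwz hA hU, fun x hx => ?_⟩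
  obtain ⟨S, -, hS, -⟩ := F.data.sub.exists_sylow
  have hp : IsPGroup 2 (Subgroup.zpowers x) := IsPGroup.of_card (n := 1) (by
    rw [Nat.card_zpowers, hx, pow_one])
  obtain ⟨T, hT⟩ := hp.exists_le_sylow
  obtain ⟨g, hg⟩ := MulAction.exists_smul_eq G T S
  have hmem : g * x * g⁻¹ ∈ (S : Subgroup G) := by
    rw [← hg]
    exact ⟨x, hT (Subgroup.mem_zpowers _), rfl⟩
  have hx2 : x * x = 1 := by rw [← pow_two, ← hx, pow_orderOf_eq_one]
  have hx1 : x ≠ 1 := fun e => by simp [e] at hx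
  have hgx : IsConj x (g * x * g⁻¹) := isConj_iff.2 ⟨g, rfl⟩
  rcases F.isConj_or_aniso (Subgroup.mem_centralizer_singleton_iff.1 (hS hmem))
    (by rw [show g * x * g⁻¹ * (g * x * g⁻¹) = g * (x * x) * g⁻¹ by group, hx2]; group)
    (fun e => hx1 (conj_eq_one_iff.1 e)) with h | ⟨a', w', ha', has', hw', hwz', hqa, hqu, hb, h⟩
  · exact Or.inl (hgx.trans h.symm)
  · exact Or.inr (hgx.trans (h.symm.trans
      (F.isConj_aniso ha has hw hwz hA hU ha' has' hw' hwz' hqa hqu hb).symm))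

end Frame

end CfsgLib.SuzType
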