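import Cfsg.Agent.SuzType.ThreeNonsplit
import Cfsg.Agent.SuzType.Order
import Cfsg.Agent.Components.Basic
import Cfsg.Agent.Components.FStar

/-!
# Subgroups of order three with a quaternion commutator in a group of Suzuki type
-/

set_option autoImplicit false
set_option linter.style.haveILetI false

namespace CfsgLib.SuzType

open scoped commutatorElement

/-- The conclusions are invariant under automorphisms. -/
theorem transfer_centralizer {G : Type*} [Group G] {θ : G} (e : G ≃* G) (Ym : Subgroup G)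
    (hY : Ym = (Subgroup.zpowers θ).map e.toMonoidHom)
    [(Ym.subgroupOf (Subgroup.centralizer (Ym : Set G))).Normal] {L : Type*} [Group L]
    (h : Cfsg.IsQuasisimple (Subgroup.centralizer ({θ} : Set G)) ∧
      Nonempty ((Subgroup.centralizer ({θ} : Set G) ⧸ Zsub θ) ≃* L) ∧
      (Subgroup.centralizer ({θ} : Set G)).relIndex
        (Subgroup.normalizer (Subgroup.zpowers θ : Set G)) = 2) :
    Cfsg.IsQuasisimple (Subgroup.centralizer (Ym : Set G)) ∧
      Nonempty ((Subgroup.centralizer (Ym : Set G) ⧸ Ym.subgroupOf (Subgroup.centralizer (Ym : Set G))) ≃* L) ∧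
      (Subgroup.centralizer (Ym : Set G)).relIndex (Subgroup.normalizer (Ym : Set G)) = 2 := by
  have hC : (Subgroup.centralizer ({θ} : Set G)).map e.toMonoidHom = Subgroup.centralizer (Ym : Set G) := by
    ext x
    constructor
    · rintro ⟨a, ha, rfl⟩
      refine Subgroup.mem_centralizer_iff.2 fun y hy => ?_
      rw [hY] at hy
      obtain ⟨w, hw, rfl⟩ := hy
      obtain ⟨m, rfl⟩ := Subgroup.mem_zpowers_iff.1 hw
      show e (θ ^ m) * e a = e a * e (θ ^ m)
      rw [← map_mul, ← map_mul,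
        ((show Commute a θ from Subgroup.mem_centralizer_singleton_iff.1 ha).zpow_right m).eq]
    · intro hx
      refine ⟨e.symm x, Subgroup.mem_centralizer_singleton_iff.2 (e.injective ?_), e.apply_symm_apply x⟩
      rw [map_mul, map_mul, e.apply_symm_apply]
      exact (Subgroup.mem_centralizer_iff.1 hx (e θ)
        (by rw [hY]; exact ⟨θ, Subgroup.mem_zpowers θ, rfl⟩)).symm
  obtain ⟨ε, hε⟩ : ∃ ε : Subgroup.centralizer ({θ} : Set G) ≃* Subgroup.centralizer (Ym : Set G),
      ∀ a, (ε a : G) = e a :=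
    ⟨((Subgroup.centralizer ({θ} : Set G)).equivMapOfInjective e.toMonoidHom e.injective).trans
      (MulEquiv.subgroupCongr hC), fun a => rfl⟩
  obtain ⟨hq, ⟨f⟩, hidx⟩ := h
  refine ⟨CfsgLib.Components.isQuasisimple_congr ε hq, ⟨(QuotientGroup.congr (Zsub θ)
    (Ym.subgroupOf (Subgroup.centralizer (Ym : Set G))) ε ?_).symm.trans f⟩, ?_⟩
  · ext x
    rw [Subgroup.mem_subgroupOf]
    constructor
    · rintro ⟨a, ha, rfl⟩
      show (ε a : G) ∈ Ym
      rw [hε, hY]
      exact ⟨(a : G), Subgroup.mem_subgroupOf.1 ha, rfl⟩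
    · intro hx
      obtain ⟨a, rfl⟩ := ε.surjective x
      rw [hε, hY] at hx
      obtain ⟨w, hw, hwe⟩ := hx
      exact ⟨a, Subgroup.mem_subgroupOf.2 (e.injective hwe ▸ hw), rfl⟩
  · rw [← hC, hY, ← Subgroup.map_equiv_normalizer_eq,
      Subgroup.relIndex_map_map_of_injective _ _ e.injective, hidx]

/-- A subgroup of order three of `C(z)` with quaternion commutator on `Q` is conjugate to `⟨θ⟩`. -/
theorem exists_three {G : Type*} [Group G] [Finite G] {z : G} (hz : orderOf z = 2)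
    {Q : Subgroup (Subgroup.centralizer ({z} : Set G))} [Q.Normal]
    (hF : Cfsg.generalizedFittingSubgroup (Subgroup.centralizer ({z} : Set G)) = Q)
    (hQ : Cfsg.IsExtraspecial 2 Q) (hcard : Nat.card Q = 2 ^ 7)
    (e : (Subgroup.centralizer ({z} : Set G)) ⧸ Q ≃*
      Cfsg.Omega (ZMod 2) (Cfsg.quadFormMinus 2 (ZMod 2) 1 1))
    (hnwc : ∃ g : G, (∃ hq : g * z * g⁻¹ ∈ Subgroup.centralizer ({z} : Set G),
      (⟨g * z * g⁻¹, hq⟩ : Subgroup.centralizer ({z} : Set G)) ∈ Q) ∧ g * z * g⁻¹ ≠ z)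
    (Y : Subgroup (Subgroup.centralizer ({z} : Set G))) (hY : Nat.card Y = 3)
    (hQY : Nat.card ↥⁅Q, Y⁆ = 8) (hQYna : ¬ IsMulCommutative ↥⁅Q, Y⁆) :
    ∃ (Q' P : Subgroup G) (π : G → V6) (s θ t : G) (_ : Four z Q' π P s θ t) (d : G),
      Y.map (Subgroup.centralizer ({z} : Set G)).subtype =
        (Subgroup.zpowers θ).map (MulAut.conj d).toMonoidHom := by
  classical
  haveI : Fact (Nat.Prime 3) := ⟨Nat.prime_three⟩
  haveI : Fact (Nat.Prime 2) := ⟨Nat.prime_two⟩
  obtain ⟨Q', P, π, s, θ, t, T⟩ := exists_four_of_type z hz Q hF hQ hcard e hnwc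
  have D := T.frame.data
  -- the two subgroups agree
  have hQC : Q' ≤ Subgroup.centralizer ({z} : Set G) :=
    fun x hx => Subgroup.mem_centralizer_singleton_iff.2 (D.Q_comm hx)
  have hQeq : Q'.subgroupOf (Subgroup.centralizer ({z} : Set G)) = Q := by
    haveI : (Q'.subgroupOf (Subgroup.centralizer ({z} : Set G))).Normal := ⟨fun x hx g => by
      rw [Subgroup.mem_subgroupOf] at hx ⊢
      exact D.sub.conj_mem (Subgroup.mem_centralizer_singleton_iff.1 g.2) hx⟩
    refine Subgroup.eq_of_le_of_card_ge ?_ ?_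
    · rw [← hF]
      exact (CfsgLib.Components.le_fittingSubgroup (N := Q'.subgroupOf (Subgroup.centralizer ({z} : Set G)))
        ((D.isPGroup_Q.comap_of_injective _ (Subgroup.subtype_injective _)).isNilpotent)).trans
          CfsgLib.Components.fitting_le_generalizedFitting
    · rw [hcard, Nat.card_congr (Subgroup.subgroupOfEquivOfLe hQC).toEquiv, D.card]
      norm_num
  -- the generator
  haveI : IsCyclic Y := isCyclic_of_prime_card hY
  obtain ⟨y, hy⟩ := IsCyclic.exists_ofOrder_eq_natCard (α := Y)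
  rw [hY] at hy
  have hyG : orderOf (((y : Subgroup.centralizer ({z} : Set G))) : G) = 3 := by
    rw [Subgroup.orderOf_coe, Subgroup.orderOf_coe, hy]
  obtain ⟨y', hy'⟩ : ∃ y' : G, y' = ((y : Subgroup.centralizer ({z} : Set G)) : G) := ⟨_, rfl⟩
  rw [← hy'] at hyG
  have hyz : y' * z = z * y' := hy' ▸ Subgroup.mem_centralizer_singleton_iff.1
    (y : Subgroup.centralizer ({z} : Set G)).2
  have hy3 : y' * y' * y' = 1 := by
    have h := pow_orderOf_eq_one y'
    rwa [hyG, pow_succ, pow_two] at h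
  have hyQ : y' ∉ Q' := fun h => by
    have h1 := Q'.orderOf_dvd_natCard h
    rw [hyG, D.card] at h1
    norm_num at h1
  -- the commutator subgroup in `G`
  obtain ⟨L, hL⟩ : ∃ L, L = (⁅Q, Y⁆).map (Subgroup.centralizer ({z} : Set G)).subtype := ⟨_, rfl⟩
  have hLQ : L ≤ Q' := by
    rw [hL]
    rintro _ ⟨x, hx, rfl⟩
    have hx' : x ∈ Q := Subgroup.commutator_le_left Q Y hx
    rw [← hQeq, Subgroup.mem_subgroupOf] at hx'
    exact hx'
  have hLcard : Nat.card L = 8 := by
    rw [hL, Subgroup.card_map_of_injective (Subgroup.subtype_injective _), hQY]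
  have hzL : z ∈ L := by
    by_contra hzL
    refine hQYna ⟨⟨fun a b => Subtype.ext (Subtype.ext ?_)⟩⟩
    have ha : ((a : Subgroup.centralizer ({z} : Set G)) : G) ∈ L := hL ▸ ⟨_, a.2, rfl⟩
    have hb : ((b : Subgroup.centralizer ({z} : Set G)) : G) ∈ L := hL ▸ ⟨_, b.2, rfl⟩
    simp only [Subgroup.coe_mul]
    rcases D.sub.conj_eq (hLQ ha) (hLQ hb) with h | h
    · exact mul_inv_eq_iff_eq_mul.1 h
    · exfalso
      refine hzL ?_
      have := mul_mem (mul_mem (mul_mem ha hb) (inv_mem ha)) (inv_mem hb)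
      rwa [h, mul_inv_cancel_right] at this
  obtain ⟨F, hF'⟩ : ∃ F : L →* Multiplicative V6, ∀ x, F x = Multiplicative.ofAdd (π (x : G)) :=
    ⟨MonoidHom.mk' (fun x => Multiplicative.ofAdd (π (x : G))) fun a b => by
      rw [← ofAdd_add]
      exact congrArg _ (D.map_mul _ (hLQ a.2) _ (hLQ b.2)), fun _ => rfl⟩
  have hker : 2 ≤ Nat.card F.ker := by
    haveI : Nontrivial F.ker := ⟨⟨⟨⟨z, hzL⟩, by
      rw [MonoidHom.mem_ker, hF', D.π_z]; rfl⟩, 1, fun h => D.sub.ne_one
        (congrArg (fun x : F.ker => ((x : L) : G)) h)⟩⟩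
    exact Finite.one_lt_card
  have hrange : Nat.card F.range ≤ 4 := by
    have h := F.ker.card_mul_index
    rw [Subgroup.index_ker, hLcard] at h
    nlinarith
  obtain ⟨S, hS⟩ : ∃ S : Finset V6, S = (Finset.univ.filter fun v => ∃ x ∈ L, π x = v) := ⟨_, rfl⟩
  have hS4 : S.card ≤ 4 := by
    refine le_trans ?_ hrange
    rw [← Nat.card_eq_finsetCard]
    refine Nat.card_le_card_of_injective
      (fun v : S => (⟨Multiplicative.ofAdd v.1, by
        have hv := v.2
        simp only [hS, Finset.mem_filter, Finset.mem_univ, true_and] at hv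
        obtain ⟨x, hx, hxe⟩ := hv
        exact ⟨⟨x, hx⟩, by rw [hF', hxe]⟩⟩ : F.range)) fun a b h =>
      Subtype.ext (Multiplicative.ofAdd.injective (congrArg Subtype.val h :))
  obtain ⟨d, -, hd⟩ := T.exists_conj_theta hyz hy3 hyQ S hS4 fun v => by
    obtain ⟨x, hx, rfl⟩ := D.surj v
    simp only [hS, Finset.mem_filter, Finset.mem_univ, true_and]
    refine ⟨y' * x * y'⁻¹ * x⁻¹, ?_, ?_⟩
    · rw [hL]
      refine ⟨⁅(y : Subgroup.centralizer ({z} : Set G)), ⟨x, hQC hx⟩⁆, ?_, ?_⟩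
      · rw [Subgroup.commutator_comm]
        exact Subgroup.commutator_mem_commutator y.2 (by rw [← hQeq]; exact hx)
      · simp [commutatorElement_def, hy']
    · rw [D.map_mul _ (D.sub.conj_mem hyz hx) _ (inv_mem hx), D.π_inv hx, ← D.act_π hyz hx]
  refine ⟨Q', P, π, s, θ, t, T, d, ?_⟩
  rw [MonoidHom.map_zpowers]
  have hm : y' ∈ Y.map (Subgroup.centralizer ({z} : Set G)).subtype := ⟨_, y.2, hy'.symm⟩
  show _ = Subgroup.zpowers (d * θ * d⁻¹)
  rw [hd]
  refine (Subgroup.eq_of_le_of_card_ge (Subgroup.zpowers_le.2 hm) ?_).symm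
  rw [Subgroup.card_map_of_injective (Subgroup.subtype_injective _), hY, Nat.card_zpowers, hyG]

end CfsgLib.SuzType
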