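import Cfsg.Agent.SuzType.SevenOuter
import Cfsg.Agent.BSW.Theorem
import Cfsg.Agent.Small.KleinSylow
import Cfsg.Agent.S0228

/-!
# The centralizer and normalizer of a subgroup of order seven
-/

set_option autoImplicit false
set_option linter.style.haveILetI false

namespace CfsgLib.SuzType

open CfsgLib.LargeExtraspecial

/-- A group with centralisers of involutions four groups. -/
theorem card_of_four_cent {F : Type*} [Group F] [Finite F] {u : F} (hu : orderOf u = 2)
    (hall : ∀ x : F, orderOf x = 2 → Nat.card (Subgroup.centralizer ({x} : Set F)) = 4 ∧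
      ∀ y ∈ Subgroup.centralizer ({x} : Set F), y * y = 1) :
    Nat.card F = 4 ∨ Nat.card F = 12 ∨ Nat.card F = 60 := by
  classical
  haveI : Fact (Nat.Prime 2) := ⟨Nat.prime_two⟩
  haveI := Fintype.ofFinite F
  obtain ⟨P, huP⟩ := (IsPGroup.of_card (n := 1) (by rw [Nat.card_zpowers, hu, pow_one]) :
    IsPGroup 2 (Subgroup.zpowers u)).exists_le_sylow
  have huP' : u ∈ (P : Subgroup F) := huP (Subgroup.mem_zpowers u)
  -- the Sylow subgroup is a four group
  haveI : Nontrivial (P : Subgroup F) := ⟨⟨⟨u, huP'⟩, 1, fun e => by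
    have e' : u = 1 := congrArg Subtype.val e
    rw [e', orderOf_one] at hu; omega⟩⟩
  obtain ⟨c, hc⟩ := exists_prime_orderOf_dvd_card' (G := Subgroup.center (P : Subgroup F)) 2 (by
    obtain ⟨k, hk⟩ := IsPGroup.iff_card.1 (P.isPGroup'.to_subgroup (Subgroup.center _))
    haveI := P.isPGroup'.center_nontrivial
    rcases k with _ | k
    · rw [pow_zero] at hk
      exact absurd hk Finite.one_lt_card.ne'
    · rw [hk]; exact dvd_pow_self 2 (by omega))
  have hcF : orderOf ((c : (P : Subgroup F)) : F) = 2 := by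
    rw [Subgroup.orderOf_coe, Subgroup.orderOf_coe, hc]
  obtain ⟨C, hC⟩ : ∃ C, C = Subgroup.centralizer ({((c : (P : Subgroup F)) : F)} : Set F) := ⟨_, rfl⟩
  obtain ⟨hC4, hCsq⟩ := hall _ hcF
  rw [← hC] at hC4 hCsq
  have hPC : (P : Subgroup F) ≤ C := fun x hx => by
    rw [hC, Subgroup.mem_centralizer_singleton_iff]
    exact congrArg Subtype.val (Subgroup.mem_center_iff.1 c.2 ⟨x, hx⟩)
  have hP4 : Nat.card (P : Subgroup F) = 4 := by
    refine le_antisymm ((Subgroup.card_le_of_le hPC).trans_eq hC4) (Nat.le_of_dvd Nat.card_pos ?_)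
    exact P.pow_dvd_card_of_pow_dvd_card (n := 2) (show 2 ^ 2 ∣ Nat.card F from
      (show 4 ∣ Nat.card F from hC4 ▸ C.card_subgroup_dvd_card))
  have hPsq : ∀ x ∈ (P : Subgroup F), x * x = 1 := fun x hx => hCsq x (hPC hx)
  have hPk : IsKleinFour (P : Subgroup F) := by
    refine ⟨hP4, ?_⟩
    have hd : Monoid.exponent (P : Subgroup F) ∣ 2 := Monoid.exponent_dvd_of_forall_pow_eq_one
      fun x => Subtype.ext (by rw [SubmonoidClass.coe_pow, pow_two]; exact hPsq x x.2)
    rcases (Nat.dvd_prime Nat.prime_two).1 hd with h | h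
    · haveI := Monoid.exp_eq_one_iff.1 h
      rw [Nat.card_eq_one_iff_unique.2 ⟨inferInstance, inferInstance⟩] at hP4
      omega
    · exact h
  rcases CfsgLib.Small.kleinFour_normalizer_dichotomy P hPk with hle | ⟨htr, -⟩
  · left
    obtain ⟨M, hM⟩ : ∃ M, M = (MonoidHom.transferSylow P hle).ker := ⟨_, rfl⟩
    have hcompl := MonoidHom.ker_transferSylow_isComplement' P hle
    rw [← hM] at hcompl
    haveI hMn : M.Normal := hM ▸ MonoidHom.normal_ker _
    have hcard := hcompl.card_mul_card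
    rw [hP4] at hcard
    have hinv : ∀ a ∈ (P : Subgroup F), a ≠ 1 → ∀ x ∈ M, a * x * a = x⁻¹ := by
      intro a ha ha1
      have ha2 := hPsq a ha
      refine CfsgLib.CITGroups.inverts_of_fixedPointFree ha2 (fun x hx => ?_) fun x hx hcx => ?_
      · have := hMn.conj_mem x hx a
        rwa [inv_eq_of_mul_eq_one_right ha2] at this
      · obtain ⟨h4, -⟩ := hall a (CfsgLib.CITGroups.orderOf_two_of_mul_self ha2 ha1)
        have hPle : (P : Subgroup F) ≤ Subgroup.centralizer ({a} : Set F) := fun y hy =>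
          Subgroup.mem_centralizer_singleton_iff.2 (CfsgLib.Small.kleinFour_comm hPk hy ha)
        have hxP : x ∈ (P : Subgroup F) := by
          rw [Subgroup.eq_of_le_of_card_ge hPle (by rw [h4, hP4]),
            Subgroup.mem_centralizer_singleton_iff]
          exact hcx.symm
        exact Subgroup.mem_bot.1 (hcompl.disjoint.le_bot ⟨hx, hxP⟩)
    -- a second involution of `P` gives an inverting product
    obtain ⟨a, ha, ha1⟩ : ∃ a ∈ (P : Subgroup F), a ≠ 1 := ⟨u, huP', fun e => by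
      rw [e, orderOf_one] at hu; omega⟩
    obtain ⟨b, hb, hb1, hba⟩ : ∃ b ∈ (P : Subgroup F), b ≠ 1 ∧ b ≠ a := by
      by_contra h
      push_neg at h
      have hsub : ((P : Subgroup F) : Set F) ⊆ {1, a} := fun y hy => by
        by_cases hy1 : y = 1
        · exact Or.inl hy1
        · exact Or.inr (h y hy hy1)
      have h' : Set.ncard ((P : Subgroup F) : Set F) ≤ 2 :=
        (Set.ncard_le_ncard hsub).trans ((Set.ncard_insert_le _ _).trans (by simp))
      rw [← Nat.card_coe_set_eq] at h'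
      change Nat.card (P : Subgroup F) ≤ 2 at h'
      omega
    have hM1 : M = ⊥ := by
      rw [Subgroup.eq_bot_iff_forall]
      intro x hx
      have h1 := hinv a ha ha1 x hx
      have h2 := hinv b hb hb1 x⁻¹ (inv_mem hx)
      have hab : (b * a) * (b * a) = 1 := hPsq _ (mul_mem hb ha)
      have hab1 : b * a ≠ 1 := fun e => hba (by
        rw [eq_inv_of_mul_eq_one_left e, inv_eq_of_mul_eq_one_right (hPsq a ha)])
      have h3 := hinv (b * a) (mul_mem hb ha) hab1 x hx
      have hcm : a * b = b * a := CfsgLib.Small.kleinFour_comm hPk ha hb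
      have e : b * a * x * (b * a) = x := by
        calc b * a * x * (b * a) = b * a * x * (a * b) := by rw [hcm]
          _ = b * (a * x * a) * b := by group
          _ = x := by rw [h1, h2, inv_inv]
      rw [e] at h3
      have hx2 : x * x = 1 := mul_eq_one_iff_eq_inv.2 h3
      by_contra hne
      have h4 : orderOf x ∣ Nat.card M := M.orderOf_dvd_natCard hx
      rw [CfsgLib.CITGroups.orderOf_two_of_mul_self hx2 hne] at h4
      have hodd : ¬ 2 ∣ (P : Subgroup F).index := P.not_dvd_index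
      have hidx : (P : Subgroup F).index = Nat.card M := by
        have := (P : Subgroup F).card_mul_index
        rw [hP4, ← hcard] at this
        linarith
      exact hodd (hidx ▸ h4)
    rw [hM1, Subgroup.card_bot, one_mul] at hcard
    exact hcard.symm
  · right
    have hconj : ∀ x y : F, orderOf x = 2 → orderOf y = 2 → IsConj x y := by
      intro x y hx hy
      obtain ⟨g, hg⟩ := CfsgLib.Small.exists_conj_mem_sylow P hx
      obtain ⟨k, hk⟩ := CfsgLib.Small.exists_conj_mem_sylow P hy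
      have hne : ∀ {g x : F}, orderOf x = 2 → g * x * g⁻¹ ≠ 1 := fun {g x} h e => by
        rw [conj_eq_one_iff.1 e, orderOf_one] at h; omega
      obtain ⟨n, -, hn⟩ := htr _ hg _ hk (hne hx) (hne hy)
      refine isConj_iff.2 ⟨k⁻¹ * n * g, ?_⟩
      rw [show k⁻¹ * n * g * x * (k⁻¹ * n * g)⁻¹ = k⁻¹ * (n * (g * x * g⁻¹) * n⁻¹) * k by group, hn]
      group
    have hu1 : u ≠ 1 := fun e => by rw [e, orderOf_one] at hu; omega
    have hu2 : u * u = 1 := by rw [← pow_two, ← hu, pow_orderOf_eq_one]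
    obtain ⟨h4, hsq⟩ := hall u hu
    obtain ⟨K, hK⟩ : ∃ K, K = Subgroup.zpowers u := ⟨_, rfl⟩
    have hKmem : ∀ {x}, x ∈ K → x = 1 ∨ x = u := by
      intro x hx
      rw [hK] at hx
      obtain ⟨n, hn⟩ := Subgroup.mem_zpowers_iff.1 hx
      rcases Int.even_or_odd' n with ⟨j, rfl | rfl⟩
      · left; rw [← hn, zpow_mul, zpow_two, hu2, one_zpow]
      · right; rw [← hn, zpow_add, zpow_mul, zpow_two, hu2, one_zpow, one_mul, zpow_one]
    have hKle : K ≤ Subgroup.centralizer ({u} : Set F) :=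
      hK ▸ Subgroup.zpowers_le.2 (Subgroup.mem_centralizer_singleton_iff.2 rfl)
    have hK2 : Nat.card K = 2 := by rw [hK, Nat.card_zpowers, hu]
    obtain ⟨v, hv, hvK⟩ : ∃ v ∈ Subgroup.centralizer ({u} : Set F), v ∉ K :=
      SetLike.not_le_iff_exists.1 fun h => by
        have := Subgroup.card_le_of_le h
        omega
    have hv1 : v ≠ 1 := fun e => hvK (e ▸ one_mem _)
    have hv2 := CfsgLib.CITGroups.orderOf_two_of_mul_self (hsq v hv) hv1
    have hvu := Subgroup.mem_centralizer_singleton_iff.1 hv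
    obtain ⟨h, hh⟩ : ∃ h : CfsgLib.BSW.Hyp F, h.t = u ∧ h.K = K :=
      ⟨{ t := u, s := v, K := K, ht := hu, hs := hv2
         comm := fun x hx y hy => by
           rcases hKmem hx with r | r <;> rcases hKmem hy with r' | r' <;> simp [r, r']
         le_cent := hKle
         t_mem := hK ▸ Subgroup.mem_zpowers u
         s_cent := hv
         s_notMem := hvK
         sup_eq := by
           refine Subgroup.eq_of_le_of_card_ge (sup_le hKle (Subgroup.zpowers_le.2 hv)) ?_
           rw [h4]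
           obtain ⟨S, hS⟩ : ∃ S, S = K ⊔ Subgroup.zpowers v := ⟨_, rfl⟩
           rw [← hS]
           have hle : S ≤ Subgroup.centralizer ({u} : Set F) :=
             hS ▸ sup_le hKle (Subgroup.zpowers_le.2 hv)
           have hlt : K < S := lt_of_le_of_ne (hS ▸ le_sup_left) fun e => hvK (by
             rw [e, hS]; exact Subgroup.mem_sup_right (Subgroup.mem_zpowers v))
           have h1 : Nat.card S ∣ 4 := h4 ▸ Subgroup.card_dvd_of_le hle
           have h2 := Set.ncard_lt_ncard (SetLike.coe_ssubset_coe.2 hlt) (Set.toFinite _)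
           rw [← Nat.card_coe_set_eq, ← Nat.card_coe_set_eq] at h2
           change Nat.card K < Nat.card S at h2
           have := Nat.le_of_dvd (by norm_num) h1
           interval_cases hS' : Nat.card S <;> omega
         fixed := fun x hx _ => hKmem hx
         inverts := fun x hx => by
           rcases hKmem hx with r | r <;> rw [r]
           · group
           · rw [inv_eq_of_mul_eq_one_right hu2, hvu, mul_inv_cancel_right]
         ti := fun g hg x hx hgx => by
           rcases hKmem hx with r | r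
           · exact r
           · rcases hKmem hgx with r' | r'
             · exact conj_eq_one_iff.1 r'
             · exfalso
               rw [r, mul_inv_eq_iff_eq_mul] at r'
               exact hg (Subgroup.mem_centralizer_singleton_iff.2 r')
         conj := hconj }, rfl, rfl⟩
    obtain ⟨σ, hσ, hI, -⟩ := h.exists_pairCount
    have hk : h.k = 2 := by show Nat.card h.K = 2; rw [hh.2, hK2]
    have hI' : Nat.card F = 4 * h.I := by
      have := h.H.card_mul_index
      rw [show h.H = Subgroup.centralizer ({u} : Set F) by rw [← hh.1], h4] at this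
      rw [← this]
      show _ = 4 * (Subgroup.centralizer ({h.t} : Set F)).index
      rw [hh.1]
    rw [hk] at hI
    rcases hσ with r | r <;> rw [r] at hI <;> norm_num at hI <;> omega

/-- The arithmetic of the Sylow count. -/
theorem seven_arith {n N f : ℕ} (hn : n % 7 = 1) (hN : n * N = 7 * 64049356800)
    (h1 : 7 * f ∣ N) (h2 : N ∣ 7 * f * 6) (hf : f = 4 ∨ f = 12 ∨ f = 60) :
    f = 12 ∧ N = 504 := by
  obtain ⟨k, rfl⟩ := h1
  have hf0 : 0 < 7 * f := by omega
  have hk6 : k ∣ 6 := (Nat.mul_dvd_mul_iff_left hf0).1 h2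
  have := Nat.le_of_dvd (by norm_num) hk6
  rcases hf with r | r | r <;> subst r <;> interval_cases k <;> omega

namespace Four

variable {G : Type*} [Group G] [Finite G] {z s θ t : G} {Q P : Subgroup G} {π : G → V6}
  (T : Four z Q π P s θ t)
include T

theorem card_eq_seven : Nat.card G = 7 * 64049356800 := by rw [T.card_eq]

theorem sq_mem_K {x : G} (hx : x * t = t * x) : x * x ∈ Kgrp θ t := by
  refine mem_Kgrp.2 ⟨(Commute.mul_left hx hx).eq, mul_inv_eq_iff_eq_mul.1 ?_⟩
  rw [show x * x * (θ * t * θ⁻¹) * (x * x)⁻¹ = x * (x * (θ * t * θ⁻¹) * x⁻¹) * x⁻¹ by group]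
  rcases T.X_normalizes hx with e | e <;> rw [e]
  · exact e
  · rw [show x * (t * (θ * t * θ⁻¹)) * x⁻¹ = x * t * x⁻¹ * (x * (θ * t * θ⁻¹) * x⁻¹) by group,
      mul_inv_eq_iff_eq_mul.2 hx, e, ← mul_assoc, T.t_sq, one_mul]

theorem mem_K_of_orderOf_seven {b : G} (hbt : b * t = t * b) (hb : orderOf b = 7) :
    b ∈ Kgrp θ t := by
  have h : b = (b * b) ^ 4 := by
    rw [← pow_two, ← pow_mul, show 2 * 4 = 7 + 1 by norm_num, pow_succ, ← hb, pow_orderOf_eq_one,
      one_mul]
  exact h ▸ pow_mem (T.sq_mem_K hbt) 4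

/-- An element of `C(t)` centralising one of order seven is in `K`. -/
theorem cent_seven_mem_K {b x : G} (hb : orderOf b = 7) (hbK : b ∈ Kgrp θ t) (hxt : x * t = t * x)
    (hc : x * b = b * x) : x ∈ Kgrp θ t := by
  have : Fact (Nat.Prime 2) := ⟨Nat.prime_two⟩
  by_contra hxK
  rcases T.X_normalizes hxt with e | e
  · exact hxK (mem_Kgrp.2 ⟨hxt, mul_inv_eq_iff_eq_mul.1 e⟩)
  obtain ⟨i, v, hv, hx2⟩ := T.cent_seven_K hb hbK (T.sq_mem_K hxt)
    (Commute.mul_left hc hc).eq
  -- the seventh power is an element of order dividing four outside `K`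
  obtain ⟨y, hy⟩ : ∃ y, y = x ^ 7 := ⟨_, rfl⟩
  have hyt : y * t = t * y := hy ▸ ((show Commute x t from hxt).pow_left 7).eq
  have hyb : y * b = b * y := hy ▸ ((show Commute x b from hc).pow_left 7).eq
  have hyK : y ∉ Kgrp θ t := fun h => hxK (by
    have e7 : x = y * ((x * x) ^ 3)⁻¹ := by
      rw [hy, eq_mul_inv_iff_mul_eq, ← pow_two, ← pow_mul, ← pow_succ']
    rw [e7]
    exact mul_mem h (inv_mem (pow_mem (T.sq_mem_K hxt) 3)))
  have hy2 : y * y = v := by
    rw [hy, ← pow_add, show 7 + 7 = 2 * 7 by norm_num, pow_mul, pow_two, hx2,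
      (show Commute (b ^ i) v from hv.comm (zpow_mem hbK i)).mul_pow,
      show v ^ 7 = v by rw [pow_succ, show 6 = 2 * 3 by norm_num, pow_mul, pow_two, T.memV_sq hv,
        one_pow, one_mul],
      ← zpow_natCast (b ^ i) 7, ← zpow_mul, mul_comm, zpow_mul, zpow_natCast, ← hb,
      pow_orderOf_eq_one, one_zpow, one_mul]
  have hyv : y * v * y⁻¹ = v := by rw [← hy2]; group
  have hyt1 : y * (θ * t * θ⁻¹) * y⁻¹ = t * (θ * t * θ⁻¹) :=
    (T.X_normalizes hyt).resolve_left fun h => hyK (mem_Kgrp.2 ⟨hyt, mul_inv_eq_iff_eq_mul.1 h⟩)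
  obtain ⟨t1, ht1⟩ : ∃ t1, t1 = θ * t * θ⁻¹ := ⟨_, rfl⟩
  rw [← ht1] at hyt1
  have ht12 : t1 * t1 = 1 := ht1 ▸ T.t1_sq
  rcases hv with r | r | r | r
  · exact T.no_outer hyt (hy2.trans r) hyK hbK hb hyb
  · have ht1K : t1 ∈ Kgrp θ t := ht1 ▸ T.memV_mem (Or.inr (Or.inr (Or.inl rfl)))
    have ht1c : Commute t1 b :=
      (show MemV θ t t1 from ht1 ▸ Or.inr (Or.inr (Or.inl rfl))).comm hbK |>.symm
    refine T.no_outer (w := y * t1) (Commute.mul_left hyt (mem_Kgrp.1 ht1K).1).eq ?_ (fun h => hyK ?_)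
      hbK hb (Commute.mul_left hyb ht1c).eq
    · calc y * t1 * (y * t1) = y * t1 * y⁻¹ * (y * y) * t1 := by group
        _ = 1 := by
          rw [hyt1, hy2, r, mul_assoc t t1 t, (mem_Kgrp.1 ht1K).1, ← mul_assoc, T.t_sq, one_mul, ht12]
    · have := mul_mem h ht1K
      rwa [mul_assoc, ht12, mul_one] at this
  · rw [r, ← ht1, hyt1] at hyv
    exact T.t_ne_one (mul_eq_right.1 hyv)
  · rw [r, ← ht1, show y * (t * t1) * y⁻¹ = y * t * y⁻¹ * (y * t1 * y⁻¹) by group,
      mul_inv_eq_iff_eq_mul.2 hyt, hyt1, ← mul_assoc, T.t_sq, one_mul] at hyv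
    exact T.t_ne_one (mul_eq_right.1 hyv.symm)

/-- The centralizer of an element of order seven and an involution. -/
theorem cent_seven_invol {b u : G} (hb : orderOf b = 7) (hu : orderOf u = 2) (hc : u * b = b * u) :
    Nat.card (Subgroup.centralizer ({b, u} : Set G)) = 28 ∧
      ∀ y ∈ Subgroup.centralizer ({b, u} : Set G), y * y ∈ Subgroup.zpowers b := by
  have F := T.frame
  rcases T.isConj_cases hu with h | h
  · exfalso
    obtain ⟨g, rfl⟩ := isConj_iff.1 h
    have hm : g⁻¹ * b * g ∈ Subgroup.centralizer ({z} : Set G) := by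
      rw [Subgroup.mem_centralizer_singleton_iff]
      have h' := (Commute.conj_iff g⁻¹).2 (show Commute b (g * z * g⁻¹) from hc.symm)
      rw [show g⁻¹ * (g * z * g⁻¹) * g⁻¹⁻¹ = z by group, inv_inv] at h'
      exact h'.eq
    have h7 := (Subgroup.centralizer ({z} : Set G)).orderOf_dvd_natCard hm
    rw [show g⁻¹ * b * g = MulAut.conj g⁻¹ b by simp, (MulAut.conj g⁻¹).orderOf_eq, hb,
      F.data.card_cent] at h7
    norm_num at h7
  obtain ⟨g, rfl⟩ := isConj_iff.1 h
  obtain ⟨b1, hb1⟩ : ∃ b1, b1 = g⁻¹ * b * g := ⟨_, rfl⟩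
  have hb17 : orderOf b1 = 7 := by
    rw [hb1, show g⁻¹ * b * g = MulAut.conj g⁻¹ b by simp, (MulAut.conj g⁻¹).orderOf_eq, hb]
  have hb1t : b1 * t = t * b1 := by
    have h' := (Commute.conj_iff g⁻¹).2 (show Commute b (g * t * g⁻¹) from hc.symm)
    rw [show g⁻¹ * (g * t * g⁻¹) * g⁻¹⁻¹ = t by group, inv_inv, ← hb1] at h'
    exact h'.eq
  have hb1K := T.mem_K_of_orderOf_seven hb1t hb17
  have hbb : b = g * b1 * g⁻¹ := by rw [hb1]; group
  -- membership
  have hmem : ∀ y, y ∈ Subgroup.centralizer ({b, g * t * g⁻¹} : Set G) ↔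
      (g⁻¹ * y * g) ∈ Kgrp θ t ∧ g⁻¹ * y * g * b1 = b1 * (g⁻¹ * y * g) := by
    intro y
    have hconj : ∀ a : G, g * a * g⁻¹ * y = y * (g * a * g⁻¹) ↔
        a * (g⁻¹ * y * g) = g⁻¹ * y * g * a := fun a => by
      constructor <;> intro e
      · calc a * (g⁻¹ * y * g) = g⁻¹ * (g * a * g⁻¹ * y) * g := by group
          _ = g⁻¹ * (y * (g * a * g⁻¹)) * g := by rw [e]
          _ = _ := by group
      · calc g * a * g⁻¹ * y = g * (a * (g⁻¹ * y * g)) * g⁻¹ := by group
          _ = g * (g⁻¹ * y * g * a) * g⁻¹ := by rw [e]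
          _ = _ := by group
    rw [Subgroup.mem_centralizer_iff]
    simp only [Set.mem_insert_iff, Set.mem_singleton_iff, forall_eq_or_imp, forall_eq]
    rw [hbb, hconj, hconj]
    exact ⟨fun ⟨h1, h2⟩ => ⟨T.cent_seven_mem_K hb17 hb1K h2.symm h1.symm, h1.symm⟩,
      fun ⟨h1, h2⟩ => ⟨h2.symm, (mem_Kgrp.1 h1).1.symm⟩⟩
  constructor
  · let f : Subgroup.zpowers b1 × T.Vk → Subgroup.centralizer ({b, g * t * g⁻¹} : Set G) := fun p =>
      ⟨g * (p.1.1 * ((p.2.1 : Kgrp θ t) : G)) * g⁻¹, (hmem _).2 (by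
        have hv : MemV θ t ((p.2.1 : Kgrp θ t) : G) := p.2.2
        obtain ⟨i, hi⟩ := Subgroup.mem_zpowers_iff.1 p.1.2
        rw [show g⁻¹ * (g * (p.1.1 * ((p.2.1 : Kgrp θ t) : G)) * g⁻¹) * g =
          p.1.1 * ((p.2.1 : Kgrp θ t) : G) by group, ← hi]
        exact ⟨mul_mem (zpow_mem hb1K i) p.2.1.2,
          (Commute.mul_left ((Commute.refl b1).zpow_left i) (hv.comm hb1K).symm).eq⟩)⟩
    have hf : Function.Bijective f := by
      constructor
      · rintro ⟨⟨p, hp⟩, ⟨⟨v, hvK⟩, hv⟩⟩ ⟨⟨p', hp'⟩, ⟨⟨v', hvK'⟩, hv'⟩⟩ h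
        have h' : p * v = p' * v' := mul_left_cancel (mul_right_cancel (congrArg Subtype.val h :
          g * (p * v) * g⁻¹ = g * (p' * v') * g⁻¹))
        obtain ⟨d, hd⟩ : ∃ d, d = p'⁻¹ * p := ⟨_, rfl⟩
        have hd' : d = v' * v⁻¹ := by
          calc d = p'⁻¹ * (p * v) * v⁻¹ := by rw [hd]; group
            _ = _ := by rw [h']; group
        have hdV : MemV θ t d := hd' ▸ T.memV_mul hv' (T.memV_inv hv)
        have hdB : d ∈ Subgroup.zpowers b1 := hd ▸ mul_mem (inv_mem hp') hp
        have h7 := (Subgroup.zpowers b1).orderOf_dvd_natCard hdB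
        rw [Nat.card_zpowers, hb17] at h7
        have hd1 : d = 1 := orderOf_eq_one_iff.1 (Nat.eq_one_of_dvd_coprimes
          (by norm_num : Nat.Coprime 7 2) h7
          (orderOf_dvd_of_pow_eq_one (by rw [pow_two]; exact T.memV_sq hdV)))
        rw [hd1] at hd
        obtain rfl : p' = p := by rw [← mul_one p', hd, mul_inv_cancel_left]
        obtain rfl : v = v' := mul_left_cancel h'
        rfl
      · rintro ⟨y, hy⟩
        obtain ⟨h1, h2⟩ := (hmem y).1 hy
        obtain ⟨i, v, hv, he⟩ := T.cent_seven_K hb17 hb1K h1 h2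
        exact ⟨(⟨_, Subgroup.zpow_mem_zpowers b1 i⟩, ⟨⟨v, T.memV_mem hv⟩, hv⟩), Subtype.ext (by
          show g * (b1 ^ i * v) * g⁻¹ = y
          rw [← he]; group)⟩
    rw [← Nat.card_eq_of_bijective f hf, Nat.card_prod, Nat.card_zpowers, hb17, T.card_Vk]
  · intro y hy
    obtain ⟨h1, h2⟩ := (hmem y).1 hy
    obtain ⟨i, v, hv, he⟩ := T.cent_seven_K hb17 hb1K h1 h2
    refine Subgroup.mem_zpowers_iff.2 ⟨i * 2, ?_⟩
    have hcomm : Commute (b1 ^ i) v := hv.comm (zpow_mem hb1K i)
    rw [hbb, conj_zpow, zpow_mul, zpow_two,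
      show y = g * (g⁻¹ * y * g) * g⁻¹ by group, he,
      show g * (b1 ^ i * v) * g⁻¹ * (g * (b1 ^ i * v) * g⁻¹) =
        g * (b1 ^ i * v * (b1 ^ i * v)) * g⁻¹ by group,
      hcomm.symm.mul_mul_mul_comm, T.memV_sq hv, mul_one]

/-- The order of the centralizer and of the normalizer. -/
theorem card_cent_seven {B : Subgroup G} (hB : Nat.card B = 7) :
    Nat.card (Subgroup.centralizer (B : Set G)) = 84 ∧
      Nat.card (Subgroup.normalizer (B : Set G)) = 504 ∧
      ∀ b ∈ B, b ≠ 1 → ∀ u ∈ Subgroup.centralizer (B : Set G), orderOf u = 2 →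
        Nat.card (Subgroup.centralizer ({b, u} : Set G)) = 28 := by
  classical
  haveI : Fact (Nat.Prime 7) := ⟨by norm_num⟩
  haveI : Fact (Nat.Prime 2) := ⟨Nat.prime_two⟩
  have hgen : ∀ b ∈ B, b ≠ 1 → orderOf b = 7 ∧ B = Subgroup.zpowers b := by
    intro b hbB hb1
    have h := B.orderOf_dvd_natCard hbB
    rw [hB] at h
    have h7 : orderOf b = 7 := ((Nat.dvd_prime (by norm_num)).1 h).resolve_left
      fun e => hb1 (orderOf_eq_one_iff.1 e)
    exact ⟨h7, (Subgroup.eq_of_le_of_card_ge (Subgroup.zpowers_le.2 hbB)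
      (by rw [hB, Nat.card_zpowers, h7])).symm⟩
  obtain ⟨b, hbB, hb1⟩ : ∃ b ∈ B, b ≠ 1 := by
    by_contra h
    push_neg at h
    rw [(Subgroup.eq_bot_iff_forall B).2 h, Subgroup.card_bot] at hB
    norm_num at hB
  obtain ⟨hb7, hBb⟩ := hgen b hbB hb1
  -- a commuting involution exists
  obtain ⟨b0, hb0⟩ : ∃ b0 : Kgrp θ t, orderOf b0 = 7 :=
    exists_prime_orderOf_dvd_card' 7 (by rw [T.card_K]; norm_num)
  obtain ⟨P7, hP7⟩ : ∃ P7 : Sylow 7 G, (P7 : Subgroup G) = B := ⟨Sylow.ofCard B (by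
    rw [hB, T.card_eq_seven, Nat.factorization_mul (by norm_num) (by norm_num), Finsupp.add_apply,
      Nat.Prime.factorization_self (by norm_num),
      Nat.factorization_eq_zero_of_not_dvd (by norm_num : ¬ 7 ∣ 64049356800)]
    norm_num), rfl⟩
  have hb0' : orderOf (b0 : G) = 7 := by rw [Subgroup.orderOf_coe, hb0]
  obtain ⟨P0, hP0⟩ := (IsPGroup.of_card (n := 1) (by rw [Nat.card_zpowers, hb0', pow_one]) :
    IsPGroup 7 (Subgroup.zpowers (b0 : G))).exists_le_sylow
  obtain ⟨g, hg⟩ := MulAction.exists_smul_eq G P0 P7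
  obtain ⟨u, hu, hub⟩ : ∃ u, orderOf u = 2 ∧ u * b = b * u := by
    refine ⟨g * t * g⁻¹, ((MulAut.conj g).orderOf_eq t).trans T.orderOf_t, ?_⟩
    have hmem : g * (b0 : G) * g⁻¹ ∈ B := by
      rw [← hP7, ← hg]
      exact ⟨b0, hP0 (Subgroup.mem_zpowers _), rfl⟩
    obtain ⟨-, hB0⟩ := hgen _ hmem (fun e => by
      rw [conj_eq_one_iff.1 e, orderOf_one] at hb0'; norm_num at hb0')
    rw [hB0] at hbB
    obtain ⟨i, hi⟩ := Subgroup.mem_zpowers_iff.1 hbB
    rw [← hi]
    exact (((Commute.conj_iff g).2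
      (show Commute t (b0 : G) from (mem_Kgrp.1 b0.2).1.symm)).zpow_right i).eq
  obtain ⟨H, hH⟩ : ∃ H, H = Subgroup.centralizer (B : Set G) := ⟨_, rfl⟩
  have hmemH : ∀ {x}, x ∈ H ↔ x * b = b * x := fun {x} => by
    rw [hH, Subgroup.mem_centralizer_iff]
    refine ⟨fun h => (h b hbB).symm, fun h y hy => ?_⟩
    rw [SetLike.mem_coe, hBb] at hy
    obtain ⟨i, rfl⟩ := Subgroup.mem_zpowers_iff.1 hy
    exact ((show Commute b x from h.symm).zpow_left i).eq
  have hBH : B ≤ H := fun x hx => hmemH.2 (by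
    rw [hBb] at hx
    obtain ⟨i, rfl⟩ := Subgroup.mem_zpowers_iff.1 hx
    exact ((Commute.refl b).zpow_left i).eq)
  obtain ⟨BH, hBHd⟩ : ∃ BH, BH = B.subgroupOf H := ⟨_, rfl⟩
  haveI hn : BH.Normal := ⟨fun n hn g => by
    rw [hBHd, Subgroup.mem_subgroupOf] at hn ⊢
    have hc : (g : G) * (n : G) = (n : G) * (g : G) := by
      have hg' := g.2
      rw [hmemH] at hg'
      rw [hBb] at hn
      obtain ⟨i, hi⟩ := Subgroup.mem_zpowers_iff.1 hn
      rw [← hi]
      exact ((show Commute (g : G) b from hg').zpow_right i).eq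
    simpa [hc] using hn⟩
  have hBHc : Nat.card BH = 7 := by
    rw [hBHd, Nat.card_congr (Subgroup.subgroupOfEquivOfLe hBH).toEquiv, hB]
  have hmem7 : ∀ x : BH, ((x : H) : G) ^ 7 = 1 := fun x => by
    have h := pow_card_eq_one' (x := x)
    rw [hBHc] at h
    exact congrArg (fun y : BH => ((y : H) : G)) h
  -- involutions of the quotient
  have hlift : ∀ q : H ⧸ BH, orderOf q = 2 → ∃ w : H, (w : H ⧸ BH) = q ∧ orderOf (w : G) = 2 := by
    intro q hq
    obtain ⟨x, rfl⟩ := QuotientGroup.mk_surjective q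
    have hx2 : x ^ 2 ∈ BH := by
      rw [← QuotientGroup.eq_one_iff, QuotientGroup.mk_pow, ← hq, pow_orderOf_eq_one]
    refine ⟨x ^ 7, ?_, ?_⟩
    · rw [QuotientGroup.mk_pow, ← pow_mod_orderOf, hq]
      norm_num
    · refine CfsgLib.CITGroups.orderOf_two_of_mul_self ?_ fun e => ?_
      · have h := hmem7 ⟨_, hx2⟩
        simp only [SubmonoidClass.coe_pow] at h ⊢
        rw [← pow_mul] at h
        rw [← pow_add]
        exact h
      · have h1 : (x : H ⧸ BH) ^ 7 = 1 := by
          rw [← QuotientGroup.mk_pow, show x ^ 7 = 1 from Subtype.ext e, QuotientGroup.mk_one]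
        rw [← pow_mod_orderOf, hq, pow_one] at h1
        rw [h1, orderOf_one] at hq
        norm_num at hq
  have hall : ∀ q : H ⧸ BH, orderOf q = 2 →
      Nat.card (Subgroup.centralizer ({q} : Set (H ⧸ BH))) = 4 ∧
      ∀ y ∈ Subgroup.centralizer ({q} : Set (H ⧸ BH)), y * y = 1 := by
    intro q hq
    obtain ⟨w, hwq, hw⟩ := hlift q hq
    obtain ⟨h28, hsq⟩ := T.cent_seven_invol hb7 hw (hmemH.1 w.2)
    obtain ⟨C, hC⟩ : ∃ C, C = (Subgroup.centralizer ({b, (w : G)} : Set G)).subgroupOf H := ⟨_, rfl⟩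
    have hmemC : ∀ {x : H}, x ∈ C ↔ (x : G) * w = w * x := fun {x} => by
      rw [hC, Subgroup.mem_subgroupOf, Subgroup.mem_centralizer_iff]
      simp only [Set.mem_insert_iff, Set.mem_singleton_iff, forall_eq_or_imp, forall_eq]
      exact ⟨fun h => h.2.symm, fun h => ⟨(hmemH.1 x.2).symm, h.symm⟩⟩
    have hC28 : Nat.card C = 28 := by
      rw [hC, Nat.card_congr (Subgroup.subgroupOfEquivOfLe (fun x hx => hmemH.2
        (Subgroup.mem_centralizer_iff.1 hx b (by simp)).symm)).toEquiv, h28]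
    have hBC : BH ≤ C := fun x hx => hmemC.2 (by
      rw [hBHd, Subgroup.mem_subgroupOf, hBb] at hx
      obtain ⟨i, hi⟩ := Subgroup.mem_zpowers_iff.1 hx
      rw [← hi]
      exact ((show Commute b (w : G) from (hmemH.1 w.2).symm).zpow_left i).eq)
    have hmap : Subgroup.centralizer ({q} : Set (H ⧸ BH)) = C.map (QuotientGroup.mk' BH) := by
      ext y
      obtain ⟨x, rfl⟩ := QuotientGroup.mk_surjective y
      rw [Subgroup.mem_centralizer_singleton_iff, Subgroup.mem_map]
      constructor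
      · intro h
        refine ⟨x, hmemC.2 ?_, rfl⟩
        rw [← hwq, ← QuotientGroup.mk_mul, ← QuotientGroup.mk_mul, QuotientGroup.eq] at h
        obtain ⟨d, hd⟩ : ∃ d : BH, (d : H) = (x * w)⁻¹ * (w * x) := ⟨⟨_, h⟩, rfl⟩
        have e : (w : G)⁻¹ * ((x : G)⁻¹ * w * x) = (d : H) := by rw [hd]; simp [mul_assoc]
        obtain ⟨r, hr⟩ : ∃ r, r = (x : G)⁻¹ * w * x := ⟨_, rfl⟩
        rw [← hr] at e
        have hr2 : r * r = 1 := by
          rw [hr, show (x : G)⁻¹ * w * x * ((x : G)⁻¹ * w * x) = (x : G)⁻¹ * ((w : G) * w) * x by group,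
            ← pow_two, show (w : G) ^ 2 = 1 by rw [← hw, pow_orderOf_eq_one]]
          group
        have hdw : Commute ((d : H) : G) (w : G) := hmemC.1 (hBC d.2)
        have hre : r = (w : G) * (d : H) := by rw [← e, mul_inv_cancel_left]
        have hd2 : ((d : H) : G) ^ 2 = 1 := by
          rw [hre, hdw.mul_mul_mul_comm, ← pow_two (w : G),
            show (w : G) ^ 2 = 1 by rw [← hw, pow_orderOf_eq_one], one_mul, ← pow_two] at hr2
          exact hr2
        have hd1 : ((d : H) : G) = 1 := orderOf_eq_one_iff.1 (Nat.eq_one_of_dvd_coprimes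
          (by norm_num : Nat.Coprime 7 2) (orderOf_dvd_of_pow_eq_one (hmem7 d))
          (orderOf_dvd_of_pow_eq_one hd2))
        rw [hd1, mul_one, hr] at hre
        calc (x : G) * w = x * ((x : G)⁻¹ * w * x) := by rw [hre]
          _ = w * x := by group
      · rintro ⟨x', hx', e⟩
        rw [← e, ← hwq, QuotientGroup.mk'_apply, ← QuotientGroup.mk_mul, ← QuotientGroup.mk_mul]
        exact congrArg _ (Subtype.ext (hmemC.1 hx'))
    refine ⟨?_, ?_⟩
    · rw [hmap]
      have h := Subgroup.card_mul_index (((QuotientGroup.mk' BH).comp C.subtype).ker)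
      rw [Subgroup.index_ker, show ((QuotientGroup.mk' BH).comp C.subtype).range =
        C.map (QuotientGroup.mk' BH) by rw [MonoidHom.range_comp, Subgroup.range_subtype],
        show ((QuotientGroup.mk' BH).comp C.subtype).ker = BH.subgroupOf C by
          rw [← MonoidHom.comap_ker, QuotientGroup.ker_mk']; rfl,
        Nat.card_congr (Subgroup.subgroupOfEquivOfLe hBC).toEquiv, hBHc, hC28] at h
      omega
    · intro y hy
      rw [hmap] at hy
      obtain ⟨x, hx, rfl⟩ := hy
      rw [← map_mul, QuotientGroup.mk'_apply, QuotientGroup.eq_one_iff, hBHd, Subgroup.mem_subgroupOf]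
      rw [hC, SetLike.mem_coe, Subgroup.mem_subgroupOf] at hx
      rw [hBb]
      exact hsq _ hx
  have huH : u ∈ H := hmemH.2 hub
  have hq2 : orderOf ((⟨u, huH⟩ : H) : H ⧸ BH) = 2 := by
    refine orderOf_eq_prime (by
      rw [← QuotientGroup.mk_pow, show (⟨u, huH⟩ : H) ^ 2 = 1 from Subtype.ext (by
        show u ^ 2 = 1; rw [← hu, pow_orderOf_eq_one]), QuotientGroup.mk_one]) fun e => ?_
    rw [QuotientGroup.eq_one_iff, hBHd, Subgroup.mem_subgroupOf] at e
    have h := B.orderOf_dvd_natCard e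
    rw [hB, hu] at h
    norm_num at h
  have hf := card_of_four_cent hq2 hall
  have hHf : Nat.card H = 7 * Nat.card (H ⧸ BH) := by
    rw [Subgroup.card_eq_card_quotient_mul_card_subgroup BH, hBHc, mul_comm]
  obtain ⟨n, hn1, hn2, hd1, hd2⟩ := sylow_seven_counts T.card_eq_seven (by norm_num) hB
  rw [← hH, hHf] at hd1 hd2
  rw [T.card_eq_seven] at hn2
  obtain ⟨hf12, hN⟩ := seven_arith hn1 hn2 hd1 hd2 hf
  refine ⟨by rw [← hH, hHf, hf12], hN, fun c hc hc1 w hw hw2 => ?_⟩
  exact (T.cent_seven_invol (hgen c hc hc1).1 hw2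
    (Subgroup.mem_centralizer_iff.1 hw c hc).symm).1

/-- The centralizer of a subgroup of order seven. -/
theorem cent_seven_equiv {B : Subgroup G} (hB : Nat.card B = 7) :
    Nonempty (↥(Subgroup.centralizer (B : Set G)) ≃*
      Multiplicative (ZMod 7) × alternatingGroup (Fin 4)) := by
  classical
  haveI : Fact (Nat.Prime 7) := ⟨by norm_num⟩
  obtain ⟨hcard, -, h28⟩ := T.card_cent_seven hB
  obtain ⟨H, hH⟩ : ∃ H, H = Subgroup.centralizer (B : Set G) := ⟨_, rfl⟩
  rw [← hH] at hcard h28 ⊢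
  haveI hcyc : IsCyclic B := isCyclic_of_prime_card hB
  have hBH : B ≤ H := by
    intro x hx
    rw [hH, Subgroup.mem_centralizer_iff]
    intro y hy
    exact congrArg Subtype.val ((IsCyclic.commGroup).mul_comm (⟨y, hy⟩ : B) ⟨x, hx⟩)
  let S : Sylow 7 H := Sylow.ofCard (B.subgroupOf H) (by
    rw [Nat.card_congr (Subgroup.subgroupOfEquivOfLe hBH).toEquiv, hB, hcard,
      show (84 : ℕ) = 7 * 12 by norm_num, Nat.factorization_mul (by norm_num) (by norm_num),
      Finsupp.add_apply, Nat.Prime.factorization_self (by norm_num),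
      Nat.factorization_eq_zero_of_not_dvd (by norm_num : ¬ 7 ∣ 12)]
    norm_num)
  have hcen : ∀ (x : H) (y : H), (y : G) ∈ B → y * x = x * y := fun x y hy => Subtype.ext (by
    have hx : (x : G) ∈ Subgroup.centralizer (B : Set G) := hH ▸ x.2
    exact Subgroup.mem_centralizer_iff.1 hx _ hy)
  have hle : Subgroup.normalizer ((S : Subgroup H) : Set H) ≤
      Subgroup.centralizer ((S : Subgroup H) : Set H) := fun x _ =>
    Subgroup.mem_centralizer_iff.2 fun y hy => hcen x y hy
  obtain ⟨M, hM⟩ : ∃ M, M = (MonoidHom.transferSylow S hle).ker := ⟨_, rfl⟩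
  have hcompl := MonoidHom.ker_transferSylow_isComplement' S hle
  rw [← hM] at hcompl
  have hM12 : Nat.card M = 12 := by
    have h := hcompl.card_mul_card
    rw [show Nat.card (S : Subgroup H) = 7 from
      (Nat.card_congr (Subgroup.subgroupOfEquivOfLe hBH).toEquiv).trans hB, hcard] at h
    omega
  have hA4 : Nonempty (M ≃* alternatingGroup (Fin 4)) := by
    refine Cfsg.Agent.S0228.result hM12 fun w hw hwc => ?_
    obtain ⟨b, hbB, hb1⟩ : ∃ b ∈ B, b ≠ 1 := by
      by_contra h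
      push_neg at h
      rw [(Subgroup.eq_bot_iff_forall B).2 h, Subgroup.card_bot] at hB
      norm_num at hB
    have hw' : orderOf ((w : H) : G) = 2 := by rw [Subgroup.orderOf_coe, Subgroup.orderOf_coe, hw]
    have hall : H ≤ Subgroup.centralizer ({b, ((w : H) : G)} : Set G) := by
      intro x hx
      rw [Subgroup.mem_centralizer_iff]
      simp only [Set.mem_insert_iff, Set.mem_singleton_iff, forall_eq_or_imp, forall_eq]
      refine ⟨Subgroup.mem_centralizer_iff.1 (show x ∈ Subgroup.centralizer (B : Set G) from hH ▸ hx)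
        b hbB, ?_⟩
      -- write `x` as a product of elements of `B` and `M`
      obtain ⟨⟨⟨m, hm⟩, ⟨y, hy⟩⟩, he⟩ := hcompl.2 ⟨x, hx⟩
      have h1 : Commute (w : H) m := congrArg Subtype.val (Subgroup.mem_center_iff.1 hwc ⟨m, hm⟩).symm
      have h2 : Commute (w : H) y := (hcen (w : H) y hy).symm
      have h3 := congrArg (fun r : H => (r : G)) (h1.mul_right h2).eq
      simp only [show m * y = (⟨x, hx⟩ : H) from he, Subgroup.coe_mul] at h3
      exact h3
    have := Subgroup.card_le_of_le hall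
    rw [h28 b hbB hb1 _ (w : H).2 hw', hcard] at this
    norm_num at this
  obtain ⟨eM⟩ := hA4
  have eS : Multiplicative (ZMod 7) ≃* (S : Subgroup H) :=
    (mulEquivOfCyclicCardEq (G := Multiplicative (ZMod 7)) (G' := B) (by
      rw [hB, Nat.card_congr Multiplicative.toAdd, Nat.card_zmod])).trans
      (Subgroup.subgroupOfEquivOfLe hBH).symm
  let φ : ↥(S : Subgroup H) × ↥M →* H :=
    { toFun := fun p => (p.1 : H) * (p.2 : H)
      map_one' := mul_one 1
      map_mul' := fun p q => by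
        show (p.1 : H) * q.1 * ((p.2 : H) * q.2) = (p.1 : H) * p.2 * ((q.1 : H) * q.2)
        rw [mul_assoc, ← mul_assoc (q.1 : H), hcen (p.2 : H) q.1 q.1.2]
        group }
  have e2 : ↥(S : Subgroup H) × ↥M ≃* H := MulEquiv.ofBijective φ (by
    constructor
    · rintro ⟨a, m⟩ ⟨a', m'⟩ h
      have h' : (m : H) * a = (m' : H) * a' := by
        rw [← hcen (m : H) a a.2, ← hcen (m' : H) a' a'.2]; exact h
      have := hcompl.1 (a₁ := (m, a)) (a₂ := (m', a')) h'
      simp only [Prod.mk.injEq] at this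
      exact Prod.ext this.2 this.1
    · intro x
      obtain ⟨⟨m, y⟩, he⟩ := hcompl.2 x
      exact ⟨(y, m), (hcen (m : H) y y.2).trans he⟩)
  exact ⟨e2.symm.trans (eS.symm.prodCongr eM)⟩

end Four

end CfsgLib.SuzType
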