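import Cfsg.Agent.SuzType.FiveLines

/-!
# The normalizer of a Sylow five subgroup modulo that subgroup
-/

set_option autoImplicit false
set_option linter.style.haveILetI false

namespace CfsgLib.SuzType

theorem perm_three_inv : ∀ a b : Equiv.Perm (Fin 3), a * a = 1 → a ≠ 1 → b * b * b = 1 → b ≠ 1 →
    a * b * a⁻¹ = b⁻¹ := by decide +kernel

/-- A group of order twenty-four with central cyclic kernel onto the symmetric group of degree
three. -/
theorem equiv_of_central_kernel {W : Type*} [Group W] [Finite W] (hW : Nat.card W = 24)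
    (φ : W →* Equiv.Perm (Fin 3)) (hφ : Function.Surjective φ)
    (hcen : ∀ x ∈ φ.ker, ∀ y : W, x * y = y * x) (g : W) (hg : g ∈ φ.ker) (hg4 : orderOf g = 4)
    (r : W) (hr : orderOf r = 2) (hrφ : φ r ≠ 1) :
    Nonempty (W ≃* Multiplicative (ZMod 4) × Equiv.Perm (Fin 3)) := by
  haveI : Fact (Nat.Prime 3) := ⟨Nat.prime_three⟩
  have hS6 : Nat.card (Equiv.Perm (Fin 3)) = 6 := by
    rw [Nat.card_perm, Nat.card_fin]; rfl
  have hZ4 : Nat.card φ.ker = 4 := by
    have h := φ.ker.card_mul_index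
    rw [Subgroup.index_ker, MonoidHom.range_eq_top.2 hφ, Subgroup.card_top, hS6, hW] at h
    omega
  haveI hZc : IsCyclic φ.ker := isCyclic_of_orderOf_eq_card ⟨g, hg⟩ (by
    rw [hZ4, ← Subgroup.orderOf_coe]; exact hg4)
  obtain ⟨c, hc⟩ := exists_prime_orderOf_dvd_card' (G := W) 3 (by rw [hW]; norm_num)
  have hr2 : r * r = 1 := by rw [← pow_two, ← hr, pow_orderOf_eq_one]
  have hri : r⁻¹ = r := inv_eq_of_mul_eq_one_right hr2
  have hc3 : c * c * c = 1 := by
    rw [show c * c * c = c ^ 3 by simp [pow_succ], ← hc, pow_orderOf_eq_one]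
  have hcφ : φ c ≠ 1 := fun h => by
    have hd := φ.ker.orderOf_dvd_natCard (MonoidHom.mem_ker.2 h)
    rw [hc, hZ4] at hd
    norm_num at hd
  have hinv : r * c * r⁻¹ = c⁻¹ := by
    have h1 : φ (r * c * r⁻¹) = φ c⁻¹ := by
      rw [map_mul, map_mul, map_inv, map_inv]
      exact perm_three_inv _ _ (by rw [← map_mul, hr2, map_one]) hrφ
        (by rw [← map_mul, ← map_mul, hc3, map_one]) hcφ
    obtain ⟨w, hwd⟩ : ∃ w, w = r * c * r⁻¹ * c := ⟨_, rfl⟩
    have hw : w ∈ φ.ker := by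
      rw [MonoidHom.mem_ker, hwd, map_mul, h1, ← map_mul, inv_mul_cancel, map_one]
    have he : r * c * r⁻¹ = w * c⁻¹ := by rw [hwd]; group
    have hw3 : w ^ 3 = 1 := by
      have h := congrArg (fun x => x ^ 3) he
      simp only [conj_pow, (show Commute w c⁻¹ from hcen w hw c⁻¹).mul_pow, inv_pow] at h
      rw [show c ^ 3 = c * c * c by simp [pow_succ], hc3, inv_one, mul_one, mul_one,
        mul_inv_cancel] at h
      exact h.symm
    have hw1 : w = 1 := orderOf_eq_one_iff.1 (Nat.eq_one_of_dvd_coprimes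
      (by norm_num : Nat.Coprime 3 4) (orderOf_dvd_of_pow_eq_one hw3)
      (hZ4 ▸ φ.ker.orderOf_dvd_natCard hw))
    rw [he, hw1, one_mul]
  have hrc : ∀ i : ℤ, r * c ^ i = c ^ (-i) * r := fun i => by
    calc r * c ^ i = r * c ^ i * r⁻¹ * r := by group
      _ = (r * c * r⁻¹) ^ i * r := by rw [conj_zpow]
      _ = c ^ (-i) * r := by rw [hinv, inv_zpow, zpow_neg]
  let S : Subgroup W :=
    { carrier := {x | ∃ i : ℤ, x = c ^ i ∨ x = c ^ i * r}
      one_mem' := ⟨0, Or.inl (zpow_zero c).symm⟩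
      mul_mem' := by
        rintro x y ⟨i, hx⟩ ⟨j, hy⟩
        rcases hx with rfl | rfl <;> rcases hy with rfl | rfl
        · exact ⟨i + j, Or.inl (zpow_add c i j).symm⟩
        · exact ⟨i + j, Or.inr (by rw [zpow_add, mul_assoc])⟩
        · exact ⟨i + -j, Or.inr (by rw [mul_assoc, hrc, zpow_add, mul_assoc])⟩
        · refine ⟨i + -j, Or.inl ?_⟩
          rw [mul_assoc, ← mul_assoc r, hrc, mul_assoc, hr2, mul_one, zpow_add]
      inv_mem' := by
        rintro x ⟨i, hx⟩
        rcases hx with rfl | rfl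
        · exact ⟨-i, Or.inl (zpow_neg c i).symm⟩
        · refine ⟨i, Or.inr ?_⟩
          rw [mul_inv_rev, hri, ← zpow_neg, hrc, neg_neg] }
  have hφS : ∀ x ∈ S, φ x = 1 → x = 1 := by
    rintro x ⟨i, hx⟩ h
    rcases hx with rfl | rfl
    · have h3 := (Subgroup.zpowers c).orderOf_dvd_natCard (Subgroup.zpow_mem_zpowers c i)
      rw [Nat.card_zpowers, hc] at h3
      exact orderOf_eq_one_iff.1 (Nat.eq_one_of_dvd_coprimes (by norm_num : Nat.Coprime 3 4) h3
        (hZ4 ▸ φ.ker.orderOf_dvd_natCard (MonoidHom.mem_ker.2 h)))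
    · exfalso
      rw [map_mul, map_zpow] at h
      have hr3 : (φ r) ^ 3 = 1 := by
        rw [eq_inv_of_mul_eq_one_right h, inv_pow, ← zpow_natCast (φ c ^ i), ← zpow_mul, mul_comm,
          zpow_mul, zpow_natCast, ← map_pow, show c ^ 3 = c * c * c by simp [pow_succ], hc3, map_one,
          one_zpow, inv_one]
      rw [pow_succ, pow_two, ← map_mul, hr2, map_one, one_mul] at hr3
      exact hrφ hr3
  have hinj : Function.Injective (φ.comp S.subtype) := by
    rw [injective_iff_map_eq_one]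
    exact fun x h => Subtype.ext (hφS x x.2 h)
  have hS : Nat.card S = 6 := by
    have hcS : c ∈ S := ⟨1, Or.inl (zpow_one c).symm⟩
    have hrS : r ∈ S := ⟨0, Or.inr (by rw [zpow_zero, one_mul])⟩
    have h2 := S.orderOf_dvd_natCard hrS
    have h3 := S.orderOf_dvd_natCard hcS
    rw [hr] at h2
    rw [hc] at h3
    have hle := Nat.card_le_card_of_injective _ hinj
    rw [hS6] at hle
    have h6 : 6 ∣ Nat.card S := Nat.Coprime.mul_dvd_of_dvd_of_dvd (by norm_num : Nat.Coprime 2 3) h2 h3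
    exact le_antisymm hle (Nat.le_of_dvd Nat.card_pos h6)
  obtain ⟨eS⟩ : Nonempty (S ≃* Equiv.Perm (Fin 3)) :=
    ⟨MulEquiv.ofBijective (φ.comp S.subtype) ((Nat.bijective_iff_injective_and_card _).2
      ⟨hinj, by rw [hS, hS6]⟩)⟩
  let ψ : φ.ker × S →* W :=
    { toFun := fun p => (p.1 : W) * p.2
      map_one' := mul_one 1
      map_mul' := fun p q => by
        show (p.1 : W) * q.1 * ((p.2 : W) * q.2) = (p.1 : W) * p.2 * ((q.1 : W) * q.2)
        rw [mul_assoc, ← mul_assoc (q.1 : W), hcen q.1 q.1.2 p.2]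
        group }
  have hψ : Function.Injective ψ := by
    rw [injective_iff_map_eq_one]
    rintro ⟨a, x⟩ h
    have h' : (a : W) * x = 1 := h
    have hx : x = 1 := Subtype.ext (hφS x x.2 (by
      have := congrArg φ h'
      rwa [map_mul, MonoidHom.mem_ker.1 a.2, one_mul, map_one] at this))
    subst hx
    simp only [OneMemClass.coe_one, mul_one] at h'
    exact Prod.ext (Subtype.ext h') rfl
  have hψb : Function.Bijective ψ := (Nat.bijective_iff_injective_and_card _).2
    ⟨hψ, by rw [Nat.card_prod, hZ4, hS, hW]⟩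
  exact ⟨(MulEquiv.ofBijective ψ hψb).symm.trans (MulEquiv.prodCongr
    (mulEquivOfCyclicCardEq (G := φ.ker) (G' := Multiplicative (ZMod 4)) (by
      rw [hZ4, Nat.card_congr Multiplicative.toAdd, Nat.card_zmod])) eS)⟩

variable {G : Type*} [Group G] [Finite G]

namespace FiveData

variable {P : Sylow 5 G} {b : G} (D : FiveData P b)
include D

/-- An element fixing three lines acts by powers. -/
theorem scalar {g : Subgroup.normalizer ((P : Subgroup G) : Set G)}
    (hg : ∀ M ∈ MulAction.orbit (Subgroup.normalizer ((P : Subgroup G) : Set G)) D.base, g • M = M) :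
    ∃ k : ℤ, ∀ x ∈ (P : Subgroup G), (g : G) * x * (g : G)⁻¹ = x ^ k := by
  classical
  obtain ⟨B1, B2, B3, h12, h13, h23, hO⟩ := Set.ncard_eq_three.1 D.counts.2
  have hB : D.base ∈ ({B1, B2, B3} : Set (FiveLine (P : Subgroup G))) :=
    hO ▸ MulAction.mem_orbit_self D.base
  obtain ⟨L2, L3, hL2, hL3, h2, h3, h23'⟩ : ∃ L2 L3 : FiveLine (P : Subgroup G),
      L2 ∈ MulAction.orbit (Subgroup.normalizer ((P : Subgroup G) : Set G)) D.base ∧
      L3 ∈ MulAction.orbit (Subgroup.normalizer ((P : Subgroup G) : Set G)) D.base ∧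
      L2 ≠ D.base ∧ L3 ≠ D.base ∧ L2 ≠ L3 := by
    rw [hO]
    rcases hB with r | r | r <;> rw [r]
    · exact ⟨B2, B3, by simp, by simp, h12.symm, h13.symm, h23⟩
    · exact ⟨B1, B3, by simp, by simp, h12, h23.symm, h13⟩
    · exact ⟨B1, B2, by simp, by simp, h13, h23, h12⟩
  obtain ⟨y, hyL, hy5, hyz⟩ := exists_gen_five L2.2.2
  obtain ⟨w, hwL, hw5, hwz⟩ := exists_gen_five L3.2.2
  have hyP := L2.2.1 hyL
  have hwP := L3.2.1 hwL
  have hcomm : ∀ {u v : G}, u ∈ (P : Subgroup G) → v ∈ (P : Subgroup G) → Commute u v :=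
    fun {u v} hu hv => D.comm u hu v hv
  have hne : ∀ (M M' : FiveLine (P : Subgroup G)), M ≠ M' → ∀ u, u ∈ M.1 → u ∈ M'.1 → u = 1 := by
    intro M M' h u hu hu'
    by_contra h1
    exact h (Subtype.ext (((orderOf_five_mem M.2.2 hu h1).2).symm.trans
      (orderOf_five_mem M'.2.2 hu' h1).2))
  -- spanning
  have hspan : ∀ x ∈ (P : Subgroup G), ∃ a e : ℤ, x = b ^ a * y ^ e := by
    let E : Subgroup G :=
      { carrier := {x | ∃ a e : ℤ, x = b ^ a * y ^ e}
        one_mem' := ⟨0, 0, by simp⟩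
        mul_mem' := by
          rintro x x' ⟨a, e, rfl⟩ ⟨a', e', rfl⟩
          refine ⟨a + a', e + e', ?_⟩
          rw [(((hcomm D.hbP hyP).zpow_zpow a' e).symm).mul_mul_mul_comm, ← zpow_add, ← zpow_add]
        inv_mem' := by
          rintro x ⟨a, e, rfl⟩
          refine ⟨-a, -e, ?_⟩
          rw [mul_inv_rev, zpow_neg, zpow_neg,
            (((hcomm D.hbP hyP).zpow_zpow a e).inv_inv).eq] }
    have hEP : E ≤ (P : Subgroup G) := by
      rintro x ⟨a, e, rfl⟩
      exact mul_mem (zpow_mem D.hbP a) (zpow_mem hyP e)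
    have hlt : Subgroup.zpowers b < E := by
      refine lt_of_le_of_ne (Subgroup.zpowers_le.2 ⟨1, 0, by simp⟩) fun e => ?_
      have hy : y ∈ Subgroup.zpowers b := e ▸ (⟨0, 1, by simp⟩ : y ∈ E)
      have := hne L2 D.base h2 y hyL hy
      rw [this, orderOf_one] at hy5
      omega
    have h1 := Subgroup.card_dvd_of_le hEP
    rw [D.h25] at h1
    have h2' := Set.ncard_lt_ncard (SetLike.coe_ssubset_coe.2 hlt) (Set.toFinite _)
    rw [← Nat.card_coe_set_eq, ← Nat.card_coe_set_eq] at h2'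
    change Nat.card (Subgroup.zpowers b) < Nat.card E at h2'
    rw [Nat.card_zpowers, D.hb] at h2'
    have h25 : Nat.card E = 25 := by
      rcases (Nat.dvd_prime_pow (p := 5) (m := 2) (by norm_num)).1 (by simpa using h1) with ⟨k, hk, hk'⟩
      interval_cases k <;> omega
    have heq := Subgroup.eq_of_le_of_card_ge hEP (by rw [h25, D.h25])
    exact fun x hx => (show x ∈ E from heq ▸ hx)
  have hfix : ∀ (M : FiveLine (P : Subgroup G)),
      M ∈ MulAction.orbit (Subgroup.normalizer ((P : Subgroup G) : Set G)) D.base →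
      ∀ u ∈ M.1, orderOf u = 5 → ∃ k : ℤ, (g : G) * u * (g : G)⁻¹ = u ^ k := by
    intro M hM u hu hu5
    have hm : (g : G) * u * (g : G)⁻¹ ∈ (g • M).1 := ⟨u, hu, rfl⟩
    rw [hg M hM, ← (orderOf_five_mem M.2.2 hu fun e => by rw [e, orderOf_one] at hu5; omega).2] at hm
    obtain ⟨k, hk⟩ := Subgroup.mem_zpowers_iff.1 hm
    exact ⟨k, hk.symm⟩
  obtain ⟨k, hk⟩ := hfix _ (MulAction.mem_orbit_self D.base) b (Subgroup.mem_zpowers b) D.hb
  obtain ⟨m, hm⟩ := hfix L2 hL2 y hyL hy5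
  obtain ⟨j, hj⟩ := hfix L3 hL3 w hwL hw5
  obtain ⟨a, e, hae⟩ := hspan w hwP
  have hconj : ∀ a' e' : ℤ, (g : G) * (b ^ a' * y ^ e') * (g : G)⁻¹ = b ^ (k * a') * y ^ (m * e') :=
    fun a' e' => by rw [← conj_mul, ← conj_zpow, ← conj_zpow, hk, hm, ← zpow_mul, ← zpow_mul]
  rw [hae, hconj, ((hcomm D.hbP hyP).zpow_zpow a e).mul_zpow, ← zpow_mul, ← zpow_mul] at hj
  have hcross : b ^ (k * a - a * j) = y ^ (e * j - m * e) := by
    rw [zpow_sub, zpow_sub]
    have h' := congrArg (fun r => (b ^ (a * j))⁻¹ * r * (y ^ (m * e))⁻¹) hj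
    rw [show (b ^ (a * j))⁻¹ * (b ^ (k * a) * y ^ (m * e)) * (y ^ (m * e))⁻¹ =
      (b ^ (a * j))⁻¹ * b ^ (k * a) by group, show (b ^ (a * j))⁻¹ * (b ^ (a * j) * y ^ (e * j)) *
      (y ^ (m * e))⁻¹ = y ^ (e * j) * (y ^ (m * e))⁻¹ by group] at h'
    rw [← h']
    exact ((Commute.refl b).zpow_zpow (k * a) (a * j)).inv_right.eq
  have h1 : b ^ (k * a - a * j) = 1 := hne L2 D.base h2 _
    (hcross ▸ (hyz ▸ Subgroup.zpow_mem_zpowers y _)) (Subgroup.zpow_mem_zpowers b _)
  have h1' : y ^ (e * j - m * e) = 1 := hcross ▸ h1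
  rw [← orderOf_dvd_iff_zpow_eq_one, D.hb] at h1
  rw [← orderOf_dvd_iff_zpow_eq_one, hy5] at h1'
  have hp : Prime ((5 : ℕ) : ℤ) := Nat.prime_iff_prime_int.1 (by norm_num)
  have ha : ¬ ((5 : ℕ) : ℤ) ∣ a := fun h => by
    rw [← D.hb, orderOf_dvd_iff_zpow_eq_one] at h
    rw [h, one_mul] at hae
    have := hne L3 L2 h23'.symm w hwL (by rw [hae, ← hyz]; exact Subgroup.zpow_mem_zpowers y e)
    rw [this, orderOf_one] at hw5
    omega
  have he : ¬ ((5 : ℕ) : ℤ) ∣ e := fun h => by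
    rw [← hy5, orderOf_dvd_iff_zpow_eq_one] at h
    rw [h, mul_one] at hae
    have := hne L3 D.base h3 w hwL (by rw [hae]; exact Subgroup.zpow_mem_zpowers b a)
    rw [this, orderOf_one] at hw5
    omega
  rw [show k * a - a * j = a * (k - j) by ring] at h1
  rw [show e * j - m * e = e * (j - m) by ring] at h1'
  have hkm : ((5 : ℕ) : ℤ) ∣ k - m := by
    have := dvd_add ((hp.dvd_or_dvd h1).resolve_left ha) ((hp.dvd_or_dvd h1').resolve_left he)
    rwa [sub_add_sub_cancel] at this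
  refine ⟨k, fun x hx => ?_⟩
  obtain ⟨a', e', rfl⟩ := hspan x hx
  have hym : y ^ m = y ^ k := zpow_eq_zpow_iff_modEq.2 (by rw [Int.modEq_iff_dvd, hy5]; exact hkm)
  rw [hconj, ((hcomm D.hbP hyP).zpow_zpow a' e').mul_zpow, ← zpow_mul, ← zpow_mul,
    mul_comm k a', zpow_mul y m, hym, ← zpow_mul, mul_comm k e']

/-- The quotient of the normalizer. -/
theorem normalizer_quot :
    Nonempty (↥(Subgroup.normalizer ((P : Subgroup G) : Set G)) ⧸
      (P : Subgroup G).subgroupOf (Subgroup.normalizer ((P : Subgroup G) : Set G)) ≃*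
        Multiplicative (ZMod 4) × Equiv.Perm (Fin 3)) := by
  classical
  haveI : Fact (Nat.Prime 5) := ⟨by norm_num⟩
  haveI : Fact (Nat.Prime 2) := ⟨Nat.prime_two⟩
  obtain ⟨h600, h3⟩ := D.counts
  obtain ⟨O, hO⟩ : ∃ O, O = MulAction.orbit (Subgroup.normalizer ((P : Subgroup G) : Set G)) D.base :=
    ⟨_, rfl⟩
  have hOc : Nat.card (MulAction.orbit (Subgroup.normalizer ((P : Subgroup G) : Set G)) D.base) = 3 := by
    rw [Nat.card_coe_set_eq, h3]
  have eO := (Finite.equivFin (MulAction.orbit (Subgroup.normalizer ((P : Subgroup G) : Set G))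
    D.base)).trans (finCongr hOc)
  obtain ⟨φ, hφ⟩ : ∃ φ : Subgroup.normalizer ((P : Subgroup G) : Set G) →* Equiv.Perm (Fin 3),
      ∀ g, g ∈ φ.ker ↔ ∀ M ∈ MulAction.orbit (Subgroup.normalizer ((P : Subgroup G) : Set G)) D.base,
        g • M = M := by
    refine ⟨(eO.permCongrHom).toMonoidHom.comp (MulAction.toPermHom _ _), fun g => ?_⟩
    rw [MonoidHom.mem_ker, MonoidHom.comp_apply]
    show eO.permCongrHom _ = 1 ↔ _
    rw [map_eq_one_iff _ eO.permCongrHom.injective]
    constructor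
    · intro h M hM
      exact congrArg Subtype.val (DFunLike.congr_fun h ⟨M, hM⟩)
    · intro h
      exact Equiv.ext fun M => Subtype.ext (h M.1 M.2)
  -- restriction of the kernel to the base line
  obtain ⟨B, hB⟩ : ∃ B, B = Subgroup.zpowers b := ⟨_, rfl⟩
  have hB5 : Nat.card B = 5 := by rw [hB, Nat.card_zpowers, D.hb]
  haveI : IsCyclic B := isCyclic_of_prime_card hB5
  have haut4 : Nat.card (MulAut B) = 4 := by
    rw [IsCyclic.card_mulAut, hB5, Nat.totient_prime (by norm_num)]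
  have hkB : ∀ g : φ.ker, ((g : Subgroup.normalizer ((P : Subgroup G) : Set G)) : G) ∈
      Subgroup.normalizer (B : Set G) := fun g => by
    rw [hB]
    exact cjSub_eq_iff.1 (congrArg Subtype.val ((hφ _).1 g.2 D.base (MulAction.mem_orbit_self _)))
  obtain ⟨χ, hχ⟩ : ∃ χ : φ.ker →* MulAut B,
      χ = B.normalizerMonoidHom.comp
        (((Subgroup.subtype _).comp (Subgroup.subtype φ.ker)).codRestrict _ hkB) := ⟨_, rfl⟩
  have hPN : ∀ x ∈ (P : Subgroup G), ∀ hxN : x ∈ Subgroup.normalizer ((P : Subgroup G) : Set G),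
      (⟨x, hxN⟩ : Subgroup.normalizer ((P : Subgroup G) : Set G)) ∈ φ.ker := by
    intro x hx hxN
    refine (hφ _).2 fun M _ => Subtype.ext (cjSub_eq_iff.2 ?_)
    refine Subgroup.centralizer_le_normalizer _ (Subgroup.mem_centralizer_iff.2 fun y hy => ?_)
    exact D.comm y (M.2.1 hy) x hx
  have hkerχ : ∀ g : φ.ker, g ∈ χ.ker ↔
      ((g : Subgroup.normalizer ((P : Subgroup G) : Set G)) : G) ∈ (P : Subgroup G) := by
    intro g
    rw [hχ, MonoidHom.mem_ker, MonoidHom.comp_apply, ← MonoidHom.mem_ker, B.normalizerMonoidHom_ker,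
      Subgroup.mem_subgroupOf, Subgroup.mem_centralizer_iff]
    constructor
    · intro h
      obtain ⟨k, hk⟩ := D.scalar ((hφ _).1 g.2)
      have hbk : b ^ k = b := by
        rw [← hk b D.hbP]
        exact mul_inv_eq_iff_eq_mul.2 (h b (hB ▸ Subgroup.mem_zpowers b)).symm
      have h5 : ((5 : ℕ) : ℤ) ∣ k - 1 := by
        rw [← D.hb, orderOf_dvd_iff_zpow_eq_one, zpow_sub, hbk, zpow_one, mul_inv_cancel]
      refine (SetLike.ext_iff.1 D.cent _).1 (Subgroup.mem_centralizer_iff.2 fun x hx => ?_)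
      have h1 : x ^ (k - 1) = 1 := by
        obtain ⟨q, hq⟩ := h5
        rw [hq, zpow_mul, zpow_natCast, D.exponent x hx, one_zpow]
      have h2 : x ^ k = x := by
        rw [show k = k - 1 + 1 by ring, zpow_add_one, h1, one_mul]
      have := hk x hx
      rw [h2] at this
      exact (mul_inv_eq_iff_eq_mul.1 this).symm
    · intro h y hy
      exact D.comm y (Subgroup.zpowers_le.2 D.hbP (hB ▸ hy)) _ h
  have hkc : Nat.card χ.ker = 25 := by
    rw [← D.h25]
    exact Nat.card_congr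
      { toFun := fun g => ⟨_, (hkerχ g.1).1 g.2⟩
        invFun := fun x => ⟨⟨⟨x, Subgroup.le_normalizer x.2⟩, hPN x x.2 _⟩, (hkerχ _).2 x.2⟩
        left_inv := fun g => rfl
        right_inv := fun x => rfl }
  have hχc := χ.ker.card_mul_index
  rw [Subgroup.index_ker, hkc] at hχc
  have hχr : Nat.card χ.range ≤ 4 := haut4 ▸ Nat.le_of_dvd Nat.card_pos χ.range.card_subgroup_dvd_card
  have hφc := φ.ker.card_mul_index
  rw [Subgroup.index_ker, h600, ← hχc] at hφc
  have hφr : Nat.card φ.range ≤ 6 := by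
    have h6 : Nat.card (Equiv.Perm (Fin 3)) = 6 := by rw [Nat.card_perm, Nat.card_fin]; rfl
    exact h6 ▸ Nat.le_of_dvd Nat.card_pos φ.range.card_subgroup_dvd_card
  have hr24 : Nat.card χ.range = 4 ∧ Nat.card φ.range = 6 := by
    have h24 : Nat.card χ.range * Nat.card φ.range = 24 := by
      rw [mul_assoc] at hφc
      omega
    interval_cases hx : Nat.card χ.range <;> omega
  have hχs : Function.Surjective χ := MonoidHom.range_eq_top.1
    (Subgroup.eq_top_of_card_eq _ (by rw [hr24.1, haut4]))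
  have hφs : Function.Surjective φ := MonoidHom.range_eq_top.1
    (Subgroup.eq_top_of_card_eq _ (by rw [hr24.2, Nat.card_perm, Nat.card_fin]; rfl))
  obtain ⟨Pn, hPn⟩ : ∃ Pn,
      Pn = (P : Subgroup G).subgroupOf (Subgroup.normalizer ((P : Subgroup G) : Set G)) := ⟨_, rfl⟩
  suffices h : ∀ [Pn.Normal], Nonempty (Subgroup.normalizer ((P : Subgroup G) : Set G) ⧸ Pn ≃*
      Multiplicative (ZMod 4) × Equiv.Perm (Fin 3)) by
    subst hPn
    exact h
  intro hnorm
  have hPle : Pn ≤ φ.ker := fun x hx => by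
    rw [hPn, Subgroup.mem_subgroupOf] at hx
    exact hPN x hx x.2
  have hW24 : Nat.card (Subgroup.normalizer ((P : Subgroup G) : Set G) ⧸ Pn) = 24 := by
    have h := Subgroup.card_eq_card_quotient_mul_card_subgroup Pn
    rw [h600, show Nat.card Pn = 25 by
      rw [hPn, Nat.card_congr (Subgroup.subgroupOfEquivOfLe Subgroup.le_normalizer).toEquiv,
        D.h25]] at h
    omega
  obtain ⟨Φ, hΦdef⟩ : ∃ Φ, Φ = QuotientGroup.lift Pn φ hPle := ⟨_, rfl⟩
  have hΦ : ∀ g : Subgroup.normalizer ((P : Subgroup G) : Set G),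
      Φ (g : Subgroup.normalizer ((P : Subgroup G) : Set G) ⧸ Pn) = φ g := fun g => by
    rw [hΦdef]; rfl
  -- a generator of the automorphisms of the base line
  haveI : IsCyclic (MulAut B) := by
    haveI : Fact (Nat.Prime (Nat.card B)) := ⟨by rw [hB5]; norm_num⟩
    exact (IsCyclic.mulAutMulEquiv B).isCyclic.2 inferInstance
  obtain ⟨α, hα⟩ := IsCyclic.exists_ofOrder_eq_natCard (α := MulAut B)
  rw [haut4] at hα
  obtain ⟨g, hgα⟩ := hχs α
  have hg4 : orderOf ((g.1 : Subgroup.normalizer ((P : Subgroup G) : Set G)) :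
      Subgroup.normalizer ((P : Subgroup G) : Set G) ⧸ Pn) = 4 := by
    have hpow : ∀ n : ℕ, ((g.1 : Subgroup.normalizer ((P : Subgroup G) : Set G)) :
        Subgroup.normalizer ((P : Subgroup G) : Set G) ⧸ Pn) ^ n = 1 ↔ α ^ n = 1 := fun n => by
      rw [← QuotientGroup.mk_pow, QuotientGroup.eq_one_iff, hPn, Subgroup.mem_subgroupOf,
        ← SubmonoidClass.coe_pow (x := g) (n := n), ← hkerχ, MonoidHom.mem_ker, map_pow, hgα]
    refine Nat.dvd_antisymm (orderOf_dvd_of_pow_eq_one ((hpow 4).2 (hα ▸ pow_orderOf_eq_one α))) ?_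
    rw [← hα]
    exact orderOf_dvd_of_pow_eq_one ((hpow _).1 (pow_orderOf_eq_one _))
  -- an involution centralising the base line
  obtain ⟨M, hM⟩ : ∃ M, M = Subgroup.normalizer ((P : Subgroup G) : Set G) ⊓
      Subgroup.normalizer (B : Set G) := ⟨_, rfl⟩
  have hM200 : Nat.card M = 200 := by rw [hM, hB]; exact D.line
  obtain ⟨ι, hι⟩ : ∃ ι : M →* MulAut B,
      ι = B.normalizerMonoidHom.comp (Subgroup.inclusion (hM ▸ inf_le_right)) := ⟨_, rfl⟩
  have hιc := ι.ker.card_mul_index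
  rw [Subgroup.index_ker, hM200] at hιc
  have hιr : Nat.card ι.range ∣ 4 := haut4 ▸ ι.range.card_subgroup_dvd_card
  obtain ⟨r0, hr0⟩ := exists_prime_orderOf_dvd_card' (G := ι.ker) 2 (by
    obtain ⟨q, hq⟩ := hιr
    have h50 : Nat.card ι.ker = 50 * q := by
      refine Nat.eq_of_mul_eq_mul_right (Nat.card_pos : 0 < Nat.card ι.range) ?_
      rw [hιc, mul_assoc, mul_comm q, ← hq] <;> norm_num
    exact ⟨25 * q, by rw [h50]; ring⟩)
  obtain ⟨r, hrd⟩ : ∃ r : Subgroup.normalizer ((P : Subgroup G) : Set G), (r : G) = ((r0 : M) : G) :=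
    ⟨⟨_, ((hM ▸ (r0 : M).2) : ((r0 : M) : G) ∈ Subgroup.normalizer ((P : Subgroup G) : Set G) ⊓
      Subgroup.normalizer (B : Set G)).1⟩, rfl⟩
  have hr2 : orderOf (r : G) = 2 := by rw [hrd, Subgroup.orderOf_coe, Subgroup.orderOf_coe, hr0]
  have hrP : (r : G) ∉ (P : Subgroup G) := fun h => by
    have := (P : Subgroup G).orderOf_dvd_natCard h
    rw [hr2, D.h25] at this
    norm_num at this
  have hrC : (r : G) ∈ Subgroup.centralizer (B : Set G) := by
    obtain ⟨x, hx, hxr⟩ : ∃ x : M, ι x = 1 ∧ (x : G) = ((r0 : M) : G) := ⟨r0, r0.2, rfl⟩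
    rw [hι, MonoidHom.comp_apply, ← MonoidHom.mem_ker, B.normalizerMonoidHom_ker,
      Subgroup.mem_subgroupOf, Subgroup.coe_inclusion] at hx
    rw [hrd, ← hxr]; exact hx
  have hrk : φ r ≠ 1 := fun h => hrP ((hkerχ ⟨r, h⟩).1 (by
    rw [hχ, MonoidHom.mem_ker, MonoidHom.comp_apply, ← MonoidHom.mem_ker, B.normalizerMonoidHom_ker,
      Subgroup.mem_subgroupOf]
    exact hrC))
  have hrW : orderOf ((r : Subgroup.normalizer ((P : Subgroup G) : Set G)) :
      Subgroup.normalizer ((P : Subgroup G) : Set G) ⧸ Pn) = 2 := by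
    refine orderOf_eq_prime ?_ fun e => ?_
    · rw [← QuotientGroup.mk_pow, show r ^ 2 = 1 from Subtype.ext (by
        rw [SubmonoidClass.coe_pow, ← hr2, pow_orderOf_eq_one]; rfl), QuotientGroup.mk_one]
    · rw [QuotientGroup.eq_one_iff, hPn, Subgroup.mem_subgroupOf] at e
      exact hrP e
  refine equiv_of_central_kernel hW24 Φ (fun p => ?_) ?_ _ ?_ hg4 _ hrW (by rw [hΦ]; exact hrk)
  · obtain ⟨x, hx⟩ := hφs p
    exact ⟨x, (hΦ x).trans hx⟩
  · intro x hx y
    obtain ⟨x, rfl⟩ := QuotientGroup.mk_surjective x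
    obtain ⟨y, rfl⟩ := QuotientGroup.mk_surjective y
    rw [MonoidHom.mem_ker, hΦ] at hx
    obtain ⟨k, hk⟩ := D.scalar ((hφ x).1 hx)
    rw [← QuotientGroup.mk_mul, ← QuotientGroup.mk_mul, QuotientGroup.eq, hPn, Subgroup.mem_subgroupOf]
    refine (SetLike.ext_iff.1 D.cent _).1 (Subgroup.mem_centralizer_iff.2 fun u hu => ?_)
    simp only [Subgroup.coe_mul, Subgroup.coe_inv]
    have hmem := fun {v} (hv : v ∈ (P : Subgroup G)) => (Subgroup.mem_normalizer_iff.1 y.2 v).1 hv
    have hcommP : (x : G) * ((y : G) * u * (y : G)⁻¹) * (x : G)⁻¹ =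
        (y : G) * ((x : G) * u * (x : G)⁻¹) * (y : G)⁻¹ := by
      rw [hk _ (hmem hu), hk u hu, conj_zpow]
    obtain ⟨d, hd⟩ : ∃ d, d = ((x : G) * y)⁻¹ * ((y : G) * x) := ⟨_, rfl⟩
    rw [← hd]
    have e : d * u * d⁻¹ = u := by
      rw [hd, show ((x : G) * y)⁻¹ * ((y : G) * x) * u * (((x : G) * y)⁻¹ * ((y : G) * x))⁻¹ =
        (y : G)⁻¹ * (x : G)⁻¹ * ((y : G) * ((x : G) * u * (x : G)⁻¹) * (y : G)⁻¹) * x * y by group,
        ← hcommP]
      group
    exact (mul_inv_eq_iff_eq_mul.1 e).symm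
  · rw [MonoidHom.mem_ker, hΦ]
    exact g.2

end FiveData

namespace Four

open CfsgLib.LargeExtraspecial

variable {z s θ t : G} {Q P : Subgroup G} {π : G → V6} (T : Four z Q π P s θ t)
include T

/-- A Sylow five subgroup has such data. -/
theorem exists_fiveData (P5 : Sylow 5 G) : ∃ b, FiveData P5 b := by
  classical
  haveI : Fact (Nat.Prime 5) := ⟨by norm_num⟩
  obtain ⟨b0, hb0⟩ : ∃ b0 : Kgrp θ t, orderOf b0 = 5 :=
    exists_prime_orderOf_dvd_card' 5 (by rw [T.card_K]; norm_num)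
  have hb0' : orderOf (b0 : G) = 5 := by rw [Subgroup.orderOf_coe, hb0]
  obtain ⟨R, hR⟩ := (IsPGroup.of_card (n := 1) (by rw [Nat.card_zpowers, hb0', pow_one]) :
    IsPGroup 5 (Subgroup.zpowers (b0 : G))).exists_le_sylow
  obtain ⟨g, hg⟩ := MulAction.exists_smul_eq G P5 R
  have hbP : g⁻¹ * (b0 : G) * g ∈ (P5 : Subgroup G) := by
    have h : (b0 : G) ∈ ((g • P5 : Sylow 5 G) : Subgroup G) := hg ▸ hR (Subgroup.mem_zpowers _)
    obtain ⟨x, hx, he⟩ := h
    have he' : g * x * g⁻¹ = (b0 : G) := he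
    rw [← he']
    rw [show g⁻¹ * (g * x * g⁻¹) * g = x by group]
    exact hx
  obtain ⟨b, hbd⟩ : ∃ b, b = g⁻¹ * (b0 : G) * g := ⟨_, rfl⟩
  rw [← hbd] at hbP
  have hb : orderOf b = 5 := by
    rw [hbd, show g⁻¹ * (b0 : G) * g = MulAut.conj g⁻¹ (b0 : G) by simp, (MulAut.conj g⁻¹).orderOf_eq,
      hb0']
  refine ⟨b, ?_⟩
  obtain ⟨h25, hab⟩ := T.sylow_five P5
  have hbR : (b0 : G) ∈ (R : Subgroup G) := hR (Subgroup.mem_zpowers _)
  obtain ⟨hC300, hcR⟩ := T.cent_five hb0' b0.2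
  obtain ⟨hcentR, h50⟩ := hcR R hbR
  have hN1200 := T.card_normalizer_five hb0' b0.2
  obtain ⟨e, he⟩ : ∃ e : G ≃* G, ∀ x, e x = g⁻¹ * x * g := ⟨MulAut.conj g⁻¹, fun x => by simp⟩
  have hRP : (R : Subgroup G).map e.toMonoidHom = (P5 : Subgroup G) := by
    rw [← hg]
    ext x
    rw [Subgroup.mem_map]
    constructor
    · rintro ⟨y, ⟨w, hw, rfl⟩, rfl⟩
      show e (g * w * g⁻¹) ∈ (P5 : Subgroup G)
      rw [he]
      rw [show g⁻¹ * (g * w * g⁻¹) * g = w by group]
      exact hw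
    · intro hx
      exact ⟨g * x * g⁻¹, ⟨x, hx, rfl⟩, by
        show e (g * x * g⁻¹) = x
        rw [he]; group⟩
  have hBB : (Subgroup.zpowers (b0 : G)).map e.toMonoidHom = Subgroup.zpowers b := by
    rw [MonoidHom.map_zpowers, hbd, ← he]
    rfl
  have hcentMap : ∀ S : Subgroup G, (Subgroup.centralizer (S : Set G)).map e.toMonoidHom =
      Subgroup.centralizer (S.map e.toMonoidHom : Set G) := by
    intro S
    ext x
    rw [Subgroup.mem_map, Subgroup.mem_centralizer_iff]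
    constructor
    · rintro ⟨y, hy, rfl⟩ w ⟨v, hv, rfl⟩
      show e v * e y = e y * e v
      rw [← map_mul, ← map_mul, Subgroup.mem_centralizer_iff.1 hy v hv]
    · intro h
      refine ⟨e.symm x, Subgroup.mem_centralizer_iff.2 fun v hv => e.injective ?_, e.apply_symm_apply x⟩
      rw [map_mul, map_mul, e.apply_symm_apply]
      exact h (e v) ⟨v, hv, rfl⟩
  have hnormMap : ∀ S : Subgroup G, (Subgroup.normalizer (S : Set G)).map e.toMonoidHom =
      Subgroup.normalizer (S.map e.toMonoidHom : Set G) := fun S =>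
    Subgroup.map_equiv_normalizer_eq S e
  have hB0N : Subgroup.zpowers (b0 : G) ≤ Subgroup.normalizer (Subgroup.zpowers (b0 : G) : Set G) :=
    Subgroup.le_normalizer
  -- the line stabilizer
  obtain ⟨NB, hNB⟩ : ∃ NB, NB = Subgroup.normalizer (Subgroup.zpowers (b0 : G) : Set G) := ⟨_, rfl⟩
  have hRNB : (R : Subgroup G) ≤ NB := fun x hx => hNB ▸ Subgroup.centralizer_le_normalizer _
    (mem_cent_zpowers.2 ((T.sylow_five R).2 x hx _ hbR))
  obtain ⟨M, hM⟩ : ∃ M, M = Subgroup.normalizer ((R : Subgroup G) : Set G) ⊓ NB := ⟨_, rfl⟩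
  have hM200 : Nat.card M = 200 := by
    let S : Sylow 5 NB := R.subtype hRNB
    have hn1 : Nat.card (Sylow 5 NB) % 5 = 1 := by
      have h := card_sylow_modEq_one 5 NB
      rw [h]
    have hn2 := S.card_eq_index_normalizer
    have hS : (Subgroup.normalizer (((S : Subgroup NB)) : Set NB)) =
        (Subgroup.normalizer ((R : Subgroup G) : Set G)).subgroupOf NB :=
      (Subgroup.subgroupOf_normalizer_eq hRNB).symm
    change Nat.card (Sylow 5 NB) = (Subgroup.normalizer (((S : Subgroup NB)) : Set NB)).index at hn2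
    have hc := ((Subgroup.normalizer ((R : Subgroup G) : Set G)).subgroupOf NB).card_mul_index
    rw [← hS, ← hn2, hS, hNB, hN1200, ← Subgroup.inf_subgroupOf_right,
      Nat.card_congr (Subgroup.subgroupOfEquivOfLe inf_le_right).toEquiv, ← hNB, ← hM] at hc
    have h25M : 25 ∣ Nat.card M := (T.sylow_five R).1 ▸
      Subgroup.card_dvd_of_le (hM ▸ le_inf Subgroup.le_normalizer hRNB)
    obtain ⟨B, hB⟩ : ∃ B, B = Subgroup.zpowers (b0 : G) := ⟨_, rfl⟩
    have hMB : M ≤ Subgroup.normalizer (B : Set G) := hM ▸ hB ▸ hNB ▸ inf_le_right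
    obtain ⟨ι, hι⟩ : ∃ ι : M →* MulAut B,
        ι = B.normalizerMonoidHom.comp (Subgroup.inclusion hMB) := ⟨_, rfl⟩
    have hιc := ι.ker.card_mul_index
    rw [Subgroup.index_ker] at hιc
    have hk50 : Nat.card ι.ker ∣ 50 := by
      refine (dvd_of_eq ?_).trans h50
      refine Nat.card_congr
        { toFun := fun x => ⟨((x : M) : G), ?_⟩
          invFun := fun x => ⟨⟨x, ?_⟩, ?_⟩
          left_inv := fun x => rfl
          right_inv := fun x => rfl }
      · have h1 := (x : M).2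
        have h2 := x.2
        simp only [hι, MonoidHom.mem_ker, MonoidHom.comp_apply] at h2
        rw [← MonoidHom.mem_ker, B.normalizerMonoidHom_ker, Subgroup.mem_subgroupOf,
          Subgroup.coe_inclusion] at h2
        simp only [hM, Subgroup.mem_inf] at h1
        exact ⟨h1.1, hB ▸ h2⟩
      · rw [hM]
        exact ⟨x.2.1, hNB ▸ Subgroup.centralizer_le_normalizer _ x.2.2⟩
      · simp only [hι, MonoidHom.mem_ker, MonoidHom.comp_apply]
        rw [← MonoidHom.mem_ker, B.normalizerMonoidHom_ker, Subgroup.mem_subgroupOf,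
          Subgroup.coe_inclusion, hB]
        exact x.2.2
    have haut : Nat.card (MulAut B) = 4 := by
      have : IsCyclic B := by rw [hB]; infer_instance
      rw [IsCyclic.card_mulAut, hB, Nat.card_zpowers, hb0', Nat.totient_prime (by norm_num)]
    have h200 : Nat.card M ∣ 200 := by
      rw [← hιc, show (200 : ℕ) = 50 * 4 by norm_num, ← haut]
      exact Nat.mul_dvd_mul hk50 ι.range.card_subgroup_dvd_card
    obtain ⟨q, hq⟩ := h25M
    rw [hq] at hc h200 ⊢
    have hq8 : q ∣ 8 := (Nat.mul_dvd_mul_iff_left (by norm_num : 0 < 25)).1 h200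
    have := Nat.le_of_dvd (by norm_num) hq8
    interval_cases q <;> omega
  refine
    { hb := hb
      hbP := hbP
      h25 := h25
      comm := hab
      cent := ?_
      line := ?_
      small := ?_
      card_G := T.card_eq_five }
  · rw [← hRP, ← hcentMap, hcentR]
  · rw [← hRP, ← hBB, ← hnormMap, ← hnormMap, ← Subgroup.map_inf _ _ _ e.injective,
      Subgroup.card_map_of_injective (f := e.toMonoidHom) e.injective, ← hNB, ← hM, hM200]
  · rw [← hRP, ← hBB, ← hnormMap, ← hcentMap, ← Subgroup.map_inf _ _ _ e.injective,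
      Subgroup.card_map_of_injective (f := e.toMonoidHom) e.injective]
    exact h50

end Four

end CfsgLib.SuzType
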