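import Cfsg.Agent.SuzType.Basics

/-!
# Involutions of `C(z)` act as Siegel transformations up to conjugation
-/

set_option autoImplicit false

namespace CfsgLib.SuzType

open CfsgLib.LargeExtraspecial

theorem tGens_inv : ∀ p ∈ tGens, (p.2, p.1) ∈ tGens ∧ ∀ v : V6, pr p (pr (p.2, p.1) v) = v := by
  decide +kernel

namespace Data

variable {G : Type*} [Group G] [Finite G] {z : G} {Q : Subgroup G} {π : G → V6} (D : Data z Q π)
include D

omit [Finite G] in
theorem ker_actHom : D.actHom.ker = Q.subgroupOf (Subgroup.centralizer ({z} : Set G)) := by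
  ext c
  rw [MonoidHom.mem_ker, Subgroup.mem_subgroupOf]
  refine ⟨fun h => D.mem_of_act (Subgroup.mem_centralizer_singleton_iff.1 c.2) fun v => ?_,
    fun h => Equiv.ext fun v => D.act_of_mem h v⟩
  rw [← D.actHom_apply, h]; rfl

/-- A Sylow `2`-subgroup of `C(z)` with known image. -/
theorem exists_sylow_image :
    ∃ S : Sylow 2 ↥(Subgroup.centralizer ({z} : Set G)),
      ∀ c ∈ S, code6 (D.act ((c : ↥(Subgroup.centralizer ({z} : Set G))) : G)) ∈ tList := by
  classical
  choose cl hclz hclv using fun p : {p : ℕ × ℕ // p ∈ tGens} => D.exists_pr (tGens_ok p.1 p.2)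
  let K : Subgroup ↥(Subgroup.centralizer ({z} : Set G)) := Subgroup.closure
    (Set.range fun p => (⟨cl p, Subgroup.mem_centralizer_singleton_iff.2 (hclz p)⟩ :
      ↥(Subgroup.centralizer ({z} : Set G))))
  let M : Subgroup (Equiv.Perm V6) := K.map D.actHom
  have hgen : ∀ (p : ℕ × ℕ) (hp : p ∈ tGens) (f : V6 → V6), code6 f ∈ tList →
      code6 (fun v => D.act (cl ⟨p, hp⟩) (f v)) ∈ tList := by
    intro p hp f hf
    have : code6 (fun v => D.act (cl ⟨p, hp⟩) (f v)) = (code6 f).map (pr p) := by
      rw [code6, code6, List.map_map]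
      exact List.map_congr_left fun v _ => hclv ⟨p, hp⟩ _
    rw [this]
    exact tList_closed _ hf p hp
  have hcode : ∀ σ ∈ M, code6 σ ∈ tList := by
    rintro _ ⟨c, hc, rfl⟩
    induction hc using Subgroup.closure_induction_left with
    | one =>
      rw [_root_.map_one]
      have : code6 ⇑(1 : Equiv.Perm V6) = basis6 := List.map_id _
      rw [this]; exact basis6_mem
    | mul_left x hx y _ ih =>
      obtain ⟨p, rfl⟩ := hx
      rw [_root_.map_mul]
      exact hgen p.1 p.2 _ ih
    | inv_mul_cancel x hx y _ ih =>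
      obtain ⟨p, rfl⟩ := hx
      obtain ⟨hrev, hpp⟩ := tGens_inv p.1 p.2
      rw [_root_.map_mul, _root_.map_inv]
      convert hgen _ hrev _ ih using 2
      funext v
      rw [Equiv.Perm.mul_apply, Equiv.Perm.inv_def, Equiv.symm_apply_eq]
      show _ = D.act (cl p) _
      rw [hclv p, hclv ⟨_, hrev⟩, hpp]
  have hiso : ∀ σ ∈ M, IsIso6 σ := by
    rintro _ ⟨c, -, rfl⟩
    exact D.act_iso (Subgroup.mem_centralizer_singleton_iff.1 c.2)
  have hcard : Nat.card M = 64 := by
    refine le_antisymm ?_ ?_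
    · have h := Nat.card_le_card_of_injective
        (fun σ : M => (⟨code6 σ.1, List.mem_toFinset.2 (hcode σ.1 σ.2)⟩ : tList.toFinset))
        fun σ τ h => Subtype.ext (Equiv.ext fun v => by
          have h' : code6 σ.1 = code6 τ.1 :=
            congrArg (fun t : tList.toFinset => (t : List V6)) h
          rw [← (hiso σ.1 σ.2).app6_code v, ← (hiso τ.1 τ.2).app6_code v, h'])
      rwa [Nat.card_eq_finsetCard, List.toFinset_card_of_nodup tList_card.2, tList_card.1] at h
    · have hreach : ∀ l ∈ tList, ∃ σ ∈ M, code6 σ = l :=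
        chainOK_prop (P := fun l => ∃ σ ∈ M, code6 σ = l)
          ⟨1, one_mem _, List.map_id _⟩ (fun g hg l hl => by
            obtain ⟨p, hp, rfl⟩ := List.mem_map.1 hg
            obtain ⟨σ, hσ, rfl⟩ := hl
            refine ⟨D.actHom ⟨cl ⟨p, hp⟩, Subgroup.mem_centralizer_singleton_iff.2 (hclz _)⟩ * σ,
              mul_mem ⟨_, Subgroup.subset_closure ⟨⟨p, hp⟩, rfl⟩, rfl⟩ hσ, ?_⟩
            show _ = List.map (pr p) _
            rw [code6, code6, List.map_map]
            exact List.map_congr_left fun v _ => hclv ⟨p, hp⟩ _)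
          tList tList_chain
      choose σ hσM hσc using fun l : tList.toFinset => hreach l.1 (List.mem_toFinset.1 l.2)
      have h := Nat.card_le_card_of_injective (fun l => (⟨σ l, hσM l⟩ : M)) fun a b h => Subtype.ext (by
        rw [← hσc a, ← hσc b, show σ a = σ b from congrArg Subtype.val h])
      rwa [Nat.card_eq_finsetCard, List.toFinset_card_of_nodup tList_card.2, tList_card.1] at h
  have hQle : Q ≤ Subgroup.centralizer ({z} : Set G) := D.sub.le_centralizer
  let S := M.comap D.actHom
  have hkS : D.actHom.ker ≤ S := fun c hc => by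
    show D.actHom c ∈ M
    rw [hc]; exact one_mem _
  have hker : Nat.card D.actHom.ker = 128 := by
    rw [D.ker_actHom, Nat.card_congr (Subgroup.subgroupOfEquivOfLe hQle).toEquiv, D.card]
  let f := D.actHom.comp S.subtype
  have hf1 : f.range = M := by
    rw [MonoidHom.range_comp, Subgroup.range_subtype]
    exact Subgroup.map_comap_eq_self (Subgroup.map_le_range _ _)
  have hf2 : Nat.card f.ker = 128 := by
    rw [show f.ker = D.actHom.ker.subgroupOf S from rfl,
      Nat.card_congr (Subgroup.subgroupOfEquivOfLe hkS).toEquiv, hker]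
  have hS : Nat.card S = 2 ^ 13 := by
    rw [← f.ker.card_mul_index, Subgroup.index_ker, hf1, hcard, hf2]
    norm_num
  have : Fact (Nat.Prime 2) := ⟨Nat.prime_two⟩
  have hfac : (2 ^ 13 * 405 : ℕ).factorization 2 = 13 := by
    rw [Nat.factorization_mul (by norm_num) (by norm_num), Finsupp.add_apply,
      Nat.Prime.factorization_pow Nat.prime_two, Finsupp.single_eq_same,
      Nat.factorization_eq_zero_of_not_dvd (by norm_num : ¬ 2 ∣ 405)]
  refine ⟨Sylow.ofCard S (by rw [hS, D.card_cent, hfac]), fun c hc => ?_⟩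
  exact hcode _ hc

/-- Every involution of `C(z)` outside `Q` is conjugate in `C(z)` to one acting as a nontrivial
Siegel transformation. -/
theorem exists_conj_sie {x : G} (hx : x * z = z * x) (h2 : x * x = 1) (hxQ : x ∉ Q) :
    ∃ c u, c * z = z * c ∧ InU u ∧ u ≠ 0 ∧ ∀ v, D.act (c * x * c⁻¹) v = sie u v := by
  classical
  have : Fact (Nat.Prime 2) := ⟨Nat.prime_two⟩
  set xc : ↥(Subgroup.centralizer ({z} : Set G)) :=
    ⟨x, Subgroup.mem_centralizer_singleton_iff.2 hx⟩ with hxc
  obtain ⟨S, hS⟩ := D.exists_sylow_image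
  have hp : IsPGroup 2 (Subgroup.zpowers xc) := by
    intro g
    refine ⟨1, ?_⟩
    obtain ⟨k, hk⟩ := Subgroup.mem_zpowers_iff.1 g.2
    have : xc ^ (2 : ℕ) = 1 := Subtype.ext (by simpa [pow_two] using h2)
    apply Subtype.ext
    rw [pow_one, SubmonoidClass.coe_pow, ← hk, pow_two, ← zpow_add, ← two_mul, zpow_mul, zpow_ofNat,
      this, one_zpow]
    rfl
  obtain ⟨T, hT⟩ := hp.exists_le_sylow
  obtain ⟨c, hc⟩ := MulAction.exists_smul_eq ↥(Subgroup.centralizer ({z} : Set G)) T S
  have hmem : c * xc * c⁻¹ ∈ S := by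
    rw [← hc]
    exact ⟨xc, hT (Subgroup.mem_zpowers _), rfl⟩
  have hcz := Subgroup.mem_centralizer_singleton_iff.1 c.2
  set y : G := (c : G) * x * (c : G)⁻¹ with hy
  have hyz : y * z = z * y :=
    ((Commute.mul_left hcz hx).mul_left (Commute.inv_left hcz)).eq
  have hl : code6 (D.act y) ∈ tList := hS _ hmem
  have hyy : y * y = 1 := by
    rw [hy, show (c : G) * x * (c : G)⁻¹ * ((c : G) * x * (c : G)⁻¹) = (c : G) * (x * x) * (c : G)⁻¹
      from by group, h2]
    group
  have hiso := D.act_iso hyz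
  have hsq : (code6 (D.act y)).map (app6 (code6 (D.act y))) = basis6 := by
    conv_rhs => rw [← List.map_id basis6]
    rw [code6, List.map_map]
    refine List.map_congr_left fun v _ => ?_
    show app6 (code6 (D.act y)) (D.act y v) = v
    rw [hiso.app6_code, ← D.act_mul hyz hyz, hyy, D.act_one]
  obtain ⟨w, hwq, hw0, hww, hwx⟩ := tList_involution _ hl hsq
  have hreach : ∀ v ∈ singList, ∃ d, d * z = z * d ∧ D.act d v = s0 :=
    chainOK_prop (P := fun v => ∃ d, d * z = z * d ∧ D.act d v = s0)
      ⟨1, by simp, D.act_one _⟩ (fun g hgm v hv => by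
        obtain ⟨p, hp, rfl⟩ := List.mem_map.1 hgm
        obtain ⟨d, hd, hdv⟩ := hv
        obtain ⟨e, he, hev⟩ := D.exists_pr (allGens_ok p hp)
        have hei : e⁻¹ * z = z * e⁻¹ := (Commute.inv_left he).eq
        refine ⟨d * e⁻¹, (Commute.mul_left hd hei).eq, ?_⟩
        rw [← hev, D.act_mul hd hei, ← D.act_mul hei he, inv_mul_cancel, D.act_one, hdv])
      singList singList_facts.1
  obtain ⟨d, hd, hdw⟩ := hreach w (singList_facts.2 w hwq hw0)
  have hdi : d⁻¹ * z = z * d⁻¹ := (Commute.inv_left hd).eq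
  set y' : G := d * y * d⁻¹ with hy'
  have hy'z : y' * z = z * y' := ((Commute.mul_left hd hyz).mul_left hdi).eq
  have hact : ∀ v, D.act y' v = D.act d (D.act y (D.act d⁻¹ v)) := fun v => by
    rw [← D.act_mul hyz hdi, ← D.act_mul hd (Commute.mul_left hyz hdi).eq, hy', mul_assoc]
  have hdw' : D.act d⁻¹ s0 = w := by
    rw [← hdw, ← D.act_mul hdi hd, inv_mul_cancel, D.act_one]
  have hsie := (D.act_iso hy'z).eq_sie (by
      rw [hact, hdw']
      rw [← hiso.app6_code w, hww, hdw])
    (fun v hv => by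
      have hb : b6 (D.act d⁻¹ v) w = false := by rw [← hdw', (D.act_iso hdi).polar]; exact hv
      have hv' : v = D.act d (D.act d⁻¹ v) := by
        rw [← D.act_mul hd hdi, mul_inv_cancel, D.act_one]
      have h := hwx _ hb
      rw [hiso.app6_code] at h
      rw [hact]
      conv_lhs => arg 1; arg 2; rw [hv']
      conv_rhs => arg 1; arg 2; rw [hv']
      rw [← (D.act_iso hd).add]
      rcases h with h | h
      · left; rw [h, (D.act_iso hd).zero]
      · right; rw [h, hdw])
  refine ⟨d * c, pU (D.act y' d0), (Commute.mul_left hd hcz).eq, pU_pU _, fun h0 => hxQ ?_, fun v => ?_⟩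
  · have hQ' : y' ∈ Q := D.mem_of_act hy'z fun v => by rw [hsie, h0, sie_zero]
    have := D.sub.conj_mem (Commute.mul_left hd hcz).inv_left.eq hQ'
    rw [hy', hy] at this
    simpa [mul_assoc] using this
  · rw [show d * c * x * (d * (c : G))⁻¹ = y' by rw [hy', hy]; group]
    exact hsie v

end Data

end CfsgLib.SuzType
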