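import Cfsg.Agent.SuzType.Setup

/-!
# The action of `C(z)` on the coordinates
-/

set_option autoImplicit false

namespace CfsgLib.SuzType

open CfsgLib.LargeExtraspecial

namespace Data

variable {G : Type*} [Group G] {z : G} {Q : Subgroup G} {π : G → V6} (D : Data z Q π)
include D

theorem π_one : π 1 = 0 := (D.ker 1 (one_mem Q)).2 (Or.inl rfl)

theorem π_z : π z = 0 := (D.ker z D.sub.z_mem).2 (Or.inr rfl)

theorem π_inv {x : G} (hx : x ∈ Q) : π x⁻¹ = π x := by
  refine (eq_of_add_eq_zero6 ?_).symm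
  rw [← D.map_mul x hx _ (inv_mem hx), mul_inv_cancel, D.π_one]

theorem π_z_mul {x : G} (hx : x ∈ Q) : π (z * x) = π x := by
  rw [D.map_mul z D.sub.z_mem x hx, D.π_z, zero_add]

theorem eq_or_eq_of_π_eq {x y : G} (hx : x ∈ Q) (hy : y ∈ Q) (h : π x = π y) :
    y = x ∨ y = z * x := by
  have h0 : π (y * x⁻¹) = 0 := by rw [D.map_mul y hy _ (inv_mem hx), D.π_inv hx, h, add_self6]
  rcases (D.ker _ (mul_mem hy (inv_mem hx))).1 h0 with e | e
  · exact Or.inl (mul_inv_eq_one.1 e)
  · exact Or.inr (mul_inv_eq_iff_eq_mul.1 e)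

theorem commute_iff {x y : G} (hx : x ∈ Q) (hy : y ∈ Q) : x * y = y * x ↔ b6 (π x) (π y) = false := by
  have h1 := D.sq x hx
  have h2 := D.sq y hy
  have h3 := D.sq _ (mul_mem hx hy)
  rw [D.map_mul x hx y hy, q6_add] at h3
  have hzz := D.sub.mul_self
  have hz1 := D.sub.ne_one
  have hxz : Commute x z := D.sub.z_comm hx
  have hyz : Commute y z := D.sub.z_comm hy
  rcases D.sub.conj_eq hy hx with e | e <;> rw [mul_inv_eq_iff_eq_mul] at e
  · have e2 : x * y * (x * y) = (x * x) * (y * y) := by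
      calc x * y * (x * y) = x * (y * x) * y := by group
        _ = x * (x * y) * y := by rw [e]
        _ = (x * x) * (y * y) := by group
    rw [e2] at h3
    refine iff_of_true e.symm ?_
    rcases D.sub.sq_eq hx with a | a <;> rcases D.sub.sq_eq hy with b | b <;>
      rw [a, b] at h3 <;> rw [a] at h1 <;> rw [b] at h2 <;>
      cases hq : q6 (π x) <;> cases hr : q6 (π y) <;> cases hb : b6 (π x) (π y) <;>
      simp_all
  · have e2 : x * y * (x * y) = z * ((x * x) * (y * y)) := by
      calc x * y * (x * y) = x * (y * x) * y := by group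
        _ = x * (z * x * y) * y := by rw [e]
        _ = (x * z) * x * (y * y) := by group
        _ = z * ((x * x) * (y * y)) := by rw [hxz.eq]; group
    rw [e2] at h3
    refine iff_of_false (fun hc => hz1 ?_) ?_
    · rw [← hc, mul_assoc] at e
      exact mul_eq_right.1 e.symm
    · rcases D.sub.sq_eq hx with a | a <;> rcases D.sub.sq_eq hy with b | b <;>
        rw [a, b] at h3 <;> rw [a] at h1 <;> rw [b] at h2 <;>
        cases hq : q6 (π x) <;> cases hr : q6 (π y) <;> cases hb : b6 (π x) (π y) <;>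
        simp_all

/-- A representative in `Q` of a coordinate vector. -/
noncomputable def sec (v : V6) : G := (D.surj v).choose

theorem sec_mem (v : V6) : D.sec v ∈ Q := (D.surj v).choose_spec.1

theorem π_sec (v : V6) : π (D.sec v) = v := (D.surj v).choose_spec.2

/-- The map on coordinates induced by conjugation. -/
noncomputable def act (c : G) (v : V6) : V6 := π (c * D.sec v * c⁻¹)

theorem act_π {c x : G} (hc : c * z = z * c) (hx : x ∈ Q) : D.act c (π x) = π (c * x * c⁻¹) := by
  rcases D.eq_or_eq_of_π_eq hx (D.sec_mem _) (D.π_sec (π x)).symm with e | e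
  · rw [act, e]
  · rw [act, e, show c * (z * x) * c⁻¹ = (c * z) * c⁻¹ * (c * x * c⁻¹) from by group, hc,
      mul_inv_cancel_right, D.π_z_mul (D.sub.conj_mem hc hx)]

theorem act_mul {c d : G} (hc : c * z = z * c) (hd : d * z = z * d) (v : V6) :
    D.act (c * d) v = D.act c (D.act d v) := by
  rw [show D.act d v = π (d * D.sec v * d⁻¹) from rfl, D.act_π hc (D.sub.conj_mem hd (D.sec_mem v)),
    act]
  congr 1
  group

theorem act_one (v : V6) : D.act 1 v = v := by rw [act]; simp [D.π_sec]

theorem act_iso {c : G} (hc : c * z = z * c) : IsIso6 (D.act c) := by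
  refine ⟨fun u v => ?_, fun v => ?_⟩
  · obtain ⟨x, hx, rfl⟩ := D.surj u
    obtain ⟨y, hy, rfl⟩ := D.surj v
    rw [← D.map_mul x hx y hy, D.act_π hc (mul_mem hx hy), D.act_π hc hx, D.act_π hc hy,
      ← D.map_mul _ (D.sub.conj_mem hc hx) _ (D.sub.conj_mem hc hy)]
    congr 1
    group
  · obtain ⟨x, hx, rfl⟩ := D.surj v
    rw [D.act_π hc hx]
    have h : (c * x * c⁻¹) * (c * x * c⁻¹) = 1 ↔ x * x = 1 := by
      rw [show (c * x * c⁻¹) * (c * x * c⁻¹) = c * (x * x) * c⁻¹ from by group, conj_eq_one_iff]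
    rw [D.sq _ (D.sub.conj_mem hc hx), D.sq x hx] at h
    cases h1 : q6 (π (c * x * c⁻¹)) <;> cases h2 : q6 (π x) <;> simp_all

theorem act_of_mem {c : G} (hc : c ∈ Q) (v : V6) : D.act c v = v := by
  rcases D.sub.conj_eq hc (D.sec_mem v) with e | e <;>
    simp [act, e, D.π_sec, D.π_z_mul (D.sec_mem v)]

theorem mem_of_act {c : G} (hc : c * z = z * c) (h : ∀ v, D.act c v = v) : c ∈ Q :=
  D.faithful c hc fun x hx => by rw [← D.act_π hc hx, h]

theorem exists_pr {p : ℕ × ℕ} (hp : okPair p = true) :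
    ∃ c, c * z = z * c ∧ ∀ v, D.act c v = pr p v := by
  obtain ⟨c, hc, h⟩ := D.pairs p hp
  exact ⟨c, hc, fun v => by rw [act, h _ (D.sec_mem v), D.π_sec]⟩

/-- Conjugation as a homomorphism to permutations of the coordinates. -/
noncomputable def actHom : Subgroup.centralizer ({z} : Set G) →* Equiv.Perm V6 where
  toFun c := ⟨D.act c, D.act (c : G)⁻¹,
    fun v => by
      have h := Subgroup.mem_centralizer_singleton_iff.1 c.2
      rw [← D.act_mul (Commute.inv_left h).eq h, inv_mul_cancel, D.act_one],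
    fun v => by
      have h := Subgroup.mem_centralizer_singleton_iff.1 c.2
      rw [← D.act_mul h (Commute.inv_left h).eq, mul_inv_cancel, D.act_one]⟩
  map_one' := Equiv.ext D.act_one
  map_mul' c d := Equiv.ext (D.act_mul (Subgroup.mem_centralizer_singleton_iff.1 c.2)
    (Subgroup.mem_centralizer_singleton_iff.1 d.2))

@[simp] theorem actHom_apply (c : Subgroup.centralizer ({z} : Set G)) (v : V6) :
    D.actHom c v = D.act (c : G) v := rfl

theorem mem_of_π_zero {x : G} (hx : x ∈ Q) (h : π x = 0) : x = 1 ∨ x = z := (D.ker x hx).1 h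

theorem Q_comm {c : G} (hc : c ∈ Q) : c * z = z * c := D.sub.z_comm hc

end Data

end CfsgLib.SuzType
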