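import Mathlib

/-!
# The six dimensional minus type quadratic space over two elements, on bit masks

Bits 0, 1 and bits 2, 3 span hyperbolic planes, bits 4, 5 an anisotropic one.
-/

set_option autoImplicit false

namespace CfsgLib.SuzType

/-- Six bit vectors. -/
def V6 : Type := Fin 64
deriving DecidableEq, Fintype

/-- The vector with the given bits. -/
def mk6 (n : ℕ) : V6 := (⟨n % 64, Nat.mod_lt _ (by decide)⟩ : Fin 64)

/-- The bits of a vector. -/
def V6.bits (v : V6) : ℕ := Fin.val v

theorem V6.bits_lt (v : V6) : v.bits < 64 := Fin.isLt v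

theorem V6.ext_bits {u v : V6} (h : u.bits = v.bits) : u = v := Fin.ext h

instance : Zero V6 := ⟨mk6 0⟩

instance : Add V6 := ⟨fun u v => mk6 (u.bits ^^^ v.bits)⟩

theorem bits_add (u v : V6) : (u + v).bits = u.bits ^^^ v.bits :=
  Nat.mod_eq_of_lt (Nat.xor_lt_two_pow (n := 6) u.bits_lt v.bits_lt)

theorem add_self6 (v : V6) : v + v = 0 := V6.ext_bits (by rw [bits_add, Nat.xor_self]; rfl)

instance : Neg V6 := ⟨id⟩

instance : AddCommGroup V6 where
  add_assoc u v w := V6.ext_bits (by simp only [bits_add, Nat.xor_assoc])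
  zero_add u := V6.ext_bits (by rw [bits_add]; exact Nat.zero_xor _)
  add_zero u := V6.ext_bits (by rw [bits_add]; exact Nat.xor_zero _)
  neg_add_cancel := add_self6
  add_comm u v := V6.ext_bits (by simp only [bits_add, Nat.xor_comm])
  nsmul := nsmulRec
  zsmul := zsmulRec

theorem eq_of_add_eq_zero6 {u v : V6} (h : u + v = 0) : u = v := by
  rw [← add_zero u, ← add_self6 v, ← add_assoc, h, zero_add]

theorem add_add_cancel6 (u v : V6) : u + v + v = u := by rw [add_assoc, add_self6, add_zero]

/-- The quadratic form: a vector is nonsingular when its bit in the mask is set. -/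
def q6 (v : V6) : Bool := Nat.testBit 9761419664792451208 v.bits

/-- The polar form. -/
def b6 (u v : V6) : Bool := xor (xor (q6 (u + v)) (q6 u)) (q6 v)

/-- Scalar multiples by a truth value. -/
def sm (c : Bool) (v : V6) : V6 := if c then v else 0

theorem q6_add (u v : V6) : q6 (u + v) = xor (xor (q6 u) (q6 v)) (b6 u v) := by
  unfold b6
  cases q6 (u + v) <;> cases q6 u <;> cases q6 v <;> rfl

/-- The polar form in coordinates. -/
theorem b6_eq : ∀ u v : V6, b6 u v =
    xor (xor (xor (u.bits.testBit 0 && v.bits.testBit 1) (u.bits.testBit 1 && v.bits.testBit 0))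
      (xor (u.bits.testBit 2 && v.bits.testBit 3) (u.bits.testBit 3 && v.bits.testBit 2)))
      (xor (u.bits.testBit 4 && v.bits.testBit 5) (u.bits.testBit 5 && v.bits.testBit 4)) := by
  decide +kernel

theorem b6_add_left (u v w : V6) : b6 (u + v) w = xor (b6 u w) (b6 v w) := by
  simp only [b6_eq, bits_add, Nat.testBit_xor, Bool.and_xor_distrib_right]
  generalize (u.bits.testBit 0 && w.bits.testBit 1) = x0
  generalize (u.bits.testBit 1 && w.bits.testBit 0) = x1
  generalize (u.bits.testBit 2 && w.bits.testBit 3) = x2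
  generalize (u.bits.testBit 3 && w.bits.testBit 2) = x3
  generalize (u.bits.testBit 4 && w.bits.testBit 5) = x4
  generalize (u.bits.testBit 5 && w.bits.testBit 4) = x5
  generalize (v.bits.testBit 0 && w.bits.testBit 1) = y0
  generalize (v.bits.testBit 1 && w.bits.testBit 0) = y1
  generalize (v.bits.testBit 2 && w.bits.testBit 3) = y2
  generalize (v.bits.testBit 3 && w.bits.testBit 2) = y3
  generalize (v.bits.testBit 4 && w.bits.testBit 5) = y4
  generalize (v.bits.testBit 5 && w.bits.testBit 4) = y5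
  have key : ∀ a b c d : Bool, xor (xor a b) (xor c d) = xor (xor a c) (xor b d) := by decide
  simp only [key]

theorem b6_comm (u v : V6) : b6 u v = b6 v u := by
  simp only [b6, add_comm u v, Bool.xor_assoc, Bool.xor_comm (q6 u)]

theorem b6_add_right (u v w : V6) : b6 u (v + w) = xor (b6 u v) (b6 u w) := by
  rw [b6_comm, b6_add_left, b6_comm v, b6_comm w]

theorem b6_self : ∀ u : V6, b6 u u = false := by decide +kernel

theorem b6_zero_left : ∀ u : V6, b6 0 u = false := by decide +kernel

theorem b6_sm_left (c : Bool) (v w : V6) : b6 (sm c v) w = (c && b6 v w) := by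
  cases c <;> simp [sm, b6_zero_left]

theorem b6_sm_right (c : Bool) (v w : V6) : b6 v (sm c w) = (c && b6 v w) := by
  rw [b6_comm, b6_sm_left, b6_comm w]

theorem sm_xor (c d : Bool) (v : V6) : sm (xor c d) v = sm c v + sm d v := by
  cases c <;> cases d <;> simp [sm, add_self6]

/-- Reflection. -/
def rf (a v : V6) : V6 := if b6 v a then v + a else v

/-- A product of two reflections. -/
def pr (p : ℕ × ℕ) (v : V6) : V6 := rf (mk6 p.1) (rf (mk6 p.2) v)

/-- Both vectors of a pair are nonsingular. -/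
def okPair (p : ℕ × ℕ) : Bool := q6 (mk6 p.1) && q6 (mk6 p.2)

/-- The standard singular vector. -/
def s0 : V6 := mk6 1

/-- Its partner. -/
def d0 : V6 := mk6 2

/-- The standard anisotropic pair. -/
def a0 : V6 := mk6 16

/-- The standard anisotropic pair. -/
def u0 : V6 := mk6 32

theorem q6_s0 : q6 s0 = false := by decide

theorem s0_ne_zero : s0 ≠ 0 := by decide

theorem b6_s0_d0 : b6 s0 d0 = true := by decide

/-- Projection to the orthogonal of `s0` and `d0`. -/
def pU (v : V6) : V6 := mk6 (4 * (v.bits / 4))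

/-- Membership of that orthogonal. -/
abbrev InU (v : V6) : Prop := pU v = v

theorem pU_add : ∀ u v : V6, pU (u + v) = pU u + pU v := by decide +kernel

theorem pU_pU : ∀ v : V6, pU (pU v) = pU v := by decide +kernel

theorem pU_eq_zero : ∀ v : V6, pU v = 0 → b6 v s0 = false → v = 0 ∨ v = s0 := by decide +kernel

theorem eq_pU_add : ∀ v : V6, b6 v s0 = false → v = pU v ∨ v = pU v + s0 := by decide +kernel

theorem q6_pU : ∀ v : V6, b6 v s0 = false → q6 (pU v) = q6 v := by decide +kernel

theorem inU_orth : ∀ u : V6, InU u → b6 u s0 = false ∧ b6 u d0 = false := by decide +kernel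

theorem b6_pU {v w : V6} (hv : b6 v s0 = false) (hw : b6 w s0 = false) :
    b6 (pU v) (pU w) = b6 v w := by
  have hs : b6 s0 s0 = false := b6_self _
  have h1 : b6 (pU v) s0 = false := (inU_orth _ (pU_pU v)).1
  have h2 : b6 s0 (pU w) = false := by rw [b6_comm]; exact (inU_orth _ (pU_pU w)).1
  rcases eq_pU_add v hv with e | e <;> rcases eq_pU_add w hw with f | f <;>
    (conv_rhs => rw [e, f]) <;> simp [b6_add_left, b6_add_right, hs, h1, h2]

/-- The Siegel transformation fixing `s0`. -/
def sie (u v : V6) : V6 := v + sm (b6 v s0) (u + sm (q6 u) s0) + sm (b6 v u) s0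

theorem sie_two : ∀ u : V6, InU u → pU (sie u d0) = u := by decide +kernel

theorem sie_sie_two : ∀ u : V6, InU u → ∀ w : V6, InU w → pU (sie u (sie w d0)) = u + w := by
  decide +kernel

theorem sie_zero : ∀ v : V6, sie 0 v = v := by decide +kernel

theorem sie_add_orth : ∀ u : V6, InU u → ∀ v : V6, b6 v s0 = false →
    sie u v + v = sm (b6 v u) s0 := by decide +kernel

theorem sie_moves : ∀ u : V6, InU u → u ≠ 0 → ∀ v : V6,
    (sie u v + v = 0 ∨ sie u v + v = s0) → b6 v s0 = false := by decide +kernel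

theorem d0_image : ∀ y : V6, q6 y = false → b6 y s0 = true →
    y = d0 + pU y + sm (q6 (pU y)) s0 := by decide +kernel

/-- Additive maps preserving the form. -/
structure IsIso6 (f : V6 → V6) : Prop where
  add : ∀ u v, f (u + v) = f u + f v
  quad : ∀ v, q6 (f v) = q6 v

namespace IsIso6

variable {f : V6 → V6} (hf : IsIso6 f)
include hf

theorem zero : f 0 = 0 := by
  have h := hf.add 0 0
  rw [add_zero] at h
  exact left_eq_add.1 h

theorem polar (u v : V6) : b6 (f u) (f v) = b6 u v := by
  simp only [b6, ← hf.add, hf.quad]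

theorem map_sm (c : Bool) (v : V6) : f (sm c v) = sm c (f v) := by
  cases c <;> simp [sm, hf.zero]

theorem orth_s0 (hs : f s0 = s0) {v : V6} (hv : b6 v s0 = false) : b6 (f v) s0 = false := by
  rw [← hs, hf.polar]; exact hv

/-- An isometry fixing `s0` and inducing the identity on its orthogonal modulo `s0`. -/
theorem eq_sie (hs : f s0 = s0) (hx : ∀ x, b6 x s0 = false → f x + x = 0 ∨ f x + x = s0) (v : V6) :
    f v = sie (pU (f d0)) v := by
  set y := f d0 with hy
  set u := pU y with hu
  have hy2 : y = d0 + u + sm (q6 u) s0 := d0_image y (by rw [hy, hf.quad]; decide)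
    (by rw [hy, ← hs, hf.polar]; decide)
  have huo := inU_orth u (by rw [hu]; exact pU_pU y)
  -- the action on the orthogonal of `s0`
  have key : ∀ x, b6 x s0 = false → f x = x + sm (b6 x u) s0 := by
    intro x hxs
    have h1 : b6 (f x) y = b6 x d0 := hf.polar x d0
    rcases hx x hxs with e | e
    · have e' := eq_of_add_eq_zero6 e
      rw [e', hy2, b6_add_right, b6_add_right, b6_sm_right, hxs, Bool.and_false, Bool.xor_false] at h1
      have : b6 x u = false := by
        cases hxu : b6 x u
        · rfl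
        · rw [hxu] at h1; simp at h1
      rw [e', this]; simp [sm]
    · have e' : f x = x + s0 := by rw [← add_add_cancel6 (f x) x, e, add_comm]
      have hd : b6 s0 y = true := by rw [hy, ← hs, hf.polar]; exact b6_s0_d0
      rw [e', b6_add_left, hd, hy2, b6_add_right, b6_add_right, b6_sm_right, hxs,
        Bool.and_false, Bool.xor_false] at h1
      have : b6 x u = true := by
        cases hxu : b6 x u
        · rw [hxu] at h1; simp at h1
        · rfl
      rw [e', this]; simp [sm]
  cases hv : b6 v s0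
  · rw [key v hv, sie, hv]; simp [sm]
  · have hxs : b6 (v + d0) s0 = false := by rw [b6_add_left, hv]; decide
    have h := key _ hxs
    have hb : b6 (v + d0) u = b6 v u := by rw [b6_add_left, b6_comm d0 u, huo.2, Bool.xor_false]
    rw [hb, hf.add, ← hy] at h
    rw [sie, hv]
    have e1 : f v = f v + y + y := (add_add_cancel6 _ _).symm
    rw [e1, h, hy2, show sm true (u + sm (q6 u) s0) = u + sm (q6 u) s0 from rfl]
    calc v + d0 + sm (b6 v u) s0 + (d0 + u + sm (q6 u) s0)
        = v + (u + sm (q6 u) s0) + sm (b6 v u) s0 + (d0 + d0) := by abel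
      _ = v + (u + sm (q6 u) s0) + sm (b6 v u) s0 := by rw [add_self6, add_zero]

theorem b6_pU_map (hs : f s0 = s0) {u v : V6} (hu : b6 u s0 = false) (hv : b6 v s0 = false) :
    b6 (pU (f u)) (pU (f v)) = b6 u v := by
  rw [b6_pU (hf.orth_s0 hs hu) (hf.orth_s0 hs hv), hf.polar]

theorem q6_pU_map (hs : f s0 = s0) {u : V6} (hu : b6 u s0 = false) : q6 (pU (f u)) = q6 u := by
  rw [q6_pU _ (hf.orth_s0 hs hu), hf.quad]

theorem pU_map_pU (hs : f s0 = s0) {v : V6} (hv : b6 v s0 = false) :
    pU (f (pU v)) = pU (f v) := by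
  rcases eq_pU_add v hv with e | e
  · rw [← e]
  · conv_rhs => rw [e, hf.add, hs, pU_add, show pU s0 = 0 from by decide, add_zero]

/-- Conjugation of Siegel transformations. -/
theorem conj_sie (hs : f s0 = s0) {u : V6} (hu : InU u) (v : V6) :
    f (sie u v) = sie (pU (f u)) (f v) := by
  have huo := (inU_orth u hu).1
  have hq : q6 (pU (f u)) = q6 u := hf.q6_pU_map hs huo
  have h1 : b6 (f v) s0 = b6 v s0 := by
    conv_lhs => rw [← hs, hf.polar]
  have hfu := hf.orth_s0 hs huo
  unfold sie
  simp only [hf.add, hf.map_sm, hs, h1, hq]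
  rcases eq_pU_add (f u) hfu with e | e
  · rw [← e, hf.polar]
  · have h2 : b6 (f v) (pU (f u)) = xor (b6 v u) (b6 v s0) := by
      have h3 : pU (f u) = f u + s0 := by conv_rhs => rw [e, add_add_cancel6]
      rw [h3, b6_add_right, hf.polar, h1]
    rw [h2, sm_xor]
    conv_lhs => rw [e]
    cases b6 v s0
    · simp [sm]
    · simp only [sm, if_true]
      abel

end IsIso6

/-- Each entry is the image of a later one under one of the maps. -/
def chainOK {α : Type*} [DecidableEq α] (gs : List (α → α)) (x₀ : α) : List α → Bool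
  | [] => true
  | x :: l => (decide (x = x₀) || gs.any fun g => l.any fun y => decide (g y = x)) && chainOK gs x₀ l

theorem chainOK_prop {α : Type*} [DecidableEq α] {gs : List (α → α)} {x₀ : α} {P : α → Prop}
    (h0 : P x₀) (hg : ∀ g ∈ gs, ∀ x, P x → P (g x)) :
    ∀ l : List α, chainOK gs x₀ l = true → ∀ x ∈ l, P x
  | [], _, x, hx => absurd hx List.not_mem_nil
  | y :: l, h, x, hx => by
      simp only [chainOK, Bool.and_eq_true, Bool.or_eq_true, decide_eq_true_eq, List.any_eq_true] at h
      have ih := chainOK_prop h0 hg l h.2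
      rcases List.mem_cons.1 hx with rfl | hx
      · rcases h.1 with e | ⟨g, hgm, y', hy', e⟩
        · exact e ▸ h0
        · exact e ▸ hg g hgm y' (ih y' hy')
      · exact ih x hx

/-- Generators of the stabilizer of `s0`. -/
def hsGens : List (ℕ × ℕ) := [(17, 49), (13, 41), (32, 37)]

/-- One more pair, moving `s0`. -/
def allGens : List (ℕ × ℕ) := (3, 7) :: hsGens

/-- Pairs used to single out a vector by its stabilizer. -/
def stabPairs : List (ℕ × ℕ) := [(12, 16), (20, 32), (24, 36), (48, 56), (12, 32), (16, 20),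
  (24, 40), (36, 56), (20, 40), (24, 52), (12, 36), (12, 48)]

theorem allGens_ok : ∀ p ∈ allGens, okPair p = true := by decide +kernel

theorem hsGens_ok : ∀ p ∈ hsGens, okPair p = true ∧ pr p s0 = s0 := by decide +kernel

theorem stabPairs_ok : ∀ p ∈ stabPairs, okPair p = true ∧ pr p s0 = s0 := by decide +kernel

/-- The singular vectors, in the order they are reached from `s0`. -/
def singList : List V6 :=
  ([60, 35, 19, 39, 51, 6, 23, 59, 28, 46, 27, 55, 2, 62, 4, 10, 45, 61, 30, 15, 9, 8, 29, 43, 44,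
    5, 1] : List ℕ).map mk6

theorem singList_facts : chainOK (allGens.map pr) s0 singList = true ∧
    ∀ v : V6, q6 v = false → v ≠ 0 → v ∈ singList := by decide +kernel

/-- The map induced on the orthogonal of `s0` and `d0`. -/
def prU (p : ℕ × ℕ) (v : V6) : V6 := pU (pr p v)

/-- The singular vectors of that space. -/
def uSingList : List V6 := ([60, 8, 28, 44, 4] : List ℕ).map mk6

theorem uSingList_facts : chainOK (hsGens.map prU) (mk6 4) uSingList = true ∧
    ∀ v : V6, InU v → q6 v = false → v ≠ 0 → v ∈ uSingList := by decide +kernel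

/-- The nonsingular vectors of that space. -/
def uNsList : List V6 := ([40, 12, 24, 56, 36, 32, 20, 52, 48, 16] : List ℕ).map mk6

theorem uNsList_facts : chainOK (hsGens.map prU) a0 uNsList = true ∧
    ∀ v : V6, InU v → q6 v = true → v ∈ uNsList := by decide +kernel

/-- The anisotropic pairs of that space. -/
def pairList : List (V6 × V6) :=
  ([(36, 40), (48, 40), (36, 12), (48, 24), (12, 40), (24, 12), (40, 24), (20, 12), (24, 40), (40,
    12), (16, 40), (52, 12), (52, 56), (20, 24), (16, 56), (40, 36), (12, 20), (24, 48), (12,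
    24), (40, 48), (12, 36), (24, 20), (40, 56), (12, 56), (20, 36), (56, 40), (48, 36), (56,
    12), (32, 56), (16, 36), (32, 24), (16, 52), (56, 16), (48, 20), (56, 52), (36, 48), (32,
    16), (40, 16), (36, 20), (12, 52), (20, 48), (56, 24), (36, 52), (16, 48), (24, 56), (52,
    36), (32, 52), (32, 20), (24, 32), (52, 16), (48, 32), (56, 32), (36, 16), (52, 20), (20,
    52), (32, 48), (20, 32), (52, 32), (48, 16), (16, 32)] : List (ℕ × ℕ)).map fun x => (mk6 x.1, mk6 x.2)

theorem pairList_facts :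
    chainOK (hsGens.map fun p x => (prU p x.1, prU p x.2)) (a0, u0) pairList = true ∧
    ∀ a : V6, InU a → ∀ u : V6, InU u → q6 a = true → q6 u = true → b6 a u = true →
      (a, u) ∈ pairList := by decide +kernel

theorem singular_orth_eq : ∀ a : V6, InU a → ∀ u : V6, InU u → a ≠ 0 → u ≠ 0 →
    q6 a = false → q6 u = false → b6 a u = false → a = u := by decide +kernel

theorem eq_zero_of_orth : ∀ a : V6, InU a → (∀ v : V6, InU v → b6 v a = false) → a = 0 := by
  decide +kernel

theorem eq_of_stab : ∀ u : V6, InU u → ∀ m : V6, InU m →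
    (∀ p ∈ stabPairs, prU p u = u → prU p m = m) → m = 0 ∨ m = u := by decide +kernel

theorem moved_by_gens : ∀ e : V6, q6 e = false → b6 e s0 = false → e ≠ 0 → e ≠ s0 →
    ∃ p ∈ hsGens, b6 e (pr p e) = true := by decide +kernel

theorem fuse : ∀ a : V6, InU a → ∀ u : V6, InU u → q6 a = true → b6 a u = true → q6 u = true →
    ∀ i j : Bool, ∃ v : V6, InU v ∧ b6 v a = i ∧ b6 v u = j := by decide +kernel

/-- The vectors orthogonal to `s0`, `a` and `u`. -/
def orth3 (a u : V6) : Finset V6 :=
  Finset.univ.filter fun v => b6 v s0 = false ∧ b6 v a = false ∧ b6 v u = false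

theorem orth3_card : ∀ a : V6, InU a → ∀ u : V6, InU u → 8 ≤ (orth3 a u).card := by
  decide +kernel

theorem radical_orth3 : ∀ v ∈ orth3 a0 u0, (∀ w ∈ orth3 a0 u0, b6 v w = false) → v = 0 ∨ v = s0 := by
  decide +kernel

/-- Combination of the list entries selected by bits. -/
def bitsum : List V6 → ℕ → V6
  | [], _ => 0
  | x :: l, n => (if n % 2 = 1 then x else 0) + bitsum l (n / 2)

/-- The standard basis. -/
def basis6 : List V6 := [mk6 1, mk6 2, mk6 4, mk6 8, mk6 16, mk6 32]

/-- The images of the standard basis. -/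
def code6 (f : V6 → V6) : List V6 := basis6.map f

/-- The map with the given images of the standard basis. -/
def app6 (l : List V6) (v : V6) : V6 := bitsum l v.bits

theorem app6_basis : ∀ v : V6, app6 basis6 v = v := by decide +kernel

theorem bitsum_map {f : V6 → V6} (hadd : ∀ u v, f (u + v) = f u + f v) (h0 : f 0 = 0) :
    ∀ (l : List V6) (n : ℕ), bitsum (l.map f) n = f (bitsum l n)
  | [], _ => h0.symm
  | x :: l, n => by
    simp only [List.map_cons, bitsum, bitsum_map hadd h0 l, hadd]
    split <;> simp [h0]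

theorem IsIso6.app6_code {f : V6 → V6} (hf : IsIso6 f) (v : V6) : app6 (code6 f) v = f v := by
  rw [app6, code6, bitsum_map hf.add hf.zero]
  exact congrArg f (app6_basis v)

/-- Generators of a Sylow `2`-subgroup. -/
def tGens : List (ℕ × ℕ) :=
  [(12, 49), (36, 37), (24, 36), (32, 33), (49, 12), (37, 36), (36, 24), (33, 32)]

theorem tGens_ok : ∀ p ∈ tGens, okPair p = true := by decide +kernel

/-- The elements of that Sylow subgroup, by their codes. -/
def tList : List (List V6) :=
  ([[1, 15, 5, 9, 16, 32],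
  [1, 51, 29, 45, 52, 56],
  [1, 62, 45, 29, 57, 53],
  [1, 62, 9, 5, 33, 17],
  [1, 43, 28, 45, 52, 57],
  [1, 23, 29, 44, 53, 56],
  [1, 23, 4, 9, 16, 33],
  [1, 15, 28, 44, 53, 57],
  [1, 43, 5, 8, 17, 32],
  [1, 46, 5, 9, 17, 32],
  [1, 39, 45, 28, 56, 53],
  [1, 27, 44, 29, 57, 52],
  [1, 39, 9, 4, 32, 17],
  [1, 2, 44, 28, 56, 52],
  [1, 19, 28, 45, 53, 57],
  [1, 30, 45, 28, 56, 52],
  [1, 27, 8, 5, 33, 16],
  [1, 30, 9, 5, 33, 16],
  [1, 30, 5, 9, 16, 33],
  [1, 46, 9, 5, 32, 17],
  [1, 10, 29, 45, 53, 56],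
  [1, 51, 4, 8, 17, 33],
  [1, 55, 28, 44, 52, 57],
  [1, 55, 4, 9, 17, 33],
  [1, 46, 29, 44, 52, 56],
  [1, 10, 5, 8, 16, 32],
  [1, 10, 45, 29, 56, 53],
  [1, 62, 5, 9, 17, 33],
  [1, 27, 29, 44, 52, 57],
  [1, 6, 45, 29, 57, 52],
  [1, 2, 8, 4, 32, 16],
  [1, 59, 44, 28, 56, 53],
  [1, 6, 9, 4, 32, 16],
  [1, 59, 5, 8, 17, 33],
  [1, 35, 44, 29, 57, 53],
  [1, 19, 45, 28, 57, 53],
  [1, 30, 28, 45, 52, 56],
  [1, 59, 8, 5, 33, 17],
  [1, 6, 29, 45, 52, 57],
  [1, 10, 8, 5, 32, 16],
  [1, 23, 44, 29, 56, 53],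
  [1, 15, 9, 5, 32, 16],
  [1, 55, 44, 28, 57, 52],
  [1, 19, 4, 8, 16, 33],
  [1, 46, 44, 29, 56, 52],
  [1, 62, 29, 45, 53, 57],
  [1, 55, 9, 4, 33, 17],
  [1, 43, 45, 28, 57, 52],
  [1, 27, 5, 8, 16, 33],
  [1, 59, 28, 44, 53, 56],
  [1, 35, 8, 4, 32, 17],
  [1, 35, 29, 44, 53, 57],
  [1, 51, 45, 29, 56, 52],
  [1, 6, 4, 9, 16, 32],
  [1, 39, 28, 45, 53, 56],
  [1, 43, 8, 5, 32, 17],
  [1, 19, 8, 4, 33, 16],
  [1, 15, 44, 28, 57, 53],
  [1, 23, 9, 4, 33, 16],
  [1, 35, 4, 8, 17, 32],
  [1, 2, 28, 44, 52, 56],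
  [1, 39, 4, 9, 17, 32],
  [1, 51, 8, 4, 33, 17],
  [1, 2, 4, 8, 16, 32]] : List (List ℕ)).map (List.map mk6)

theorem tList_card : tList.length = 64 ∧ tList.Nodup := by decide +kernel

theorem tList_chain : chainOK (tGens.map fun p l => l.map (pr p)) basis6 tList = true := by
  decide +kernel

theorem tList_closed : ∀ l ∈ tList, ∀ p ∈ tGens, l.map (pr p) ∈ tList := by decide +kernel

theorem basis6_mem : basis6 ∈ tList := by decide +kernel

theorem tList_involution : ∀ l ∈ tList, l.map (app6 l) = basis6 →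
    ∃ w : V6, q6 w = false ∧ w ≠ 0 ∧ app6 l w = w ∧
      ∀ v : V6, b6 v w = false → app6 l v + v = 0 ∨ app6 l v + v = w := by decide +kernel

/-- The possible images of `d0, a0, u0` under an isometry fixing `s0`, `4` and `8`. -/
def candList : List (V6 × V6 × V6) :=
  let L : List V6 := (List.range 64).map mk6 |>.filter fun v =>
    b6 v (mk6 4) == false && b6 v (mk6 8) == false
  (L.filter fun y => q6 y == false && b6 y s0 == true).flatMap fun y =>
    (L.filter fun a => q6 a == true && b6 a s0 == false && b6 y a == false).flatMap fun a =>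
      (L.filter fun u => q6 u == true && b6 u s0 == false && b6 y u == false && b6 a u == true).map
        fun u => (y, a, u)

theorem candList_card : candList.length = 24 := by decide +kernel

theorem mem_range_mk6 : ∀ v : V6, v ∈ (List.range 64).map mk6 := by decide +kernel

end CfsgLib.SuzType
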