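import Cfsg.Agent.SuzType.Commutator
import Cfsg.Agent.SuzType.Sylow

/-!
# The involutions of `C_Q(s) C_P(z)`
-/

set_option autoImplicit false

namespace CfsgLib.SuzType

open CfsgLib.LargeExtraspecial

theorem sie_diag : ∀ u : V6, InU u → ∀ v : V6, b6 v s0 = true → pU (sie u v + v) = u := by
  decide +kernel

theorem std_pair : InU a0 ∧ InU u0 ∧ q6 a0 = true ∧ q6 u0 = true ∧ b6 a0 u0 = true := by decide

namespace Frame

variable {G : Type*} [Group G] [Finite G] {z s : G} {Q P : Subgroup G} {π : G → V6}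
  (F : Frame z Q π P s)
include F

/-- The type of `a * w`: an involution exactly when both norms equal the scalar product. -/
theorem sq_iff {a w : G} (ha : a ∈ Q) (has : a * s = s * a) (hw : w ∈ P) (hwz : w * z = z * w) :
    a * w * (a * w) = 1 ↔ q6 (cls π a) = b6 (cls π a) (F.ups w) ∧
      q6 (F.ups w) = b6 (cls π a) (F.ups w) := by
  obtain ⟨hz1, hs1, hzs, hzs1, hzsz, hzss⟩ := F.zs_facts
  have hc := F.comm_formula ha has hw hwz
  have hw2 := F.sq_formula hw hwz
  have ha2 : a * a = if q6 (cls π a) then z else 1 := by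
    have h := F.data.sq a ha
    rw [← q6_pU _ ((F.comm_s_iff ha).1 has)] at h
    rcases F.data.sub.sq_eq ha with e | e
    · have h' : q6 (cls π a) = false := h.1 e
      rw [e, h']; rfl
    · rw [e] at h
      cases hq : q6 (cls π a)
      · exact absurd (h.2 hq) hz1
      · exact e
  have hzz := F.data.sub.mul_self
  have hss := F.s_mul_self
  have hsz := F.s_comm
  have key : a * w * (a * w) = a * ((w * a * w⁻¹) * (w * w)) := by group
  have hza : a * z = z * a := F.data.Q_comm ha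
  have e1 : a * (z * s * a) = z * s * (a * a) := by
    rw [← mul_assoc, ← mul_assoc, hza, mul_assoc z a s, has, ← mul_assoc, mul_assoc (z * s) a a]
  have hzzs : z * (z * s) = s := by rw [← mul_assoc, hzz, one_mul]
  have hzsz' : z * s * z = s := by rw [mul_assoc, hsz, hzzs]
  rw [key, hc, hw2]
  cases hb : b6 (cls π a) (F.ups w) <;> cases hqa : q6 (cls π a) <;>
    cases hqu : q6 (F.ups w) <;> rw [hqa] at ha2 <;>
    simp only [Bool.false_eq_true, if_true, if_false, one_mul, mul_one] at ha2 ⊢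
  · simp [ha2]
  · rw [← mul_assoc, ha2, one_mul]; simp [hs1]
  · simp [ha2, hz1]
  · rw [← mul_assoc, ha2]; simp [hzs1]
  · rw [e1, ha2, mul_one]; simp [hzs1]
  · rw [← mul_assoc, e1, ha2, mul_one, mul_assoc, hss, mul_one]; simp [hz1]
  · rw [e1, ha2, hzsz']; simp [hs1]
  · rw [← mul_assoc, e1, ha2, hzsz', hss]; simp

omit [Finite G] in
theorem exists_not_comm : ∃ q ∈ Q, q * z = z * q ∧ q * s * q⁻¹ = z * s ∧
    q⁻¹ * s * q = z * s ∧ b6 (π q) s0 = true := by
  obtain ⟨q, hq, hqs⟩ := F.data.sub.exists_not_commute F.pair.subP.ne_one F.pair.ne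
  refine ⟨q, hq, F.data.Q_comm hq, F.data.sub.conj_of_not_commute hq F.pair.mem hqs, ?_, ?_⟩
  · have h : q⁻¹ * s ≠ s * q⁻¹ := fun h => hqs (by
      have := (show Commute q⁻¹ s from h).inv_left
      rwa [inv_inv] at this)
    have := F.data.sub.conj_of_not_commute (inv_mem hq) F.pair.mem h
    rwa [inv_inv] at this
  · cases hb : b6 (π q) s0
    · exact absurd ((F.comm_s_iff hq).2 hb) hqs
    · rfl

/-- The conjugate of an element of `W` by an element of `Q` moving `s`. -/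
theorem conj_W_eq {q w : G} (hq : q ∈ Q) (hqs : q⁻¹ * s * q = z * s) (hb : b6 (π q) s0 = true)
    (hw : w ∈ P) (hwz : w * z = z * w) :
    ∃ a ∈ Q, a * s = s * a ∧ cls π a = F.ups w ∧ q * w * q⁻¹ = a * w := by
  have hws := F.W_comm_s hw
  have hwi : w⁻¹ * z = z * w⁻¹ := (Commute.inv_left hwz).eq
  have haQ : q * w * q⁻¹ * w⁻¹ ∈ Q := by
    have := mul_mem hq (F.data.sub.conj_mem hwz (inv_mem hq))
    simpa [mul_assoc] using this
  refine ⟨q * w * q⁻¹ * w⁻¹, haQ, ?_, ?_, by group⟩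
  · have h1 : Commute w (q⁻¹ * s * q) := by
      rw [hqs]; exact (show Commute w z from hwz).mul_right hws
    have h2 : Commute (q * w * q⁻¹) (q * (q⁻¹ * s * q) * q⁻¹) := (Commute.conj_iff q).2 h1
    rw [show q * (q⁻¹ * s * q) * q⁻¹ = s by group] at h2
    exact (h2.mul_left (Commute.inv_left hws)).eq
  · have e : q * w * q⁻¹ * w⁻¹ = q * (w * q⁻¹ * w⁻¹) := by group
    rw [cls, e, F.data.map_mul q hq _ (F.data.sub.conj_mem hwz (inv_mem hq)),
      ← F.data.act_π hwz (inv_mem hq), F.data.π_inv hq, F.act_W hw hwz, add_comm]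
    exact sie_diag _ (F.ups_inU w) _ hb

omit [Finite G] in
theorem isConj_of_mem {x : G} (hx : x ∈ Q) (h2 : x * x = 1) (h1 : x ≠ 1) (hz : x ≠ z) :
    IsConj z x := by
  have hq : q6 (π x) = false := (F.data.sq x hx).1 h2
  have h0 : π x ≠ 0 := fun h => ((F.data.ker x hx).1 h).elim h1 hz
  have hreach : ∀ v ∈ singList, ∃ c, c * z = z * c ∧ F.data.act c s0 = v :=
    chainOK_prop (P := fun v => ∃ c, c * z = z * c ∧ F.data.act c s0 = v)
      ⟨1, by simp, F.data.act_one _⟩ (fun g hg v hv => by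
        obtain ⟨p, hp, rfl⟩ := List.mem_map.1 hg
        obtain ⟨c, hc, rfl⟩ := hv
        obtain ⟨d, hd, hdv⟩ := F.data.exists_pr (allGens_ok p hp)
        exact ⟨d * c, (Commute.mul_left hd hc).eq, by rw [F.data.act_mul hd hc, hdv]⟩)
      singList singList_facts.1
  obtain ⟨c, hc, hcv⟩ := hreach _ (singList_facts.2 _ hq h0)
  rw [← F.π_s, F.data.act_π hc F.pair.mem] at hcv
  have hzs : IsConj z (c * s * c⁻¹) := F.isConj_z_s.trans (isConj_iff.2 ⟨c, rfl⟩)
  rcases F.data.eq_or_eq_of_π_eq (F.data.sub.conj_mem hc F.pair.mem) hx hcv with e | e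
  · rwa [e]
  · obtain ⟨q, hq', hqx⟩ := F.data.sub.exists_not_commute h1 hz
    refine hzs.trans (IsConj.symm (isConj_iff.2 ⟨q, ?_⟩))
    rw [F.data.sub.conj_of_not_commute hq' hx hqx, e, ← mul_assoc, F.data.sub.mul_self, one_mul]

theorem isConj_of_mem_P {x : G} (hx : x ∈ P) (h2 : x * x = 1) (h1 : x ≠ 1) (hs : x ≠ s) :
    IsConj z x := by
  obtain ⟨y, hy0, hy1⟩ := F.exists_swap
  have hQ := (F.swap_mem hy0 hy1).2 hx
  have h : IsConj z (y * x * y⁻¹) := by
    refine F.isConj_of_mem hQ ?_ (fun e => h1 (conj_eq_one_iff.1 e)) fun e => hs ?_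
    · rw [show y * x * y⁻¹ * (y * x * y⁻¹) = y * (x * x) * y⁻¹ by group, h2]; group
    · rw [← hy1] at e; exact mul_left_cancel (mul_right_cancel e)
  exact h.trans (IsConj.symm (isConj_iff.2 ⟨y, rfl⟩))

theorem memE_mul {e f : G} (he : MemE z s e) (hf : MemE z s f) : MemE z s (e * f) := by
  obtain ⟨h1, h2⟩ := F.memE_mem he
  obtain ⟨h3, h4⟩ := F.memE_mem hf
  exact F.memE_of_mem (mul_mem h1 h3) (mul_mem h2 h4)

/-- Two products with the same classes differ by an element of `⟨z, s⟩`. -/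
theorem eq_memE_mul {a w a' w' : G} (ha : a ∈ Q) (has : a * s = s * a) (hw : w ∈ P)
    (hwz : w * z = z * w) (ha' : a' ∈ Q) (has' : a' * s = s * a') (hw' : w' ∈ P)
    (hwz' : w' * z = z * w') (hA : cls π a' = cls π a) (hU : F.ups w' = F.ups w) :
    ∃ e, MemE z s e ∧ a' * w' = e * (a * w) := by
  have hwi : w⁻¹ * z = z * w⁻¹ := (Commute.inv_left hwz).eq
  have e1 : MemE z s (a' * a⁻¹) := F.memE_of_cls (mul_mem ha' (inv_mem ha))
    ((Commute.mul_left has' (Commute.inv_left has)).eq)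
    (by rw [F.cls_mul ha' (inv_mem ha), F.cls_inv ha, hA, add_self6])
  have e2 : MemE z s (w' * w⁻¹) := by
    refine F.memE_of_ups (mul_mem hw' (inv_mem hw)) (Commute.mul_left hwz' hwi).eq ?_
    rw [F.ups_mul hw' hwz' (inv_mem hw) hwi, hU, ← F.ups_mul hw hwz (inv_mem hw) hwi,
      mul_inv_cancel, F.ups_memE (Or.inl rfl)]
  refine ⟨a' * a⁻¹ * (w' * w⁻¹), F.memE_mul e1 e2, ?_⟩
  have hc := F.memE_comm e2 (F.data.Q_comm ha) has
  calc a' * w' = a' * a⁻¹ * (a * (w' * w⁻¹)) * w := by group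
    _ = a' * a⁻¹ * ((w' * w⁻¹) * a) * w := by rw [hc]
    _ = a' * a⁻¹ * (w' * w⁻¹) * (a * w) := by group

/-- Conjugation by an element of `C_Q(s)`. -/
theorem conj_aw {a w q : G} (ha : a ∈ Q) (has : a * s = s * a) (hw : w ∈ P) (hwz : w * z = z * w)
    (hq : q ∈ Q) (hqs : q * s = s * q) :
    q * (a * w) * q⁻¹ = (if b6 (cls π q) (cls π a) then z else 1) *
      (if b6 (cls π q) (F.ups w) then z * s else 1) * (a * w) := by
  obtain ⟨c, hcdef⟩ : ∃ c, c = (if b6 (cls π q) (F.ups w) then z * s else 1) := ⟨_, rfl⟩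
  have hcE : MemE z s c := by
    rw [hcdef]; split
    · exact Or.inr (Or.inr (Or.inr rfl))
    · exact Or.inl rfl
  have hcc : c * c = 1 := by
    rw [hcdef]; split
    · rw [show z * s * (z * s) = (z * z) * (s * s) from
        Commute.mul_mul_mul_comm F.s_comm z s, F.data.sub.mul_self, F.s_mul_self, one_mul]
    · rw [mul_one]
  have h1 : q * w * q⁻¹ = c * w := by
    have h := F.comm_formula hq hqs hw hwz
    rw [← hcdef] at h
    calc q * w * q⁻¹ = c * (c * q) * w * q⁻¹ := by rw [← mul_assoc c c, hcc, one_mul]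
      _ = c * (w * q * w⁻¹) * w * q⁻¹ := by rw [h]
      _ = c * w := by group
  have h2 : q * a * q⁻¹ = (if b6 (cls π q) (cls π a) then z else 1) * a := by
    have hb : b6 (cls π q) (cls π a) = b6 (π q) (π a) :=
      b6_pU ((F.comm_s_iff hq).1 hqs) ((F.comm_s_iff ha).1 has)
    have hcm := F.data.commute_iff hq ha
    rw [hb]
    cases hbb : b6 (π q) (π a)
    · rw [mul_inv_eq_iff_eq_mul.2 (hcm.2 hbb)]; simp
    · rw [F.data.sub.conj_of_not_commute hq ha fun e => by simp [hcm.1 e] at hbb]; simp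
  rw [← hcdef]
  calc q * (a * w) * q⁻¹ = (q * a * q⁻¹) * (q * w * q⁻¹) := by group
    _ = (if b6 (cls π q) (cls π a) then z else 1) * (a * c) * w := by rw [h1, h2]; group
    _ = _ := by rw [F.memE_comm hcE (F.data.Q_comm ha) has]; group

/-- An anisotropic involution of `C_Q(s) C_P(z)` with standard classes. -/
theorem exists_std : ∃ a w, a ∈ Q ∧ a * s = s * a ∧ w ∈ P ∧ w * z = z * w ∧ cls π a = a0 ∧
    F.ups w = u0 ∧ a * w * (a * w) = 1 := by
  obtain ⟨hA, hU, hqa, hqu, hb⟩ := std_pair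
  obtain ⟨a, ha, has, hπ⟩ := F.exists_mem a0 (inU_orth _ hA).1
  obtain ⟨w, hw, hwz, hu⟩ := F.exists_ups hU
  have hc : cls π a = a0 := by rw [cls, hπ]; exact hA
  exact ⟨a, w, ha, has, hw, hwz, hc, hu,
    (F.sq_iff ha has hw hwz).2 (by rw [hc, hu, hb, hqa, hqu]; exact ⟨rfl, rfl⟩)⟩

/-- All anisotropic elements are conjugate to a standard one. -/
theorem isConj_aniso {a w a1 w1 : G} (ha : a ∈ Q) (has : a * s = s * a) (hw : w ∈ P)
    (hwz : w * z = z * w) (hA : cls π a = a0) (hU : F.ups w = u0)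
    (ha1 : a1 ∈ Q) (has1 : a1 * s = s * a1) (hw1 : w1 ∈ P) (hwz1 : w1 * z = z * w1)
    (hqa : q6 (cls π a1) = true) (hqu : q6 (F.ups w1) = true)
    (hb : b6 (cls π a1) (F.ups w1) = true) : IsConj (a * w) (a1 * w1) := by
  have hreach : ∀ x ∈ pairList, InU x.1 ∧ InU x.2 ∧ ∃ n, n * z = z * n ∧ n * s = s * n ∧
      pU (F.data.act n a0) = x.1 ∧ pU (F.data.act n u0) = x.2 :=
    chainOK_prop (P := fun x : V6 × V6 => InU x.1 ∧ InU x.2 ∧ ∃ n, n * z = z * n ∧ n * s = s * n ∧
      pU (F.data.act n a0) = x.1 ∧ pU (F.data.act n u0) = x.2)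
      ⟨std_pair.1, std_pair.2.1, 1, by simp, by simp, by rw [F.data.act_one]; exact std_pair.1,
        by rw [F.data.act_one]; exact std_pair.2.1⟩
      (fun g hg x hx => by
        obtain ⟨p, hp, rfl⟩ := List.mem_map.1 hg
        obtain ⟨-, -, n, hn, hns, h1, h2⟩ := hx
        obtain ⟨m, hm, hms, hmv⟩ := F.exists_pr (hsGens_ok p hp).1 (hsGens_ok p hp).2
        refine ⟨pU_pU _, pU_pU _, m * n, (Commute.mul_left hm hn).eq,
          (Commute.mul_left hms hns).eq, ?_, ?_⟩
        · show _ = prU p x.1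
          rw [prU, ← hmv, ← h1, F.data.act_mul hm hn, (F.data.act_iso hm).pU_map_pU
            (F.act_s hm hms) ((F.data.act_iso hn).orth_s0 (F.act_s hn hns) (inU_orth _ std_pair.1).1)]
        · show _ = prU p x.2
          rw [prU, ← hmv, ← h2, F.data.act_mul hm hn, (F.data.act_iso hm).pU_map_pU
            (F.act_s hm hms) ((F.data.act_iso hn).orth_s0 (F.act_s hn hns) (inU_orth _ std_pair.2.1).1)])
      pairList pairList_facts.1
  obtain ⟨-, -, n, hn, hns, h1, h2⟩ := hreach _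
    (pairList_facts.2 _ (cls_inU π a1) _ (F.ups_inU w1) hqa hqu hb)
  obtain ⟨hw', hwz'⟩ := F.conj_mem_W hn hns hw hwz
  have ha' := F.data.sub.conj_mem hn ha
  have has' : n * a * n⁻¹ * s = s * (n * a * n⁻¹) :=
    ((Commute.mul_left hns has).mul_left (Commute.inv_left hns)).eq
  obtain ⟨e, he, heq⟩ := F.eq_memE_mul ha' has' hw' hwz' ha1 has1 hw1 hwz1
    (by rw [F.cls_conj hn hns ha has, hA, h1]) (by rw [F.ups_conj hn hns hw hwz, hU, h2])
  have hA' : cls π (n * a * n⁻¹) = cls π a1 := by rw [F.cls_conj hn hns ha has, hA, h1]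
  have hU' : F.ups (n * w * n⁻¹) = F.ups w1 := by rw [F.ups_conj hn hns hw hwz, hU, h2]
  have hij : ∃ i j : Bool, (if i then z else 1) * (if j then z * s else 1) = e := by
    have hzzs : z * (z * s) = s := by rw [← mul_assoc, F.data.sub.mul_self, one_mul]
    rcases he with r | r | r | r
    · exact ⟨false, false, by simp [r]⟩
    · exact ⟨true, false, by simp [r]⟩
    · exact ⟨true, true, by simp [r, hzzs]⟩
    · exact ⟨false, true, by simp [r]⟩
  obtain ⟨i, j, hij⟩ := hij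
  obtain ⟨v, hv, hvi, hvj⟩ := fuse _ (cls_inU π a1) _ (F.ups_inU w1) hqa hb hqu i j
  obtain ⟨q, hq, hqs, hqv⟩ := F.exists_mem v (inU_orth v hv).1
  have hcq : cls π q = v := by rw [cls, hqv]; exact hv
  have hconj := F.conj_aw ha' has' hw' hwz' hq hqs
  rw [hA', hU', hcq, hvi, hvj, hij, ← heq] at hconj
  refine isConj_iff.2 ⟨q * n, ?_⟩
  rw [← hconj]; group

/-- Classification of the involutions of `C(z)` up to conjugation in `G`. -/
theorem isConj_or_aniso {x : G} (hx : x * z = z * x) (h2 : x * x = 1) (h1 : x ≠ 1) :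
    IsConj z x ∨ ∃ a w, a ∈ Q ∧ a * s = s * a ∧ w ∈ P ∧ w * z = z * w ∧
      q6 (cls π a) = true ∧ q6 (F.ups w) = true ∧ b6 (cls π a) (F.ups w) = true ∧
      IsConj (a * w) x := by
  by_cases hxQ : x ∈ Q
  · by_cases hxz : x = z
    · exact Or.inl (hxz ▸ IsConj.refl z)
    · exact Or.inl (F.isConj_of_mem hxQ h2 h1 hxz)
  obtain ⟨c, u, hc, hu, hu0, hact⟩ := F.data.exists_conj_sie hx h2 hxQ
  set y := c * x * c⁻¹ with hy
  have hyz : y * z = z * y := ((Commute.mul_left hc hx).mul_left (Commute.inv_left hc)).eq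
  have hyy : y * y = 1 := by
    rw [hy, show c * x * c⁻¹ * (c * x * c⁻¹) = c * (x * x) * c⁻¹ by group, h2]; group
  have hxy : IsConj y x := IsConj.symm (isConj_iff.2 ⟨c, rfl⟩)
  obtain ⟨w, hw, hwz, hwu⟩ := F.exists_ups hu
  have hwi : w⁻¹ * z = z * w⁻¹ := (Commute.inv_left hwz).eq
  obtain ⟨a, haeq⟩ : ∃ a, y = a * w := ⟨y * w⁻¹, by group⟩
  have haz : a * z = z * a := by
    rw [show a = y * w⁻¹ by rw [haeq]; group]; exact (Commute.mul_left hyz hwi).eq
  have haQ : a ∈ Q := F.data.mem_of_act haz fun v => by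
    rw [show a = y * w⁻¹ by rw [haeq]; group, F.data.act_mul hyz hwi, hact, ← hwu,
      ← F.act_W hw hwz, ← F.data.act_mul hwz hwi, mul_inv_cancel, F.data.act_one]
  have has : a * s = s * a := by
    refine (F.comm_s_iff haQ).2 (sie_moves u hu hu0 _ ?_)
    have hww : MemE z s (w * w) := by
      rw [F.sq_formula hw hwz]; split
      · exact Or.inr (Or.inr (Or.inl rfl))
      · exact Or.inl rfl
    have hwwQ := (F.memE_mem hww).1
    have e : w * a * w⁻¹ = a⁻¹ * (w * w)⁻¹ := by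
      have : a * w * (a * w) = 1 := by rw [← haeq]; exact hyy
      calc w * a * w⁻¹ = a⁻¹ * (a * w * (a * w)) * (w * w)⁻¹ := by group
        _ = a⁻¹ * (w * w)⁻¹ := by rw [this, mul_one]
    have hπ := congrArg π e
    rw [← F.data.act_π hwz haQ, F.act_W hw hwz, hwu, F.data.map_mul _ (inv_mem haQ) _ (inv_mem hwwQ),
      F.data.π_inv haQ, F.data.π_inv hwwQ] at hπ
    rw [hπ, add_comm (π a), add_add_cancel6]
    exact (F.memE_iff_cls hwwQ).1 hww
  obtain ⟨hqA, hqU⟩ := (F.sq_iff haQ has hw hwz).1 (by rw [← haeq]; exact hyy)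
  have hywz : IsConj z y → IsConj z x := fun h => h.trans hxy
  by_cases hA0 : cls π a = 0
  · left
    refine hywz ?_
    rw [haeq]
    have hyP : a * w ∈ P := mul_mem (F.memE_mem (F.memE_of_cls haQ has hA0)).2 hw
    refine F.isConj_of_mem_P hyP (by rw [← haeq]; exact hyy) ?_ ?_
    · intro e; apply h1
      rw [← haeq, hy, conj_eq_one_iff] at e; exact e
    · intro e
      apply hu0
      have : w = a⁻¹ * s := by rw [← e]; group
      have hwQ : w ∈ Q := this ▸ mul_mem (inv_mem haQ) F.pair.mem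
      rw [← hwu, F.ups_memE (F.memE_of_mem hwQ hw)]
  cases hqu : q6 (F.ups w)
  · left
    refine hywz ?_
    rw [hqu] at hqU
    rw [← hqU] at hqA
    have hAu : cls π a = F.ups w := singular_orth_eq _ (cls_inU π a) _ (F.ups_inU w) hA0
      (by rw [hwu]; exact hu0) hqA hqu hqU.symm
    obtain ⟨q, hq, hqz, hqs, hqs', hqb⟩ := F.exists_not_comm
    obtain ⟨a', ha', has', hA', heq'⟩ := F.conj_W_eq hq hqs' hqb hw hwz
    obtain ⟨e, he, hee⟩ := F.eq_memE_mul ha' has' hw hwz haQ has hw hwz (hAu.trans hA'.symm) rfl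
    rw [haeq, hee, ← heq']
    -- `e (q w q⁻¹)` is the conjugate of an involution of `P`
    have heP : q⁻¹ * e * q ∈ P := by
      rcases he with r | r | r | r
      · rw [r]; simp
      · rw [r, mul_assoc, ← hqz, inv_mul_cancel_left]; exact F.pair.z_mem
      · rw [r, hqs']; exact mul_mem F.pair.z_mem F.pair.subP.z_mem
      · rw [r, show q⁻¹ * (z * s) * q = (q⁻¹ * z * q) * (q⁻¹ * s * q) by group, hqs',
          mul_assoc q⁻¹ z q, ← hqz, inv_mul_cancel_left]
        exact mul_mem F.pair.z_mem (mul_mem F.pair.z_mem F.pair.subP.z_mem)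
    obtain ⟨x', hx'⟩ : ∃ x', x' = q⁻¹ * e * q * w := ⟨_, rfl⟩
    have hconj : e * (q * w * q⁻¹) = q * x' * q⁻¹ := by rw [hx']; group
    rw [hconj]
    have hyq : y = q * x' * q⁻¹ := by rw [← hconj, heq', ← hee, ← haeq]
    have hcx : IsConj z x' := by
      refine F.isConj_of_mem_P (hx' ▸ mul_mem heP hw) ?_ ?_ ?_
      · have e2 : q * (x' * x') * q⁻¹ = 1 := by
          rw [← hyy, hyq]; group
        exact conj_eq_one_iff.1 e2
      · intro e'
        apply h1
        rw [e', mul_one, mul_inv_cancel] at hyq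
        rw [hy, conj_eq_one_iff] at hyq
        exact hyq
      · intro e'
        apply hu0
        rw [e', hqs] at hyq
        have hwQ : w ∈ Q := by
          rw [show w = a⁻¹ * (a * w) by group, ← haeq, hyq]
          exact mul_mem (inv_mem haQ) (mul_mem F.data.sub.z_mem F.pair.mem)
        rw [← hwu, F.ups_memE (F.memE_of_mem hwQ hw)]
    exact hcx.trans (isConj_iff.2 ⟨q, rfl⟩)
  · right
    rw [hqu] at hqU
    rw [← hqU] at hqA
    exact ⟨a, w, haQ, has, hw, hwz, hqA, hqu, hqU.symm, haeq ▸ hxy⟩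

end Frame

end CfsgLib.SuzType
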