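import Cfsg.Agent.SuzType.Local

/-!
# Commutators between `C_Q(s)` and `C_P(z)`, and squares in `C_P(z)`
-/

set_option autoImplicit false

namespace CfsgLib.SuzType

open CfsgLib.LargeExtraspecial

/-- An additive function on the orthogonal of `s0` and `d0` is given by the polar form. -/
theorem exists_dual {f : V6 → Bool} (hf : ∀ a b, InU a → InU b → f (a + b) = xor (f a) (f b)) :
    ∃ m, InU m ∧ ∀ a, InU a → f a = b6 a m := by
  have hexp : ∀ a : V6, InU a → a = sm (b6 a (mk6 8)) (mk6 4) + sm (b6 a (mk6 4)) (mk6 8) +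
      sm (b6 a (mk6 32)) (mk6 16) + sm (b6 a (mk6 16)) (mk6 32) := by decide +kernel
  have hin : ∀ c : Bool, ∀ k ∈ [4, 8, 16, 32], InU (sm c (mk6 k)) := by decide
  have h0 : f 0 = false := by
    have := hf 0 0 (by decide) (by decide)
    rw [add_zero] at this
    cases hf0 : f 0 <;> simp_all
  have hsm : ∀ (c : Bool) (v : V6), f (sm c v) = (c && f v) := fun c v => by
    cases c <;> simp [sm, h0]
  have hadd : ∀ a b, InU a → InU b → InU (a + b) := fun a b ha hb => by
    show pU (a + b) = a + b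
    rw [pU_add, ha, hb]
  refine ⟨pU (sm (f (mk6 8)) (mk6 4) + sm (f (mk6 4)) (mk6 8) + sm (f (mk6 32)) (mk6 16) +
    sm (f (mk6 16)) (mk6 32)), pU_pU _, fun a ha => ?_⟩
  have i4 := hin (b6 a (mk6 8)) 4 (by simp)
  have i8 := hin (b6 a (mk6 4)) 8 (by simp)
  have i16 := hin (b6 a (mk6 32)) 16 (by simp)
  have i32 := hin (b6 a (mk6 16)) 32 (by simp)
  conv_lhs => rw [hexp a ha]
  rw [hf _ _ (hadd _ _ (hadd _ _ i4 i8) i16) i32, hf _ _ (hadd _ _ i4 i8) i16, hf _ _ i4 i8,
    hsm, hsm, hsm, hsm]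
  have key : ∀ a : V6, InU a → ∀ c d g h : Bool,
      xor (xor (xor (b6 a (mk6 8) && c) (b6 a (mk6 4) && d)) (b6 a (mk6 32) && g))
        (b6 a (mk6 16) && h) =
      b6 a (pU (sm d (mk6 4) + sm c (mk6 8) + sm h (mk6 16) + sm g (mk6 32))) := by
    decide +kernel
  exact key a ha _ _ _ _

theorem card_U_singular :
    ((Finset.univ.filter fun v : V6 => InU v).filter fun v => q6 v = false).card = 6 := by
  decide +kernel

namespace Frame

variable {G : Type*} [Group G] [Finite G] {z s : G} {Q P : Subgroup G} {π : G → V6}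
  (F : Frame z Q π P s)
include F

omit [Finite G] in
theorem zs_facts : z ≠ 1 ∧ s ≠ 1 ∧ z ≠ s ∧ z * s ≠ 1 ∧ z * s ≠ z ∧ z * s ≠ s := by
  refine ⟨F.data.sub.ne_one, F.pair.subP.ne_one, F.pair.ne.symm, fun h => ?_, fun h => ?_, fun h => ?_⟩
  · exact F.pair.ne (inv_eq_of_mul_eq_one_right h ▸ inv_eq_self_of_two F.data.sub.two)
  · exact F.pair.subP.ne_one (mul_eq_left.1 h)
  · exact F.data.sub.ne_one (mul_eq_right.1 h)

theorem comm_memE {a w : G} (ha : a ∈ Q) (has : a * s = s * a) (hw : w ∈ P) (hwz : w * z = z * w) :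
    MemE z s (w * a * w⁻¹ * a⁻¹) := by
  refine F.memE_of_mem (mul_mem (F.data.sub.conj_mem hwz ha) (inv_mem ha)) ?_
  have := mul_mem hw (F.pair.subP.conj_mem has (inv_mem hw))
  simpa [mul_assoc] using this

theorem π_comm {a w : G} (ha : a ∈ Q) (has : a * s = s * a) (hw : w ∈ P) (hwz : w * z = z * w) :
    π (w * a * w⁻¹ * a⁻¹) = sm (b6 (cls π a) (F.ups w)) s0 := by
  have ho := (F.comm_s_iff ha).1 has
  rw [F.data.map_mul _ (F.data.sub.conj_mem hwz ha) _ (inv_mem ha), F.data.π_inv ha,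
    ← F.data.act_π hwz ha, F.act_W hw hwz, sie_add_orth _ (F.ups_inU w) _ ho]
  congr 1
  have h := b6_pU ho (inU_orth _ (F.ups_inU w)).1
  rw [show pU (F.ups w) = F.ups w from F.ups_inU w] at h
  exact h.symm

theorem comm_congr {a a' w w' : G} (ha : a ∈ Q) (has : a * s = s * a) (ha' : a' ∈ Q)
    (has' : a' * s = s * a') (hw : w ∈ P) (hwz : w * z = z * w) (hw' : w' ∈ P)
    (hwz' : w' * z = z * w') (hA : cls π a = cls π a') (hU : F.ups w = F.ups w') :
    w' * a' * w'⁻¹ * a'⁻¹ = w * a * w⁻¹ * a⁻¹ := by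
  have hwi : w⁻¹ * z = z * w⁻¹ := (Commute.inv_left hwz).eq
  have e1 : MemE z s (a⁻¹ * a') := F.memE_of_cls (mul_mem (inv_mem ha) ha')
    ((Commute.mul_left (Commute.inv_left has) has').eq)
    (by rw [F.cls_mul (inv_mem ha) ha', F.cls_inv ha, hA, add_self6])
  have e2 : MemE z s (w⁻¹ * w') := by
    refine F.memE_of_ups (mul_mem (inv_mem hw) hw') (Commute.mul_left hwi hwz').eq ?_
    rw [F.ups_mul (inv_mem hw) hwi hw' hwz', ← hU, ← F.ups_mul (inv_mem hw) hwi hw hwz,
      inv_mul_cancel, F.ups_memE (Or.inl rfl)]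
  obtain ⟨e, rfl⟩ : ∃ e, a' = a * e := ⟨a⁻¹ * a', by group⟩
  obtain ⟨f, rfl⟩ : ∃ f, w' = w * f := ⟨w⁻¹ * w', by group⟩
  rw [inv_mul_cancel_left] at e1 e2
  have hfa : f * (a * e) * f⁻¹ = a * e := by
    rw [mul_inv_eq_iff_eq_mul]
    exact (F.memE_comm e2 (F.data.Q_comm ha') has').symm
  have hwe : w * e * w⁻¹ = e := mul_inv_eq_iff_eq_mul.2 (F.memE_comm e1 hwz (F.W_comm_s hw))
  calc w * f * (a * e) * (w * f)⁻¹ * (a * e)⁻¹ = w * (f * (a * e) * f⁻¹) * w⁻¹ * (a * e)⁻¹ := by
        group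
    _ = (w * a * w⁻¹) * (w * e * w⁻¹) * e⁻¹ * a⁻¹ := by rw [hfa]; group
    _ = _ := by rw [hwe]; group

/-- The commutator formula. -/
theorem comm_formula {a w : G} (ha : a ∈ Q) (has : a * s = s * a) (hw : w ∈ P)
    (hwz : w * z = z * w) :
    w * a * w⁻¹ = (if b6 (cls π a) (F.ups w) then z * s else 1) * a := by
  classical
  obtain ⟨hz1, hs1, hzs, hzs1, hzsz, hzss⟩ := F.zs_facts
  set zb : G → Bool := fun e => decide (e = z ∨ e = z * s) with hzb
  suffices hmain : zb (w * a * w⁻¹ * a⁻¹) = b6 (cls π a) (F.ups w) by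
    have hπ := F.π_comm ha has hw hwz
    obtain ⟨t, ht⟩ : ∃ t, t = w * a * w⁻¹ * a⁻¹ := ⟨_, rfl⟩
    have hE : MemE z s t := ht ▸ F.comm_memE ha has hw hwz
    rw [← ht] at hmain hπ
    rw [show w * a * w⁻¹ = t * a by rw [ht, inv_mul_cancel_right]]
    congr 1
    cases hb : b6 (cls π a) (F.ups w) <;> rw [hb] at hmain hπ <;>
      simp only [hzb, sm, decide_eq_true_eq, decide_eq_false_iff_not, if_true, Bool.false_eq_true,
        if_false] at hmain hπ ⊢
    · rcases hE with r | r | r | r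
      · exact r
      · exact absurd (Or.inl r) hmain
      · rw [r, F.π_s] at hπ; exact absurd hπ s0_ne_zero
      · exact absurd (Or.inr r) hmain
    · rcases hmain with r | r
      · rw [r, F.data.π_z] at hπ; exact absurd hπ.symm s0_ne_zero
      · exact r
  -- a function of the class of `a`
  choose rep hrQ hrs hrc using fun A : V6 => F.exists_mem (pU A) (inU_orth _ (pU_pU A)).1
  have hrcls : ∀ A, InU A → cls π (rep A) = A := fun A hA => by rw [cls, hrc, pU_pU]; exact hA
  set f : V6 → Bool := fun A => zb (w * rep A * w⁻¹ * (rep A)⁻¹) with hf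
  have hfa : ∀ a, a ∈ Q → a * s = s * a → zb (w * a * w⁻¹ * a⁻¹) = f (cls π a) := fun a ha has => by
    rw [hf]
    dsimp only
    rw [F.comm_congr ha has (hrQ _) (hrs _) hw hwz hw hwz
      (hrcls _ (cls_inU π a)).symm rfl]
  have hzbmul : ∀ e e', MemE z s e → MemE z s e' → zb (e * e') = xor (zb e) (zb e') := by
    have hc : Commute z s := F.s_comm.symm
    have hzz := F.data.sub.mul_self
    have hss := F.s_mul_self
    have q1 : z * (z * s) = s := by rw [← mul_assoc, hzz, one_mul]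
    have q2 : s * (z * s) = z := by rw [← mul_assoc, ← hc.eq, mul_assoc, hss, mul_one]
    have q3 : z * s * z = s := by rw [mul_assoc, ← hc.eq, ← mul_assoc, hzz, one_mul]
    have q4 : z * s * s = z := by rw [mul_assoc, hss, mul_one]
    have q5 : z * s * (z * s) = 1 := by rw [← mul_assoc, q3, hss]
    have q6' : s * z = z * s := hc.eq.symm
    rintro e e' (rfl | rfl | rfl | rfl) (rfl | rfl | rfl | rfl) <;>
      simp [hzb, hzz, hss, q1, q2, q3, q4, q5, q6', hz1, hzs, hzs1, hzss, hzsz, hs1, hzs.symm, hz1.symm,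
        hzs1.symm, hzss.symm, hzsz.symm]
  obtain ⟨m, hmU, hm⟩ := exists_dual (f := f) fun A B hA hB => by
    have hmul : (rep A * rep B) * s = s * (rep A * rep B) := (Commute.mul_left (hrs A) (hrs B)).eq
    have h1 := hfa _ (mul_mem (hrQ A) (hrQ B)) hmul
    rw [F.cls_mul (hrQ A) (hrQ B), hrcls A hA, hrcls B hB] at h1
    rw [← h1]
    have hEA := F.comm_memE (hrQ A) (hrs A) hw hwz
    have hEB := F.comm_memE (hrQ B) (hrs B) hw hwz
    have e : w * (rep A * rep B) * w⁻¹ * (rep A * rep B)⁻¹ =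
        (w * rep A * w⁻¹ * (rep A)⁻¹) * (w * rep B * w⁻¹ * (rep B)⁻¹) := by
      have hc : rep A * (w * rep B * w⁻¹ * (rep B)⁻¹) = (w * rep B * w⁻¹ * (rep B)⁻¹) * rep A :=
        F.memE_comm hEB (F.data.Q_comm (hrQ A)) (hrs A)
      calc _ = (w * rep A * w⁻¹ * (rep A)⁻¹) *
            (rep A * (w * rep B * w⁻¹ * (rep B)⁻¹)) * (rep A)⁻¹ := by group
        _ = _ := by rw [hc]; group
    rw [e, hzbmul _ _ hEA hEB]
  suffices hmu : m = F.ups w by rw [hfa a ha has, hm _ (cls_inU π a), hmu]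
  -- invariance under the stabilizer
  have hfix : ∀ p ∈ stabPairs, prU p (F.ups w) = F.ups w → prU p m = m := by
    intro p hp hpu
    obtain ⟨n, hn, hns, hnv⟩ := F.exists_pr (stabPairs_ok p hp).1 (stabPairs_ok p hp).2
    have hinv : ∀ v, InU v → f (prU p v) = f v := by
      intro v hv
      have h1 := hfa _ (F.data.sub.conj_mem hn (hrQ v))
        (((Commute.mul_left hns (hrs v)).mul_left (Commute.inv_left hns)).eq)
      rw [F.cls_conj hn hns (hrQ v) (hrs v), hrcls v hv, hnv] at h1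
      obtain ⟨hnw, hnwz⟩ := F.conj_mem_W hn hns hw hwz
      have hu : F.ups (n * w * n⁻¹) = F.ups w := by rw [F.ups_conj hn hns hw hwz, hnv]; exact hpu
      have hnr : n * rep v * n⁻¹ * s = s * (n * rep v * n⁻¹) :=
        ((Commute.mul_left hns (hrs v)).mul_left (Commute.inv_left hns)).eq
      have h2 : w * (n * rep v * n⁻¹) * w⁻¹ * (n * rep v * n⁻¹)⁻¹ = w * rep v * w⁻¹ * (rep v)⁻¹ := by
        rw [F.comm_congr (F.data.sub.conj_mem hn (hrQ v)) hnr (F.data.sub.conj_mem hn (hrQ v)) hnr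
          hnw hnwz hw hwz rfl hu]
        have hc : n * (w * rep v * w⁻¹ * (rep v)⁻¹) = (w * rep v * w⁻¹ * (rep v)⁻¹) * n :=
          F.memE_comm (F.comm_memE (hrQ v) (hrs v) hw hwz) hn hns
        calc _ = n * (w * rep v * w⁻¹ * (rep v)⁻¹) * n⁻¹ := by group
          _ = _ := by rw [hc]; group
      rw [h2] at h1
      exact h1.symm
    have hni : n⁻¹ * z = z * n⁻¹ := (Commute.inv_left hn).eq
    have hnsi : n⁻¹ * s = s * n⁻¹ := (Commute.inv_left hns).eq
    refine eq_of_add_eq_zero6 (eq_zero_of_orth _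
      (by show pU (prU p m + m) = _; rw [pU_add, prU, pU_pU, hmU]) fun x hx => ?_)
    set v := pU (F.data.act n⁻¹ x) with hv
    have hvU : InU v := pU_pU _
    have hxv : prU p v = x := by
      rw [prU, ← hnv, hv, (F.data.act_iso hn).pU_map_pU (F.act_s hn hns)
        ((F.data.act_iso hni).orth_s0 (F.act_s hni hnsi) (inU_orth x hx).1),
        ← F.data.act_mul hn hni, mul_inv_cancel, F.data.act_one]
      exact hx
    have h2 : b6 x (prU p m) = b6 v m := by
      rw [← hxv, prU, prU, ← hnv, ← hnv,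
        (F.data.act_iso hn).b6_pU_map (F.act_s hn hns) (inU_orth _ hvU).1 (inU_orth _ hmU).1]
    have h3 := hinv v hvU
    rw [hxv, hm x hx, hm v hvU] at h3
    rw [b6_add_right, h2, h3, Bool.xor_self]
  rcases eq_of_stab _ (F.ups_inU w) m hmU hfix with e | e
  · -- the degenerate case
    obtain ⟨y, hy0, hy1⟩ := F.exists_swap
    obtain ⟨hy0', hy1'⟩ := F.swap_inv hy0 hy1
    obtain ⟨hb, hbs⟩ := (F.swap_mem_W hy0 hy1).2 hw hwz
    suffices hzero : cls π (y * w * y⁻¹) = 0 by
      rw [e]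
      refine (F.ups_memE ?_).symm
      have hE := F.memE_of_cls hb hbs hzero
      have e2 : w = y⁻¹ * (y * w * y⁻¹) * (y⁻¹)⁻¹ := by group
      have hsw := F.memE_mem hE
      exact F.memE_of_mem (e2 ▸ (F.swap_mem hy0' hy1').2 hsw.2) hw
    refine eq_zero_of_orth _ (cls_inU π _) fun u hu => ?_
    obtain ⟨w2, hw2, hw2z, hw2u⟩ := F.exists_ups hu
    obtain ⟨ha2, ha2s⟩ := (F.swap_mem_W hy0' hy1').2 hw2 hw2z
    have h1 : zb (w * (y⁻¹ * w2 * (y⁻¹)⁻¹) * w⁻¹ * (y⁻¹ * w2 * (y⁻¹)⁻¹)⁻¹) = false := by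
      rw [hfa _ ha2 ha2s, hm _ (cls_inU π _), e, b6_comm, b6_zero_left]
    have hEt := F.comm_memE ha2 ha2s hw hwz
    have hπ := F.π_comm hb hbs hw2 hw2z
    rw [hw2u, b6_comm] at hπ
    have ht : w2 * (y * w * y⁻¹) * w2⁻¹ * (y * w * y⁻¹)⁻¹ =
        y * (w * (y⁻¹ * w2 * (y⁻¹)⁻¹) * w⁻¹ * (y⁻¹ * w2 * (y⁻¹)⁻¹)⁻¹)⁻¹ * y⁻¹ := by group
    rw [ht] at hπ
    simp only [hzb, decide_eq_false_iff_not, not_or] at h1
    have hπ0 : sm (b6 u (cls π (y * w * y⁻¹))) s0 = 0 := by
      rw [← hπ]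
      rcases hEt with r | r | r | r
      · rw [r]; simp [F.data.π_one]
      · exact absurd r h1.1
      · rw [r, inv_eq_self_of_two F.pair.subP.two, hy1]; exact F.data.π_z
      · exact absurd r h1.2
    cases hb' : b6 u (cls π (y * w * y⁻¹))
    · rfl
    · rw [hb'] at hπ0; exact absurd hπ0 s0_ne_zero
  · exact e

set_option maxHeartbeats 400000 in
/-- The squares in `C_P(z)`. -/
theorem sq_formula {w : G} (hw : w ∈ P) (hwz : w * z = z * w) :
    w * w = if q6 (F.ups w) then s else 1 := by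
  classical
  choose rep hrP hrz hru using fun u : V6 => F.exists_ups (pU_pU u)
  have hrU : ∀ u, InU u → F.ups (rep u) = u := fun u hu => by rw [hru]; exact hu
  have hcongr : ∀ w w', w ∈ P → w * z = z * w → w' ∈ P → w' * z = z * w' →
      F.ups w = F.ups w' → w' * w' = w * w := by
    intro w w' hw hwz hw' hwz' h
    have hwi : w⁻¹ * z = z * w⁻¹ := (Commute.inv_left hwz).eq
    have e2 : MemE z s (w⁻¹ * w') := by
      refine F.memE_of_ups (mul_mem (inv_mem hw) hw') (Commute.mul_left hwi hwz').eq ?_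
      rw [F.ups_mul (inv_mem hw) hwi hw' hwz', ← h, ← F.ups_mul (inv_mem hw) hwi hw hwz,
        inv_mul_cancel, F.ups_memE (Or.inl rfl)]
    obtain ⟨f, rfl⟩ : ∃ f, w' = w * f := ⟨w⁻¹ * w', by group⟩
    rw [inv_mul_cancel_left] at e2
    have hff : f * f = 1 := by
      have hc : Commute z s := F.s_comm.symm
      rcases e2 with r | r | r | r
      · rw [r, one_mul]
      · rw [r, F.data.sub.mul_self]
      · rw [r, F.s_mul_self]
      · rw [r, show z * s * (z * s) = (z * z) * (s * s) from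
          Commute.mul_mul_mul_comm hc.symm z s, F.data.sub.mul_self, F.s_mul_self, one_mul]
    calc w * f * (w * f) = w * (f * w) * f := by group
      _ = w * (w * f) * f := by rw [F.memE_comm e2 hwz (F.W_comm_s hw)]
      _ = (w * w) * (f * f) := by group
      _ = w * w := by rw [hff, mul_one]
  set g : V6 → Bool := fun u => decide (rep u * rep u = 1) with hg
  have hgw : ∀ w, w ∈ P → w * z = z * w → (w * w = 1 ↔ g (F.ups w) = true) := by
    intro w hw hwz
    rw [hg]
    simp only [decide_eq_true_eq]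
    rw [hcongr w (rep (F.ups w)) hw hwz (hrP _) (hrz _) (hrU _ (F.ups_inU w)).symm]
  have hginv : ∀ p ∈ hsGens, ∀ u, InU u → g (prU p u) = g u := by
    intro p hp u hu
    obtain ⟨n, hn, hns, hnv⟩ := F.exists_pr (hsGens_ok p hp).1 (hsGens_ok p hp).2
    obtain ⟨h1, h2⟩ := F.conj_mem_W hn hns (hrP u) (hrz u)
    have h3 := hgw _ h1 h2
    rw [F.ups_conj hn hns (hrP u) (hrz u), hrU u hu, hnv,
      show n * rep u * n⁻¹ * (n * rep u * n⁻¹) = n * (rep u * rep u) * n⁻¹ from by group,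
      conj_eq_one_iff] at h3
    have h4 := hgw _ (hrP u) (hrz u)
    rw [hrU u hu] at h4
    rw [prU, Bool.eq_iff_iff, ← h3, ← h4]
  have hg0 : g 0 = true := by
    have := (hgw 1 (one_mem P) (by simp)).1 (one_mul 1)
    rwa [F.ups_memE (Or.inl rfl)] at this
  have hreachS : ∀ v ∈ uSingList, InU v ∧ g v = g (mk6 4) :=
    chainOK_prop (P := fun v => InU v ∧ g v = g (mk6 4)) ⟨by decide, rfl⟩
      (fun h hh v hv => by
        obtain ⟨p, hp, rfl⟩ := List.mem_map.1 hh
        exact ⟨pU_pU _, (hginv p hp v hv.1).trans hv.2⟩) uSingList uSingList_facts.1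
  have hreachN : ∀ v ∈ uNsList, InU v ∧ g v = g a0 :=
    chainOK_prop (P := fun v => InU v ∧ g v = g a0) ⟨by decide, rfl⟩
      (fun h hh v hv => by
        obtain ⟨p, hp, rfl⟩ := List.mem_map.1 hh
        exact ⟨pU_pU _, (hginv p hp v hv.1).trans hv.2⟩) uNsList uNsList_facts.1
  have hform : ∀ u, InU u →
      g u = if u = 0 then true else if q6 u then g a0 else g (mk6 4) := by
    intro u hu
    by_cases h0 : u = 0
    · rw [if_pos h0, h0]; exact hg0
    · rw [if_neg h0]
      cases hq : q6 u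
      · exact (hreachS u (uSingList_facts.2 u hu hq h0)).2
      · exact (hreachN u (uNsList_facts.2 u hu hq)).2
  -- counting
  obtain ⟨y, hy0, hy1⟩ := F.exists_swap
  obtain ⟨hy0', hy1'⟩ := F.swap_inv hy0 hy1
  set φ : V6 → V6 := fun u => cls π (y * rep u * y⁻¹) with hφ
  set U : Finset V6 := Finset.univ.filter fun v => InU v
  have hgφ : ∀ u, InU u → g u = !q6 (φ u) := by
    intro u hu
    obtain ⟨hb, hbs⟩ := (F.swap_mem_W hy0 hy1).2 (hrP u) (hrz u)
    have h1 := hgw _ (hrP u) (hrz u)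
    rw [hrU u hu] at h1
    have h2 := F.data.sq _ hb
    rw [show y * rep u * y⁻¹ * (y * rep u * y⁻¹) = y * (rep u * rep u) * y⁻¹ from by group,
      conj_eq_one_iff, ← q6_pU _ ((F.comm_s_iff hb).1 hbs)] at h2
    show g u = !q6 (pU (π (y * rep u * y⁻¹)))
    rw [Bool.eq_iff_iff, Bool.not_eq_true', ← h1]
    exact h2
  have hφinj : Set.InjOn φ U := by
    intro u hu u' hu' h
    simp only [U, Finset.coe_filter, Finset.mem_univ, true_and, Set.mem_ofPred_eq] at hu hu'
    obtain ⟨hb, hbs⟩ := (F.swap_mem_W hy0 hy1).2 (hrP u) (hrz u)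
    obtain ⟨hb', hbs'⟩ := (F.swap_mem_W hy0 hy1).2 (hrP u') (hrz u')
    have hE := F.memE_of_cls (mul_mem (inv_mem hb) hb')
      ((Commute.mul_left (Commute.inv_left hbs) hbs').eq)
      (by rw [F.cls_mul (inv_mem hb) hb', F.cls_inv hb]
          exact (congrArg (· + φ u') h).trans (add_self6 _))
    have hq' := (F.swap_mem hy0' hy1').2 (F.memE_mem hE).2
    have e3 : y⁻¹ * ((y * rep u * y⁻¹)⁻¹ * (y * rep u' * y⁻¹)) * (y⁻¹)⁻¹ =
        (rep u)⁻¹ * rep u' := by group
    rw [e3] at hq'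
    have hi : (rep u)⁻¹ * z = z * (rep u)⁻¹ := (Commute.inv_left (hrz u)).eq
    have h0 := F.ups_memE (F.memE_of_mem hq' (mul_mem (inv_mem (hrP u)) (hrP u')))
    have h00 : F.ups ((rep u)⁻¹ * rep u) = 0 := by
      rw [inv_mul_cancel]; exact F.ups_memE (Or.inl rfl)
    rw [F.ups_mul (inv_mem (hrP u)) hi (hrP u') (hrz u'), hrU u' hu'] at h0
    rw [F.ups_mul (inv_mem (hrP u)) hi (hrP u) (hrz u), hrU u hu] at h00
    exact add_left_cancel (h00.trans h0.symm)
  have himg : U.image φ = U := Finset.eq_of_subset_of_card_le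
    (fun v hv => by
      obtain ⟨u, -, rfl⟩ := Finset.mem_image.1 hv
      exact Finset.mem_filter.2 ⟨Finset.mem_univ _, cls_inU π _⟩)
    (le_of_eq (Finset.card_image_of_injOn hφinj).symm)
  have hcount : (U.filter fun u => g u = true).card = 6 := by
    rw [← Finset.card_image_of_injOn (hφinj.mono (Finset.filter_subset _ _))]
    have hEq : (U.filter fun u => g u = true).image φ = U.filter fun v => q6 v = false := by
      ext v
      simp only [Finset.mem_image, Finset.mem_filter]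
      constructor
      · rintro ⟨u, ⟨hu, hgu⟩, rfl⟩
        refine ⟨himg ▸ Finset.mem_image_of_mem φ hu, ?_⟩
        rw [hgφ u (Finset.mem_filter.1 hu).2] at hgu
        simpa using hgu
      · rintro ⟨hv, hq⟩
        rw [← himg] at hv
        obtain ⟨u, hu, rfl⟩ := Finset.mem_image.1 hv
        exact ⟨u, ⟨hu, by rw [hgφ u (Finset.mem_filter.1 hu).2, hq]; rfl⟩, rfl⟩
    rw [hEq]
    refine (congrArg Finset.card ?_).trans card_U_singular
    ext v
    simp only [U, Finset.mem_filter, Finset.mem_univ, true_and]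
  have hdec : ∀ x y : Bool, ((Finset.univ.filter fun v : V6 => InU v).filter fun u =>
      (if u = 0 then true else if q6 u then y else x) = true).card = 6 → x = true ∧ y = false := by
    decide +kernel
  obtain ⟨hx, hy⟩ := hdec (g (mk6 4)) (g a0) (by
    rw [← hcount]
    refine congrArg Finset.card ?_
    ext u
    simp only [U, Finset.mem_filter, Finset.mem_univ, true_and]
    exact and_congr_right fun hu => by rw [hform u hu])
  have h1 := hgw w hw hwz
  rw [hform _ (F.ups_inU w), hx, hy] at h1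
  rcases F.pair.subP.sq_eq hw with e | e
  · have h2 := h1.1 e
    rw [e]
    cases hq : q6 (F.ups w)
    · rfl
    · rw [hq] at h2
      by_cases h0 : F.ups w = 0
      · rw [h0] at hq; exact absurd hq (by decide)
      · simp [h0] at h2
  · rw [e]
    cases hq : q6 (F.ups w)
    · rw [hq] at h1
      exact absurd (e.symm.trans (h1.2 (by simp))) F.pair.subP.ne_one
    · rfl

end Frame

end CfsgLib.SuzType
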