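import Cfsg.Agent.SuzType.FiveOuter
import Cfsg.Agent.SuzType.SevenCent

/-!
# The centralizer and normalizer of an element of order five of `K`
-/

set_option autoImplicit false
set_option linter.style.haveILetI false

namespace CfsgLib.SuzType

open CfsgLib.LargeExtraspecial

/-- In a group of order sixty with four group involution centralisers, a subgroup of order five
is self-centralising and has a normalizer of order ten. -/
theorem five_in_sixty {F : Type*} [Group F] [Finite F] (h60 : Nat.card F = 60)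
    (hall : ∀ x : F, orderOf x = 2 → Nat.card (Subgroup.centralizer ({x} : Set F)) = 4 ∧
      ∀ y ∈ Subgroup.centralizer ({x} : Set F), y * y = 1)
    {q : F} (hq : orderOf q = 5) :
    Nat.card (Subgroup.centralizer (Subgroup.zpowers q : Set F)) = 5 ∧
      Nat.card (Subgroup.normalizer (Subgroup.zpowers q : Set F)) = 10 := by
  haveI : Fact (Nat.Prime 2) := ⟨Nat.prime_two⟩
  obtain ⟨C, hC⟩ : ∃ C, C = Subgroup.centralizer (Subgroup.zpowers q : Set F) := ⟨_, rfl⟩
  obtain ⟨N, hN⟩ : ∃ N, N = Subgroup.normalizer (Subgroup.zpowers q : Set F) := ⟨_, rfl⟩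
  have hfive : ∀ u : F, orderOf u = 2 → u * q ≠ q * u := by
    intro u hu hc
    have h := (Subgroup.centralizer ({u} : Set F)).orderOf_dvd_natCard
      (Subgroup.mem_centralizer_singleton_iff.2 hc.symm)
    rw [hq, (hall u hu).1] at h
    norm_num at h
  have hodd : ¬ 2 ∣ Nat.card C := fun h => by
    obtain ⟨c, hc⟩ := exists_prime_orderOf_dvd_card' (G := C) 2 h
    exact hfive c (by rw [Subgroup.orderOf_coe, hc]) (mem_cent_zpowers.1 (hC ▸ c.2))
  obtain ⟨n, hn, hnN, h1, h2⟩ := sylow_prime_counts (p := 5) (m := 12) (by norm_num)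
    (by rw [h60]) (by norm_num) (by rw [Nat.card_zpowers, hq] : Nat.card (Subgroup.zpowers q) = 5)
  rw [← hC, ← hN] at h1 h2
  rw [← hN, h60] at hnN
  have h5 : 5 ∣ Nat.card C := by
    rw [← hq, ← Nat.card_zpowers, hC]
    exact Subgroup.card_dvd_of_le (zpowers_le_cent q)
  have hC60 : Nat.card C ∣ 60 := h60 ▸ C.card_subgroup_dvd_card
  have hn12 : n ∣ 12 := by
    have : 5 * n ∣ 5 * 12 := by
      refine Dvd.intro (Nat.card N / 5) ?_
      have h5N : 5 ∣ Nat.card N := h5.trans h1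
      rw [mul_comm 5 n, mul_assoc, Nat.mul_div_cancel' h5N, hnN]
    exact (Nat.mul_dvd_mul_iff_left (by norm_num)).1 this
  have hne1 : n ≠ 1 := by
    intro hn1
    rw [hn1, one_mul] at hnN
    have htop : N = ⊤ := Subgroup.eq_top_of_card_eq N (by rw [hnN, h60])
    obtain ⟨u, hu⟩ := exists_prime_orderOf_dvd_card' (G := F) 2 (by rw [h60]; norm_num)
    obtain ⟨h4, hsq⟩ := hall u hu
    have hu1 : u ≠ 1 := fun e => by rw [e, orderOf_one] at hu; omega
    obtain ⟨v, hv, hv1, hvu⟩ : ∃ v ∈ Subgroup.centralizer ({u} : Set F), v ≠ 1 ∧ v ≠ u := by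
      by_contra h
      push_neg at h
      have hsub : ((Subgroup.centralizer ({u} : Set F)) : Set F) ⊆ {1, u} := fun y hy => by
        by_cases hy1 : y = 1
        · exact Or.inl hy1
        · exact Or.inr (h y hy hy1)
      have h' : Set.ncard ((Subgroup.centralizer ({u} : Set F)) : Set F) ≤ 2 :=
        (Set.ncard_le_ncard hsub).trans ((Set.ncard_insert_le _ _).trans (by simp))
      rw [← Nat.card_coe_set_eq] at h'
      change Nat.card (Subgroup.centralizer ({u} : Set F)) ≤ 2 at h'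
      omega
    have hv2 := hsq v hv
    have hu2 : u * u = 1 := by rw [← pow_two, ← hu, pow_orderOf_eq_one]
    have huv : v * u = u * v := Subgroup.mem_centralizer_singleton_iff.1 hv
    have hinv : ∀ a : F, a * a = 1 → a ≠ 1 → a * q * a⁻¹ = q⁻¹ := by
      intro a ha ha1
      have haN : a ∈ Subgroup.normalizer (Subgroup.zpowers q : Set F) :=
        hN ▸ htop ▸ Subgroup.mem_top a
      have hm : a * q * a⁻¹ ∈ Subgroup.zpowers q :=
        (Subgroup.mem_normalizer_iff.1 haN q).1 (Subgroup.mem_zpowers q)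
      obtain ⟨i, hi⟩ := Subgroup.mem_zpowers_iff.1 hm
      have h' : q = q ^ (i * i) := by
        calc q = a * (a * q * a⁻¹) * a⁻¹ := by
              rw [show a * (a * q * a⁻¹) * a⁻¹ = a * a * q * (a * a)⁻¹ by group, ha]; group
          _ = (a * q * a⁻¹) ^ i := by rw [conj_zpow, hi]
          _ = q ^ (i * i) := by rw [← hi, zpow_mul]
      have h5' : ((5 : ℕ) : ℤ) ∣ i * i - 1 := by
        rw [← hq, orderOf_dvd_iff_zpow_eq_one, zpow_sub, ← h', zpow_one, mul_inv_cancel]
      have hprime : Prime ((5 : ℕ) : ℤ) := Nat.prime_iff_prime_int.1 (by norm_num)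
      rw [show i * i - 1 = (i - 1) * (i + 1) by ring] at h5'
      rcases hprime.dvd_or_dvd h5' with h | h
      · exfalso
        have hq1 : a * q * a⁻¹ = q := by
          rw [← hi]
          conv_rhs => rw [← zpow_one q]
          refine zpow_eq_zpow_iff_modEq.2 ?_
          rw [Int.modEq_iff_dvd, hq]
          exact (dvd_sub_comm).1 h
        exact hfive a (CfsgLib.CITGroups.orderOf_two_of_mul_self ha ha1) (mul_inv_eq_iff_eq_mul.1 hq1)
      · rw [← hi, ← zpow_neg_one]
        refine zpow_eq_zpow_iff_modEq.2 ?_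
        rw [Int.modEq_iff_dvd, hq]
        have := h.neg_right
        rwa [show -(i + 1) = -1 - i by ring] at this
    have h1' := hinv u hu2 hu1
    have h2' := hinv v hv2 hv1
    have h3 := hinv (u * v) (by
      rw [(show Commute v u from huv).mul_mul_mul_comm, hu2, hv2, one_mul]) fun e => hvu (by
      rw [eq_inv_of_mul_eq_one_right e, inv_eq_of_mul_eq_one_right hu2])
    rw [show u * v * q * (u * v)⁻¹ = u * (v * q * v⁻¹) * u⁻¹ by group, h2',
      show u * q⁻¹ * u⁻¹ = (u * q * u⁻¹)⁻¹ by group, h1', inv_inv] at h3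
    have : q ^ 2 = 1 := by rw [pow_two]; exact mul_eq_one_iff_eq_inv.2 h3
    have := orderOf_dvd_of_pow_eq_one this
    rw [hq] at this
    norm_num at this
  have hn6 : n = 6 := by
    have := Nat.le_of_dvd (by norm_num) hn12
    interval_cases n <;> omega
  rw [hn6] at hnN
  have hN10 : Nat.card N = 10 := by omega
  rw [← hC, ← hN]
  refine ⟨?_, hN10⟩
  rw [hN10] at h1
  have := Nat.le_of_dvd (by norm_num) h1
  obtain ⟨k, hk⟩ := h5
  have : k ≤ 2 := by omega
  interval_cases k <;> omega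

namespace Four

variable {G : Type*} [Group G] [Finite G] {z s θ t : G} {Q P : Subgroup G} {π : G → V6}
  (T : Four z Q π P s θ t)
include T

theorem card_eq_five : Nat.card G = 25 * 17933819904 := by rw [T.card_eq]

theorem mem_K_of_orderOf_five {b : G} (hbt : b * t = t * b) (hb : orderOf b = 5) :
    b ∈ Kgrp θ t := by
  have h : b = (b * b) ^ 3 := by
    rw [← pow_two, ← pow_mul, show 2 * 3 = 5 + 1 by norm_num, pow_succ, ← hb, pow_orderOf_eq_one,
      one_mul]
  exact h ▸ pow_mem (T.sq_mem_K hbt) 3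

/-- An element of `C(t)` centralising one of order five is in `K`. -/
theorem cent_five_mem_K {b x : G} (hb : orderOf b = 5) (hbK : b ∈ Kgrp θ t) (hxt : x * t = t * x)
    (hc : x * b = b * x) : x ∈ Kgrp θ t := by
  by_contra hxK
  rcases T.X_normalizes hxt with e | e
  · exact hxK (mem_Kgrp.2 ⟨hxt, mul_inv_eq_iff_eq_mul.1 e⟩)
  obtain ⟨i, v, hv, hx2⟩ := T.cent_five_K hb hbK (T.sq_mem_K hxt)
    (Commute.mul_left hc hc).eq
  obtain ⟨y, hy⟩ : ∃ y, y = x ^ 5 := ⟨_, rfl⟩
  have hyt : y * t = t * y := hy ▸ ((show Commute x t from hxt).pow_left 5).eq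
  have hyb : y * b = b * y := hy ▸ ((show Commute x b from hc).pow_left 5).eq
  have hyK : y ∉ Kgrp θ t := fun h => hxK (by
    have e7 : x = y * ((x * x) ^ 2)⁻¹ := by
      rw [hy, eq_mul_inv_iff_mul_eq, ← pow_two, ← pow_mul, ← pow_succ']
    rw [e7]
    exact mul_mem h (inv_mem (pow_mem (T.sq_mem_K hxt) 2)))
  have hy2 : y * y = v := by
    rw [hy, ← pow_add, show 5 + 5 = 2 * 5 by norm_num, pow_mul, pow_two, hx2,
      (show Commute (b ^ i) v from hv.comm (zpow_mem hbK i)).mul_pow,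
      show v ^ 5 = v by
        rw [show v ^ 5 = v * v * (v * v) * v by simp [pow_succ, mul_assoc], T.memV_sq hv, one_mul,
          one_mul],
      ← zpow_natCast (b ^ i) 5, ← zpow_mul, mul_comm, zpow_mul, zpow_natCast, ← hb,
      pow_orderOf_eq_one, one_zpow, one_mul]
  have hyv : y * v * y⁻¹ = v := by rw [← hy2]; group
  have hyt1 : y * (θ * t * θ⁻¹) * y⁻¹ = t * (θ * t * θ⁻¹) :=
    (T.X_normalizes hyt).resolve_left fun h => hyK (mem_Kgrp.2 ⟨hyt, mul_inv_eq_iff_eq_mul.1 h⟩)
  obtain ⟨t1, ht1⟩ : ∃ t1, t1 = θ * t * θ⁻¹ := ⟨_, rfl⟩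
  rw [← ht1] at hyt1
  have ht12 : t1 * t1 = 1 := ht1 ▸ T.t1_sq
  rcases hv with r | r | r | r
  · exact T.no_outer_five hyt (hy2.trans r) hyK hbK hb hyb
  · have ht1K : t1 ∈ Kgrp θ t := ht1 ▸ T.memV_mem (Or.inr (Or.inr (Or.inl rfl)))
    have ht1c : Commute t1 b :=
      (show MemV θ t t1 from ht1 ▸ Or.inr (Or.inr (Or.inl rfl))).comm hbK |>.symm
    refine T.no_outer_five (w := y * t1) (Commute.mul_left hyt (mem_Kgrp.1 ht1K).1).eq ?_
      (fun h => hyK ?_) hbK hb (Commute.mul_left hyb ht1c).eq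
    · calc y * t1 * (y * t1) = y * t1 * y⁻¹ * (y * y) * t1 := by group
        _ = 1 := by
          rw [hyt1, hy2, r, mul_assoc t t1 t, (mem_Kgrp.1 ht1K).1, ← mul_assoc, T.t_sq, one_mul, ht12]
    · have := mul_mem h ht1K
      rwa [mul_assoc, ht12, mul_one] at this
  · rw [r, ← ht1, hyt1] at hyv
    exact T.t_ne_one (mul_eq_right.1 hyv)
  · rw [r, ← ht1, show y * (t * t1) * y⁻¹ = y * t * y⁻¹ * (y * t1 * y⁻¹) by group,
      mul_inv_eq_iff_eq_mul.2 hyt, hyt1, ← mul_assoc, T.t_sq, one_mul] at hyv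
    exact T.t_ne_one (mul_eq_right.1 hyv.symm)

/-- The centralizer of an element of order five and a conjugate of `t`. -/
theorem cent_five_invol {b u : G} (hb : orderOf b = 5) (h : IsConj t u) (hc : u * b = b * u) :
    Nat.card (Subgroup.centralizer ({b, u} : Set G)) = 20 ∧
      ∀ y ∈ Subgroup.centralizer ({b, u} : Set G), y * y ∈ Subgroup.zpowers b := by
  obtain ⟨g, rfl⟩ := isConj_iff.1 h
  obtain ⟨b1, hb1⟩ : ∃ b1, b1 = g⁻¹ * b * g := ⟨_, rfl⟩
  have hb15 : orderOf b1 = 5 := by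
    rw [hb1, show g⁻¹ * b * g = MulAut.conj g⁻¹ b by simp, (MulAut.conj g⁻¹).orderOf_eq, hb]
  have hb1t : b1 * t = t * b1 := by
    have h' := (Commute.conj_iff g⁻¹).2 (show Commute b (g * t * g⁻¹) from hc.symm)
    rw [show g⁻¹ * (g * t * g⁻¹) * g⁻¹⁻¹ = t by group, inv_inv, ← hb1] at h'
    exact h'.eq
  have hb1K := T.mem_K_of_orderOf_five hb1t hb15
  have hbb : b = g * b1 * g⁻¹ := by rw [hb1]; group
  have hmem : ∀ y, y ∈ Subgroup.centralizer ({b, g * t * g⁻¹} : Set G) ↔
      (g⁻¹ * y * g) ∈ Kgrp θ t ∧ g⁻¹ * y * g * b1 = b1 * (g⁻¹ * y * g) := by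
    intro y
    have hconj : ∀ a : G, g * a * g⁻¹ * y = y * (g * a * g⁻¹) ↔
        a * (g⁻¹ * y * g) = g⁻¹ * y * g * a := fun a => by
      constructor <;> intro e
      · calc a * (g⁻¹ * y * g) = g⁻¹ * (g * a * g⁻¹ * y) * g := by group
          _ = g⁻¹ * (y * (g * a * g⁻¹)) * g := by rw [e]
          _ = _ := by group
      · calc g * a * g⁻¹ * y = g * (a * (g⁻¹ * y * g)) * g⁻¹ := by group
          _ = g * (g⁻¹ * y * g * a) * g⁻¹ := by rw [e]
          _ = _ := by group
    rw [Subgroup.mem_centralizer_iff]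
    simp only [Set.mem_insert_iff, Set.mem_singleton_iff, forall_eq_or_imp, forall_eq]
    rw [hbb, hconj, hconj]
    exact ⟨fun ⟨h1, h2⟩ => ⟨T.cent_five_mem_K hb15 hb1K h2.symm h1.symm, h1.symm⟩,
      fun ⟨h1, h2⟩ => ⟨h2.symm, (mem_Kgrp.1 h1).1.symm⟩⟩
  constructor
  · let f : Subgroup.zpowers b1 × T.Vk → Subgroup.centralizer ({b, g * t * g⁻¹} : Set G) := fun p =>
      ⟨g * (p.1.1 * ((p.2.1 : Kgrp θ t) : G)) * g⁻¹, (hmem _).2 (by
        have hv : MemV θ t ((p.2.1 : Kgrp θ t) : G) := p.2.2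
        obtain ⟨i, hi⟩ := Subgroup.mem_zpowers_iff.1 p.1.2
        rw [show g⁻¹ * (g * (p.1.1 * ((p.2.1 : Kgrp θ t) : G)) * g⁻¹) * g =
          p.1.1 * ((p.2.1 : Kgrp θ t) : G) by group, ← hi]
        exact ⟨mul_mem (zpow_mem hb1K i) p.2.1.2,
          (Commute.mul_left ((Commute.refl b1).zpow_left i) (hv.comm hb1K).symm).eq⟩)⟩
    have hf : Function.Bijective f := by
      constructor
      · rintro ⟨⟨p, hp⟩, ⟨⟨v, hvK⟩, hv⟩⟩ ⟨⟨p', hp'⟩, ⟨⟨v', hvK'⟩, hv'⟩⟩ h
        have h' : p * v = p' * v' := mul_left_cancel (mul_right_cancel (congrArg Subtype.val h :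
          g * (p * v) * g⁻¹ = g * (p' * v') * g⁻¹))
        obtain ⟨d, hd⟩ : ∃ d, d = p'⁻¹ * p := ⟨_, rfl⟩
        have hd' : d = v' * v⁻¹ := by
          calc d = p'⁻¹ * (p * v) * v⁻¹ := by rw [hd]; group
            _ = _ := by rw [h']; group
        have hdV : MemV θ t d := hd' ▸ T.memV_mul hv' (T.memV_inv hv)
        have hdB : d ∈ Subgroup.zpowers b1 := hd ▸ mul_mem (inv_mem hp') hp
        have h7 := (Subgroup.zpowers b1).orderOf_dvd_natCard hdB
        rw [Nat.card_zpowers, hb15] at h7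
        have hd1 : d = 1 := orderOf_eq_one_iff.1 (Nat.eq_one_of_dvd_coprimes
          (by norm_num : Nat.Coprime 5 2) h7
          (orderOf_dvd_of_pow_eq_one (by rw [pow_two]; exact T.memV_sq hdV)))
        rw [hd1] at hd
        obtain rfl : p' = p := by rw [← mul_one p', hd, mul_inv_cancel_left]
        obtain rfl : v = v' := mul_left_cancel h'
        rfl
      · rintro ⟨y, hy⟩
        obtain ⟨h1, h2⟩ := (hmem y).1 hy
        obtain ⟨i, v, hv, he⟩ := T.cent_five_K hb15 hb1K h1 h2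
        exact ⟨(⟨_, Subgroup.zpow_mem_zpowers b1 i⟩, ⟨⟨v, T.memV_mem hv⟩, hv⟩), Subtype.ext (by
          show g * (b1 ^ i * v) * g⁻¹ = y
          rw [← he]; group)⟩
    rw [← Nat.card_eq_of_bijective f hf, Nat.card_prod, Nat.card_zpowers, hb15, T.card_Vk]
  · intro y hy
    obtain ⟨h1, h2⟩ := (hmem y).1 hy
    obtain ⟨i, v, hv, he⟩ := T.cent_five_K hb15 hb1K h1 h2
    refine Subgroup.mem_zpowers_iff.2 ⟨i * 2, ?_⟩
    have hcomm : Commute (b1 ^ i) v := hv.comm (zpow_mem hb1K i)
    rw [hbb, conj_zpow, zpow_mul, zpow_two,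
      show y = g * (g⁻¹ * y * g) * g⁻¹ by group, he,
      show g * (b1 ^ i * v) * g⁻¹ * (g * (b1 ^ i * v) * g⁻¹) =
        g * (b1 ^ i * v * (b1 ^ i * v)) * g⁻¹ by group,
      hcomm.symm.mul_mul_mul_comm, T.memV_sq hv, mul_one]

/-- Every involution centralising an element of order five of `K` is conjugate to `t`. -/
theorem five_invol_type {b u : G} (hb : orderOf b = 5) (hbK : b ∈ Kgrp θ t) (hu : orderOf u = 2)
    (hc : u * b = b * u) : IsConj t u := by
  classical
  haveI : Fact (Nat.Prime 2) := ⟨Nat.prime_two⟩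
  obtain ⟨H, hH⟩ : ∃ H, H = Subgroup.centralizer (Subgroup.zpowers b : Set G) := ⟨_, rfl⟩
  have hVmem : ∀ v, MemV θ t v → v ∈ H := fun v hv => by
    rw [hH]; exact mem_cent_zpowers.2 (hv.comm hbK).symm
  have hVconj : ∀ v, MemV θ t v → v ≠ 1 → IsConj t v := by
    intro v hv h1
    rcases hv with r | r | r | r
    · exact absurd r h1
    · exact r ▸ IsConj.refl t
    · exact r ▸ isConj_iff.2 ⟨θ, rfl⟩
    · rw [r, ← T.memV_t2]; exact isConj_iff.2 ⟨θ * θ, rfl⟩
  obtain ⟨W, hW⟩ : ∃ W, W = (T.Vk.map (Kgrp θ t).subtype).subgroupOf H := ⟨_, rfl⟩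
  have hWle : T.Vk.map (Kgrp θ t).subtype ≤ H := by
    rintro _ ⟨v, hv, rfl⟩
    exact hVmem _ hv
  have hW4 : Nat.card W = 4 := by
    rw [hW, Nat.card_congr (Subgroup.subgroupOfEquivOfLe hWle).toEquiv,
      Subgroup.card_map_of_injective (Kgrp θ t).subtype_injective, T.card_Vk]
  obtain ⟨S, hS⟩ := (IsPGroup.of_card (n := 2) (by rw [hW4]; norm_num) : IsPGroup 2 W).exists_le_sylow
  haveI : Nontrivial (S : Subgroup H) := by
    have h4 : 4 ≤ Nat.card (S : Subgroup H) := hW4 ▸ Subgroup.card_le_of_le hS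
    exact Finite.one_lt_card_iff_nontrivial.1 (by omega)
  obtain ⟨c, hc2⟩ := exists_prime_orderOf_dvd_card' (G := Subgroup.center (S : Subgroup H)) 2 (by
    obtain ⟨k, hk⟩ := IsPGroup.iff_card.1 (S.isPGroup'.to_subgroup (Subgroup.center _))
    haveI := S.isPGroup'.center_nontrivial
    rcases k with _ | k
    · rw [pow_zero] at hk
      exact absurd hk Finite.one_lt_card.ne'
    · rw [hk]; exact dvd_pow_self 2 (by omega))
  obtain ⟨c', hc'⟩ : ∃ c' : G, c' = (((c : (S : Subgroup H)) : H) : G) := ⟨_, rfl⟩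
  have hc'2 : orderOf c' = 2 := by
    rw [hc', Subgroup.orderOf_coe, Subgroup.orderOf_coe, Subgroup.orderOf_coe, hc2]
  have hccomm : ∀ x : H, x ∈ (S : Subgroup H) → (x : G) * c' = c' * x := fun x hx => by
    rw [hc']
    exact congrArg (fun y : (S : Subgroup H) => ((y : H) : G))
      (Subgroup.mem_center_iff.1 c.2 ⟨x, hx⟩)
  have hHb : ∀ x : H, (x : G) * b = b * x := fun x => by
    have h := x.2
    simp only [hH] at h
    exact mem_cent_zpowers.1 h
  have hct : c' * t = t * c' := by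
    have htW : (⟨t, hVmem t (Or.inr (Or.inl rfl))⟩ : H) ∈ W := by
      rw [hW, Subgroup.mem_subgroupOf]
      exact ⟨⟨t, T.memV_mem (Or.inr (Or.inl rfl))⟩, Or.inr (Or.inl rfl), rfl⟩
    exact (hccomm _ (hS htW)).symm
  have hcb : c' * b = b * c' := hc' ▸ hHb _
  obtain ⟨i, v, hv, hcv⟩ := T.cent_five_K hb hbK (T.cent_five_mem_K hb hbK hct hcb) hcb
  have hcV : c' = v := by
    have h1 : (b ^ i) ^ 2 = 1 := by
      have : c' ^ 2 = 1 := by rw [← hc'2, pow_orderOf_eq_one]
      rwa [hcv, (show Commute (b ^ i) v from hv.comm (zpow_mem hbK i)).mul_pow, pow_two v,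
        T.memV_sq hv, mul_one] at this
    have hbi : b ^ i = 1 := by
      have hd := (Subgroup.zpowers b).orderOf_dvd_natCard (Subgroup.zpow_mem_zpowers b i)
      rw [Nat.card_zpowers, hb] at hd
      exact orderOf_eq_one_iff.1 (Nat.eq_one_of_dvd_coprimes (by norm_num : Nat.Coprime 5 2) hd
        (orderOf_dvd_of_pow_eq_one h1))
    rw [hcv, hbi, one_mul]
  have hctype : IsConj t c' := hcV ▸ hVconj v hv fun e => by
    rw [← hcV] at e; rw [e, orderOf_one] at hc'2; omega
  have hC20 := (T.cent_five_invol hb hctype hcb).1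
  have hSle : ((S : Subgroup H).map H.subtype) ≤ Subgroup.centralizer ({b, c'} : Set G) := by
    rintro _ ⟨x, hx, rfl⟩
    rw [Subgroup.mem_centralizer_iff]
    simp only [Set.mem_insert_iff, Set.mem_singleton_iff, forall_eq_or_imp, forall_eq]
    exact ⟨(hHb x).symm, (hccomm x hx).symm⟩
  have hS20 := Subgroup.card_dvd_of_le hSle
  rw [Subgroup.card_map_of_injective H.subtype_injective, hC20] at hS20
  have hWS : W = (S : Subgroup H) := by
    refine Subgroup.eq_of_le_of_card_ge hS ?_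
    obtain ⟨k, hk⟩ := IsPGroup.iff_card.1 S.isPGroup'
    rw [hk] at hS20
    rw [hk, hW4]
    rcases k with _ | _ | _ | k
    · norm_num
    · norm_num
    · norm_num
    · exfalso
      have : 8 ∣ 20 := (Dvd.intro (2 ^ k) (by ring)).trans hS20
      norm_num at this
  have huH : u ∈ H := by rw [hH]; exact mem_cent_zpowers.2 hc
  obtain ⟨g, hg⟩ := CfsgLib.Small.exists_conj_mem_sylow S (t := (⟨u, huH⟩ : H))
    (by rw [← Subgroup.orderOf_coe]; exact hu)
  rw [← hWS, hW, Subgroup.mem_subgroupOf] at hg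
  obtain ⟨w, hw, hwe⟩ := hg
  have hwe' : ((w : Kgrp θ t) : G) = (g : G) * u * (g : G)⁻¹ := hwe
  refine (hVconj _ hw ?_).trans (IsConj.symm (isConj_iff.2 ⟨(g : G), hwe'.symm⟩))
  rw [hwe']
  intro e
  rw [conj_eq_one_iff.1 e, orderOf_one] at hu
  omega

/-- A Sylow five subgroup is abelian of order twenty-five. -/
theorem sylow_five (P5 : Sylow 5 G) :
    Nat.card (P5 : Subgroup G) = 25 ∧ ∀ a ∈ (P5 : Subgroup G), ∀ c ∈ (P5 : Subgroup G), a * c = c * a := by
  haveI : Fact (Nat.Prime 5) := ⟨by norm_num⟩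
  have h25 : Nat.card (P5 : Subgroup G) = 25 := by
    rw [P5.card_eq_multiplicity, T.card_eq_five, show (25 : ℕ) = 5 ^ 2 by norm_num,
      Nat.factorization_mul (by norm_num) (by norm_num), Finsupp.add_apply,
      Nat.Prime.factorization_pow (by norm_num), Finsupp.single_eq_same,
      Nat.factorization_eq_zero_of_not_dvd (by norm_num : ¬ 5 ∣ 17933819904)]
  refine ⟨h25, fun a ha c hc => ?_⟩
  exact congrArg Subtype.val (IsPGroup.commutative_of_card_eq_prime_sq (p := 5)
    (show Nat.card (P5 : Subgroup G) = 5 ^ 2 by rw [h25]; norm_num) ⟨a, ha⟩ ⟨c, hc⟩)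

/-- The centralizer of an element of order five of `K`, and its quotient. -/
theorem cent_five {b : G} (hb : orderOf b = 5) (hbK : b ∈ Kgrp θ t) :
    Nat.card (Subgroup.centralizer (Subgroup.zpowers b : Set G)) = 300 ∧
    ∀ P5 : Sylow 5 G, b ∈ (P5 : Subgroup G) →
      Subgroup.centralizer ((P5 : Subgroup G) : Set G) = (P5 : Subgroup G) ∧
      Nat.card (Subgroup.normalizer ((P5 : Subgroup G) : Set G) ⊓
        Subgroup.centralizer (Subgroup.zpowers b : Set G) : Subgroup G) ∣ 50 := by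
  classical
  haveI : Fact (Nat.Prime 5) := ⟨by norm_num⟩
  obtain ⟨H, hH⟩ : ∃ H, H = Subgroup.centralizer (Subgroup.zpowers b : Set G) := ⟨_, rfl⟩
  rw [← hH]
  have hmemH : ∀ {x}, x ∈ H ↔ x * b = b * x := fun {x} => by rw [hH]; exact mem_cent_zpowers
  have hBH : Subgroup.zpowers b ≤ H := hH ▸ zpowers_le_cent b
  obtain ⟨BH, hBHd⟩ : ∃ BH, BH = (Subgroup.zpowers b).subgroupOf H := ⟨_, rfl⟩
  haveI hn : BH.Normal := ⟨fun n hn g => by
    rw [hBHd, Subgroup.mem_subgroupOf] at hn ⊢
    have hc : (g : G) * (n : G) = (n : G) * (g : G) := by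
      obtain ⟨i, hi⟩ := Subgroup.mem_zpowers_iff.1 hn
      rw [← hi]
      exact ((show Commute (g : G) b from hmemH.1 g.2).zpow_right i).eq
    simpa [hc] using hn⟩
  have hBHc : Nat.card BH = 5 := by
    rw [hBHd, Nat.card_congr (Subgroup.subgroupOfEquivOfLe hBH).toEquiv, Nat.card_zpowers, hb]
  have hmem5 : ∀ x : BH, ((x : H) : G) ^ 5 = 1 := fun x => by
    have h := pow_card_eq_one' (x := x)
    rw [hBHc] at h
    exact congrArg (fun y : BH => ((y : H) : G)) h
  have hlift : ∀ q : H ⧸ BH, orderOf q = 2 → ∃ w : H, (w : H ⧸ BH) = q ∧ orderOf (w : G) = 2 := by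
    intro q hq
    obtain ⟨x, rfl⟩ := QuotientGroup.mk_surjective q
    have hx2 : x ^ 2 ∈ BH := by
      rw [← QuotientGroup.eq_one_iff, QuotientGroup.mk_pow, ← hq, pow_orderOf_eq_one]
    refine ⟨x ^ 5, ?_, ?_⟩
    · rw [QuotientGroup.mk_pow, ← pow_mod_orderOf, hq]
      norm_num
    · refine CfsgLib.CITGroups.orderOf_two_of_mul_self ?_ fun e => ?_
      · have h := hmem5 ⟨_, hx2⟩
        simp only [SubmonoidClass.coe_pow] at h ⊢
        rw [← pow_mul] at h
        rw [← pow_add]
        exact h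
      · have h1 : (x : H ⧸ BH) ^ 5 = 1 := by
          rw [← QuotientGroup.mk_pow, show x ^ 5 = 1 from Subtype.ext e, QuotientGroup.mk_one]
        rw [← pow_mod_orderOf, hq, pow_one] at h1
        rw [h1, orderOf_one] at hq
        norm_num at hq
  have hall : ∀ q : H ⧸ BH, orderOf q = 2 →
      Nat.card (Subgroup.centralizer ({q} : Set (H ⧸ BH))) = 4 ∧
      ∀ y ∈ Subgroup.centralizer ({q} : Set (H ⧸ BH)), y * y = 1 := by
    intro q hq
    obtain ⟨w, hwq, hw⟩ := hlift q hq
    have hwb := hmemH.1 w.2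
    obtain ⟨h20, hsq⟩ := T.cent_five_invol hb (T.five_invol_type hb hbK hw hwb) hwb
    obtain ⟨C, hC⟩ : ∃ C, C = (Subgroup.centralizer ({b, (w : G)} : Set G)).subgroupOf H := ⟨_, rfl⟩
    have hmemC : ∀ {x : H}, x ∈ C ↔ (x : G) * w = w * x := fun {x} => by
      rw [hC, Subgroup.mem_subgroupOf, Subgroup.mem_centralizer_iff]
      simp only [Set.mem_insert_iff, Set.mem_singleton_iff, forall_eq_or_imp, forall_eq]
      exact ⟨fun h => h.2.symm, fun h => ⟨(hmemH.1 x.2).symm, h.symm⟩⟩
    have hC20 : Nat.card C = 20 := by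
      rw [hC, Nat.card_congr (Subgroup.subgroupOfEquivOfLe (fun x hx => hmemH.2
        (Subgroup.mem_centralizer_iff.1 hx b (by simp)).symm)).toEquiv, h20]
    have hBC : BH ≤ C := fun x hx => hmemC.2 (by
      rw [hBHd, Subgroup.mem_subgroupOf] at hx
      obtain ⟨i, hi⟩ := Subgroup.mem_zpowers_iff.1 hx
      rw [← hi]
      exact ((show Commute b (w : G) from hwb.symm).zpow_left i).eq)
    have hmap : Subgroup.centralizer ({q} : Set (H ⧸ BH)) = C.map (QuotientGroup.mk' BH) := by
      ext y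
      obtain ⟨x, rfl⟩ := QuotientGroup.mk_surjective y
      rw [Subgroup.mem_centralizer_singleton_iff, Subgroup.mem_map]
      constructor
      · intro h
        refine ⟨x, hmemC.2 ?_, rfl⟩
        rw [← hwq, ← QuotientGroup.mk_mul, ← QuotientGroup.mk_mul, QuotientGroup.eq] at h
        obtain ⟨d, hd⟩ : ∃ d : BH, (d : H) = (x * w)⁻¹ * (w * x) := ⟨⟨_, h⟩, rfl⟩
        have e : (w : G)⁻¹ * ((x : G)⁻¹ * w * x) = (d : H) := by rw [hd]; simp [mul_assoc]
        obtain ⟨r, hr⟩ : ∃ r, r = (x : G)⁻¹ * w * x := ⟨_, rfl⟩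
        rw [← hr] at e
        have hr2 : r * r = 1 := by
          rw [hr, show (x : G)⁻¹ * w * x * ((x : G)⁻¹ * w * x) = (x : G)⁻¹ * ((w : G) * w) * x by group,
            ← pow_two, show (w : G) ^ 2 = 1 by rw [← hw, pow_orderOf_eq_one]]
          group
        have hdw : Commute ((d : H) : G) (w : G) := hmemC.1 (hBC d.2)
        have hre : r = (w : G) * (d : H) := by rw [← e, mul_inv_cancel_left]
        have hd2 : ((d : H) : G) ^ 2 = 1 := by
          rw [hre, hdw.mul_mul_mul_comm, ← pow_two (w : G),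
            show (w : G) ^ 2 = 1 by rw [← hw, pow_orderOf_eq_one], one_mul, ← pow_two] at hr2
          exact hr2
        have hd1 : ((d : H) : G) = 1 := orderOf_eq_one_iff.1 (Nat.eq_one_of_dvd_coprimes
          (by norm_num : Nat.Coprime 5 2) (orderOf_dvd_of_pow_eq_one (hmem5 d))
          (orderOf_dvd_of_pow_eq_one hd2))
        rw [hd1, mul_one, hr] at hre
        calc (x : G) * w = x * ((x : G)⁻¹ * w * x) := by rw [hre]
          _ = w * x := by group
      · rintro ⟨x', hx', e⟩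
        rw [← e, ← hwq, QuotientGroup.mk'_apply, ← QuotientGroup.mk_mul, ← QuotientGroup.mk_mul]
        exact congrArg _ (Subtype.ext (hmemC.1 hx'))
    refine ⟨?_, fun y hy => ?_⟩
    · rw [hmap]
      have h := Subgroup.card_mul_index (((QuotientGroup.mk' BH).comp C.subtype).ker)
      rw [Subgroup.index_ker, show ((QuotientGroup.mk' BH).comp C.subtype).range =
        C.map (QuotientGroup.mk' BH) by rw [MonoidHom.range_comp, Subgroup.range_subtype],
        show ((QuotientGroup.mk' BH).comp C.subtype).ker = BH.subgroupOf C by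
          rw [← MonoidHom.comap_ker, QuotientGroup.ker_mk']; rfl,
        Nat.card_congr (Subgroup.subgroupOfEquivOfLe hBC).toEquiv, hBHc, hC20] at h
      omega
    · rw [hmap] at hy
      obtain ⟨x, hx, rfl⟩ := hy
      rw [← map_mul, QuotientGroup.mk'_apply, QuotientGroup.eq_one_iff, hBHd, Subgroup.mem_subgroupOf]
      rw [hC, SetLike.mem_coe, Subgroup.mem_subgroupOf] at hx
      exact hsq _ hx
  have htH : t ∈ H := hmemH.2 (mem_Kgrp.1 hbK).1.symm
  have hq2 : orderOf ((⟨t, htH⟩ : H) : H ⧸ BH) = 2 := by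
    refine CfsgLib.CITGroups.orderOf_two_of_mul_self ?_ fun e => ?_
    · rw [← QuotientGroup.mk_mul, show (⟨t, htH⟩ : H) * ⟨t, htH⟩ = 1 from Subtype.ext T.t_sq,
        QuotientGroup.mk_one]
    · rw [QuotientGroup.eq_one_iff, hBHd, Subgroup.mem_subgroupOf] at e
      have h := (Subgroup.zpowers b).orderOf_dvd_natCard e
      rw [Nat.card_zpowers, hb, T.orderOf_t] at h
      norm_num at h
  have hf := card_of_four_cent hq2 hall
  have hHf : Nat.card H = 5 * Nat.card (H ⧸ BH) := by
    rw [Subgroup.card_eq_card_quotient_mul_card_subgroup BH, hBHc, mul_comm]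
  obtain ⟨P0, hP0⟩ := (IsPGroup.of_card (n := 1) (by rw [Nat.card_zpowers, hb, pow_one]) :
    IsPGroup 5 (Subgroup.zpowers b)).exists_le_sylow
  have h60 : Nat.card (H ⧸ BH) = 60 := by
    obtain ⟨h25, hab⟩ := T.sylow_five P0
    have hle : (P0 : Subgroup G) ≤ H := fun x hx =>
      hmemH.2 (hab x hx b (hP0 (Subgroup.mem_zpowers b)))
    have h := Subgroup.card_dvd_of_le hle
    rw [h25, hHf] at h
    rcases hf with r | r | r
    · rw [r] at h; norm_num at h
    · rw [r] at h; norm_num at h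
    · exact r
  refine ⟨by rw [hHf, h60], fun P5 hbP => ?_⟩
  obtain ⟨h25, hab⟩ := T.sylow_five P5
  have hPH : (P5 : Subgroup G) ≤ H := fun x hx => hmemH.2 (hab x hx b hbP)
  obtain ⟨a, haP, ha⟩ : ∃ a ∈ (P5 : Subgroup G), a ∉ Subgroup.zpowers b :=
    SetLike.not_le_iff_exists.1 fun h => by
      have := Subgroup.card_le_of_le h
      rw [h25, Nat.card_zpowers, hb] at this
      omega
  obtain ⟨q, hqd⟩ : ∃ q : H ⧸ BH, q = ((⟨a, hPH haP⟩ : H) : H ⧸ BH) := ⟨_, rfl⟩
  obtain ⟨P', hP'⟩ : ∃ P', P' = ((P5 : Subgroup G).subgroupOf H).map (QuotientGroup.mk' BH) :=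
    ⟨_, rfl⟩
  have hP'5 : Nat.card P' = 5 := by
    have hBP : BH ≤ (P5 : Subgroup G).subgroupOf H := fun x hx => by
      rw [hBHd, Subgroup.mem_subgroupOf] at hx
      exact Subgroup.mem_subgroupOf.2 (Subgroup.zpowers_le.2 hbP hx)
    have h := Subgroup.card_mul_index
      (((QuotientGroup.mk' BH).comp ((P5 : Subgroup G).subgroupOf H).subtype).ker)
    rw [Subgroup.index_ker, MonoidHom.range_comp, Subgroup.range_subtype, ← hP',
      show ((QuotientGroup.mk' BH).comp ((P5 : Subgroup G).subgroupOf H).subtype).ker =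
        BH.subgroupOf ((P5 : Subgroup G).subgroupOf H) by
        rw [← MonoidHom.comap_ker, QuotientGroup.ker_mk']; rfl,
      Nat.card_congr (Subgroup.subgroupOfEquivOfLe hBP).toEquiv, hBHc,
      Nat.card_congr (Subgroup.subgroupOfEquivOfLe hPH).toEquiv, h25] at h
    omega
  have hqP : q ∈ P' := by rw [hP', hqd]; exact ⟨⟨a, hPH haP⟩, Subgroup.mem_subgroupOf.2 haP, rfl⟩
  have hq5 : orderOf q = 5 := by
    have h := P'.orderOf_dvd_natCard hqP
    rw [hP'5] at h
    refine ((Nat.dvd_prime (by norm_num)).1 h).resolve_left fun e => ha ?_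
    rw [orderOf_eq_one_iff, hqd, QuotientGroup.eq_one_iff, hBHd, Subgroup.mem_subgroupOf] at e
    exact e
  have hP'q : P' = Subgroup.zpowers q := (Subgroup.eq_of_le_of_card_ge
    (Subgroup.zpowers_le.2 hqP) (by rw [hP'5, Nat.card_zpowers, hq5])).symm
  obtain ⟨hC5, hN10⟩ := five_in_sixty h60 hall hq5
  have hker : ∀ (R : Subgroup H) (k : ℕ), R.map (QuotientGroup.mk' BH) ≤
      Subgroup.normalizer (Subgroup.zpowers q : Set (H ⧸ BH)) →
      Nat.card (Subgroup.normalizer (Subgroup.zpowers q : Set (H ⧸ BH))) = k →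
      Nat.card R ∣ 5 * k := by
    intro R k hle hk
    have h := Subgroup.card_dvd_of_le (show R ≤ (Subgroup.normalizer
      (Subgroup.zpowers q : Set (H ⧸ BH))).comap (QuotientGroup.mk' BH) from Subgroup.map_le_iff_le_comap.1 hle)
    refine h.trans (dvd_of_eq ?_)
    have hc := Subgroup.card_mul_index ((Subgroup.normalizer
      (Subgroup.zpowers q : Set (H ⧸ BH))).comap (QuotientGroup.mk' BH))
    rw [Subgroup.index_comap_of_surjective _ (QuotientGroup.mk'_surjective BH), hHf, h60] at hc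
    have hN := (Subgroup.normalizer (Subgroup.zpowers q : Set (H ⧸ BH))).card_mul_index
    rw [hk, h60] at hN
    have hpos : 0 < (Subgroup.normalizer (Subgroup.zpowers q : Set (H ⧸ BH))).index := by
      by_contra h0
      rw [Nat.le_zero.1 (not_lt.1 h0), mul_zero] at hN
      norm_num at hN
    refine Nat.eq_of_mul_eq_mul_right hpos ?_
    rw [hc, mul_assoc, hN]
  constructor
  · refine le_antisymm ?_ fun x hx => ?_
    · have hCH : Subgroup.centralizer ((P5 : Subgroup G) : Set G) ≤ H := fun x hx =>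
        hmemH.2 (Subgroup.mem_centralizer_iff.1 hx b hbP).symm
      have hle : ((Subgroup.centralizer ((P5 : Subgroup G) : Set G)).subgroupOf H).map
          (QuotientGroup.mk' BH) ≤ Subgroup.centralizer (Subgroup.zpowers q : Set (H ⧸ BH)) := by
        rintro _ ⟨x, hx, rfl⟩
        rw [SetLike.mem_coe, Subgroup.mem_subgroupOf] at hx
        refine mem_cent_zpowers.2 ?_
        rw [hqd, QuotientGroup.mk'_apply, ← QuotientGroup.mk_mul, ← QuotientGroup.mk_mul]
        exact congrArg _ (Subtype.ext (Subgroup.mem_centralizer_iff.1 hx a haP).symm)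
      have h := Subgroup.card_dvd_of_le (Subgroup.map_le_iff_le_comap.1 hle)
      have hc := Subgroup.card_mul_index ((Subgroup.centralizer
        (Subgroup.zpowers q : Set (H ⧸ BH))).comap (QuotientGroup.mk' BH))
      rw [Subgroup.index_comap_of_surjective _ (QuotientGroup.mk'_surjective BH), hHf, h60] at hc
      have hN := (Subgroup.centralizer (Subgroup.zpowers q : Set (H ⧸ BH))).card_mul_index
      rw [hC5, h60] at hN
      have hidx : (Subgroup.centralizer (Subgroup.zpowers q : Set (H ⧸ BH))).index = 12 := by omega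
      rw [hidx] at hc
      rw [Nat.card_congr (Subgroup.subgroupOfEquivOfLe hCH).toEquiv] at h
      have hPC : (P5 : Subgroup G) ≤ Subgroup.centralizer ((P5 : Subgroup G) : Set G) := fun x hx =>
        Subgroup.mem_centralizer_iff.2 fun y hy => hab y hy x hx
      refine (Subgroup.eq_of_le_of_card_ge hPC ?_).ge
      rw [h25]
      exact (Nat.le_of_dvd Nat.card_pos h).trans (by omega)
    · exact Subgroup.mem_centralizer_iff.2 fun y hy => hab y hy x hx
  · obtain ⟨R, hR⟩ : ∃ R, R = (Subgroup.normalizer ((P5 : Subgroup G) : Set G) ⊓ H).subgroupOf H :=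
      ⟨_, rfl⟩
    have h := hker R 10 (by
      rintro _ ⟨x, hx, rfl⟩
      rw [hR, SetLike.mem_coe, Subgroup.mem_subgroupOf, Subgroup.mem_inf] at hx
      rw [← hP'q, Subgroup.mem_normalizer_iff_map_conj_eq]
      refine Subgroup.eq_of_le_of_card_ge ?_
        (le_of_eq (Subgroup.card_map_of_injective (MulAut.conj _).injective).symm)
      rintro _ ⟨y, hy, rfl⟩
      rw [hP'] at hy ⊢
      obtain ⟨y', hy', rfl⟩ := hy
      refine ⟨x * y' * x⁻¹, ?_, by simp⟩
      rw [SetLike.mem_coe, Subgroup.mem_subgroupOf] at hy' ⊢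
      exact (Subgroup.mem_normalizer_iff.1 hx.1 _).1 hy') hN10
    rw [hR, Nat.card_congr (Subgroup.subgroupOfEquivOfLe inf_le_right).toEquiv] at h
    exact h

/-- The normalizer of a subgroup of order five of `K` induces all its automorphisms. -/
theorem card_normalizer_five {b : G} (hb : orderOf b = 5) (hbK : b ∈ Kgrp θ t) :
    Nat.card (Subgroup.normalizer (Subgroup.zpowers b : Set G)) = 1200 := by
  classical
  obtain ⟨h300, -⟩ := T.cent_five hb hbK
  obtain ⟨X, hX⟩ : ∃ X, X = Subgroup.centralizer ({t} : Set G) := ⟨_, rfl⟩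
  have hXcard : Nat.card X = 161280 := hX ▸ T.card_cent_t
  have hbX : Subgroup.zpowers b ≤ X :=
    Subgroup.zpowers_le.2 (hX ▸ Subgroup.mem_centralizer_singleton_iff.2 (mem_Kgrp.1 hbK).1)
  obtain ⟨B, hB⟩ : ∃ B, B = Subgroup.zpowers b := ⟨_, rfl⟩
  rw [← hB] at hbX h300 ⊢
  have hB5 : Nat.card B = 5 := by rw [hB, Nat.card_zpowers, hb]
  obtain ⟨n, hn, hN, h1, h2⟩ := sylow_prime_counts (p := 5) (m := 32256) (by norm_num)
    (by rw [hXcard]) (by norm_num) (B := B.subgroupOf X)
    (by rw [Nat.card_congr (Subgroup.subgroupOfEquivOfLe hbX).toEquiv, hB5])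
  have hNX : Subgroup.normalizer (B.subgroupOf X : Set X) =
      (Subgroup.normalizer (B : Set G)).subgroupOf X :=
    (Subgroup.subgroupOf_normalizer_eq hbX).symm
  have hCX : Nat.card (Subgroup.centralizer (B.subgroupOf X : Set X)) = 20 := by
    rw [← (T.cent_five_invol hb (IsConj.refl t) (mem_Kgrp.1 hbK).1.symm).1]
    refine Nat.card_congr
      { toFun := fun x => ⟨(x : X), ?_⟩
        invFun := fun x => ⟨⟨x, ?_⟩, ?_⟩
        left_inv := fun x => rfl
        right_inv := fun x => rfl }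
    · rw [Subgroup.mem_centralizer_iff]
      simp only [Set.mem_insert_iff, Set.mem_singleton_iff, forall_eq_or_imp, forall_eq]
      refine ⟨?_, ?_⟩
      · have hbB : b ∈ B := hB ▸ Subgroup.mem_zpowers b
        exact congrArg (fun r : X => (r : G))
          (Subgroup.mem_centralizer_iff.1 x.2 ⟨b, hbX hbB⟩ hbB)
      · have h := (x : X).2
        simp only [hX, Subgroup.mem_centralizer_singleton_iff] at h
        exact h.symm
    · rw [hX, Subgroup.mem_centralizer_singleton_iff]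
      exact (Subgroup.mem_centralizer_iff.1 x.2 t (by simp)).symm
    · rw [Subgroup.mem_centralizer_iff]
      intro y hy
      rw [SetLike.mem_coe, Subgroup.mem_subgroupOf, hB] at hy
      obtain ⟨i, hi⟩ := Subgroup.mem_zpowers_iff.1 hy
      refine Subtype.ext ?_
      show (y : G) * x = x * y
      rw [← hi]
      exact ((show Commute b (x : G) from
        Subgroup.mem_centralizer_iff.1 x.2 b (by simp)).zpow_left i).eq
  rw [hCX] at h1 h2
  rw [hXcard] at hN
  obtain ⟨k, hk⟩ := h1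
  rw [hk] at h2 hN
  have hk4 : k ∣ 4 := (Nat.mul_dvd_mul_iff_left (by norm_num)).1 h2
  have hk4' : k = 4 := by
    have := Nat.le_of_dvd (by norm_num) hk4
    interval_cases k <;> omega
  -- compare with the whole normalizer
  obtain ⟨φ, hφ⟩ : ∃ φ, φ = B.normalizerMonoidHom := ⟨_, rfl⟩
  have hker : Nat.card φ.ker = 300 := by
    rw [hφ, B.normalizerMonoidHom_ker, ← h300]
    exact Nat.card_congr
      (Subgroup.subgroupOfEquivOfLe (Subgroup.centralizer_le_normalizer (B : Set G))).toEquiv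
  subst hφ
  obtain ⟨ι, hι⟩ : ∃ ι : Subgroup.normalizer (B.subgroupOf X : Set X) →*
      Subgroup.normalizer (B : Set G), ∀ x, (ι x : G) = ((x : X) : G) := by
    refine ⟨((X.subtype).comp (Subgroup.subtype _)).codRestrict _ fun x => ?_, fun x => rfl⟩
    have h := x.2
    simp only [hNX, Subgroup.mem_subgroupOf] at h
    exact h
  have hkι : Nat.card (B.normalizerMonoidHom.comp ι).ker = 20 := by
    rw [← hCX]
    refine Nat.card_congr
      { toFun := fun x => ⟨((x : Subgroup.normalizer (B.subgroupOf X : Set X)) : X), ?_⟩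
        invFun := fun x => ⟨⟨(x : X), Subgroup.centralizer_le_normalizer _ x.2⟩, ?_⟩
        left_inv := fun x => rfl
        right_inv := fun x => rfl }
    · have h := x.2
      rw [MonoidHom.mem_ker, MonoidHom.comp_apply, ← MonoidHom.mem_ker, B.normalizerMonoidHom_ker,
        Subgroup.mem_subgroupOf, hι] at h
      rw [Subgroup.mem_centralizer_iff] at h ⊢
      exact fun y hy => Subtype.ext (h y hy)
    · rw [MonoidHom.mem_ker, MonoidHom.comp_apply, ← MonoidHom.mem_ker, B.normalizerMonoidHom_ker,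
        Subgroup.mem_subgroupOf, hι]
      rw [Subgroup.mem_centralizer_iff]
      exact fun y hy => congrArg Subtype.val
        (Subgroup.mem_centralizer_iff.1 x.2 ⟨y, hbX hy⟩ hy)
  have hr := (B.normalizerMonoidHom.comp ι).ker.card_mul_index
  rw [Subgroup.index_ker, hkι, hk, hk4'] at hr
  have hle : Nat.card (B.normalizerMonoidHom.comp ι).range ≤ Nat.card B.normalizerMonoidHom.range :=
    Subgroup.card_le_of_le (fun a ⟨x, hx⟩ => ⟨ι x, hx⟩)
  have haut : Nat.card B.normalizerMonoidHom.range ≤ 4 := by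
    have : IsCyclic B := by rw [hB]; infer_instance
    refine (Nat.le_of_dvd Nat.card_pos B.normalizerMonoidHom.range.card_subgroup_dvd_card).trans_eq ?_
    rw [IsCyclic.card_mulAut, hB5, Nat.totient_prime (by norm_num)]
  have hr' := B.normalizerMonoidHom.ker.card_mul_index
  rw [Subgroup.index_ker, hker] at hr'
  omega

end Four

end CfsgLib.SuzType
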