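import Cfsg.Agent.SuzType.FiveCent

/-!
# The subgroups of order five of a Sylow five subgroup and its normalizer
-/

set_option autoImplicit false
set_option linter.style.haveILetI false

namespace CfsgLib.SuzType

variable {G : Type*} [Group G] [Finite G]

/-- The subgroups of order five of `P`. -/
def FiveLine (P : Subgroup G) : Type _ := {C : Subgroup G // C ≤ P ∧ Nat.card C = 5}

instance suzFiveLineFinite (P : Subgroup G) : Finite (FiveLine P) := by
  unfold FiveLine
  infer_instance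

/-- The image of a subgroup under conjugation. -/
abbrev cjSub (g : G) (C : Subgroup G) : Subgroup G := C.map (MulAut.conj g).toMonoidHom

omit [Finite G] in
theorem cjSub_mul (g h : G) (C : Subgroup G) : cjSub (g * h) C = cjSub g (cjSub h C) := by
  rw [cjSub, cjSub, cjSub, Subgroup.map_map]
  congr 1
  ext x
  simp [mul_assoc]

omit [Finite G] in
theorem cjSub_one (C : Subgroup G) : cjSub 1 C = C := by
  ext x
  simp [cjSub, Subgroup.mem_map]

omit [Finite G] in
theorem cjSub_card (g : G) (C : Subgroup G) : Nat.card (cjSub g C) = Nat.card C :=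
  Subgroup.card_map_of_injective (MulAut.conj g).injective

omit [Finite G] in
theorem cjSub_eq_iff {g : G} {C : Subgroup G} :
    cjSub g C = C ↔ g ∈ Subgroup.normalizer (C : Set G) := by
  rw [Subgroup.mem_normalizer_iff_map_conj_eq]
  rfl

instance suzFiveLineAction (P : Subgroup G) :
    MulAction (Subgroup.normalizer (P : Set G)) (FiveLine P) where
  smul g C := ⟨cjSub (g : G) C.1, by
    rintro _ ⟨x, hx, rfl⟩
    exact (Subgroup.mem_normalizer_iff.1 g.2 x).1 (C.2.1 hx), by rw [cjSub_card]; exact C.2.2⟩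
  one_smul C := Subtype.ext (cjSub_one C.1)
  mul_smul g h C := Subtype.ext (cjSub_mul (g : G) h C.1)

omit [Finite G] in
theorem fiveLine_smul {P : Subgroup G} (g : Subgroup.normalizer (P : Set G)) (C : FiveLine P) :
    (g • C).1 = cjSub (g : G) C.1 := rfl

theorem orderOf_five_mem {C : Subgroup G} (hC : Nat.card C = 5) {x : G} (hx : x ∈ C) (h1 : x ≠ 1) :
    orderOf x = 5 ∧ Subgroup.zpowers x = C := by
  have h := C.orderOf_dvd_natCard hx
  rw [hC] at h
  have h5 : orderOf x = 5 := ((Nat.dvd_prime (by norm_num)).1 h).resolve_left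
    fun e => h1 (orderOf_eq_one_iff.1 e)
  exact ⟨h5, Subgroup.eq_of_le_of_card_ge (Subgroup.zpowers_le.2 hx)
    (by rw [hC, Nat.card_zpowers, h5])⟩

theorem exists_gen_five {C : Subgroup G} (hC : Nat.card C = 5) :
    ∃ x ∈ C, orderOf x = 5 ∧ Subgroup.zpowers x = C := by
  haveI : Fact (Nat.Prime 5) := ⟨by norm_num⟩
  obtain ⟨x, hx⟩ := exists_prime_orderOf_dvd_card' (G := C) 5 (by rw [hC])
  have hx' : orderOf (x : G) = 5 := by rw [Subgroup.orderOf_coe, hx]
  exact ⟨x, x.2, orderOf_five_mem hC x.2 fun e => by rw [e, orderOf_one] at hx'; omega⟩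

/-- The elements of order five are distributed among the lines. -/
theorem card_fiveLine (P : Subgroup G) :
    4 * Nat.card (FiveLine P) = Nat.card {x : G // x ∈ P ∧ orderOf x = 5} := by
  classical
  have : Fintype (FiveLine P) := Fintype.ofFinite _
  let e : {x : G // x ∈ P ∧ orderOf x = 5} ≃ Σ C : FiveLine P, {x : G // x ∈ C.1 ∧ x ≠ 1} :=
    { toFun := fun x => ⟨⟨Subgroup.zpowers x.1, Subgroup.zpowers_le.2 x.2.1,
        by rw [Nat.card_zpowers, x.2.2]⟩, x.1, Subgroup.mem_zpowers _, fun e => by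
          have := x.2.2
          rw [e, orderOf_one] at this
          omega⟩
      invFun := fun p => ⟨p.2.1, p.1.2.1 p.2.2.1,
        (orderOf_five_mem p.1.2.2 p.2.2.1 p.2.2.2).1⟩
      left_inv := fun x => rfl
      right_inv := by
        rintro ⟨⟨C, hC1, hC5⟩, x, hx, hx1⟩
        obtain rfl := (orderOf_five_mem hC5 hx hx1).2
        rfl }
  have h4 : ∀ C : FiveLine P, Nat.card {x : G // x ∈ C.1 ∧ x ≠ 1} = 4 := by
    intro C
    have : Fintype G := Fintype.ofFinite G
    have h := C.2.2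
    rw [Nat.card_eq_fintype_card, Fintype.card_subtype] at h ⊢
    rw [show (Finset.univ.filter fun x => x ∈ C.1 ∧ x ≠ 1) =
      (Finset.univ.filter fun x => x ∈ C.1).erase 1 by ext x; simp [and_comm],
      Finset.card_erase_of_mem (by simp [C.1.one_mem]), h]
  rw [Nat.card_congr e, Nat.card_sigma, Finset.sum_congr rfl fun C _ => h4 C, Finset.sum_const,
    smul_eq_mul, Finset.card_univ, Nat.card_eq_fintype_card, mul_comm]

/-- The facts on a Sylow five subgroup containing a given element. -/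
structure FiveData (P : Sylow 5 G) (b : G) : Prop where
  hb : orderOf b = 5
  hbP : b ∈ (P : Subgroup G)
  h25 : Nat.card (P : Subgroup G) = 25
  comm : ∀ a ∈ (P : Subgroup G), ∀ c ∈ (P : Subgroup G), a * c = c * a
  cent : Subgroup.centralizer ((P : Subgroup G) : Set G) = (P : Subgroup G)
  line : Nat.card (Subgroup.normalizer ((P : Subgroup G) : Set G) ⊓
    Subgroup.normalizer (Subgroup.zpowers b : Set G) : Subgroup G) = 200
  small : Nat.card (Subgroup.normalizer ((P : Subgroup G) : Set G) ⊓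
    Subgroup.centralizer (Subgroup.zpowers b : Set G) : Subgroup G) ∣ 50
  card_G : Nat.card G = 25 * 17933819904

namespace FiveData

variable {P : Sylow 5 G} {b : G} (D : FiveData P b)
include D

/-- The line of `b`. -/
def base : FiveLine (P : Subgroup G) :=
  ⟨Subgroup.zpowers b, Subgroup.zpowers_le.2 D.hbP, by rw [Nat.card_zpowers, D.hb]⟩

theorem counts : Nat.card (Subgroup.normalizer ((P : Subgroup G) : Set G)) = 600 ∧
    (MulAction.orbit (Subgroup.normalizer ((P : Subgroup G) : Set G)) D.base).ncard = 3 := by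
  classical
  haveI : Fact (Nat.Prime 5) := ⟨by norm_num⟩
  obtain ⟨N, hN⟩ : ∃ N, N = Subgroup.normalizer ((P : Subgroup G) : Set G) := ⟨_, rfl⟩
  have hstab : MulAction.stabilizer (Subgroup.normalizer ((P : Subgroup G) : Set G)) D.base =
      (Subgroup.normalizer ((P : Subgroup G) : Set G) ⊓
        Subgroup.normalizer (Subgroup.zpowers b : Set G)).subgroupOf
        (Subgroup.normalizer ((P : Subgroup G) : Set G)) := by
    ext g
    rw [MulAction.mem_stabilizer_iff, Subgroup.mem_subgroupOf, Subgroup.mem_inf]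
    constructor
    · exact fun h => ⟨g.2, cjSub_eq_iff.1 (congrArg Subtype.val h)⟩
    · exact fun h => Subtype.ext (cjSub_eq_iff.2 h.2)
  have h := (MulAction.stabilizer (Subgroup.normalizer ((P : Subgroup G) : Set G)) D.base).card_mul_index
  rw [MulAction.index_stabilizer, hstab,
    Nat.card_congr (Subgroup.subgroupOfEquivOfLe inf_le_left).toEquiv, D.line] at h
  have hr : (MulAction.orbit (Subgroup.normalizer ((P : Subgroup G) : Set G)) D.base).ncard ≤ 6 := by
    refine (Set.ncard_le_card _).trans ?_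
    have h1 := card_fiveLine (P : Subgroup G)
    have h2 : Nat.card {x : G // x ∈ (P : Subgroup G) ∧ orderOf x = 5} ≤ 24 := by
      have h25 : Nat.card {x : G // x ∈ (P : Subgroup G)} = 25 := D.h25
      have : Fintype G := Fintype.ofFinite G
      rw [Nat.card_eq_fintype_card, Fintype.card_subtype] at h25 ⊢
      refine (Finset.card_le_card (t := (Finset.univ.filter fun x => x ∈ (P : Subgroup G)).erase 1)
        fun x hx => ?_).trans ?_
      · simp only [Finset.mem_filter, Finset.mem_univ, true_and] at hx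
        simp only [Finset.mem_erase, Finset.mem_filter, Finset.mem_univ, true_and]
        exact ⟨fun e => by rw [e, orderOf_one] at hx; omega, hx.1⟩
      · rw [Finset.card_erase_of_mem (by simp [(P : Subgroup G).one_mem]), h25]
    omega
  have hn1 : Nat.card (Sylow 5 G) % 5 = 1 := by
    have h := card_sylow_modEq_one 5 G
    rw [h]
  have hn2 := (Subgroup.normalizer ((P : Subgroup G) : Set G)).card_mul_index
  have hn3 := P.card_eq_index_normalizer
  rw [D.card_G] at hn2
  change Nat.card (Sylow 5 G) = (Subgroup.normalizer ((P : Subgroup G) : Set G)).index at hn3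
  rw [← hn3, ← h] at hn2
  obtain ⟨r, hrd⟩ : ∃ r, r = (MulAction.orbit (Subgroup.normalizer ((P : Subgroup G) : Set G))
    D.base).ncard := ⟨_, rfl⟩
  rw [← hrd] at hn2 hr h ⊢
  obtain ⟨n, hnd⟩ : ∃ n, n = Nat.card (Sylow 5 G) := ⟨_, rfl⟩
  rw [← hnd] at hn1 hn2
  have h3 : r = 3 := by interval_cases r <;> omega
  exact ⟨by omega, h3⟩

theorem exponent : ∀ x ∈ (P : Subgroup G), x ^ 5 = 1 := by
  obtain ⟨-, h3⟩ := D.counts
  obtain ⟨C, hC, hne⟩ : ∃ C ∈ MulAction.orbit (Subgroup.normalizer ((P : Subgroup G) : Set G)) D.base,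
      C ≠ D.base := by
    obtain ⟨x, y, hx, hy, hxy⟩ := Set.one_lt_ncard_iff (Set.toFinite _) |>.1 (by rw [h3]; norm_num :
      1 < (MulAction.orbit (Subgroup.normalizer ((P : Subgroup G) : Set G)) D.base).ncard)
    by_cases e : x = D.base
    · exact ⟨y, hy, fun e' => hxy (e.trans e'.symm)⟩
    · exact ⟨x, hx, e⟩
  let E : Subgroup G :=
    { carrier := {x | x ∈ (P : Subgroup G) ∧ x ^ 5 = 1}
      one_mem' := ⟨one_mem _, one_pow 5⟩
      mul_mem' := fun {x y} hx hy => ⟨mul_mem hx.1 hy.1, by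
        rw [(show Commute x y from D.comm x hx.1 y hy.1).mul_pow, hx.2, hy.2, one_mul]⟩
      inv_mem' := fun {x} hx => ⟨inv_mem hx.1, by rw [inv_pow, hx.2, inv_one]⟩ }
  have hsub : ∀ L : FiveLine (P : Subgroup G), L.1 ≤ E := fun L x hx => by
    refine ⟨L.2.1 hx, ?_⟩
    have h := L.1.orderOf_dvd_natCard hx
    rw [L.2.2] at h
    exact orderOf_dvd_iff_pow_eq_one.1 h
  have hEP : E ≤ (P : Subgroup G) := fun x hx => hx.1
  obtain ⟨y, hyC, hy5, hyz⟩ := exists_gen_five C.2.2
  have hy : y ∉ Subgroup.zpowers b := fun hm => hne (Subtype.ext (by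
    show C.1 = Subgroup.zpowers b
    rw [← hyz]
    exact Subgroup.eq_of_le_of_card_ge (Subgroup.zpowers_le.2 hm)
      (by rw [Nat.card_zpowers, Nat.card_zpowers, hy5, D.hb])))
  have hlt : Subgroup.zpowers b < E :=
    lt_of_le_of_ne (hsub D.base) fun e => hy (e ▸ hsub C hyC)
  have h1 := Subgroup.card_dvd_of_le hEP
  rw [D.h25] at h1
  have h2 := Set.ncard_lt_ncard (SetLike.coe_ssubset_coe.2 hlt) (Set.toFinite _)
  rw [← Nat.card_coe_set_eq, ← Nat.card_coe_set_eq] at h2
  change Nat.card (Subgroup.zpowers b) < Nat.card E at h2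
  rw [Nat.card_zpowers, D.hb] at h2
  have h25 : Nat.card E = 25 := by
    rcases (Nat.dvd_prime_pow (p := 5) (m := 2) (by norm_num)).1 (by simpa using h1) with ⟨k, hk, hk'⟩
    interval_cases k <;> omega
  have heq := Subgroup.eq_of_le_of_card_ge hEP (by rw [h25, D.h25])
  exact fun x hx => (show x ∈ E from heq ▸ hx).2

theorem card_lines : Nat.card (FiveLine (P : Subgroup G)) = 6 := by
  classical
  have h1 := card_fiveLine (P : Subgroup G)
  have : Fintype G := Fintype.ofFinite G
  have h25 : Nat.card {x : G // x ∈ (P : Subgroup G)} = 25 := D.h25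
  rw [Nat.card_eq_fintype_card, Fintype.card_subtype] at h25
  have h24 : Nat.card {x : G // x ∈ (P : Subgroup G) ∧ orderOf x = 5} = 24 := by
    rw [Nat.card_eq_fintype_card, Fintype.card_subtype,
      show (Finset.univ.filter fun x => x ∈ (P : Subgroup G) ∧ orderOf x = 5) =
        (Finset.univ.filter fun x => x ∈ (P : Subgroup G)).erase 1 by
        ext x
        simp only [Finset.mem_filter, Finset.mem_erase, Finset.mem_univ, true_and]
        constructor
        · rintro ⟨hx, h5⟩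
          exact ⟨fun e => by rw [e, orderOf_one] at h5; omega, hx⟩
        · rintro ⟨h1, hx⟩
          haveI : Fact (Nat.Prime 5) := ⟨by norm_num⟩
          exact ⟨hx, orderOf_eq_prime (D.exponent x hx) h1⟩,
      Finset.card_erase_of_mem (by simp [(P : Subgroup G).one_mem]), h25]
  omega

/-- An element of order three modulo `P` fixes no line. -/
theorem no_fixed_line {c : G} (hc : c ∈ Subgroup.normalizer ((P : Subgroup G) : Set G))
    (hc3 : c ^ 3 ∈ (P : Subgroup G)) (hcP : c ∉ (P : Subgroup G)) (L : FiveLine (P : Subgroup G)) :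
    cjSub c L.1 ≠ L.1 := by
  intro hfix
  obtain ⟨l, hlL, hl5, hlz⟩ := exists_gen_five L.2.2
  have hc3' : ∀ x ∈ (P : Subgroup G), c ^ 3 * x * (c ^ 3)⁻¹ = x := fun x hx => by
    rw [D.comm _ hc3 x hx, mul_inv_cancel_right]
  have hconjP : ∀ {x}, x ∈ (P : Subgroup G) → c * x * c⁻¹ ∈ (P : Subgroup G) := fun {x} hx =>
    (Subgroup.mem_normalizer_iff.1 hc x).1 hx
  -- `c` centralises the line
  have hl : c * l * c⁻¹ = l := by
    have hm : c * l * c⁻¹ ∈ L.1 := by
      have h : c * l * c⁻¹ ∈ cjSub c L.1 := ⟨l, hlL, rfl⟩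
      rwa [hfix] at h
    rw [← hlz] at hm
    obtain ⟨k, hk⟩ := Subgroup.mem_zpowers_iff.1 hm
    have h3 : l ^ (k * k * k) = l := by
      rw [zpow_mul, zpow_mul, hk, conj_zpow, hk,
        show c * (c * l * c⁻¹) * c⁻¹ = c * c * l * (c * c)⁻¹ by group, conj_zpow, hk]
      have := hc3' l (L.2.1 hlL)
      rw [show c ^ 3 = c * c * c by simp [pow_succ]] at this
      rw [show c * c * (c * l * c⁻¹) * (c * c)⁻¹ = c * c * c * l * (c * c * c)⁻¹ by group, this]
    have hd : ((5 : ℕ) : ℤ) ∣ k * k * k - 1 := by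
      rw [← hl5, orderOf_dvd_iff_zpow_eq_one, zpow_sub, h3, zpow_one, mul_inv_cancel]
    have hk1 : ((5 : ℕ) : ℤ) ∣ k - 1 := by
      have key : ∀ a : ZMod 5, a * a * a = 1 → a = 1 := by decide
      rw [← ZMod.intCast_zmod_eq_zero_iff_dvd] at hd ⊢
      push_cast at hd ⊢
      rw [sub_eq_zero] at hd ⊢
      exact key _ hd
    rw [← hk]
    conv_rhs => rw [← zpow_one l]
    refine zpow_eq_zpow_iff_modEq.2 ?_
    rw [Int.modEq_iff_dvd, hl5]
    exact dvd_sub_comm.1 hk1
  have hLfix : ∀ x ∈ L.1, c * x * c⁻¹ = x := by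
    intro x hx
    rw [← hlz] at hx
    obtain ⟨i, rfl⟩ := Subgroup.mem_zpowers_iff.1 hx
    rw [← conj_zpow, hl]
  classical
  obtain ⟨S, hS⟩ : ∃ S : Set G, S = {x | x ∈ (P : Subgroup G) ∧ x ∉ L.1} := ⟨_, rfl⟩
  have hstep : ∀ x ∈ S, c * x * c⁻¹ ∈ S := by
    intro x hx
    rw [hS] at hx ⊢
    refine ⟨hconjP hx.1, fun hm => hx.2 ?_⟩
    have h := hLfix _ hm
    have e : c * x * c⁻¹ = x := mul_left_cancel (mul_right_cancel h)
    rwa [e] at hm
  have hScard : Nat.card S = 20 := by
    have : Fintype G := Fintype.ofFinite G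
    have h25 : Nat.card {x : G // x ∈ (P : Subgroup G)} = 25 := D.h25
    have h5 : Nat.card {x : G // x ∈ L.1} = 5 := L.2.2
    rw [Nat.card_eq_fintype_card, Fintype.card_subtype] at h25 h5
    rw [hS]
    show Nat.card {x : G // x ∈ (P : Subgroup G) ∧ x ∉ L.1} = 20
    rw [Nat.card_eq_fintype_card, Fintype.card_subtype,
      show (Finset.univ.filter fun x => x ∈ (P : Subgroup G) ∧ x ∉ L.1) =
        (Finset.univ.filter fun x => x ∈ (P : Subgroup G)) \ (Finset.univ.filter fun x => x ∈ L.1) by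
        ext x; simp,
      Finset.card_sdiff_of_subset (fun x hx => by
        simp only [Finset.mem_filter, Finset.mem_univ, true_and] at hx ⊢
        exact L.2.1 hx), h25, h5]
  obtain ⟨⟨x, hx⟩, hfx⟩ := exists_fixed_of_cube (α := S) (fun x => ⟨_, hstep x.1 x.2⟩)
    (fun x => Subtype.ext (by
      show c * (c * (c * x.1 * c⁻¹) * c⁻¹) * c⁻¹ = x.1
      have hxP : x.1 ∈ (P : Subgroup G) := (hS ▸ x.2 : x.1 ∈ {y | y ∈ (P : Subgroup G) ∧ y ∉ L.1}).1
      have := hc3' x.1 hxP
      rw [show c ^ 3 = c * c * c by simp [pow_succ]] at this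
      rw [show c * (c * (c * x.1 * c⁻¹) * c⁻¹) * c⁻¹ = c * c * c * x.1 * (c * c * c)⁻¹ by group]
      exact this))
    (by rw [hScard]; norm_num)
  have hxe : c * x * c⁻¹ = x := congrArg Subtype.val hfx
  rw [hS] at hx
  let E : Subgroup G :=
    { carrier := {y | y ∈ (P : Subgroup G) ∧ c * y * c⁻¹ = y}
      one_mem' := ⟨one_mem _, by group⟩
      mul_mem' := fun {y w} hy hw => ⟨mul_mem hy.1 hw.1, by
        rw [← conj_mul, hy.2, hw.2]⟩
      inv_mem' := fun {y} hy => ⟨inv_mem hy.1, by rw [← conj_inv, hy.2]⟩ }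
  have hEP : E ≤ (P : Subgroup G) := fun y hy => hy.1
  have hlt : L.1 < E := lt_of_le_of_ne (fun y hy => ⟨L.2.1 hy, hLfix y hy⟩)
    fun e => hx.2 (e ▸ (⟨hx.1, hxe⟩ : x ∈ E))
  have h1 := Subgroup.card_dvd_of_le hEP
  rw [D.h25] at h1
  have h2 := Set.ncard_lt_ncard (SetLike.coe_ssubset_coe.2 hlt) (Set.toFinite _)
  rw [← Nat.card_coe_set_eq, ← Nat.card_coe_set_eq] at h2
  change Nat.card L.1 < Nat.card E at h2
  rw [L.2.2] at h2
  have h25 : Nat.card E = 25 := by
    rcases (Nat.dvd_prime_pow (p := 5) (m := 2) (by norm_num)).1 (by simpa using h1) with ⟨k, hk, hk'⟩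
    interval_cases k <;> omega
  have heq := Subgroup.eq_of_le_of_card_ge hEP (by rw [h25, D.h25])
  refine hcP ?_
  rw [← D.cent, Subgroup.mem_centralizer_iff]
  intro y hy
  exact (mul_inv_eq_iff_eq_mul.1 (show y ∈ E from heq ▸ hy).2).symm

/-- There is an element of order three modulo `P`. -/
theorem exists_three : ∃ c : Subgroup.normalizer ((P : Subgroup G) : Set G),
    orderOf c = 3 ∧ (c : G) ∉ (P : Subgroup G) := by
  haveI : Fact (Nat.Prime 3) := ⟨Nat.prime_three⟩
  obtain ⟨c, hc⟩ := exists_prime_orderOf_dvd_card'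
    (G := Subgroup.normalizer ((P : Subgroup G) : Set G)) 3 (by rw [D.counts.1]; norm_num)
  refine ⟨c, hc, fun h => ?_⟩
  have := (P : Subgroup G).orderOf_dvd_natCard h
  rw [Subgroup.orderOf_coe, hc, D.h25] at this
  norm_num at this

/-- The lines outside the orbit of `b` form one orbit. -/
theorem two_orbits {L L' : FiveLine (P : Subgroup G)}
    (hL : L ∉ MulAction.orbit (Subgroup.normalizer ((P : Subgroup G) : Set G)) D.base)
    (hL' : L' ∉ MulAction.orbit (Subgroup.normalizer ((P : Subgroup G) : Set G)) D.base) :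
    ∃ g : Subgroup.normalizer ((P : Subgroup G) : Set G), g • L = L' := by
  classical
  obtain ⟨c, hc, hcP⟩ := D.exists_three
  obtain ⟨O, hO⟩ : ∃ O, O = MulAction.orbit (Subgroup.normalizer ((P : Subgroup G) : Set G)) D.base :=
    ⟨_, rfl⟩
  rw [← hO] at hL hL'
  have hc3 : (c : G) ^ 3 ∈ (P : Subgroup G) := by
    have h : c ^ 3 = 1 := by rw [← hc, pow_orderOf_eq_one]
    rw [← SubmonoidClass.coe_pow, h]
    exact one_mem _
  have hne : ∀ M : FiveLine (P : Subgroup G), c • M ≠ M := fun M e =>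
    D.no_fixed_line c.2 hc3 hcP M (congrArg Subtype.val e)
  have hout : ∀ M, M ∉ O → c • M ∉ O := fun M hM h => hM (by
    rw [hO] at h ⊢
    obtain ⟨g, hg⟩ := h
    exact ⟨c⁻¹ * g, by show (c⁻¹ * g) • D.base = M; rw [mul_smul]; exact (congrArg (c⁻¹ • ·) hg).trans (inv_smul_smul c M)⟩)
  have h1 : c • L ≠ L := hne L
  have h2 : c • c • L ≠ c • L := hne _
  have h3 : c • c • L ≠ L := fun e => hne L (by
    have hc' : c • c • c • L = L := by
      rw [smul_smul, smul_smul, show c * c * c = c ^ 3 by simp [pow_succ], ← hc, pow_orderOf_eq_one,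
        one_smul]
    rw [e] at hc'
    exact hc')
  have hsub : ({L, c • L, c • c • L} : Set (FiveLine (P : Subgroup G))) ⊆ Oᶜ := by
    intro M hM
    rcases hM with r | r | r <;> rw [r]
    exacts [hL, hout _ hL, hout _ (hout _ hL)]
  have hcard : ({L, c • L, c • c • L} : Set (FiveLine (P : Subgroup G))).ncard = 3 :=
    Set.ncard_eq_three.2 ⟨_, _, _, h1.symm, h3.symm, h2.symm, rfl⟩
  have heq : ({L, c • L, c • c • L} : Set (FiveLine (P : Subgroup G))) = Oᶜ := by
    refine Set.eq_of_subset_of_ncard_le hsub ?_ (Set.toFinite _)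
    rw [hcard, Set.ncard_compl, hO, D.counts.2, D.card_lines]
  have hm : L' ∈ ({L, c • L, c • c • L} : Set (FiveLine (P : Subgroup G))) := heq ▸ hL'
  rcases hm with r | r | r
  exacts [⟨1, by rw [one_smul, r]⟩, ⟨c, r.symm⟩, ⟨c * c, by rw [mul_smul]; exact r.symm⟩]

/-- The classes of subgroups of order five. -/
theorem two_classes_five : ∃ A B : Subgroup G, Nat.card A = 5 ∧ Nat.card B = 5 ∧
    (∀ g : G, A.map (MulAut.conj g).toMonoidHom ≠ B) ∧
    ∀ C : Subgroup G, Nat.card C = 5 → ∃ g : G,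
      C.map (MulAut.conj g).toMonoidHom = A ∨ C.map (MulAut.conj g).toMonoidHom = B := by
  classical
  haveI : Fact (Nat.Prime 5) := ⟨by norm_num⟩
  obtain ⟨O, hO⟩ : ∃ O, O = MulAction.orbit (Subgroup.normalizer ((P : Subgroup G) : Set G)) D.base :=
    ⟨_, rfl⟩
  obtain ⟨L, hL⟩ : ∃ L, L ∉ O := by
    by_contra h
    push_neg at h
    have h3 := D.counts.2
    rw [← hO, Set.eq_univ_of_forall h, Set.ncard_univ, D.card_lines] at h3
    norm_num at h3
  refine ⟨Subgroup.zpowers b, L.1, by rw [Nat.card_zpowers, D.hb], L.2.2, fun g hg => hL ?_, ?_⟩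
  · -- fusion in an abelian Sylow subgroup
    haveI : IsMulCommutative (P : Subgroup G) := ⟨⟨fun x y => Subtype.ext (D.comm x x.2 y y.2)⟩⟩
    have hy : g⁻¹⁻¹ * b * g⁻¹ ∈ (P : Subgroup G) := by
      rw [inv_inv]
      refine L.2.1 ?_
      rw [← hg]
      exact ⟨b, Subgroup.mem_zpowers b, rfl⟩
    obtain ⟨n, hn, he⟩ := P.conj_eq_normalizer_conj_of_mem b g⁻¹ D.hbP hy
    rw [hO]
    refine ⟨⟨n⁻¹, inv_mem hn⟩, Subtype.ext ?_⟩
    show cjSub n⁻¹ (Subgroup.zpowers b) = L.1
    rw [← hg, cjSub, MonoidHom.map_zpowers, MonoidHom.map_zpowers]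
    congr 1
    show n⁻¹ * b * n⁻¹⁻¹ = g * b * g⁻¹
    rw [inv_inv] at he ⊢
    exact he.symm
  · intro C hC
    obtain ⟨R, hR⟩ := (IsPGroup.of_card (n := 1) (by rw [hC, pow_one]) : IsPGroup 5 C).exists_le_sylow
    obtain ⟨g, hg⟩ := MulAction.exists_smul_eq G R P
    have hle : cjSub g C ≤ (P : Subgroup G) := by
      rintro _ ⟨x, hx, rfl⟩
      rw [← hg]
      exact ⟨x, hR hx, rfl⟩
    obtain ⟨M, hM⟩ : ∃ M : FiveLine (P : Subgroup G), M.1 = cjSub g C :=
      ⟨⟨_, hle, by rw [cjSub_card, hC]⟩, rfl⟩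
    by_cases hMO : M ∈ O
    · rw [hO] at hMO
      obtain ⟨n, hn⟩ := hMO
      refine ⟨((n⁻¹ : Subgroup.normalizer ((P : Subgroup G) : Set G)) : G) * g, Or.inl ?_⟩
      show cjSub _ C = _
      rw [cjSub_mul, ← hM, ← fiveLine_smul, ← hn, inv_smul_smul]
      rfl
    · obtain ⟨n, hn⟩ := D.two_orbits (hO ▸ hMO) (hO ▸ hL)
      refine ⟨(n : G) * g, Or.inr ?_⟩
      show cjSub _ C = _
      rw [cjSub_mul, ← hM, ← fiveLine_smul, hn]

end FiveData

end CfsgLib.SuzType
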