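import Cfsg.Agent.SuzType.SevenQuot
import Cfsg.Agent.ZStar.Theorem

/-!
# No involution of `C(t)` outside `K` centralises an element of order seven
-/

set_option autoImplicit false
set_option linter.style.haveILetI false

namespace CfsgLib.SuzType

open CfsgLib.LargeExtraspecial

/-- The map induced on classes by an outer involution. -/
def outMap (v : V6) : V6 := pr (32, 12) v

theorem out_facts : okPair (32, 12) = true ∧ pr (32, 12) s0 = s0 ∧
    (∀ v : V6, pr (32, 12) (pr (32, 12) v) = v) ∧ pU (outMap (mk6 48)) = a0 ∧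
    pU (outMap u0) = u0 ∧ (∀ v : V6, InU v → ∀ U : V6, InU U → pU (sie U v) = v) ∧
    (∀ v : V6, InU v → pU (outMap v) = outMap v) := by decide +kernel

theorem iso_moved : ∀ p ∈ isoList,
    p = (0, 0) ∨ ¬ (p.1 + p.2 = outMap p.1 ∧ p.2 = outMap p.2) := by
  have h : (isoList.all fun p =>
      decide (p = (0, 0) ∨ ¬ (p.1 + p.2 = outMap p.1 ∧ p.2 = outMap p.2))) = true := by
    decide +kernel
  exact fun p hp => of_decide_eq_true (List.all_eq_true.1 h p hp)

namespace Four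

variable {G : Type*} [Group G] [Finite G] {z s θ t : G} {Q P : Subgroup G} {π : G → V6}
  (T : Four z Q π P s θ t)
include T

/-- The classes after conjugation by an element swapping `s` and `z * s`. -/
theorem swap_class {w : G} (hwz : w * z = z * w) (hwt : w * t = t * w)
    (hws : w * s * w⁻¹ = z * s) {y : G} {A U : V6} (h : T.frame.Cl y A U) :
    T.frame.Cl (w * y * w⁻¹) (outMap A + outMap U) (outMap U) := by
  have F := T.frame
  obtain ⟨hok, hs0, hinv, h48, h32, hsie, hout⟩ := out_facts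
  obtain ⟨q, hq, hqz, hqs, -, hqb⟩ := F.exists_not_comm
  have hqb' : b6 (π q⁻¹) s0 = true := by rw [F.data.π_inv hq]; exact hqb
  have hqi : q⁻¹ * z = z * q⁻¹ := (Commute.inv_left hqz).eq
  obtain ⟨g, hg⟩ : ∃ g, g = q⁻¹ * w := ⟨_, rfl⟩
  have hgz : g * z = z * g := hg ▸ (Commute.mul_left hqi hwz).eq
  have hgs : g * s = s * g := by
    refine mul_inv_eq_iff_eq_mul.1 ?_
    rw [hg, show q⁻¹ * w * s * (q⁻¹ * w)⁻¹ = q⁻¹ * (w * s * w⁻¹) * q by group, hws, ← hqs]
    group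
  have hconj : ∀ y A' U', F.Cl y A' U' → w * y * w⁻¹ = y →
      pU (F.data.act g A') = A' + U' ∧ pU (F.data.act g U') = U' := by
    intro y A' U' hy hwy
    have h1 := hy.conjC hgz hgs
    have h2 := hy.conjQ (inv_mem hq) hqb'
    rw [show g * y * g⁻¹ = q⁻¹ * (w * y * w⁻¹) * q⁻¹⁻¹ by rw [hg]; group, hwy] at h1
    exact h1.unique h2
  obtain ⟨ga, gu⟩ := hconj t a0 u0 T.cl (mul_inv_eq_iff_eq_mul.2 hwt)
  rw [pair48.2.1] at ga
  -- correct by an element inducing `outMap`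
  obtain ⟨n, hn, hns, hnact⟩ := F.exists_pr hok hs0
  have hni : n⁻¹ * z = z * n⁻¹ := (Commute.inv_left hn).eq
  have hnis : n⁻¹ * s = s * n⁻¹ := (Commute.inv_left hns).eq
  have hniact : ∀ v, F.data.act n⁻¹ v = outMap v := fun v => by
    conv_lhs => rw [show v = pr (32, 12) (pr (32, 12) v) from (hinv v).symm, ← hnact]
    rw [F.data.act_inv_act hn]; rfl
  obtain ⟨c, hc⟩ : ∃ c, c = n⁻¹ * g := ⟨_, rfl⟩
  have hcz : c * z = z * c := hc ▸ (Commute.mul_left hni hgz).eq
  have hcs : c * s = s * c := hc ▸ (Commute.mul_left hnis hgs).eq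
  have hcU : ∀ v, InU v → pU (F.data.act c v) = pU (outMap (pU (F.data.act g v))) := fun v hv => by
    rw [hc, F.pU_act_mul hni hnis hgz hgs (inU_orth v hv).1, hniact]
  have ht' := T.cl.conjC hcz hcs
  rw [hcU _ std_pair.1, hcU _ std_pair.2.1, ga, gu, h48, h32] at ht'
  obtain ⟨i, j, e⟩ := ht'.eq_zE_mul T.cl
  obtain ⟨v, hv, hva, hvu⟩ := fuse _ std_pair.1 _ std_pair.2.1 std_pair.2.2.1 std_pair.2.2.2.2
    std_pair.2.2.2.1 (xor i j) j
  obtain ⟨r, hr⟩ := F.exists_cl hv (U := 0) (by decide)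
  obtain ⟨d, hd⟩ : ∃ d, d = r * c := ⟨_, rfl⟩
  have hdt : d * t = t * d := by
    refine mul_inv_eq_iff_eq_mul.1 ?_
    rw [hd, show r * c * t * (r * c)⁻¹ = r * (c * t * c⁻¹) * r⁻¹ by group, ht'.conj_eq hr, hva, hvu,
      b6_zero_left, b6_zero_left, Bool.xor_false, Bool.false_xor, Bool.xor_assoc, Bool.xor_self,
      Bool.xor_false, ← e]
  obtain ⟨A', U', hdcl, -⟩ := (F.comm_t_iff T.cl).1
    ⟨hd ▸ (Commute.mul_left hr.comm_z hcz).eq, hd ▸ (Commute.mul_left hr.comm_s hcs).eq, hdt⟩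
  have key : ∀ v, InU v → pU (F.data.act g v) = outMap v := by
    intro v hv
    have h1 : pU (F.data.act d v) = v := by
      rw [Frame.Cl.act_eq F hdcl]; exact hsie v hv U' hdcl.inU_right
    rw [hd, F.data.act_mul hr.comm_z hcz, F.data.act_of_mem (F.mem_Q_of_cl hr), hcU v hv,
      hout _ (pU_pU _)] at h1
    have h2 := congrArg outMap h1
    rwa [show ∀ y, outMap (outMap y) = y from hinv] at h2
  have h1 := h.conjC hgz hgs
  rw [key _ h.inU_left, key _ h.inU_right] at h1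
  have h2 := h1.conjQ hq hqb
  rwa [show q * (g * y * g⁻¹) * q⁻¹ = w * y * w⁻¹ by rw [hg]; group] at h2

/-- The only conjugate of `z` in `T` centralised by an element swapping `s` and `z * s` is `z`. -/
theorem eq_z_of_swap {w x : G} (hwz : w * z = z * w) (hwt : w * t = t * w)
    (hws : w * s * w⁻¹ = z * s) (hxT : x ∈ Subgroup.centralizer ({z, s, t} : Set G))
    (hx : IsConj z x) (hwx : w * x = x * w) : x = z := by
  have F := T.frame
  obtain ⟨A, U, h, hi⟩ := T.mem_T_iso hxT hx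
  have h' := T.swap_class hwz hwt hws h
  rw [mul_inv_eq_iff_eq_mul.2 hwx] at h'
  obtain ⟨hA0, hU⟩ := h.unique h'
  have hA : outMap A = A + U := by
    calc outMap A = outMap A + outMap U + outMap U := (add_add_cancel6 _ _).symm
      _ = A + U := by rw [← hA0, ← hU]
  rcases iso_moved (A, U) (List.contains_iff_mem.1 (show isoList.contains (A, U) = true from hi))
    with e' | e'
  · obtain ⟨rfl, rfl⟩ := Prod.ext_iff.1 e'
    obtain ⟨k, l, rfl⟩ := h.eq_zE
    obtain ⟨hz1, hs1, hzs', hzs1, hzsz, hzss⟩ := F.zs_facts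
    have hwx' := mul_inv_eq_iff_eq_mul.2 hwx
    cases k <;> cases l
    · exact absurd F.zE_ff (T.zsq_of_isConj hx).2
    · rw [F.zE_ft, hws] at hwx'; exact absurd hwx' hzss
    · exact F.zE_tf
    · rw [F.zE_tt, show w * (z * s) * w⁻¹ = w * z * w⁻¹ * (w * s * w⁻¹) by group,
        mul_inv_eq_iff_eq_mul.2 hwz, hws, ← mul_assoc, F.data.sub.mul_self, one_mul] at hwx'
      exact absurd hwx'.symm hzss
  · exact absurd ⟨hA.symm, hU⟩ e'

/-- The case of an involution centralising `z`. -/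
theorem no_outer_zt {w b : G} (hwz : w * z = z * w) (hwt : w * t = t * w) (hwK : w ∉ Kgrp θ t)
    (hbK : b ∈ Kgrp θ t) (hb : orderOf b = 7) (hwb : w * b = b * w) : False := by
  have F := T.frame
  have hz2 := F.data.sub.mul_self
  have hzi : z⁻¹ = z := inv_eq_of_mul_eq_one_right hz2
  have hws : w * s * w⁻¹ = z * s := (F.comm_zt_cases T.cl hwz hwt).resolve_left fun e => hwK
    (mem_Kgrp.2 ⟨hwt, T.comm_t1_of_zst hwz (mul_inv_eq_iff_eq_mul.1 e) hwt⟩)
  obtain ⟨L, hL⟩ : ∃ L : Subgroup G, L = Kgrp θ t ⊓ Subgroup.centralizer ({w} : Set G) := ⟨_, rfl⟩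
  have hmemL : ∀ {x}, x ∈ L ↔ x ∈ Kgrp θ t ∧ x * w = w * x := fun {x} => by
    rw [hL, Subgroup.mem_inf, Subgroup.mem_centralizer_singleton_iff]
  obtain ⟨u, hu⟩ : ∃ u : L, (u : G) = z := ⟨⟨z, hmemL.2 ⟨T.z_mem_K, hwz.symm⟩⟩, rfl⟩
  obtain ⟨b', hb'⟩ : ∃ b' : L, (b' : G) = b := ⟨⟨b, hmemL.2 ⟨hbK, hwb.symm⟩⟩, rfl⟩
  have hiso : Cfsg.IsIsolatedInvolution u := by
    refine ⟨by rw [← Subgroup.orderOf_coe, hu]; exact F.data.sub.two, fun g hg => Subtype.ext ?_⟩
    obtain ⟨hgK, hgw⟩ := hmemL.1 (g * u * g⁻¹).2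
    have hc : z * ((g * u * g⁻¹ : L) : G) = ((g * u * g⁻¹ : L) : G) * z := by
      have h := congrArg (fun x : L => (x : G)) hg.eq
      simp only [Subgroup.coe_mul] at h ⊢
      rw [hu] at h ⊢
      exact h
    rw [hu]
    refine T.eq_z_of_swap hwz hwt hws (T.mem_Tgrp.2 (T.zK_iff.1 ⟨hc.symm, hgK⟩)) ?_ hgw.symm
    simp only [Subgroup.coe_mul, Subgroup.coe_inv, hu]
    exact isConj_iff.2 ⟨(g : G), rfl⟩
  obtain ⟨N, hN, hodd, hcomm⟩ := CfsgLib.ZStar.exists_oddNormal hiso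
  haveI := hN
  -- `z` has no fixed point on `N`
  have hfix : ∀ x ∈ N, u * x = x * u → x = 1 := by
    intro x hx hc
    have hc' : (x : G) * z = z * (x : G) := by
      have h := congrArg (fun y : L => (y : G)) hc
      simp only [Subgroup.coe_mul, hu] at h
      exact h.symm
    have hxT := T.mem_Tgrp.2 (T.zK_iff.1 ⟨hc', (hmemL.1 x.2).1⟩)
    obtain ⟨k, hk⟩ := T.Tgrp_isPGroup ⟨(x : G), hxT⟩
    have hx1 : x ^ 2 ^ k = 1 := Subtype.ext (by
      have := congrArg Subtype.val hk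
      simpa using this)
    have hdvd : orderOf x ∣ Nat.card N := N.orderOf_dvd_natCard hx
    exact orderOf_eq_one_iff.1 (Nat.eq_one_of_dvd_coprimes
      (Nat.Coprime.pow_right k (Nat.coprime_two_right.2 (hodd.of_dvd_nat hdvd))) dvd_rfl
      (orderOf_dvd_of_pow_eq_one hx1))
  have hu2 : u * u = 1 := Subtype.ext (by rw [Subgroup.coe_mul, hu]; exact hz2)
  have huinv : u⁻¹ = u := inv_eq_of_mul_eq_one_right hu2
  have hinv := CfsgLib.CITGroups.inverts_of_fixedPointFree (H := N) hu2 (fun x hx => by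
    have := hN.conj_mem x hx u
    rwa [huinv] at this) hfix
  -- `b` lies in `N`
  have hb7 : orderOf b' = 7 := by rw [← Subgroup.orderOf_coe, hb', hb]
  have hbN : b' ∈ N := by
    -- the coset `N * b'` is invariant, so `z` fixes one of its elements
    have hmap : ∀ n ∈ N, u * (n * b') * u⁻¹ * b'⁻¹ ∈ N := fun n hn => by
      rw [show u * (n * b') * u⁻¹ * b'⁻¹ = u * n * u⁻¹ * (u * b' * u⁻¹ * b'⁻¹) by group]
      exact mul_mem (hN.conj_mem n hn u) (hcomm b')
    obtain ⟨σ, hσ⟩ : ∃ σ : Equiv.Perm N, ∀ n : N, ((σ n : N) : L) = u * (n * b') * u⁻¹ * b'⁻¹ := by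
      have hmap' : Function.Involutive (fun n : N => (⟨_, hmap n n.2⟩ : N)) := fun n => Subtype.ext (by
        show u * (u * (n * b') * u⁻¹ * b'⁻¹ * b') * u⁻¹ * b'⁻¹ = (n : L)
        rw [huinv, show u * (u * (n * b') * u * b'⁻¹ * b') * u * b'⁻¹ =
          (u * u) * (n : L) * b' * (u * u) * b'⁻¹ by group, hu2]
        group)
      exact ⟨hmap'.toPerm _, fun n => rfl⟩
    classical
    have : Fintype N := Fintype.ofFinite N
    have : Fact (Nat.Prime 2) := ⟨Nat.prime_two⟩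
    obtain ⟨n, hn⟩ := Equiv.Perm.exists_fixed_point_of_prime (p := 2) (n := 1)
      (by rw [← Nat.card_eq_fintype_card]; exact fun h => Nat.not_even_iff_odd.2 hodd (even_iff_two_dvd.2 h))
      (σ := σ) (by
        refine Equiv.ext fun n => Subtype.ext ?_
        show ((((σ ^ 2 ^ 1) n) : N) : L) = _
        rw [pow_one, pow_two, Equiv.Perm.mul_apply, hσ, hσ, huinv,
          show u * (u * ((n : L) * b') * u * b'⁻¹ * b') * u * b'⁻¹ =
            (u * u) * (n : L) * b' * (u * u) * b'⁻¹ by group, hu2]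
        simp)
    have hy := congrArg Subtype.val hn
    rw [hσ, mul_inv_eq_iff_eq_mul, mul_inv_eq_iff_eq_mul] at hy
    have hyc : (((n : L) * b' : L) : G) * z = z * (((n : L) * b' : L) : G) := by
      have h := congrArg (fun y : L => (y : G)) hy
      simp only [Subgroup.coe_mul, hu] at h ⊢
      exact h.symm
    obtain ⟨k, hk⟩ := T.Tgrp_isPGroup
      ⟨_, T.mem_Tgrp.2 (T.zK_iff.1 ⟨hyc, (hmemL.1 ((n : L) * b').2).1⟩)⟩
    have hy1 : ((n : L) * b') ^ 2 ^ k = 1 := Subtype.ext (by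
      have := congrArg Subtype.val hk
      simpa using this)
    have hmk : ((b' : L) : L ⧸ N) ^ 2 ^ k = 1 := by
      have h := congrArg (QuotientGroup.mk : L → L ⧸ N) hy1
      rwa [QuotientGroup.mk_pow, QuotientGroup.mk_mul, (QuotientGroup.eq_one_iff (n : L)).2 n.2,
        one_mul, QuotientGroup.mk_one] at h
    have h7 : ((b' : L) : L ⧸ N) ^ 7 = 1 := by
      rw [← QuotientGroup.mk_pow, ← hb7, pow_orderOf_eq_one, QuotientGroup.mk_one]
    rw [← QuotientGroup.eq_one_iff (N := N)]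
    exact orderOf_eq_one_iff.1 (Nat.eq_one_of_dvd_coprimes
      (Nat.Coprime.pow_right k (by norm_num : Nat.Coprime 7 2))
      (orderOf_dvd_of_pow_eq_one h7) (orderOf_dvd_of_pow_eq_one hmk))
  have hbz : z * b * z⁻¹ = b⁻¹ := by
    have h := congrArg (fun x : L => (x : G)) (hinv b' hbN)
    simp only [Subgroup.coe_mul, Subgroup.coe_inv, hu, hb'] at h
    rwa [hzi]
  obtain ⟨bK, hbK'⟩ : ∃ bK : Kgrp θ t, (bK : G) = b := ⟨⟨b, hbK⟩, rfl⟩
  refine T.no_invol_normalizes (u := T.zbar) (T.orderOf_quot_seven (hbK' ▸ hb)) T.orderOf_zbar ?_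
  rw [show T.zbar = ((⟨z, T.z_mem_K⟩ : Kgrp θ t) : Kgrp θ t ⧸ T.Vk) from rfl,
    ← QuotientGroup.mk_inv, ← QuotientGroup.mk_inv, ← QuotientGroup.mk_mul, ← QuotientGroup.mk_mul]
  exact congrArg _ (Subtype.ext (by
    simp only [Subgroup.coe_mul, Subgroup.coe_inv, hbK']; exact hbz))

/-- No involution of `C(t)` outside `K` centralises an element of order seven. -/
theorem no_outer {w b : G} (hwt : w * t = t * w) (hw2 : w * w = 1) (hwK : w ∉ Kgrp θ t)
    (hbK : b ∈ Kgrp θ t) (hb : orderOf b = 7) (hwb : w * b = b * w) : False := by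
  have : Fact (Nat.Prime 2) := ⟨Nat.prime_two⟩
  obtain ⟨X, hX⟩ : ∃ X, X = Subgroup.centralizer ({t} : Set G) := ⟨_, rfl⟩
  have hXcard : Nat.card X = 161280 := hX ▸ T.card_cent_t
  have hle : Subgroup.centralizer ({z, t} : Set G) ≤ X :=
    hX ▸ Subgroup.centralizer_le (by simp)
  have h512 : Nat.card (Subgroup.centralizer ({z, t} : Set G)) = 512 := by
    rw [← T.frame.card_cent_zt T.cl]
    refine Nat.card_congr (Equiv.subtypeEquivRight fun c => ?_)
    rw [Subgroup.mem_centralizer_iff]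
    simp only [Set.mem_insert_iff, Set.mem_singleton_iff, forall_eq_or_imp, forall_eq]
    exact and_congr eq_comm eq_comm
  let S : Sylow 2 X := Sylow.ofCard ((Subgroup.centralizer ({z, t} : Set G)).subgroupOf X) (by
    rw [Nat.card_congr (Subgroup.subgroupOfEquivOfLe hle).toEquiv, h512, hXcard,
      show (161280 : ℕ) = 2 ^ 9 * 315 by norm_num, Nat.factorization_mul (by norm_num) (by norm_num),
      Finsupp.add_apply, Nat.Prime.factorization_pow Nat.prime_two, Finsupp.single_eq_same,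
      Nat.factorization_eq_zero_of_not_dvd (by norm_num : ¬ 2 ∣ 315)]
    norm_num)
  have hwX : w ∈ X := hX ▸ Subgroup.mem_centralizer_singleton_iff.2 hwt
  have hw1 : w ≠ 1 := fun e => hwK (e ▸ one_mem _)
  obtain ⟨g, hg⟩ := CfsgLib.Small.exists_conj_mem_sylow S (t := (⟨w, hwX⟩ : X))
    (CfsgLib.CITGroups.orderOf_two_of_mul_self (Subtype.ext hw2) fun e => hw1 (congrArg Subtype.val e))
  have hg' : (g : G) * w * (g : G)⁻¹ ∈ Subgroup.centralizer ({z, t} : Set G) := hg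
  have hgt : (g : G) * t = t * (g : G) := Subgroup.mem_centralizer_singleton_iff.1 (hX ▸ g.2)
  have hgi : (g : G)⁻¹ * t = t * (g : G)⁻¹ := (Commute.inv_left hgt).eq
  rw [Subgroup.mem_centralizer_iff] at hg'
  refine T.no_outer_zt (w := (g : G) * w * (g : G)⁻¹) (b := (g : G) * b * (g : G)⁻¹)
    (hg' z (by simp)).symm (hg' t (by simp)).symm (fun h => hwK ?_)
    (T.conj_mem_of_comm_t hgt hbK) (((MulAut.conj (g : G)).orderOf_eq b).trans hb) ?_
  · have := T.conj_mem_of_comm_t hgi h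
    rwa [show (g : G)⁻¹ * ((g : G) * w * (g : G)⁻¹) * (g : G)⁻¹⁻¹ = w by group] at this
  · exact ((Commute.conj_iff (g : G)).2 (show Commute w b from hwb)).eq

end Four

end CfsgLib.SuzType
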