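import Cfsg.Agent.SuzType.FiveQuot
import Cfsg.Agent.SuzType.SevenOuter

/-!
# No involution of `C(t)` outside `K` centralises an element of order five
-/

set_option autoImplicit false
set_option linter.style.haveILetI false

namespace CfsgLib.SuzType

open CfsgLib.LargeExtraspecial

theorem twelve_facts : InU (mk6 12) ∧ Tcond (mk6 12) 0 ∧ outMap (mk6 12) + outMap 0 = mk6 12 ∧
    outMap 0 = 0 ∧ xor (q6 (mk6 12)) (b6 (mk6 12) 0) = true ∧
    xor (q6 0) (b6 (mk6 12) 0) = false := by decide +kernel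

namespace Four

variable {G : Type*} [Group G] [Finite G] {z s θ t : G} {Q P : Subgroup G} {π : G → V6}
  (T : Four z Q π P s θ t)
include T

/-- An element of order four of `T` squaring to `z` and fixed by a given swapping involution. -/
theorem exists_fixed_four {w : G} (hwz : w * z = z * w) (hwt : w * t = t * w)
    (hws : w * s * w⁻¹ = z * s) (hw2 : w * w = 1) :
    ∃ y ∈ Subgroup.centralizer ({z, s, t} : Set G), y * y = z ∧ y * w = w * y := by
  have F := T.frame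
  obtain ⟨h12, hT, hm1, hm2, he1, he2⟩ := twelve_facts
  obtain ⟨y, hy⟩ := F.exists_cl h12 (U := 0) (by decide)
  have hys := hy.sq_eq
  rw [he1, he2, F.zE_tf] at hys
  have hwy := T.swap_class hwz hwt hws hy
  rw [hm1, hm2] at hwy
  obtain ⟨i, j, e⟩ := hy.eq_zE_mul hwy
  have hwi : w⁻¹ = w := inv_eq_of_mul_eq_one_right hw2
  have hz : w * z * w⁻¹ = z := mul_inv_eq_iff_eq_mul.2 hwz
  have hconjE : w * zE z s i j * w⁻¹ = zE z s (xor i j) j := by
    cases i <;> cases j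
    · simp [zE]
    · rw [F.zE_ft, hws]; exact F.zE_tt.symm
    · rw [F.zE_tf, hz]; exact F.zE_tf.symm
    · rw [F.zE_tt, show w * (z * s) * w⁻¹ = w * z * w⁻¹ * (w * s * w⁻¹) by group, hz, hws,
        ← mul_assoc, F.data.sub.mul_self, one_mul]
      exact F.zE_ft.symm
  -- applying `w` twice
  have h2 : y = zE z s j false * y := by
    conv_lhs => rw [show y = w * w * y * (w * w)⁻¹ by rw [hw2]; group]
    rw [show w * w * y * (w * w)⁻¹ = w * (w * y * w⁻¹) * w⁻¹ by group, e,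
      show w * (zE z s i j * y) * w⁻¹ = w * zE z s i j * w⁻¹ * (w * y * w⁻¹) by group, hconjE, e,
      ← mul_assoc, F.zE_mul]
    congr 2
    · cases i <;> cases j <;> rfl
    · cases j <;> rfl
  have hj : j = false := (F.zE_inj ((mul_eq_right.1 h2.symm).trans F.zE_ff.symm)).1
  subst hj
  have hyT := T.mem_T_of_cl hy hT
  cases i
  · rw [F.zE_ff, one_mul] at e
    exact ⟨y, hyT, hys, (mul_inv_eq_iff_eq_mul.1 e).symm⟩
  · rw [F.zE_tf] at e
    have hsT : s ∈ Subgroup.centralizer ({z, s, t} : Set G) :=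
      T.mem_Tgrp.2 ⟨F.s_comm, rfl, T.cl.comm_s.symm⟩
    refine ⟨y * s, mul_mem hyT hsT, ?_, (mul_inv_eq_iff_eq_mul.1 ?_).symm⟩
    · rw [(show Commute s y from hy.comm_s.symm).mul_mul_mul_comm, F.s_mul_self, mul_one, hys]
    · rw [show w * (y * s) * w⁻¹ = w * y * w⁻¹ * (w * s * w⁻¹) by group, e, hws,
        show z * y * (z * s) = z * (y * z) * s by group, hy.comm_z, ← mul_assoc z z y,
        F.data.sub.mul_self, one_mul]

/-- The case of an involution centralising `z`. -/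
theorem no_outer_five_zt {w b : G} (hwz : w * z = z * w) (hwt : w * t = t * w)
    (hw2 : w * w = 1) (hwK : w ∉ Kgrp θ t)
    (hbK : b ∈ Kgrp θ t) (hb : orderOf b = 5) (hwb : w * b = b * w) : False := by
  have F := T.frame
  have hz2 := F.data.sub.mul_self
  have hws : w * s * w⁻¹ = z * s := (F.comm_zt_cases T.cl hwz hwt).resolve_left fun e => hwK
    (mem_Kgrp.2 ⟨hwt, T.comm_t1_of_zst hwz (mul_inv_eq_iff_eq_mul.1 e) hwt⟩)
  obtain ⟨y, hyT, hyy, hyw⟩ := T.exists_fixed_four hwz hwt hws hw2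
  obtain ⟨L, hL⟩ : ∃ L : Subgroup G, L = Kgrp θ t ⊓ Subgroup.centralizer ({w} : Set G) := ⟨_, rfl⟩
  have hmemL : ∀ {x}, x ∈ L ↔ x ∈ Kgrp θ t ∧ x * w = w * x := fun {x} => by
    rw [hL, Subgroup.mem_inf, Subgroup.mem_centralizer_singleton_iff]
  obtain ⟨u, hu⟩ : ∃ u : L, (u : G) = z := ⟨⟨z, hmemL.2 ⟨T.z_mem_K, hwz.symm⟩⟩, rfl⟩
  obtain ⟨b', hb'⟩ : ∃ b' : L, (b' : G) = b := ⟨⟨b, hmemL.2 ⟨hbK, hwb.symm⟩⟩, rfl⟩
  have hiso : Cfsg.IsIsolatedInvolution u := by
    refine ⟨by rw [← Subgroup.orderOf_coe, hu]; exact F.data.sub.two, fun g hg => Subtype.ext ?_⟩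
    obtain ⟨hgK, hgw⟩ := hmemL.1 (g * u * g⁻¹).2
    have hc : z * ((g * u * g⁻¹ : L) : G) = ((g * u * g⁻¹ : L) : G) * z := by
      have h := congrArg (fun x : L => (x : G)) hg.eq
      simp only [Subgroup.coe_mul] at h ⊢
      rw [hu] at h ⊢
      exact h
    rw [hu]
    refine T.eq_z_of_swap hwz hwt hws (T.mem_Tgrp.2 (T.zK_iff.1 ⟨hc.symm, hgK⟩)) ?_ hgw.symm
    simp only [Subgroup.coe_mul, Subgroup.coe_inv, hu]
    exact isConj_iff.2 ⟨(g : G), rfl⟩
  obtain ⟨N, hN, hodd, hcomm⟩ := CfsgLib.ZStar.exists_oddNormal hiso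
  haveI := hN
  have hfix : ∀ x ∈ N, u * x = x * u → x = 1 := by
    intro x hx hc
    have hc' : (x : G) * z = z * (x : G) := by
      have h := congrArg (fun r : L => (r : G)) hc
      simp only [Subgroup.coe_mul, hu] at h
      exact h.symm
    have hxT := T.mem_Tgrp.2 (T.zK_iff.1 ⟨hc', (hmemL.1 x.2).1⟩)
    obtain ⟨k, hk⟩ := T.Tgrp_isPGroup ⟨(x : G), hxT⟩
    have hx1 : x ^ 2 ^ k = 1 := Subtype.ext (by
      have := congrArg Subtype.val hk
      simpa using this)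
    exact orderOf_eq_one_iff.1 (Nat.eq_one_of_dvd_coprimes
      (Nat.Coprime.pow_right k (Nat.coprime_two_right.2 (hodd.of_dvd_nat (N.orderOf_dvd_natCard hx))))
      dvd_rfl (orderOf_dvd_of_pow_eq_one hx1))
  have hu2 : u * u = 1 := Subtype.ext (by rw [Subgroup.coe_mul, hu]; exact hz2)
  have huinv : u⁻¹ = u := inv_eq_of_mul_eq_one_right hu2
  have hinv := CfsgLib.CITGroups.inverts_of_fixedPointFree (H := N) hu2 (fun x hx => by
    have := hN.conj_mem x hx u
    rwa [huinv] at this) hfix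
  have hb5 : orderOf b' = 5 := by rw [← Subgroup.orderOf_coe, hb', hb]
  have hbN : b' ∈ N := by
    -- the coset `N * b'` is invariant, so `z` fixes one of its elements
    have hmap : ∀ n ∈ N, u * (n * b') * u⁻¹ * b'⁻¹ ∈ N := fun n hn => by
      rw [show u * (n * b') * u⁻¹ * b'⁻¹ = u * n * u⁻¹ * (u * b' * u⁻¹ * b'⁻¹) by group]
      exact mul_mem (hN.conj_mem n hn u) (hcomm b')
    have hinvol : Function.Involutive (fun n : N => (⟨_, hmap n n.2⟩ : N)) := fun n => Subtype.ext (by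
      show u * (u * (n * b') * u⁻¹ * b'⁻¹ * b') * u⁻¹ * b'⁻¹ = (n : L)
      rw [huinv, show u * (u * (n * b') * u * b'⁻¹ * b') * u * b'⁻¹ =
        (u * u) * (n : L) * b' * (u * u) * b'⁻¹ by group, hu2]
      group)
    classical
    have : Fintype N := Fintype.ofFinite N
    have : Fact (Nat.Prime 2) := ⟨Nat.prime_two⟩
    obtain ⟨n, hn⟩ := Equiv.Perm.exists_fixed_point_of_prime (p := 2) (n := 1)
      (by rw [← Nat.card_eq_fintype_card]; exact fun h => Nat.not_even_iff_odd.2 hodd (even_iff_two_dvd.2 h))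
      (σ := hinvol.toPerm _) (Equiv.ext fun n => by
        rw [pow_one, pow_two]
        exact hinvol n)
    have hy := congrArg Subtype.val hn
    change u * ((n : L) * b') * u⁻¹ * b'⁻¹ = (n : L) at hy
    rw [mul_inv_eq_iff_eq_mul, mul_inv_eq_iff_eq_mul] at hy
    have hyc : (((n : L) * b' : L) : G) * z = z * (((n : L) * b' : L) : G) := by
      have h := congrArg (fun r : L => (r : G)) hy
      simp only [Subgroup.coe_mul, hu] at h ⊢
      exact h.symm
    obtain ⟨k, hk⟩ := T.Tgrp_isPGroup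
      ⟨_, T.mem_Tgrp.2 (T.zK_iff.1 ⟨hyc, (hmemL.1 ((n : L) * b').2).1⟩)⟩
    have hy1 : ((n : L) * b') ^ 2 ^ k = 1 := Subtype.ext (by
      have := congrArg Subtype.val hk
      simpa using this)
    have hmk : ((b' : L) : L ⧸ N) ^ 2 ^ k = 1 := by
      have h := congrArg (QuotientGroup.mk : L → L ⧸ N) hy1
      rwa [QuotientGroup.mk_pow, QuotientGroup.mk_mul, (QuotientGroup.eq_one_iff (n : L)).2 n.2,
        one_mul, QuotientGroup.mk_one] at h
    have h5 : ((b' : L) : L ⧸ N) ^ 5 = 1 := by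
      rw [← QuotientGroup.mk_pow, ← hb5, pow_orderOf_eq_one, QuotientGroup.mk_one]
    rw [← QuotientGroup.eq_one_iff (N := N)]
    exact orderOf_eq_one_iff.1 (Nat.eq_one_of_dvd_coprimes
      (Nat.Coprime.pow_right k (by norm_num : Nat.Coprime 5 2))
      (orderOf_dvd_of_pow_eq_one h5) (orderOf_dvd_of_pow_eq_one hmk))
  -- `N` is abelian, so `y` normalises `⟨b⟩`
  obtain ⟨y', hy'⟩ : ∃ y' : L, (y' : G) = y := ⟨⟨y, hmemL.2 ⟨T.Tgrp_le_K hyT, hyw⟩⟩, rfl⟩
  have hconjN : y' * b' * y'⁻¹ ∈ N := hN.conj_mem b' hbN y'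
  have hab := CfsgLib.CITGroups.commute_of_inverted hu2 hinv _ hconjN b' hbN
  have hab' : y * b * y⁻¹ * b = b * (y * b * y⁻¹) := by
    have h := congrArg (fun r : L => (r : G)) hab
    simpa only [Subgroup.coe_mul, Subgroup.coe_inv, hb', hy'] using h
  have hyK := T.Tgrp_le_K hyT
  obtain ⟨i, v, hv, he⟩ := T.cent_five_K hb hbK (T.conj_mem_K hyK hbK) hab'
  obtain ⟨bK, hbK'⟩ : ∃ bK : Kgrp θ t, (bK : G) = b := ⟨⟨b, hbK⟩, rfl⟩
  obtain ⟨yK, hyK'⟩ : ∃ yK : Kgrp θ t, (yK : G) = y := ⟨⟨y, hyK⟩, rfl⟩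
  obtain ⟨N', hN'⟩ : ∃ N', N' = Subgroup.normalizer
    (Subgroup.zpowers (bK : Kgrp θ t ⧸ T.Vk) : Set (Kgrp θ t ⧸ T.Vk)) := ⟨_, rfl⟩
  have hq5 := T.orderOf_quot_five (hbK' ▸ hb)
  have hyN : (yK : Kgrp θ t ⧸ T.Vk) ∈ N' := by
    have hconj : (yK : Kgrp θ t ⧸ T.Vk) * bK * (yK : Kgrp θ t ⧸ T.Vk)⁻¹ =
        (bK : Kgrp θ t ⧸ T.Vk) ^ i := by
      have e2 : yK * bK * yK⁻¹ = bK ^ i * (⟨v, T.memV_mem hv⟩ : Kgrp θ t) := Subtype.ext (by
        simp only [Subgroup.coe_mul, Subgroup.coe_inv, SubgroupClass.coe_zpow, hbK', hyK']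
        exact he)
      rw [← QuotientGroup.mk_inv, ← QuotientGroup.mk_mul, ← QuotientGroup.mk_mul, e2,
        QuotientGroup.mk_mul, QuotientGroup.mk_zpow,
        (T.mk_eq_one (x := ⟨v, T.memV_mem hv⟩)).2 hv, mul_one]
    rw [hN', Subgroup.mem_normalizer_iff_map_conj_eq, MonoidHom.map_zpowers]
    show Subgroup.zpowers ((yK : Kgrp θ t ⧸ T.Vk) * bK * (yK : Kgrp θ t ⧸ T.Vk)⁻¹) = _
    refine Subgroup.eq_of_le_of_card_ge
      (Subgroup.zpowers_le.2 (hconj ▸ Subgroup.zpow_mem_zpowers _ i)) ?_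
    have hord : orderOf ((yK : Kgrp θ t ⧸ T.Vk) * bK * (yK : Kgrp θ t ⧸ T.Vk)⁻¹) = 5 :=
      ((MulAut.conj (yK : Kgrp θ t ⧸ T.Vk)).orderOf_eq _).trans hq5
    rw [Nat.card_zpowers, Nat.card_zpowers, hord, hq5]
  have hy4 : orderOf (yK : Kgrp θ t ⧸ T.Vk) = 4 := by
    have : Fact (Nat.Prime 2) := ⟨Nat.prime_two⟩
    have e : (yK : Kgrp θ t ⧸ T.Vk) * yK = T.zbar := by
      rw [← QuotientGroup.mk_mul,
        show T.zbar = ((⟨z, T.z_mem_K⟩ : Kgrp θ t) : Kgrp θ t ⧸ T.Vk) from rfl]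
      exact congrArg _ (Subtype.ext (by simp only [Subgroup.coe_mul, hyK']; exact hyy))
    refine orderOf_eq_prime_pow (p := 2) (n := 1) ?_ ?_
    · rw [pow_one, pow_two, e]; exact T.zbar_ne_one
    · rw [show (2 : ℕ) ^ (1 + 1) = 2 * 2 by norm_num, pow_mul, pow_two, pow_two, e, T.zbar_sq]
  have h := N'.orderOf_dvd_natCard hyN
  rw [hy4, hN', T.card_normalizer_five_quot hq5] at h
  norm_num at h

/-- No involution of `C(t)` outside `K` centralises an element of order five. -/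
theorem no_outer_five {w b : G} (hwt : w * t = t * w) (hw2 : w * w = 1) (hwK : w ∉ Kgrp θ t)
    (hbK : b ∈ Kgrp θ t) (hb : orderOf b = 5) (hwb : w * b = b * w) : False := by
  have : Fact (Nat.Prime 2) := ⟨Nat.prime_two⟩
  obtain ⟨X, hX⟩ : ∃ X, X = Subgroup.centralizer ({t} : Set G) := ⟨_, rfl⟩
  have hXcard : Nat.card X = 161280 := hX ▸ T.card_cent_t
  have hle : Subgroup.centralizer ({z, t} : Set G) ≤ X :=
    hX ▸ Subgroup.centralizer_le (by simp)
  have h512 : Nat.card (Subgroup.centralizer ({z, t} : Set G)) = 512 := by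
    rw [← T.frame.card_cent_zt T.cl]
    refine Nat.card_congr (Equiv.subtypeEquivRight fun c => ?_)
    rw [Subgroup.mem_centralizer_iff]
    simp only [Set.mem_insert_iff, Set.mem_singleton_iff, forall_eq_or_imp, forall_eq]
    exact and_congr eq_comm eq_comm
  let S : Sylow 2 X := Sylow.ofCard ((Subgroup.centralizer ({z, t} : Set G)).subgroupOf X) (by
    rw [Nat.card_congr (Subgroup.subgroupOfEquivOfLe hle).toEquiv, h512, hXcard,
      show (161280 : ℕ) = 2 ^ 9 * 315 by norm_num, Nat.factorization_mul (by norm_num) (by norm_num),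
      Finsupp.add_apply, Nat.Prime.factorization_pow Nat.prime_two, Finsupp.single_eq_same,
      Nat.factorization_eq_zero_of_not_dvd (by norm_num : ¬ 2 ∣ 315)]
    norm_num)
  have hwX : w ∈ X := hX ▸ Subgroup.mem_centralizer_singleton_iff.2 hwt
  have hw1 : w ≠ 1 := fun e => hwK (e ▸ one_mem _)
  obtain ⟨g, hg⟩ := CfsgLib.Small.exists_conj_mem_sylow S (t := (⟨w, hwX⟩ : X))
    (CfsgLib.CITGroups.orderOf_two_of_mul_self (Subtype.ext hw2) fun e => hw1 (congrArg Subtype.val e))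
  have hg' : (g : G) * w * (g : G)⁻¹ ∈ Subgroup.centralizer ({z, t} : Set G) := hg
  have hgt : (g : G) * t = t * (g : G) := Subgroup.mem_centralizer_singleton_iff.1 (hX ▸ g.2)
  have hgi : (g : G)⁻¹ * t = t * (g : G)⁻¹ := (Commute.inv_left hgt).eq
  rw [Subgroup.mem_centralizer_iff] at hg'
  refine T.no_outer_five_zt (w := (g : G) * w * (g : G)⁻¹) (b := (g : G) * b * (g : G)⁻¹)
    (hg' z (by simp)).symm (hg' t (by simp)).symm ?_ (fun h => hwK ?_)
    (T.conj_mem_of_comm_t hgt hbK) (((MulAut.conj (g : G)).orderOf_eq b).trans hb) ?_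
  · rw [show (g : G) * w * (g : G)⁻¹ * ((g : G) * w * (g : G)⁻¹) = (g : G) * (w * w) * (g : G)⁻¹ by
      group, hw2]
    group
  · have := T.conj_mem_of_comm_t hgi h
    rwa [show (g : G)⁻¹ * ((g : G) * w * (g : G)⁻¹) * (g : G)⁻¹⁻¹ = w by group] at this
  · exact ((Commute.conj_iff (g : G)).2 (show Commute w b from hwb)).eq

end Four

end CfsgLib.SuzType
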