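import Cfsg.Agent.SuzType.SevenQuot

/-!
# Elements of order five in `K`
-/

set_option autoImplicit false
set_option linter.style.haveILetI false

namespace CfsgLib.SuzType

open CfsgLib.LargeExtraspecial

/-- The normalizer of a subgroup of prime order in a group where this is a Sylow subgroup. -/
theorem sylow_prime_counts {G : Type*} [Group G] [Finite G] {p m : ℕ} (hp : p.Prime)
    (hG : Nat.card G = p * m) (hm : ¬ p ∣ m) {B : Subgroup G} (hB : Nat.card B = p) :
    ∃ n : ℕ, n % p = 1 ∧ n * Nat.card (Subgroup.normalizer (B : Set G)) = Nat.card G ∧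
      Nat.card (Subgroup.centralizer (B : Set G)) ∣ Nat.card (Subgroup.normalizer (B : Set G)) ∧
      Nat.card (Subgroup.normalizer (B : Set G)) ∣
        Nat.card (Subgroup.centralizer (B : Set G)) * (p - 1) := by
  have : Fact p.Prime := ⟨hp⟩
  have hm0 : m ≠ 0 := fun h => hm (h ▸ dvd_zero p)
  have hBp : Nat.card B = p ^ (Nat.card G).factorization p := by
    rw [hB, hG, Nat.factorization_mul hp.ne_zero hm0, Finsupp.add_apply,
      Nat.Prime.factorization_self hp, Nat.factorization_eq_zero_of_not_dvd hm, pow_one]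
  let P : Sylow p G := Sylow.ofCard B hBp
  have hn1 : Nat.card (Sylow p G) % p = 1 := by
    have h := card_sylow_modEq_one p G
    rw [h, Nat.mod_eq_of_lt hp.one_lt]
  have hn2 := P.card_eq_index_normalizer
  have hidx : (Subgroup.normalizer (B : Set G)).index = Nat.card (Sylow p G) := by rw [hn2]; rfl
  refine ⟨Nat.card (Sylow p G), hn1, by
    rw [← hidx, mul_comm]; exact (Subgroup.normalizer (B : Set G)).card_mul_index,
    Subgroup.card_dvd_of_le (Subgroup.centralizer_le_normalizer (B : Set G)), ?_⟩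
  have hker : Nat.card B.normalizerMonoidHom.ker = Nat.card (Subgroup.centralizer (B : Set G)) := by
    rw [B.normalizerMonoidHom_ker]
    exact Nat.card_congr
      (Subgroup.subgroupOfEquivOfLe (Subgroup.centralizer_le_normalizer (B : Set G))).toEquiv
  have haut : Nat.card (MulAut B) = p - 1 := by
    have : IsCyclic B := isCyclic_of_prime_card hB
    rw [IsCyclic.card_mulAut, hB, Nat.totient_prime hp]
  rw [← hker, ← B.normalizerMonoidHom.ker.card_mul_index, Subgroup.index_ker, ← haut]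
  exact Nat.mul_dvd_mul_left _ B.normalizerMonoidHom.range.card_subgroup_dvd_card

/-- The powers of an element centralise it. -/
theorem zpowers_le_cent {G : Type*} [Group G] (b : G) :
    Subgroup.zpowers b ≤ Subgroup.centralizer (Subgroup.zpowers b : Set G) := fun y hy => by
  rw [Subgroup.mem_centralizer_iff]
  intro w hw
  obtain ⟨i, rfl⟩ := Subgroup.mem_zpowers_iff.1 hy
  obtain ⟨j, rfl⟩ := Subgroup.mem_zpowers_iff.1 hw
  exact ((Commute.refl b).zpow_zpow j i).eq

/-- Commuting with a generator. -/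
theorem mem_cent_zpowers {G : Type*} [Group G] {b x : G} :
    x ∈ Subgroup.centralizer (Subgroup.zpowers b : Set G) ↔ x * b = b * x := by
  rw [Subgroup.mem_centralizer_iff]
  refine ⟨fun h => (h b (Subgroup.mem_zpowers b)).symm, fun h y hy => ?_⟩
  obtain ⟨i, rfl⟩ := Subgroup.mem_zpowers_iff.1 hy
  exact ((show Commute b x from h.symm).zpow_left i).eq

namespace Four

variable {G : Type*} [Group G] [Finite G] {z s θ t : G} {Q P : Subgroup G} {π : G → V6}
  (T : Four z Q π P s θ t)
include T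

/-- The centralizer of an element of order five in the quotient. -/
theorem card_cent_five_quot {q : Kgrp θ t ⧸ T.Vk} (hq : orderOf q = 5) :
    Nat.card (Subgroup.centralizer (Subgroup.zpowers q : Set (Kgrp θ t ⧸ T.Vk))) = 5 := by
  obtain ⟨C, hC⟩ : ∃ C, C = Subgroup.centralizer (Subgroup.zpowers q : Set (Kgrp θ t ⧸ T.Vk)) :=
    ⟨_, rfl⟩
  rw [← hC]
  have h5 : ∀ x ∈ C, x ^ 5 = 1 := by
    intro x hx
    refine orderOf_dvd_iff_pow_eq_one.1 ?_
    have hcx : Commute q x := (mem_cent_zpowers.1 (hC ▸ hx)).symm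
    have hsmall : ∀ k, Nat.Coprime 5 k → orderOf x = k → k ∣ 1 := by
      intro k hk hxk
      have h := hcx.orderOf_mul_eq_mul_orderOf_of_coprime (by rw [hq, hxk]; exact hk)
      rw [hq, hxk] at h
      have hpos : 0 < k := hxk ▸ orderOf_pos x
      rw [Nat.dvd_one]
      rcases T.orders_quot (q * x) with h' | h' | h' | h' | h' <;> rw [h] at h' <;>
        have hle := Nat.le_of_dvd (by norm_num) h' <;> omega
    rcases T.orders_quot x with h | h | h | h | h
    rotate_left
    · exact h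
    all_goals
      refine (hsmall _ ?_ rfl).trans (one_dvd _)
      exact Nat.Coprime.coprime_dvd_right h (by norm_num)
  haveI : Fact (Nat.Prime 5) := ⟨by norm_num⟩
  have hp : IsPGroup 5 C := fun x => ⟨1, Subtype.ext (by
    rw [pow_one, SubmonoidClass.coe_pow]; exact h5 x x.2)⟩
  obtain ⟨k, hk⟩ := IsPGroup.iff_card.1 hp
  have hdvd := C.card_subgroup_dvd_card
  rw [hk, T.card_quot] at hdvd
  have h1 := Subgroup.card_le_of_le (hC ▸ zpowers_le_cent q : Subgroup.zpowers q ≤ C)
  rw [Nat.card_zpowers, hq, hk] at h1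
  rcases k with _ | _ | k
  · norm_num at h1
  · rw [hk, pow_one]
  · exfalso
    have : 25 ∣ 20160 := (Dvd.intro (5 ^ k) (by ring)).trans hdvd
    norm_num at this

/-- The normalizer of a subgroup of order five in the quotient. -/
theorem card_normalizer_five_quot {q : Kgrp θ t ⧸ T.Vk} (hq : orderOf q = 5) :
    Nat.card (Subgroup.normalizer (Subgroup.zpowers q : Set (Kgrp θ t ⧸ T.Vk))) = 10 := by
  obtain ⟨n, hn, hN, h1, h2⟩ := sylow_prime_counts (p := 5) (m := 4032) (by norm_num)
    (by rw [T.card_quot]) (by norm_num) (by rw [Nat.card_zpowers, hq] :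
      Nat.card (Subgroup.zpowers q) = 5)
  rw [T.card_cent_five_quot hq] at h1 h2
  rw [T.card_quot] at hN
  obtain ⟨k, hk⟩ := h1
  rw [hk] at h2 hN ⊢
  have hk4 : k ∣ 4 := (Nat.mul_dvd_mul_iff_left (by norm_num)).1 h2
  have := Nat.le_of_dvd (by norm_num) hk4
  interval_cases k <;> omega

/-- An element of order five of `K` has such an image. -/
theorem orderOf_quot_five {b : Kgrp θ t} (hb : orderOf (b : G) = 5) :
    orderOf (b : Kgrp θ t ⧸ T.Vk) = 5 := by
  haveI : Fact (Nat.Prime 5) := ⟨by norm_num⟩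
  have hb' : b ^ 5 = 1 := Subtype.ext (by rw [SubmonoidClass.coe_pow, ← hb, pow_orderOf_eq_one]; rfl)
  refine orderOf_eq_prime (by rw [← QuotientGroup.mk_pow, hb', QuotientGroup.mk_one]) fun e => ?_
  have h := orderOf_dvd_of_pow_eq_one (show (b : G) ^ 2 = 1 by
    rw [pow_two]; exact T.memV_sq (T.mk_eq_one.1 e))
  rw [hb] at h
  norm_num at h

/-- The centralizer in `K` of an element of order five. -/
theorem cent_five_K {b x : G} (hb : orderOf b = 5) (hbK : b ∈ Kgrp θ t) (hx : x ∈ Kgrp θ t)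
    (hc : x * b = b * x) : ∃ (i : ℤ) (v : G), MemV θ t v ∧ x = b ^ i * v := by
  obtain ⟨b', hb'⟩ : ∃ b' : Kgrp θ t, (b' : G) = b := ⟨⟨b, hbK⟩, rfl⟩
  obtain ⟨q, hqd⟩ : ∃ q : Kgrp θ t ⧸ T.Vk, q = b' := ⟨_, rfl⟩
  have hq : orderOf q = 5 := hqd ▸ T.orderOf_quot_five (hb' ▸ hb)
  have heq : Subgroup.zpowers q = Subgroup.centralizer (Subgroup.zpowers q : Set (Kgrp θ t ⧸ T.Vk)) :=
    Subgroup.eq_of_le_of_card_ge (zpowers_le_cent q)
      (by rw [T.card_cent_five_quot hq, Nat.card_zpowers, hq])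
  have hxC : ((⟨x, hx⟩ : Kgrp θ t) : Kgrp θ t ⧸ T.Vk) ∈ Subgroup.zpowers q := by
    rw [heq, mem_cent_zpowers, hqd, ← QuotientGroup.mk_mul, ← QuotientGroup.mk_mul]
    exact congrArg _ (Subtype.ext (by rw [Subgroup.coe_mul, Subgroup.coe_mul, hb']; exact hc))
  obtain ⟨i, hi⟩ := Subgroup.mem_zpowers_iff.1 hxC
  rw [hqd, ← QuotientGroup.mk_zpow, QuotientGroup.eq] at hi
  refine ⟨i, _, T.mem_Vk.1 hi, ?_⟩
  rw [Subgroup.coe_mul, Subgroup.coe_inv, SubgroupClass.coe_zpow, hb']
  group

end Four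

end CfsgLib.SuzType
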