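import Cfsg.Agent.SuzType.Invol

/-!
# A four group of anisotropic involutions and its centralizer in `C(z)`
-/

set_option autoImplicit false

namespace CfsgLib.SuzType

open CfsgLib.LargeExtraspecial

/-- The reflection in `12`. -/
def r12 (v : V6) : V6 := rf (mk6 12) v

theorem r12_facts : (∀ v : V6, r12 (r12 v) = v) ∧
    code6 r12 ∉ tList ∧
    ∀ l ∈ tList, code6 (fun v => r12 (app6 l (r12 v))) ∈ tList := by decide +kernel

theorem r12_iso : IsIso6 r12 := by
  constructor <;> (unfold r12; decide +kernel)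

/-- The conditions on classes to centralise a standard involution. -/
abbrev Tcond (A U : V6) : Prop :=
  b6 A a0 = xor (b6 A u0) (b6 U a0) ∧ b6 U u0 = xor (b6 A u0) (b6 U a0)

theorem inU_span : ∀ v : V6, InU v → v = sm (b6 v (mk6 8)) (mk6 4) + sm (b6 v (mk6 4)) (mk6 8) +
    sm (b6 v (mk6 32)) (mk6 16) + sm (b6 v (mk6 16)) (mk6 32) := by decide +kernel

theorem hyp_cases : ∀ y1 : V6, InU y1 → ∀ y2 : V6, InU y2 → q6 y1 = false → q6 y2 = false →
    b6 y1 y2 = true → b6 y1 a0 = false → b6 y1 u0 = false → b6 y2 a0 = false → b6 y2 u0 = false →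
    y1 = mk6 4 ∧ y2 = mk6 8 ∨ y1 = mk6 8 ∧ y2 = mk6 4 := by decide +kernel

theorem sie_image : ∀ v : V6, sie u0 v + v = 0 ∨ sie u0 v + v = s0 ∨ q6 (sie u0 v + v) = true := by
  decide +kernel

theorem sie_image_s0 : sie u0 (mk6 16) + mk6 16 = s0 := by decide

theorem sigma_facts : okPair (16, 32) = true ∧ pr (16, 32) s0 = s0 ∧
    pr (16, 32) a0 = u0 ∧ pr (16, 32) u0 = mk6 48 ∧ pr (16, 32) (mk6 48) = a0 ∧
    pr (16, 32) d0 = d0 ∧ (∀ v : V6, pr (16, 32) (pr (16, 32) (pr (16, 32) v)) = v) ∧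
    (∀ v : V6, InU v → pU (pr (16, 32) v) = pr (16, 32) v) := by decide +kernel

theorem pair48 : q6 (mk6 48) = true ∧ a0 + u0 = mk6 48 ∧ u0 + mk6 48 = a0 ∧ b6 (mk6 48) u0 = true := by
  decide

theorem card_Tcond : (Finset.univ.filter
    fun p : V6 × V6 => InU p.1 ∧ InU p.2 ∧ Tcond p.1 p.2).card = 64 := by decide +kernel

namespace Data

variable {G : Type*} [Group G] [Finite G] {z : G} {Q : Subgroup G} {π : G → V6} (D : Data z Q π)
include D

/-- `C(z)` induces no reflection. -/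
theorem no_r12 {c : G} (hc : c * z = z * c) : ¬ ∀ v, D.act c v = r12 v := by
  classical
  intro hact
  have : Fact (Nat.Prime 2) := ⟨Nat.prime_two⟩
  obtain ⟨hinv, hnot, hconj⟩ := r12_facts
  obtain ⟨S, hS⟩ := D.exists_sylow_image
  set cc : ↥(Subgroup.centralizer ({z} : Set G)) :=
    ⟨c, Subgroup.mem_centralizer_singleton_iff.2 hc⟩
  have hci : c⁻¹ * z = z * c⁻¹ := (Commute.inv_left hc).eq
  have hacti : ∀ v, D.act c⁻¹ v = r12 v := fun v => by
    conv_lhs => rw [← hinv v, ← hact, ← D.act_mul hci hc, inv_mul_cancel, D.act_one]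
  obtain ⟨S', hS'⟩ : ∃ S' : Set ↥(Subgroup.centralizer ({z} : Set G)),
      ∀ x, x ∈ S' ↔ code6 (D.act (x : G)) ∈ tList :=
    ⟨{x | code6 (D.act (x : G)) ∈ tList}, fun x => Iff.rfl⟩
  have hcl : ∀ x ∈ S', cc * x * cc⁻¹ ∈ S' := by
    intro x hx
    rw [hS'] at hx ⊢
    have hxz := Subgroup.mem_centralizer_singleton_iff.1 x.2
    have e : code6 (D.act ((cc * x * cc⁻¹ : ↥(Subgroup.centralizer ({z} : Set G))) : G)) =
        code6 (fun v => r12 (app6 (code6 (D.act (x : G))) (r12 v))) := by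
      congr 1
      funext v
      show D.act (c * (x : G) * c⁻¹) v = _
      rw [D.act_mul (Commute.mul_left hc hxz).eq hci, D.act_mul hc hxz, hact, hacti,
        (D.act_iso hxz).app6_code]
    rw [e]
    exact hconj _ hx
  have hsub : (S : Set ↥(Subgroup.centralizer ({z} : Set G))) ⊆ S' := fun x hx => (hS' x).2 (hS x hx)
  have hQle : Q ≤ Subgroup.centralizer ({z} : Set G) := D.sub.le_centralizer
  have hcard : Nat.card S' ≤ 8192 := by
    let R : List V6 → ↥(Subgroup.centralizer ({z} : Set G)) := fun l =>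
      if h : ∃ x : S', code6 (D.act ((x : ↥(Subgroup.centralizer ({z} : Set G))) : G)) = l
      then h.choose.1 else 1
    have hR : ∀ x : S', ((R (code6 (D.act ((x : ↥(Subgroup.centralizer ({z} : Set G))) : G))) :
        G))⁻¹ * ((x : ↥(Subgroup.centralizer ({z} : Set G))) : G) ∈ Q := by
      intro x
      have h : ∃ y : S', code6 (D.act ((y : ↥(Subgroup.centralizer ({z} : Set G))) : G)) =
          code6 (D.act ((x : ↥(Subgroup.centralizer ({z} : Set G))) : G)) := ⟨x, rfl⟩
      simp only [R, dif_pos h]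
      have hyz := Subgroup.mem_centralizer_singleton_iff.1 h.choose.1.2
      have hxz := Subgroup.mem_centralizer_singleton_iff.1 x.1.2
      have hyi := (Commute.inv_left hyz).eq
      refine D.mem_of_act (Commute.mul_left hyi hxz).eq fun v => ?_
      have hspec := h.choose_spec
      obtain ⟨y, hy⟩ : ∃ y, y = ((h.choose.1 : ↥(Subgroup.centralizer ({z} : Set G))) : G) :=
        ⟨_, rfl⟩
      rw [← hy] at hspec hyz hyi ⊢
      rw [D.act_mul hyi hxz, ← (D.act_iso hxz).app6_code v, ← hspec,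
        (D.act_iso hyz).app6_code, ← D.act_mul hyi hyz, inv_mul_cancel, D.act_one]
    have h := Nat.card_le_card_of_injective (fun x : S' =>
      ((⟨_, List.mem_toFinset.2 ((hS' x.1).1 x.2)⟩ : tList.toFinset),
        (⟨_, hR x⟩ : Q))) fun a b h => by
      simp only [Prod.mk.injEq, Subtype.mk.injEq] at h
      obtain ⟨h1, h2⟩ := h
      rw [h1] at h2
      exact Subtype.ext (Subtype.ext (mul_left_cancel h2))
    rw [Nat.card_prod, Nat.card_eq_finsetCard, List.toFinset_card_of_nodup tList_card.2,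
      tList_card.1, D.card] at h
    exact h
  have hfac : (2 ^ 13 * 405 : ℕ).factorization 2 = 13 := by
    rw [Nat.factorization_mul (by norm_num) (by norm_num), Finsupp.add_apply,
      Nat.Prime.factorization_pow Nat.prime_two, Finsupp.single_eq_same,
      Nat.factorization_eq_zero_of_not_dvd (by norm_num : ¬ 2 ∣ 405)]
  have hScard : Nat.card S = 8192 := by rw [S.card_eq_multiplicity, D.card_cent, hfac]; norm_num
  have heq : (S : Set ↥(Subgroup.centralizer ({z} : Set G))) = S' :=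
    Set.eq_of_subset_of_ncard_le hsub (by
      rw [← Nat.card_coe_set_eq, ← Nat.card_coe_set_eq]
      exact hcard.trans hScard.ge) (Set.toFinite _)
  have hnorm : cc ∈ Subgroup.normalizer
      ((S : Subgroup ↥(Subgroup.centralizer ({z} : Set G))) : Set _) := by
    rw [Subgroup.mem_normalizer_iff]
    intro x
    have heq' : ∀ y, y ∈ (S : Subgroup ↥(Subgroup.centralizer ({z} : Set G))) ↔ y ∈ S' :=
      fun y => Set.ext_iff.1 heq y
    refine ⟨fun hx => (heq' _).2 (hcl x ((heq' x).1 hx)), fun hx => ?_⟩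
    · have h1 := (heq' _).2 (hcl _ ((heq' _).1 hx))
      have hc2 : cc * cc ∈ (S : Subgroup _) := by
        show cc * cc ∈ (S : Set _)
        rw [heq, hS']
        have : code6 (D.act (c * c)) = basis6 := by
          conv_rhs => rw [← List.map_id basis6]
          refine List.map_congr_left fun v _ => ?_
          rw [D.act_mul hc hc, hact, hact, hinv]; rfl
        show code6 (D.act (c * c)) ∈ tList
        rw [this]; exact basis6_mem
      have h2 := mul_mem (mul_mem (inv_mem hc2) (h1 : cc * (cc * x * cc⁻¹) * cc⁻¹ ∈ (S : Subgroup _))) hc2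
      simpa [mul_assoc] using h2
  have hp : IsPGroup 2 (Subgroup.zpowers cc) := by
    have h4 : cc ^ 8 = 1 := by
      apply Subtype.ext
      show c ^ 8 = 1
      have hQ : c * c ∈ Q := D.mem_of_act (Commute.mul_left hc hc).eq fun v => by
        rw [D.act_mul hc hc, hact, hact, hinv]
      rcases D.sub.sq_eq hQ with e | e
      · rw [show c ^ 8 = (c * c * (c * c)) * (c * c * (c * c)) by simp [pow_succ, mul_assoc], e, one_mul]
      · rw [show c ^ 8 = (c * c * (c * c)) * (c * c * (c * c)) by simp [pow_succ, mul_assoc], e, D.sub.mul_self]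
    obtain ⟨k, -, hk⟩ := (Nat.dvd_prime_pow Nat.prime_two).1
      (orderOf_dvd_of_pow_eq_one (show cc ^ 2 ^ 3 = 1 by norm_num [h4]))
    exact IsPGroup.of_card (n := k) (by rw [Nat.card_zpowers, hk])
  have hmax := S.is_maximal' (IsPGroup.to_sup_of_normal_right' hp S.isPGroup'
    (Subgroup.zpowers_le.2 hnorm)) le_sup_right
  have hccS : cc ∈ (S : Subgroup _) := hmax ▸ Subgroup.mem_sup_left (Subgroup.mem_zpowers cc)
  have := hS cc hccS
  rw [show code6 (D.act ((cc : ↥(Subgroup.centralizer ({z} : Set G))) : G)) = code6 r12 from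
    congrArg code6 (funext hact)] at this
  exact hnot this

end Data

namespace Frame

variable {G : Type*} [Group G] [Finite G] {z s : G} {Q P : Subgroup G} {π : G → V6}
  (F : Frame z Q π P s)
include F

theorem Cl.act_eq {x : G} {A U : V6} (h : F.Cl x A U) (v : V6) : F.data.act x v = sie U v := by
  obtain ⟨a, w, ha, -, hw, hwz, -, rfl, rfl⟩ := h
  rw [F.data.act_mul (F.data.Q_comm ha) hwz, F.data.act_of_mem ha, F.act_W hw hwz]

/-- The centralizer of a standard involution in `C(z) ∩ C(s)`. -/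
theorem comm_t_iff {t : G} (ht : F.Cl t a0 u0) {c : G} :
    (c * z = z * c ∧ c * s = s * c ∧ c * t = t * c) ↔ ∃ A U, F.Cl c A U ∧ Tcond A U := by
  constructor
  · rintro ⟨hc, hcs, hct⟩
    suffices h : ∀ v, InU v → pU (F.data.act c v) = v by
      obtain ⟨A, U, hcl⟩ := F.exists_cl_of_triv hc hcs h
      exact ⟨A, U, hcl, (ht.commute_iff hcl).1 hct⟩
    obtain ⟨f, hf⟩ : ∃ f, f = F.data.act c := ⟨_, rfl⟩
    have hiso : IsIso6 f := hf ▸ F.data.act_iso hc
    have hs : f s0 = s0 := hf ▸ F.act_s hc hcs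
    obtain ⟨hfa, hfu⟩ := (ht.conjC hc hcs).unique (mul_inv_eq_iff_eq_mul.2 hct ▸ ht :)
    rw [← hf] at hfa hfu
    have i4 : InU (mk6 4) := by decide
    have i8 : InU (mk6 8) := by decide
    have o4 := (inU_orth _ i4).1
    have o8 := (inU_orth _ i8).1
    have oa := (inU_orth _ std_pair.1).1
    have ou := (inU_orth _ std_pair.2.1).1
    rcases hyp_cases _ (pU_pU (f (mk6 4))) _ (pU_pU (f (mk6 8)))
      (by rw [hiso.q6_pU_map hs o4]; decide) (by rw [hiso.q6_pU_map hs o8]; decide)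
      (by rw [hiso.b6_pU_map hs o4 o8]; decide)
      (by rw [← hfa, hiso.b6_pU_map hs o4 oa]; decide)
      (by rw [← hfu, hiso.b6_pU_map hs o4 ou]; decide)
      (by rw [← hfa, hiso.b6_pU_map hs o8 oa]; decide)
      (by rw [← hfu, hiso.b6_pU_map hs o8 ou]; decide) with ⟨h4, h8⟩ | ⟨h4, h8⟩
    · intro v hv
      have h16 : pU (f (mk6 16)) = mk6 16 := hfa
      have h32 : pU (f (mk6 32)) = mk6 32 := hfu
      have hsm : ∀ (b : Bool) (w : V6), pU (sm b w) = sm b (pU w) := fun b w => by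
        cases b <;> simp [sm, pU_zero]
      rw [← hf]
      conv_lhs => rw [inU_span v hv]
      conv_rhs => rw [inU_span v hv]
      simp only [hiso.add, hiso.map_sm, pU_add, hsm, h4, h8, h16, h32]
    · exfalso
      obtain ⟨g, hg⟩ : ∃ g : V6 → V6, g = fun v => r12 (f v) := ⟨_, rfl⟩
      have hgiso : IsIso6 g := hg ▸ ⟨fun a b => by simp [hiso.add, r12_iso.add],
        fun a => by simp [hiso.quad, r12_iso.quad]⟩
      have hgs : g s0 = s0 := by rw [hg]; dsimp only; rw [hs]; decide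
      have hr : ∀ w : V6, pU (r12 w) = r12 (pU w) := by unfold r12; decide +kernel
      have hgU : ∀ v, InU v → pU (g v) = v := by
        intro v hv
        have h16 : r12 (pU (f (mk6 16))) = mk6 16 :=
          (congrArg r12 (hfa : pU (f (mk6 16)) = mk6 16)).trans (by decide)
        have h32 : r12 (pU (f (mk6 32))) = mk6 32 :=
          (congrArg r12 (hfu : pU (f (mk6 32)) = mk6 32)).trans (by decide)
        have h4' : r12 (pU (f (mk6 4))) = mk6 4 := (congrArg r12 h4).trans (by decide)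
        have h8' : r12 (pU (f (mk6 8))) = mk6 8 := (congrArg r12 h8).trans (by decide)
        have hsm : ∀ (b : Bool) (w : V6), pU (sm b w) = sm b (pU w) := fun b w => by
          cases b <;> simp [sm, pU_zero]
        rw [hg]
        dsimp only
        rw [hr]
        conv_lhs => rw [inU_span v hv]
        conv_rhs => rw [inU_span v hv]
        simp only [hiso.add, hiso.map_sm, pU_add, hsm, r12_iso.add, r12_iso.map_sm, h4', h8', h16,
          h32]
      have hgsie := hgiso.eq_sie hgs (fun x hx => pU_eq_zero _ (by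
        rw [pU_add, ← hgiso.pU_map_pU hgs hx, hgU _ (pU_pU x), add_self6])
        (by rw [b6_add_left, hx, hgiso.orth_s0 hgs hx]; rfl))
      obtain ⟨w, hw, hwz, hwu⟩ := F.exists_ups (pU_pU (g d0))
      have hwi : w⁻¹ * z = z * w⁻¹ := (Commute.inv_left hwz).eq
      refine F.data.no_r12 (Commute.mul_left hc hwi).eq fun v => ?_
      have h1 : g (F.data.act w⁻¹ v) = v := by
        rw [hgsie, ← hwu, ← F.act_W hw hwz, ← F.data.act_mul hwz hwi, mul_inv_cancel, F.data.act_one]
      rw [hg] at h1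
      dsimp only at h1
      rw [F.data.act_mul hc hwi, ← hf]
      conv_rhs => rw [← h1, r12_facts.1]
  · rintro ⟨A, U, h, hT⟩
    exact ⟨h.comm_z, h.comm_s, (ht.commute_iff h).2 hT⟩

theorem card_cent_zst {t : G} (ht : F.Cl t a0 u0) :
    Nat.card {c : G // c * z = z * c ∧ c * s = s * c ∧ c * t = t * c} = 256 := by
  rw [Nat.card_congr (Equiv.subtypeEquivRight fun c => F.comm_t_iff ht), F.card_cl Tcond, card_Tcond]

/-- An element of `C(z) ∩ C(t)` fixes `⟨z, s⟩`. -/
theorem comm_zt_cases {t c : G} (ht : F.Cl t a0 u0) (hc : c * z = z * c) (hct : c * t = t * c) :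
    c * s * c⁻¹ = s ∨ c * s * c⁻¹ = z * s := by
  have hiso := F.data.act_iso hc
  have hcomm : ∀ v, F.data.act c (sie u0 v) = sie u0 (F.data.act c v) := fun v => by
    rw [← Cl.act_eq F ht, ← Cl.act_eq F ht, ← F.data.act_mul hc ht.comm_z, hct,
      F.data.act_mul ht.comm_z hc]
  have himg : F.data.act c s0 = sie u0 (F.data.act c (mk6 16)) + F.data.act c (mk6 16) := by
    rw [← hcomm, ← hiso.add, sie_image_s0]
  have hfs : F.data.act c s0 = s0 := by
    rcases sie_image (F.data.act c (mk6 16)) with e | e | e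
    · exfalso
      rw [← himg] at e
      have h : F.data.act c⁻¹ (F.data.act c s0) = F.data.act c⁻¹ 0 := by rw [e]
      rw [← F.data.act_mul (Commute.inv_left hc).eq hc, inv_mul_cancel, F.data.act_one,
        (F.data.act_iso (Commute.inv_left hc).eq).zero] at h
      exact s0_ne_zero h
    · rw [himg, e]
    · rw [← himg, hiso.quad, q6_s0] at e
      exact Bool.noConfusion e
  rw [← F.π_s, F.data.act_π hc F.pair.mem] at hfs
  exact F.data.eq_or_eq_of_π_eq F.pair.mem (F.data.sub.conj_mem hc F.pair.mem) hfs.symm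

theorem exists_m {t : G} (ht : F.Cl t a0 u0) :
    ∃ m, m * z = z * m ∧ m * t = t * m ∧ m * s * m⁻¹ = z * s := by
  obtain ⟨q, hq, hqz, hqs, -, hqb⟩ := F.exists_not_comm
  have ht' := ht.conjQ hq hqb
  rw [pair48.2.1] at ht'
  obtain ⟨c, hc, hcs, hct⟩ := F.exists_conj_eq ht ht' pair48.1 std_pair.2.2.2.1 pair48.2.2.2
  have hci : c⁻¹ * z = z * c⁻¹ := (Commute.inv_left hc).eq
  refine ⟨c⁻¹ * q, (Commute.mul_left hci hqz).eq, mul_inv_eq_iff_eq_mul.1 ?_, ?_⟩
  · rw [show c⁻¹ * q * t * (c⁻¹ * q)⁻¹ = c⁻¹ * (q * t * q⁻¹) * c by group, ← hct]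
    group
  · rw [show c⁻¹ * q * s * (c⁻¹ * q)⁻¹ = c⁻¹ * (q * s * q⁻¹) * c by group, hqs,
      mul_assoc, ← (Commute.mul_right hc hcs).eq]
    group

theorem card_cent_zt {t : G} (ht : F.Cl t a0 u0) :
    Nat.card {c : G // c * z = z * c ∧ c * t = t * c} = 512 := by
  classical
  obtain ⟨m, hmz, hmt, hms⟩ := F.exists_m ht
  obtain ⟨-, -, -, -, -, hzss⟩ := F.zs_facts
  have hmi : m⁻¹ * (z * s) * m = s := by rw [← hms]; group
  let f : {c : G // c * z = z * c ∧ c * t = t * c} →
      {c : G // c * z = z * c ∧ c * s = s * c ∧ c * t = t * c} × Bool := fun c =>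
    if h : c.1 * s = s * c.1 then (⟨c.1, c.2.1, h, c.2.2⟩, false) else
      (⟨m⁻¹ * c.1, (Commute.mul_left (Commute.inv_left hmz) c.2.1).eq,
        mul_inv_eq_iff_eq_mul.1 (by
          have hc := (F.comm_zt_cases ht c.2.1 c.2.2).resolve_left
            fun e => h (mul_inv_eq_iff_eq_mul.1 e)
          rw [show m⁻¹ * c.1 * s * (m⁻¹ * c.1)⁻¹ = m⁻¹ * (c.1 * s * c.1⁻¹) * m by group, hc, hmi]),
        (Commute.mul_left (Commute.inv_left hmt) c.2.2).eq⟩, true)
  have hf : Function.Bijective f := by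
    constructor
    · intro a b h
      simp only [f] at h
      split at h <;> split at h <;>
        simp only [Prod.mk.injEq, Subtype.mk.injEq, Bool.true_eq_false, Bool.false_eq_true,
          and_false, and_true] at h
      · exact Subtype.ext h
      · exact Subtype.ext (mul_left_cancel h)
    · rintro ⟨⟨d, hdz, hds, hdt⟩, b⟩
      cases b
      · exact ⟨⟨d, hdz, hdt⟩, by simp [f, hds]⟩
      · have hne : ¬ m * d * s = s * (m * d) := fun e => hzss (by
          have h1 := mul_inv_eq_iff_eq_mul.2 e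
          rw [show m * d * s * (m * d)⁻¹ = m * (d * s * d⁻¹) * m⁻¹ by group,
            mul_inv_eq_iff_eq_mul.2 hds, hms] at h1
          exact h1)
        refine ⟨⟨m * d, (Commute.mul_left hmz hdz).eq, (Commute.mul_left hmt hdt).eq⟩, ?_⟩
        simp [f, hne]
  rw [Nat.card_eq_of_bijective f hf, Nat.card_prod, F.card_cent_zst ht,
    Nat.card_eq_fintype_card (α := Bool), Fintype.card_bool]

end Frame

/-- An element `θ` of order three centralising `z, s` and an anisotropic involution `t`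
which with `θ` generates a four group. -/
structure Four {G : Type*} [Group G] (z : G) (Q : Subgroup G) (π : G → V6) (P : Subgroup G)
    (s θ t : G) : Prop where
  frame : Frame z Q π P s
  θ_comm_z : θ * z = z * θ
  θ_comm_s : θ * s = s * θ
  θ_cube : θ * θ * θ = 1
  θ_act : ∀ v, frame.data.act θ v = pr (16, 32) v
  cl : frame.Cl t a0 u0
  rel : t * (θ * t * θ⁻¹) = θ * θ * t * (θ * θ)⁻¹

theorem exists_four {G : Type*} [Group G] [Finite G] {z s : G} {Q P : Subgroup G} {π : G → V6}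
    (F : Frame z Q π P s) : ∃ θ t, Four z Q π P s θ t := by
  obtain ⟨hok, hs0, ha, hu, h48, -, hcube, hpU⟩ := sigma_facts
  obtain ⟨c, hc, hcs, hact⟩ := F.exists_pr hok hs0
  have hc3 : c * c * c * z = z * (c * c * c) :=
    (Commute.mul_left (Commute.mul_left hc hc) hc).eq
  have hQ : c * c * c ∈ Q := F.data.mem_of_act hc3 fun v => by
    rw [F.data.act_mul (Commute.mul_left hc hc).eq hc, F.data.act_mul hc hc, hact, hact, hact, hcube]
  have h12 : c * c * c * (c * c * c) * (c * c * c * (c * c * c)) = 1 := by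
    rcases F.data.sub.sq_eq hQ with e | e
    · rw [e, one_mul]
    · rw [e, F.data.sub.mul_self]
  obtain ⟨θ, hθ⟩ : ∃ θ, θ = c * c * c * c := ⟨_, rfl⟩
  have hθz : θ * z = z * θ := by rw [hθ]; exact (Commute.mul_left hc3 hc).eq
  have hθs : θ * s = s * θ := by
    rw [hθ]; exact (Commute.mul_left (Commute.mul_left (Commute.mul_left hcs hcs) hcs) hcs).eq
  have hθ3 : θ * θ * θ = 1 := by rw [← h12, hθ]; group
  have hθact : ∀ v, F.data.act θ v = pr (16, 32) v := fun v => by
    rw [hθ, F.data.act_mul hc3 hc, F.data.act_mul (Commute.mul_left hc hc).eq hc,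
      F.data.act_mul hc hc, hact, hact, hact, hact, hcube]
  obtain ⟨t0, ht0⟩ := F.exists_cl std_pair.1 std_pair.2.1
  have h1 := ht0.conjC hθz hθs
  rw [hθact, hθact, hpU _ std_pair.1, hpU _ std_pair.2.1, ha, hu] at h1
  have h2 := h1.conjC hθz hθs
  rw [hθact, hθact, hpU _ std_pair.2.1, hpU _ (by decide), hu, h48] at h2
  have h3 := ht0.mul h1
  rw [pair48.2.1, pair48.2.2.1] at h3
  obtain ⟨i, j, e⟩ := h2.eq_zE_mul h3
  refine ⟨θ, zE z s i j * t0, F, hθz, hθs, hθ3, hθact, ht0.zE_mul_left i j, ?_⟩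
  have hEθ := F.zE_conj hθz hθs i j
  have hEt := F.zE_comm ht0.comm_z ht0.comm_s i j
  have e1 : zE z s i j * t0 * (θ * (zE z s i j * t0) * θ⁻¹) = t0 * (θ * t0 * θ⁻¹) := by
    rw [show θ * (zE z s i j * t0) * θ⁻¹ = θ * zE z s i j * θ⁻¹ * (θ * t0 * θ⁻¹) by group, hEθ,
      ← hEt, mul_assoc, ← mul_assoc (zE z s i j), F.zE_mul_self, one_mul]
  rw [e1, e, show θ * θ * (zE z s i j * t0) * (θ * θ)⁻¹ =
    θ * (θ * zE z s i j * θ⁻¹) * θ⁻¹ * (θ * (θ * t0 * θ⁻¹) * θ⁻¹) by group, hEθ, hEθ]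

namespace Four

variable {G : Type*} [Group G] [Finite G] {z s θ t : G} {Q P : Subgroup G} {π : G → V6}
  (T : Four z Q π P s θ t)
include T

theorem cl1 : T.frame.Cl (θ * t * θ⁻¹) u0 (mk6 48) := by
  obtain ⟨-, -, ha, hu, -, -, -, hpU⟩ := sigma_facts
  have h := T.cl.conjC T.θ_comm_z T.θ_comm_s
  rwa [T.θ_act, T.θ_act, hpU _ std_pair.1, hpU _ std_pair.2.1, ha, hu] at h

theorem t_sq : t * t = 1 :=
  T.cl.sq_eq_one_iff.2 ⟨by decide, by decide⟩

theorem t_ne_one : t ≠ 1 := fun e => by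
  subst e
  exact a0_ne.1 (T.cl.unique T.frame.cl_one).1

theorem not_isConj_z : ¬ IsConj z t :=
  T.frame.not_isConj_aniso T.cl std_pair.2.2.1 std_pair.2.2.2.1 std_pair.2.2.2.2

theorem t1_sq : θ * t * θ⁻¹ * (θ * t * θ⁻¹) = 1 := by
  rw [show θ * t * θ⁻¹ * (θ * t * θ⁻¹) = θ * (t * t) * θ⁻¹ by group, T.t_sq]; group

theorem comm_t1 : t * (θ * t * θ⁻¹) = θ * t * θ⁻¹ * t := by
  have h : t * (θ * t * θ⁻¹) * (t * (θ * t * θ⁻¹)) = 1 := by
    rw [T.rel, show θ * θ * t * (θ * θ)⁻¹ * (θ * θ * t * (θ * θ)⁻¹) =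
      θ * θ * (t * t) * (θ * θ)⁻¹ by group, T.t_sq]; group
  calc t * (θ * t * θ⁻¹) = (t * (θ * t * θ⁻¹))⁻¹ := eq_inv_of_mul_eq_one_left h
    _ = (θ * t * θ⁻¹)⁻¹ * t⁻¹ := mul_inv_rev _ _
    _ = _ := by rw [inv_eq_of_mul_eq_one_right T.t1_sq, inv_eq_of_mul_eq_one_right T.t_sq]

/-- Centralising `z`, `s` and `t` implies centralising the four group. -/
theorem comm_t1_of_zst {c : G} (hc : c * z = z * c) (hcs : c * s = s * c) (hct : c * t = t * c) :
    c * (θ * t * θ⁻¹) = θ * t * θ⁻¹ * c := by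
  obtain ⟨A, U, h, h1, h2⟩ := (T.frame.comm_t_iff T.cl).1 ⟨hc, hcs, hct⟩
  refine (T.cl1.commute_iff h).2 ?_
  have e : mk6 48 = a0 + u0 := pair48.2.1.symm
  rw [e, b6_add_right, b6_add_right]
  revert h1 h2
  cases b6 A a0 <;> cases b6 A u0 <;> cases b6 U a0 <;> cases b6 U u0 <;> simp

end Four

end CfsgLib.SuzType
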