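import Cfsg.Agent.SuzType.Rho

/-!
# The centralizer `K` of the four group and its Sylow two subgroup
-/

set_option autoImplicit false

namespace CfsgLib.SuzType

open CfsgLib.LargeExtraspecial

/-- The classes of the four group. -/
def fourList : List (V6 × V6) :=
  [(0, 0), (mk6 16, mk6 32), (mk6 32, mk6 48), (mk6 48, mk6 16)]

/-- The isotropic class pairs of the centralizer of the four group. -/
def isoList : List (V6 × V6) :=
  [(0, 0), (mk6 4, 0), (mk6 8, 0), (0, mk6 4), (0, mk6 8), (mk6 4, mk6 4), (mk6 8, mk6 8)]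

/-- The commutation condition of two class pairs. -/
abbrev Ccond (A U A' U' : V6) : Prop :=
  b6 A' A = xor (b6 A' U) (b6 U' A) ∧ b6 U' U = xor (b6 A' U) (b6 U' A)

/-- Test classes for the center. -/
def testList : List (V6 × V6) := [(mk6 4, 0), (mk6 8, 0), (0, mk6 4), (0, mk6 8)]

theorem center_classes' : ∀ A : V6, InU A → ∀ U : V6, InU U → Tcond A U →
    (testList.all fun p => decide (Ccond A U p.1 p.2)) = true →
    fourList.contains (A, U) = true := by decide +kernel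

theorem center_classes {A U : V6} (hA : InU A) (hU : InU U) (hT : Tcond A U)
    (h : ∀ p ∈ testList, Ccond A U p.1 p.2) : (A, U) ∈ fourList :=
  List.contains_iff_mem.1 (center_classes' A hA U hU hT
    (List.all_eq_true.2 fun p hp => decide_eq_true (h p hp)))

theorem four_test : ∀ p ∈ testList, InU p.1 ∧ InU p.2 ∧ Tcond p.1 p.2 := by
  have h : (testList.all fun p => decide (InU p.1 ∧ InU p.2 ∧ Tcond p.1 p.2)) = true := by
    decide +kernel
  exact fun p hp => of_decide_eq_true (List.all_eq_true.1 h p hp)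

theorem four_aniso : ∀ p ∈ fourList, p = (0, 0) ∨ q6 p.2 = true := by
  have h : (fourList.all fun p => decide (p = (0, 0) ∨ q6 p.2 = true)) = true := by decide +kernel
  exact fun p hp => of_decide_eq_true (List.all_eq_true.1 h p hp)

theorem four_Tcond : ∀ p ∈ fourList, Tcond p.1 p.2 := by
  have h : (fourList.all fun p => decide (Tcond p.1 p.2)) = true := by decide +kernel
  exact fun p hp => of_decide_eq_true (List.all_eq_true.1 h p hp)

theorem split_classes' : ∀ A : V6, InU A → ∀ U : V6, InU U → Tcond A U → q6 A = b6 A U →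
    q6 U = b6 A U → (fourList.any fun p => isoList.contains (A + p.1, U + p.2)) = true := by
  decide +kernel

theorem split_classes {A U : V6} (hA : InU A) (hU : InU U) (hT : Tcond A U) (h1 : q6 A = b6 A U)
    (h2 : q6 U = b6 A U) : ∃ p ∈ fourList, (A + p.1, U + p.2) ∈ isoList := by
  obtain ⟨p, hp, h⟩ := List.any_eq_true.1 (split_classes' A hA U hU hT h1 h2)
  exact ⟨p, hp, List.contains_iff_mem.1 h⟩

theorem iso_classes' : ∀ A : V6, InU A → ∀ U : V6, InU U → Tcond A U → q6 A = b6 A U →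
    q6 U = b6 A U → q6 U = false → isoList.contains (A, U) = true := by decide +kernel

theorem iso_classes {A U : V6} (hA : InU A) (hU : InU U) (hT : Tcond A U) (h1 : q6 A = b6 A U)
    (h2 : q6 U = b6 A U) (h3 : q6 U = false) : (A, U) ∈ isoList :=
  List.contains_iff_mem.1 (iso_classes' A hA U hU hT h1 h2 h3)

/-- The centralizer of the four group. -/
def Kgrp {G : Type*} [Group G] (θ t : G) : Subgroup G :=
  Subgroup.centralizer ({t, θ * t * θ⁻¹} : Set G)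

/-- The four group as a set. -/
def MemV {G : Type*} [Group G] (θ t v : G) : Prop :=
  v = 1 ∨ v = t ∨ v = θ * t * θ⁻¹ ∨ v = t * (θ * t * θ⁻¹)

theorem mem_Kgrp {G : Type*} [Group G] {θ t c : G} :
    c ∈ Kgrp θ t ↔ c * t = t * c ∧ c * (θ * t * θ⁻¹) = θ * t * θ⁻¹ * c := by
  rw [Kgrp, Subgroup.mem_centralizer_iff]
  simp only [Set.mem_insert_iff, Set.mem_singleton_iff, forall_eq_or_imp, forall_eq]
  exact and_congr eq_comm eq_comm

theorem MemV.comm {G : Type*} [Group G] {θ t v c : G} (hv : MemV θ t v) (hc : c ∈ Kgrp θ t) :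
    c * v = v * c := by
  obtain ⟨h1, h2⟩ := mem_Kgrp.1 hc
  rcases hv with r | r | r | r <;> rw [r]
  · rw [mul_one, one_mul]
  · exact h1
  · exact h2
  · exact (Commute.mul_right h1 h2).eq

namespace Four

variable {G : Type*} [Group G] [Finite G] {z s θ t : G} {Q P : Subgroup G} {π : G → V6}
  (T : Four z Q π P s θ t)
include T

theorem cl_four {p : V6 × V6} (hp : p ∈ fourList) :
    ∃ v, MemV θ t v ∧ T.frame.Cl v p.1 p.2 := by
  simp only [fourList, List.mem_cons, List.not_mem_nil, or_false] at hp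
  rcases hp with rfl | rfl | rfl | rfl
  · exact ⟨1, Or.inl rfl, T.frame.cl_one⟩
  · exact ⟨t, Or.inr (Or.inl rfl), T.cl⟩
  · exact ⟨_, Or.inr (Or.inr (Or.inl rfl)), T.cl1⟩
  · have h := T.cl.mul T.cl1
    rw [pair48.2.1, pair48.2.2.1] at h
    exact ⟨_, Or.inr (Or.inr (Or.inr rfl)), h⟩

theorem memV_mem {v : G} (hv : MemV θ t v) : v ∈ Kgrp θ t := by
  have h1 : t ∈ Kgrp θ t := mem_Kgrp.2 ⟨rfl, T.comm_t1⟩
  have h2 : θ * t * θ⁻¹ ∈ Kgrp θ t := mem_Kgrp.2 ⟨T.comm_t1.symm, rfl⟩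
  rcases hv with r | r | r | r <;> rw [r]
  exacts [one_mem _, h1, h2, mul_mem h1 h2]

theorem memV_sq {v : G} (hv : MemV θ t v) : v * v = 1 := by
  rcases hv with r | r | r | r <;> rw [r]
  · exact one_mul 1
  · exact T.t_sq
  · exact T.t1_sq
  · rw [T.rel, show θ * θ * t * (θ * θ)⁻¹ * (θ * θ * t * (θ * θ)⁻¹) =
      θ * θ * (t * t) * (θ * θ)⁻¹ by group, T.t_sq]
    group

theorem memV_classes {v : G} (hv : MemV θ t v) :
    ∃ p ∈ fourList, T.frame.Cl v p.1 p.2 := by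
  rcases hv with r | r | r | r <;> subst r
  · exact ⟨(0, 0), by decide, T.frame.cl_one⟩
  · exact ⟨(mk6 16, mk6 32), by decide, T.cl⟩
  · exact ⟨(mk6 32, mk6 48), by decide, T.cl1⟩
  · have h := T.cl.mul T.cl1
    rw [pair48.2.1, pair48.2.2.1] at h
    exact ⟨(mk6 48, mk6 16), by decide, h⟩

theorem memV_t2 : θ * θ * t * (θ * θ)⁻¹ = t * (θ * t * θ⁻¹) := T.rel.symm

theorem z_mem_K : z ∈ Kgrp θ t := mem_Kgrp.2 ⟨T.cl.comm_z.symm, T.cl1.comm_z.symm⟩

theorem s_mem_K : s ∈ Kgrp θ t := mem_Kgrp.2 ⟨T.cl.comm_s.symm, T.cl1.comm_s.symm⟩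

theorem θ_normalizes {c : G} (hc : c ∈ Kgrp θ t) : θ * c * θ⁻¹ ∈ Kgrp θ t := by
  obtain ⟨h1, h2⟩ := mem_Kgrp.1 hc
  have e1 := (Commute.conj_iff θ).2 (show Commute c t from h1)
  have e2 := (Commute.conj_iff θ).2 (show Commute c (θ * t * θ⁻¹) from h2)
  have ht : θ * θ * t * (θ * θ)⁻¹ = θ * (θ * t * θ⁻¹) * θ⁻¹ := by group
  refine mem_Kgrp.2 ⟨?_, e1.eq⟩
  have e : t = θ * t * θ⁻¹ * (θ * (θ * t * θ⁻¹) * θ⁻¹) := by
    rw [← ht, T.memV_t2, ← mul_assoc, ← T.comm_t1, mul_assoc, T.t1_sq, mul_one]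
  rw [e]
  exact (e1.mul_right e2).eq

theorem rho_mem_K {ρ : G} (h1 : ρ * θ = θ * ρ) (h2 : ρ * t = t * ρ) : ρ ∈ Kgrp θ t :=
  mem_Kgrp.2 ⟨h2, (((show Commute ρ θ from h1).mul_right h2).mul_right (Commute.inv_right h1)).eq⟩

/-- Elements of `C(z) ∩ K` centralise `s`. -/
theorem comm_s_of_zK {c : G} (hc : c * z = z * c) (hK : c ∈ Kgrp θ t) : c * s = s * c := by
  have F := T.frame
  obtain ⟨hct, hct1⟩ := mem_Kgrp.1 hK
  refine mul_inv_eq_iff_eq_mul.1 ((F.comm_zt_cases T.cl hc hct).resolve_right fun hzs => ?_)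
  obtain ⟨q, hq, hqz, hqs, -, hqb⟩ := F.exists_not_comm
  obtain ⟨d, hd⟩ : ∃ d, d = q * c := ⟨_, rfl⟩
  have hdz : d * z = z * d := hd ▸ (Commute.mul_left hqz hc).eq
  have hds : d * s = s * d := by
    refine mul_inv_eq_iff_eq_mul.1 ?_
    rw [hd, show q * c * s * (q * c)⁻¹ = q * (c * s * c⁻¹) * q⁻¹ by group, hzs,
      show q * (z * s) * q⁻¹ = q * z * q⁻¹ * (q * s * q⁻¹) by group, F.conj_z_of_mem hq, hqs,
      ← mul_assoc, F.data.sub.mul_self, one_mul]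
  have e1 : d * t * d⁻¹ = q * t * q⁻¹ := by
    rw [hd, show q * c * t * (q * c)⁻¹ = q * (c * t * c⁻¹) * q⁻¹ by group,
      mul_inv_eq_iff_eq_mul.2 hct]
  have e2 : d * (θ * t * θ⁻¹) * d⁻¹ = q * (θ * t * θ⁻¹) * q⁻¹ := by
    rw [hd, show q * c * (θ * t * θ⁻¹) * (q * c)⁻¹ = q * (c * (θ * t * θ⁻¹) * c⁻¹) * q⁻¹ by group,
      mul_inv_eq_iff_eq_mul.2 hct1]
  have h1 := T.cl.conjC hdz hds
  have h2 := T.cl1.conjC hdz hds
  rw [e1] at h1
  rw [e2] at h2
  obtain ⟨-, r1⟩ := h1.unique (T.cl.conjQ hq hqb)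
  obtain ⟨r2, -⟩ := h2.unique (T.cl1.conjQ hq hqb)
  rw [r1, pair48.2.2.1] at r2
  exact a0_ne.2.2 r2.symm

theorem zK_iff {c : G} :
    (c * z = z * c ∧ c ∈ Kgrp θ t) ↔ (c * z = z * c ∧ c * s = s * c ∧ c * t = t * c) :=
  ⟨fun h => ⟨h.1, T.comm_s_of_zK h.1 h.2, (mem_Kgrp.1 h.2).1⟩,
    fun h => ⟨h.1, mem_Kgrp.2 ⟨h.2.2, T.comm_t1_of_zst h.1 h.2.1 h.2.2⟩⟩⟩

omit [Finite G] in
/-- The centralizer of `z, s` and `t`. -/
theorem mem_Tgrp {c : G} : c ∈ Subgroup.centralizer ({z, s, t} : Set G) ↔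
    c * z = z * c ∧ c * s = s * c ∧ c * t = t * c := by
  rw [Subgroup.mem_centralizer_iff]
  simp only [Set.mem_insert_iff, Set.mem_singleton_iff, forall_eq_or_imp, forall_eq]
  exact and_congr eq_comm (and_congr eq_comm eq_comm)

theorem Tgrp_le_K : Subgroup.centralizer ({z, s, t} : Set G) ≤ Kgrp θ t := fun c hc =>
  ((T.zK_iff).2 (T.mem_Tgrp.1 hc)).2

theorem card_Tgrp : Nat.card (Subgroup.centralizer ({z, s, t} : Set G)) = 256 := by
  rw [← T.frame.card_cent_zst T.cl]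
  exact Nat.card_congr (Equiv.subtypeEquivRight fun c => T.mem_Tgrp)

theorem Tgrp_isPGroup : IsPGroup 2 (Subgroup.centralizer ({z, s, t} : Set G)) := by
  have : Fact (Nat.Prime 2) := ⟨Nat.prime_two⟩
  exact IsPGroup.of_card (n := 8) (by rw [T.card_Tgrp]; norm_num)

/-- The classes of an element of `T`. -/
theorem exists_cl_T {x : G} (hx : x ∈ Subgroup.centralizer ({z, s, t} : Set G)) :
    ∃ A U, T.frame.Cl x A U ∧ Tcond A U :=
  (T.frame.comm_t_iff T.cl).1 (T.mem_Tgrp.1 hx)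

theorem mem_T_of_cl {x : G} {A U : V6} (h : T.frame.Cl x A U) (hT : Tcond A U) :
    x ∈ Subgroup.centralizer ({z, s, t} : Set G) :=
  T.mem_Tgrp.2 ((T.frame.comm_t_iff T.cl).2 ⟨A, U, h, hT⟩)

theorem memV_mem_T {v : G} (hv : MemV θ t v) : v ∈ Subgroup.centralizer ({z, s, t} : Set G) := by
  obtain ⟨p, hp, h⟩ := T.memV_classes hv
  exact T.mem_T_of_cl h (four_Tcond p hp)

/-- The central involutions of `T` conjugate to `z` are `z, s` and `z * s`. -/
theorem central_cases {x : G} (hx : x ∈ Subgroup.centralizer ({z, s, t} : Set G))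
    (hcen : ∀ y ∈ Subgroup.centralizer ({z, s, t} : Set G), y * x = x * y)
    (hz : IsConj z x) : x = z ∨ x = s ∨ x = z * s := by
  have F := T.frame
  obtain ⟨A, U, h, hT⟩ := T.exists_cl_T hx
  have hm := center_classes h.inU_left h.inU_right hT fun p hp => by
    obtain ⟨h1, h2, h3⟩ := four_test p hp
    obtain ⟨y, hy⟩ := F.exists_cl h1 h2
    exact (h.commute_iff hy).1 (hcen y (T.mem_T_of_cl hy h3))
  have hx1 : x ≠ 1 := fun e => F.data.sub.ne_one (by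
    obtain ⟨c, hc⟩ := isConj_iff.1 hz
    rw [e] at hc; exact conj_eq_one_iff.1 hc)
  have hx2 : x * x = 1 := by
    obtain ⟨c, hc⟩ := isConj_iff.1 hz
    rw [← hc, show c * z * c⁻¹ * (c * z * c⁻¹) = c * (z * z) * c⁻¹ by group, F.data.sub.mul_self]
    group
  rcases four_aniso _ hm with e | e
  · simp only [Prod.mk.injEq] at e
    obtain ⟨rfl, rfl⟩ := e
    obtain ⟨i, j, rfl⟩ := h.eq_zE
    cases i <;> cases j
    · exact absurd F.zE_ff hx1
    · exact Or.inr (Or.inl F.zE_ft)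
    · exact Or.inl F.zE_tf
    · exact Or.inr (Or.inr F.zE_tt)
  · exact absurd ((F.isConj_z_iff h hx2 hx1).1 hz) (by
      simp only at e
      rw [e]; simp)

theorem center_zE {y : G} (hy : y ∈ Subgroup.centralizer ({z, s, t} : Set G)) :
    y * z = z * y ∧ y * s = s * y ∧ y * (z * s) = z * s * y := by
  obtain ⟨h1, h2, -⟩ := T.mem_Tgrp.1 hy
  exact ⟨h1, h2, (Commute.mul_right h1 h2).eq⟩

/-- `T` is a Sylow two subgroup of `K`. -/
theorem eq_of_two_subgroup {S : Subgroup G} (hS : IsPGroup 2 S) (hSK : S ≤ Kgrp θ t)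
    (hTS : Subgroup.centralizer ({z, s, t} : Set G) ≤ S) :
    S = Subgroup.centralizer ({z, s, t} : Set G) := by
  have : Fact (Nat.Prime 2) := ⟨Nat.prime_two⟩
  have F := T.frame
  refine le_antisymm ?_ hTS
  by_contra hne
  obtain ⟨T', hT'⟩ : ∃ T', T' = Subgroup.centralizer ({z, s, t} : Set G) := ⟨_, rfl⟩
  rw [← hT'] at hne hTS
  have hlt : T'.subgroupOf S < ⊤ := lt_top_iff_ne_top.2 fun e => hne (Subgroup.subgroupOf_eq_top.1 e)
  have hnil : Group.IsNilpotent S := hS.isNilpotent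
  obtain ⟨x, hxN, hxT⟩ :=
    SetLike.exists_of_lt (Group.normalizerCondition_of_isNilpotent (T'.subgroupOf S) hlt)
  have hxT' : (x : G) ∉ T' := hxT
  have hconj : ∀ y ∈ T', (x : G) * y * (x : G)⁻¹ ∈ T' := by
    intro y hy
    have h := (Subgroup.mem_normalizer_iff.1 hxN ⟨y, hTS hy⟩).1 hy
    exact h
  have hconj' : ∀ y ∈ T', (x : G)⁻¹ * y * (x : G) ∈ T' := by
    intro y hy
    have h := (Subgroup.mem_normalizer_iff.1 (inv_mem hxN) ⟨y, hTS hy⟩).1 hy
    have h' : (x : G)⁻¹ * y * ((x : G)⁻¹)⁻¹ ∈ T' := h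
    rwa [inv_inv] at h'
  have hperm : ∀ e, (e = z ∨ e = s ∨ e = z * s) →
      (x : G) * e * (x : G)⁻¹ = z ∨ (x : G) * e * (x : G)⁻¹ = s ∨ (x : G) * e * (x : G)⁻¹ = z * s := by
    intro e he
    have hzs : MemE z s (z * s) := Or.inr (Or.inr (Or.inr rfl))
    have hez : IsConj z e := by
      rcases he with rfl | rfl | rfl
      · rfl
      · exact F.isConj_z_s
      · obtain ⟨q, -, -, hqs, -, -⟩ := F.exists_not_comm
        exact F.isConj_z_s.trans (isConj_iff.2 ⟨q, hqs⟩)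
    have heT : e ∈ T' := by
      rw [hT', T.mem_Tgrp]
      rcases he with rfl | rfl | rfl
      · exact ⟨rfl, F.s_comm.symm, T.cl.comm_z.symm⟩
      · exact ⟨F.s_comm, rfl, T.cl.comm_s.symm⟩
      · exact ⟨(Commute.mul_left (Commute.refl z) F.s_comm).eq,
          (Commute.mul_left (Commute.symm F.s_comm) (Commute.refl s)).eq,
          (Commute.mul_left (Commute.symm T.cl.comm_z) (Commute.symm T.cl.comm_s)).eq⟩
    refine T.central_cases (hT' ▸ hconj e heT) (fun y hy => ?_) (hez.trans (isConj_iff.2 ⟨_, rfl⟩))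
    rw [← hT'] at hy
    obtain ⟨c1, c2, c3⟩ := T.center_zE (hT' ▸ hconj' y hy)
    have hcy : ((x : G)⁻¹ * y * (x : G)) * e = e * ((x : G)⁻¹ * y * (x : G)) := by
      rcases he with rfl | rfl | rfl
      exacts [c1, c2, c3]
    have h2 := (Commute.conj_iff (x : G)).2 hcy
    rw [show (x : G) * ((x : G)⁻¹ * y * (x : G)) * (x : G)⁻¹ = y by group] at h2
    exact h2.eq
  have hxK := hSK x.2
  have hnotz : (x : G) * z * (x : G)⁻¹ ≠ z := fun e => hxT' (by
    rw [hT', T.mem_Tgrp]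
    exact (T.zK_iff).1 ⟨mul_inv_eq_iff_eq_mul.1 e, hxK⟩)
  have hnots : (x : G) * s * (x : G)⁻¹ ≠ s := fun e => by
    obtain ⟨ρ, hρz, hρs, hρθ, hρt⟩ := T.exists_rho
    have hρK := T.rho_mem_K hρθ hρt
    have h1 : ((ρ⁻¹ * x * ρ) * z = z * (ρ⁻¹ * x * ρ)) := by
      refine mul_inv_eq_iff_eq_mul.1 ?_
      rw [show ρ⁻¹ * x * ρ * z * (ρ⁻¹ * x * ρ)⁻¹ = ρ⁻¹ * (x * (ρ * z * ρ⁻¹) * (x : G)⁻¹) * ρ by group,
        hρz, e, ← hρz]
      group
    have h2 := (T.zK_iff).1 ⟨h1, mul_mem (mul_mem (inv_mem hρK) hxK) hρK⟩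
    have h3 := (Commute.conj_iff ρ).2 (show Commute (ρ⁻¹ * x * ρ) s from h2.2.1)
    rw [show ρ * (ρ⁻¹ * x * ρ) * ρ⁻¹ = (x : G) by group, hρs] at h3
    have hxz := h3.mul_right (show Commute (x : G) s from mul_inv_eq_iff_eq_mul.1 e)
    rw [mul_assoc, F.s_mul_self, mul_one] at hxz
    exact hnotz (mul_inv_eq_iff_eq_mul.2 hxz.eq)
  have hnotzs : (x : G) * (z * s) * (x : G)⁻¹ ≠ z * s := fun e => by
    obtain ⟨ρ, hρz, hρs, hρθ, hρt⟩ := T.exists_rho
    have hρK := T.rho_mem_K hρθ hρt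
    have h1 : ((ρ * ρ)⁻¹ * x * (ρ * ρ)) * z = z * ((ρ * ρ)⁻¹ * x * (ρ * ρ)) := by
      refine mul_inv_eq_iff_eq_mul.1 ?_
      have h : ρ * ρ * z * (ρ * ρ)⁻¹ = z * s := by
        rw [show ρ * ρ * z * (ρ * ρ)⁻¹ = ρ * (ρ * z * ρ⁻¹) * ρ⁻¹ by group, hρz, hρs]
      rw [show (ρ * ρ)⁻¹ * x * (ρ * ρ) * z * ((ρ * ρ)⁻¹ * x * (ρ * ρ))⁻¹ =
        (ρ * ρ)⁻¹ * (x * (ρ * ρ * z * (ρ * ρ)⁻¹) * (x : G)⁻¹) * (ρ * ρ) by simp [mul_assoc], h, e, ← h]
      group
    have h2 := (T.zK_iff).1 ⟨h1, mul_mem (mul_mem (inv_mem (mul_mem hρK hρK)) hxK) (mul_mem hρK hρK)⟩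
    have h3 := (Commute.conj_iff (ρ * ρ)).2 (show Commute ((ρ * ρ)⁻¹ * x * (ρ * ρ)) s from h2.2.1)
    have h4 : ρ * ρ * s * (ρ * ρ)⁻¹ = z := by
      rw [show ρ * ρ * s * (ρ * ρ)⁻¹ = ρ * (ρ * s * ρ⁻¹) * ρ⁻¹ by group, hρs,
        show ρ * (z * s) * ρ⁻¹ = ρ * z * ρ⁻¹ * (ρ * s * ρ⁻¹) by group, hρz, hρs, ← mul_assoc,
        F.s_comm, mul_assoc, F.s_mul_self, mul_one]
    rw [show ρ * ρ * ((ρ * ρ)⁻¹ * x * (ρ * ρ)) * (ρ * ρ)⁻¹ = (x : G) by group, h4] at h3
    exact hnotz (mul_inv_eq_iff_eq_mul.2 h3.eq)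
  -- a cube of `x` fixes `z`
  have hz3 : (x : G) * ((x : G) * ((x : G) * z * (x : G)⁻¹) * (x : G)⁻¹) * (x : G)⁻¹ = z := by
    have hinj : ∀ a b : G, (x : G) * a * (x : G)⁻¹ = (x : G) * b * (x : G)⁻¹ → a = b := fun a b h =>
      mul_left_cancel (mul_right_cancel h)
    obtain ⟨hz1, hs1, hzs', hzs1, hzsz, hzss⟩ := F.zs_facts
    rcases (hperm z (Or.inl rfl)).resolve_left hnotz with r1 | r1
    · rw [r1]
      rcases hperm s (Or.inr (Or.inl rfl)) with r2 | r2 | r2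
      · exfalso
        rcases hperm (z * s) (Or.inr (Or.inr rfl)) with r3 | r3 | r3
        · exact hzss (hinj _ _ (r3.trans r2.symm))
        · exact hzsz (hinj _ _ (r3.trans r1.symm))
        · exact hnotzs r3
      · exact absurd r2 hnots
      · rw [r2]
        rcases hperm (z * s) (Or.inr (Or.inr rfl)) with r3 | r3 | r3
        · exact r3
        · exact absurd (hinj _ _ (r3.trans r1.symm)) hzsz
        · exact absurd r3 hnotzs
    · rw [r1]
      rcases hperm (z * s) (Or.inr (Or.inr rfl)) with r2 | r2 | r2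
      · exfalso
        rcases hperm s (Or.inr (Or.inl rfl)) with r3 | r3 | r3
        · exact hzss (hinj _ _ (r2.trans r3.symm))
        · exact hnots r3
        · exact hzs' (hinj _ _ (r1.trans r3.symm))
      · rw [r2]
        rcases hperm s (Or.inr (Or.inl rfl)) with r3 | r3 | r3
        · exact r3
        · exact absurd r3 hnots
        · exact absurd (hinj _ _ (r1.trans r3.symm)) hzs'
      · exact absurd r2 hnotzs
  have hcube : ((x : G) ^ 3) * z = z * (x : G) ^ 3 := by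
    refine mul_inv_eq_iff_eq_mul.1 ?_
    conv_rhs => rw [← hz3]
    rw [show (x : G) ^ 3 = (x : G) * (x : G) * (x : G) by simp [pow_succ]]
    group
  have hcT : (x : G) ^ 3 ∈ T' := by
    rw [hT', T.mem_Tgrp]; exact (T.zK_iff).1 ⟨hcube, pow_mem hxK 3⟩
  obtain ⟨k, hk⟩ := IsPGroup.iff_orderOf.1 hS x
  have hord : orderOf (x : G) = 2 ^ k := by rw [Subgroup.orderOf_coe, hk]
  obtain ⟨m, hm⟩ := exists_pow_eq_self_of_coprime (n := 3) (x := (x : G)) (by
    rw [hord]; exact Nat.Coprime.pow_right k (by norm_num))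
  exact hxT' (hm ▸ pow_mem hcT m)

/-- Every two subgroup of `K` has a conjugate in `T`. -/
theorem exists_conj_T {S : Subgroup G} (hS : IsPGroup 2 S) (hSK : S ≤ Kgrp θ t) :
    ∃ g ∈ Kgrp θ t, ∀ x ∈ S, g * x * g⁻¹ ∈ Subgroup.centralizer ({z, s, t} : Set G) := by
  have : Fact (Nat.Prime 2) := ⟨Nat.prime_two⟩
  obtain ⟨T', hT'⟩ : ∃ T', T' = Subgroup.centralizer ({z, s, t} : Set G) := ⟨_, rfl⟩
  rw [← hT']
  have hle : T' ≤ Kgrp θ t := hT' ▸ T.Tgrp_le_K
  let Ts : Sylow 2 (Kgrp θ t) :=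
    { toSubgroup := T'.subgroupOf (Kgrp θ t)
      isPGroup' := (hT' ▸ T.Tgrp_isPGroup : IsPGroup 2 T').comap_subtype
      is_maximal' := fun {R} hR hTR => by
        have h := T.eq_of_two_subgroup (hR.map (Kgrp θ t).subtype) (Subgroup.map_subtype_le R) (by
          rw [← hT']
          intro y hy
          exact ⟨⟨y, hle hy⟩, hTR hy, rfl⟩)
        refine le_antisymm (fun r hr => ?_) hTR
        show (r : G) ∈ T'
        rw [hT', ← h]
        exact ⟨r, hr, rfl⟩ }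
  obtain ⟨Ss, hSs⟩ := (hS.comap_subtype (K := Kgrp θ t)).exists_le_sylow
  obtain ⟨g, hg⟩ := MulAction.exists_smul_eq (Kgrp θ t) Ss Ts
  refine ⟨g, g.2, fun x hx => ?_⟩
  have hmem : g * (⟨x, hSK hx⟩ : Kgrp θ t) * g⁻¹ ∈ (Ts : Subgroup (Kgrp θ t)) := by
    rw [← hg]
    exact ⟨⟨x, hSK hx⟩, hSs hx, rfl⟩
  exact hmem

end Four

end CfsgLib.SuzType
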