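import Cfsg.Agent.SuzType.HLemma
import Cfsg.Agent.SuzType.KGroup

/-!
# Fusion of involutions in `K`
-/

set_option autoImplicit false

namespace CfsgLib.SuzType

open CfsgLib.LargeExtraspecial

theorem singular_count : Fintype.card {v : V6 // q6 v = false ∧ v ≠ 0} = 27 := by decide +kernel

theorem iso_count' : (isoList.all fun r => decide (r = (0, 0)) || decide ((Finset.univ.filter
    fun p : V6 × V6 => InU p.1 ∧ InU p.2 ∧ (Tcond p.1 p.2 ∧ Ccond r.1 r.2 p.1 p.2)).card = 16)) =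
    true := by decide +kernel

theorem fixed_line : b6 (mk6 16) s0 = false ∧ b6 (mk6 16) (mk6 4) = false ∧
    b6 (mk6 16) (mk6 8) = false ∧ pr (16, 32) (mk6 4) = mk6 4 ∧ pr (16, 32) (mk6 8) = mk6 8 := by
  decide

namespace Frame

variable {G : Type*} [Group G] {z s : G} {Q P : Subgroup G} {π : G → V6}
  (F : Frame z Q π P s)
include F

/-- The involutions of `Q` other than `z` are conjugate under `C(z)`. -/
theorem exists_conj_s {a : G} (ha : a ∈ Q) (h2 : a * a = 1) (h1 : a ≠ 1) (hz : a ≠ z) :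
    ∃ c, c * z = z * c ∧ c * s * c⁻¹ = a := by
  have hq : q6 (π a) = false := (F.data.sq a ha).1 h2
  have h0 : π a ≠ 0 := fun h => ((F.data.ker a ha).1 h).elim h1 hz
  have hreach : ∀ v ∈ singList, ∃ c, c * z = z * c ∧ F.data.act c s0 = v :=
    chainOK_prop (P := fun v => ∃ c, c * z = z * c ∧ F.data.act c s0 = v)
      ⟨1, by simp, F.data.act_one _⟩ (fun g hg v hv => by
        obtain ⟨p, hp, rfl⟩ := List.mem_map.1 hg
        obtain ⟨c, hc, rfl⟩ := hv
        obtain ⟨d, hd, hdv⟩ := F.data.exists_pr (allGens_ok p hp)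
        exact ⟨d * c, (Commute.mul_left hd hc).eq, by rw [F.data.act_mul hd hc, hdv]⟩)
      singList singList_facts.1
  obtain ⟨c, hc, hcv⟩ := hreach _ (singList_facts.2 _ hq h0)
  rw [← F.π_s, F.data.act_π hc F.pair.mem] at hcv
  rcases F.data.eq_or_eq_of_π_eq (F.data.sub.conj_mem hc F.pair.mem) ha hcv with e | e
  · exact ⟨c, hc, e.symm⟩
  · obtain ⟨q, hq', hqx⟩ := F.data.sub.exists_not_commute h1 hz
    have hqz := F.data.Q_comm hq'
    refine ⟨q * c, (Commute.mul_left hqz hc).eq, ?_⟩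
    have hcs : c * s * c⁻¹ = z * a := by rw [e, ← mul_assoc, F.data.sub.mul_self, one_mul]
    rw [show q * c * s * (q * c)⁻¹ = q * (c * s * c⁻¹) * q⁻¹ by group, hcs,
      show q * (z * a) * q⁻¹ = q * z * q⁻¹ * (q * a * q⁻¹) by group, F.conj_z_of_mem hq',
      F.data.sub.conj_of_not_commute hq' ha hqx, ← mul_assoc, F.data.sub.mul_self, one_mul]

theorem conj_P_mem [Finite G] {g x : G} (hg : g * s * g⁻¹ = z) (hx : x ∈ P) : g * x * g⁻¹ ∈ Q := by
  obtain ⟨y, h0, h1⟩ := F.exists_swap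
  obtain ⟨h0', h1'⟩ := F.swap_inv h0 h1
  have hq := (F.swap_mem h0' h1').2 hx
  rw [inv_inv] at hq
  have hgy : g * y * z = z * (g * y) := mul_inv_eq_iff_eq_mul.1 (by
    rw [show g * y * z * (g * y)⁻¹ = g * (y * z * y⁻¹) * g⁻¹ by group, h0, hg])
  rw [show g * x * g⁻¹ = g * y * (y⁻¹ * x * y) * (g * y)⁻¹ by group]
  exact F.data.sub.conj_mem hgy hq

theorem card_cent_zs [Finite G] :
    Nat.card (Subgroup.centralizer ({z, s} : Set G)) = 61440 := by
  classical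
  have hmem : ∀ {c : G}, c ∈ Subgroup.centralizer ({z, s} : Set G) ↔
      c * z = z * c ∧ c * s = s * c := fun {c} => by
    rw [Subgroup.mem_centralizer_iff]
    simp only [Set.mem_insert_iff, Set.mem_singleton_iff, forall_eq_or_imp, forall_eq]
    exact and_congr eq_comm eq_comm
  let O := {a : G // a ∈ Q ∧ a * a = 1 ∧ a ≠ 1 ∧ a ≠ z}
  -- the orbit
  have hz2 := F.data.sub.mul_self
  have hO : Nat.card O = 54 := by
    let f : {v : V6 // q6 v = false ∧ v ≠ 0} × Bool → O := fun p =>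
      ⟨zE z s p.2 false * F.data.sec p.1.1, by
        have hm : zE z s p.2 false * F.data.sec p.1.1 ∈ Q :=
          mul_mem (F.memE_mem (F.memE_zE _ _)).1 (F.data.sec_mem _)
        have hπ : π (zE z s p.2 false * F.data.sec p.1.1) = p.1.1 := by
          rw [F.data.map_mul _ (F.memE_mem (F.memE_zE _ _)).1 _ (F.data.sec_mem _), F.data.π_sec]
          cases p.2
          · rw [F.zE_ff, F.data.π_one, zero_add]
          · rw [F.zE_tf, F.data.π_z, zero_add]
        refine ⟨hm, (F.data.sq _ hm).2 (by rw [hπ]; exact p.1.2.1), fun e => ?_, fun e => ?_⟩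
        · rw [e, F.data.π_one] at hπ; exact p.1.2.2 hπ.symm
        · rw [e, F.data.π_z] at hπ; exact p.1.2.2 hπ.symm⟩
    have hf : Function.Bijective f := by
      constructor
      · rintro ⟨v, b⟩ ⟨v', b'⟩ h
        have h' : zE z s b false * F.data.sec v.1 = zE z s b' false * F.data.sec v'.1 :=
          congrArg Subtype.val h
        have hv : v = v' := Subtype.ext (by
          have h2 := congrArg π h'
          rw [F.data.map_mul _ (F.memE_mem (F.memE_zE _ _)).1 _ (F.data.sec_mem _),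
            F.data.map_mul _ (F.memE_mem (F.memE_zE _ _)).1 _ (F.data.sec_mem _),
            F.data.π_sec, F.data.π_sec] at h2
          cases b <;> cases b' <;> simpa [zE, F.data.π_one, F.data.π_z] using h2)
        subst hv
        rw [(F.zE_inj (mul_right_cancel h')).1]
      · rintro ⟨a, ha, h2, h1, hz⟩
        rcases F.data.eq_or_eq_of_π_eq (F.data.sec_mem (π a)) ha (F.data.π_sec _) with e | e
        · exact ⟨(⟨π a, (F.data.sq a ha).1 h2, fun h => ((F.data.ker a ha).1 h).elim h1 hz⟩, false),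
            Subtype.ext (by simp only [f]; rw [F.zE_ff, one_mul, ← e])⟩
        · exact ⟨(⟨π a, (F.data.sq a ha).1 h2, fun h => ((F.data.ker a ha).1 h).elim h1 hz⟩, true),
            Subtype.ext (by simp only [f]; rw [F.zE_tf, ← e])⟩
    rw [← Nat.card_eq_of_bijective f hf, Nat.card_prod, Nat.card_eq_fintype_card, singular_count,
      Nat.card_eq_fintype_card, Fintype.card_bool]
  choose rep hrz hrs using fun a : O => F.exists_conj_s a.2.1 a.2.2.1 a.2.2.2.1 a.2.2.2.2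
  let g : O × Subgroup.centralizer ({z, s} : Set G) → Subgroup.centralizer ({z} : Set G) := fun p =>
    ⟨rep p.1 * p.2.1, Subgroup.mem_centralizer_singleton_iff.2
      (Commute.mul_left (hrz p.1) (hmem.1 p.2.2).1).eq⟩
  have hg : Function.Bijective g := by
    constructor
    · rintro ⟨a, c⟩ ⟨a', c'⟩ h
      have h' : rep a * c.1 = rep a' * c'.1 := congrArg Subtype.val h
      have ha : a = a' := Subtype.ext (by
        calc a.1 = rep a * c.1 * s * (rep a * c.1)⁻¹ := by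
              rw [show rep a * c.1 * s * (rep a * c.1)⁻¹ = rep a * (c.1 * s * c.1⁻¹) * (rep a)⁻¹ by group,
                mul_inv_eq_iff_eq_mul.2 (hmem.1 c.2).2, hrs]
          _ = a'.1 := by
              rw [h', show rep a' * c'.1 * s * (rep a' * c'.1)⁻¹ =
                rep a' * (c'.1 * s * c'.1⁻¹) * (rep a')⁻¹ by group,
                mul_inv_eq_iff_eq_mul.2 (hmem.1 c'.2).2, hrs])
      subst ha
      rw [Prod.mk.injEq]
      exact ⟨rfl, Subtype.ext (mul_left_cancel h')⟩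
    · rintro ⟨c, hc⟩
      have hcz := Subgroup.mem_centralizer_singleton_iff.1 hc
      have hmemO : c * s * c⁻¹ ∈ Q ∧ c * s * c⁻¹ * (c * s * c⁻¹) = 1 ∧ c * s * c⁻¹ ≠ 1 ∧
          c * s * c⁻¹ ≠ z := by
        refine ⟨F.data.sub.conj_mem hcz F.pair.mem, ?_, fun e => F.pair.subP.ne_one (conj_eq_one_iff.1 e),
          fun e => F.pair.ne ?_⟩
        · rw [show c * s * c⁻¹ * (c * s * c⁻¹) = c * (s * s) * c⁻¹ by group, F.s_mul_self]; group
        · refine mul_left_cancel (a := c) ?_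
          rw [hcz]
          exact mul_inv_eq_iff_eq_mul.1 e
      have hd : (rep ⟨_, hmemO⟩)⁻¹ * c ∈ Subgroup.centralizer ({z, s} : Set G) := by
        refine hmem.2 ⟨(Commute.mul_left (Commute.inv_left (hrz _)) hcz).eq,
          mul_inv_eq_iff_eq_mul.1 ?_⟩
        have h := hrs ⟨_, hmemO⟩
        rw [show (rep ⟨_, hmemO⟩)⁻¹ * c * s * ((rep ⟨_, hmemO⟩)⁻¹ * c)⁻¹ =
          (rep ⟨_, hmemO⟩)⁻¹ * (c * s * c⁻¹) * rep ⟨_, hmemO⟩ by group]
        calc _ = (rep ⟨_, hmemO⟩)⁻¹ * (rep ⟨_, hmemO⟩ * s * (rep ⟨_, hmemO⟩)⁻¹) *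
              rep ⟨_, hmemO⟩ := by rw [h]
          _ = s := by group
      exact ⟨(⟨_, hmemO⟩, ⟨_, hd⟩), Subtype.ext (mul_inv_cancel_left _ _)⟩
  have h := Nat.card_eq_of_bijective g hg
  rw [Nat.card_prod, hO, F.data.card_cent] at h
  norm_num at h
  omega

end Frame

namespace Four

variable {G : Type*} [Group G] [Finite G] {z s θ t : G} {Q P : Subgroup G} {π : G → V6}
  (T : Four z Q π P s θ t)
include T

/-- `θ` fixes what it fixes modulo `⟨z, s⟩`. -/
theorem θ_fix {x : G} {i j : Bool} (h : θ * x * θ⁻¹ = zE z s i j * x) : θ * x = x * θ := by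
  have F := T.frame
  have hE := F.zE_conj T.θ_comm_z T.θ_comm_s i j
  have h2 : θ * (θ * x * θ⁻¹) * θ⁻¹ = x := by
    rw [h, show θ * (zE z s i j * x) * θ⁻¹ = θ * zE z s i j * θ⁻¹ * (θ * x * θ⁻¹) by group, hE, h,
      ← mul_assoc, F.zE_mul_self, one_mul]
  have h3 : θ * (θ * (θ * x * θ⁻¹) * θ⁻¹) * θ⁻¹ = x := by
    rw [show θ * (θ * (θ * x * θ⁻¹) * θ⁻¹) * θ⁻¹ = θ * θ * θ * x * (θ * θ * θ)⁻¹ by group, T.θ_cube]
    group
  rw [h2] at h3
  exact mul_inv_eq_iff_eq_mul.1 h3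

theorem θ_ne_one : θ ≠ 1 := fun e => by
  subst e
  have := T.θ_act a0
  rw [T.frame.data.act_one] at this
  exact a0_ne.2.2 (this.trans sigma_facts.2.2.1)

/-- The elements of order three of `C(z) ∩ C(s)` are conjugate to `θ` or its square. -/
theorem exists_conj_order_three {x : G} (hx : x * z = z * x) (hxs : x * s = s * x)
    (h3 : x * x * x = 1) (hne : x ≠ 1) :
    ∃ d, d * z = z * d ∧ d * s = s * d ∧ (d * x * d⁻¹ = θ ∨ d * x * d⁻¹ = θ * θ) := by
  classical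
  have : Fact (Nat.Prime 3) := ⟨Nat.prime_three⟩
  obtain ⟨H, hH⟩ : ∃ H, H = Subgroup.centralizer ({z, s} : Set G) := ⟨_, rfl⟩
  have hmem : ∀ {c : G}, c ∈ H ↔ c * z = z * c ∧ c * s = s * c := fun {c} => by
    rw [hH, Subgroup.mem_centralizer_iff]
    simp only [Set.mem_insert_iff, Set.mem_singleton_iff, forall_eq_or_imp, forall_eq]
    exact and_congr eq_comm eq_comm
  have hfac : (Nat.card H).factorization 3 = 1 := by
    rw [hH, T.frame.card_cent_zs, show (61440 : ℕ) = 3 * 20480 by norm_num,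
      Nat.factorization_mul (by norm_num) (by norm_num), Finsupp.add_apply,
      Nat.Prime.factorization_self Nat.prime_three,
      Nat.factorization_eq_zero_of_not_dvd (by norm_num : ¬ 3 ∣ 20480)]
  have hθne : θ ≠ 1 := T.θ_ne_one
  have hord : ∀ (y : G) (hy : y ∈ H), y * y * y = 1 → y ≠ 1 →
      Nat.card (Subgroup.zpowers (⟨y, hy⟩ : H)) = 3 ^ (Nat.card H).factorization 3 := by
    intro y hy hy3 hy1
    rw [hfac, pow_one, Nat.card_zpowers, Subgroup.orderOf_mk]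
    exact orderOf_eq_prime (by rw [pow_succ, pow_two, hy3]) hy1
  have hxH : x ∈ H := hmem.2 ⟨hx, hxs⟩
  have hθH : θ ∈ H := hmem.2 ⟨T.θ_comm_z, T.θ_comm_s⟩
  let Sx : Sylow 3 H := Sylow.ofCard _ (hord x hxH h3 hne)
  let Sθ : Sylow 3 H := Sylow.ofCard _ (hord θ hθH T.θ_cube hθne)
  obtain ⟨d, hd⟩ := MulAction.exists_smul_eq H Sx Sθ
  have hm : d * ⟨x, hxH⟩ * d⁻¹ ∈ (Sθ : Subgroup H) := by
    rw [← hd]
    exact ⟨⟨x, hxH⟩, Subgroup.mem_zpowers _, rfl⟩
  obtain ⟨k, hk⟩ := Subgroup.mem_zpowers_iff.1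
    (show d * ⟨x, hxH⟩ * d⁻¹ ∈ Subgroup.zpowers (⟨θ, hθH⟩ : H) from hm)
  have hk' : θ ^ k = (d : G) * x * (d : G)⁻¹ := by
    have := congrArg Subtype.val hk
    simpa using this
  obtain ⟨h1, h2⟩ := hmem.1 d.2
  refine ⟨d, h1, h2, ?_⟩
  have h3' : θ ^ (3 : ℤ) = 1 := by
    rw [show (3 : ℤ) = ((3 : ℕ) : ℤ) from rfl, zpow_natCast, pow_succ, pow_two, T.θ_cube]
  have hpow : θ ^ k = θ ^ (k % 3) := by
    have hk3 : k = k % 3 + 3 * (k / 3) := by omega
    conv_lhs => rw [hk3, zpow_add, zpow_mul, h3', one_zpow, mul_one]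
  rw [← hk', hpow]
  have : k % 3 = 0 ∨ k % 3 = 1 ∨ k % 3 = 2 := by omega
  rcases this with r | r | r <;> rw [r]
  · exfalso
    apply hne
    rw [hpow, r, zpow_zero] at hk'
    exact conj_eq_one_iff.1 hk'.symm
  · exact Or.inl (zpow_one θ)
  · exact Or.inr (by rw [show (2 : ℤ) = ((2 : ℕ) : ℤ) from rfl, zpow_natCast, pow_two])

/-- The part of `C(a)` outside `C(z)` centralising the four group. -/
theorem exists_outside {a : G} (ha : a ∈ Q) (haT : a ∈ Subgroup.centralizer ({z, s, t} : Set G))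
    {p : V6} (hp : p = mk6 4 ∨ p = mk6 8) (hcl : T.frame.Cl a p 0) :
    ∃ k h, k * a * k⁻¹ = z ∧ k * h * k⁻¹ ∈ Q ∧ h ∈ Kgrp θ t ∧ h * z ≠ z * h := by
  have F := T.frame
  have hp0 : p ≠ 0 := by rcases hp with rfl | rfl <;> decide
  have ha1 : a ≠ 1 := fun e => by
    subst e
    exact hp0 (hcl.unique F.cl_one).1
  have haz : a ≠ z := fun e => by
    subst e
    exact hp0 (hcl.unique (F.cl_of_memE (Or.inr (Or.inl rfl)))).1
  have ha2 : a * a = 1 := hcl.sq_eq_one_iff.2 (by rcases hp with rfl | rfl <;> decide)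
  have hπa : π a = p ∨ π a = p + s0 := by
    obtain ⟨b, w, hb, hbs, hw, hwz, hA, hU, e⟩ := hcl
    have hwE := F.memE_mem (F.memE_of_ups hw hwz hU)
    have hw0 := (F.memE_iff_cls hwE.1).1 (F.memE_of_ups hw hwz hU)
    have hb' := eq_pU_add _ ((F.comm_s_iff hb).1 hbs)
    rw [e, F.data.map_mul b hb w hwE.1]
    rw [show pU (π b) = p from hA] at hb'
    rcases hb' with r | r <;> rcases hw0 with r' | r' <;> rw [r, r']
    · exact Or.inl (add_zero p)
    · exact Or.inr rfl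
    · exact Or.inr (add_zero _)
    · exact Or.inl (add_add_cancel6 _ _)
  have haθ : θ * a = a * θ := by
    have h := hcl.conjC T.θ_comm_z T.θ_comm_s
    rw [T.θ_act, T.θ_act] at h
    have hfix : pU (pr (16, 32) p) = p ∧ pU (pr (16, 32) 0) = 0 := by
      rcases hp with rfl | rfl <;> decide
    rw [hfix.1, hfix.2] at h
    obtain ⟨i, j, e⟩ := hcl.eq_zE_mul h
    exact T.θ_fix e
  obtain ⟨c, hc, hcs⟩ := F.exists_conj_s ha ha2 ha1 haz
  obtain ⟨y, hy0, hy1⟩ := F.exists_swap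
  obtain ⟨k0, hk0⟩ : ∃ k0, k0 = y * c⁻¹ := ⟨_, rfl⟩
  have hci : c⁻¹ * z = z * c⁻¹ := (Commute.inv_left hc).eq
  have hk0a : k0 * a * k0⁻¹ = z := by
    rw [hk0, ← hcs, show y * c⁻¹ * (c * s * c⁻¹) * (y * c⁻¹)⁻¹ = y * s * y⁻¹ by group, hy1]
  have hk0z : k0 * z * k0⁻¹ = s := by
    rw [hk0, show y * c⁻¹ * z * (y * c⁻¹)⁻¹ = y * (c⁻¹ * z * c⁻¹⁻¹) * y⁻¹ by group,
      mul_inv_eq_iff_eq_mul.2 hci, hy0]
  have hconj : ∀ {k : G}, k * a * k⁻¹ = z → k * z * k⁻¹ = s → ∀ {x : G}, x * a = a * x →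
      x * z = z * x → k * x * k⁻¹ * z = z * (k * x * k⁻¹) ∧ k * x * k⁻¹ * s = s * (k * x * k⁻¹) := by
    intro k h1 h2 x hx hxz
    have e1 := (Commute.conj_iff k).2 (show Commute x a from hx)
    have e2 := (Commute.conj_iff k).2 (show Commute x z from hxz)
    rw [h1] at e1
    rw [h2] at e2
    exact ⟨e1.eq, e2.eq⟩
  obtain ⟨hθ'z, hθ's⟩ := hconj hk0a hk0z haθ T.θ_comm_z
  have hθne : θ ≠ 1 := T.θ_ne_one
  obtain ⟨d, hd, hds, hdθ⟩ := T.exists_conj_order_three hθ'z hθ's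
    (by rw [show k0 * θ * k0⁻¹ * (k0 * θ * k0⁻¹) * (k0 * θ * k0⁻¹) = k0 * (θ * θ * θ) * k0⁻¹ by group,
      T.θ_cube]; group)
    fun e => hθne (conj_eq_one_iff.1 e)
  obtain ⟨k, hk⟩ : ∃ k, k = d * k0 := ⟨_, rfl⟩
  have hka : k * a * k⁻¹ = z := by
    rw [hk, show d * k0 * a * (d * k0)⁻¹ = d * (k0 * a * k0⁻¹) * d⁻¹ by group, hk0a,
      mul_inv_eq_iff_eq_mul.2 hd]
  have hkz : k * z * k⁻¹ = s := by
    rw [hk, show d * k0 * z * (d * k0)⁻¹ = d * (k0 * z * k0⁻¹) * d⁻¹ by group, hk0z,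
      mul_inv_eq_iff_eq_mul.2 hds]
  have hkθ : k * θ * k⁻¹ = θ ∨ k * θ * k⁻¹ = θ * θ := by
    rw [hk, show d * k0 * θ * (d * k0)⁻¹ = d * (k0 * θ * k0⁻¹) * d⁻¹ by group]; exact hdθ
  obtain ⟨-, -, hta⟩ := T.mem_Tgrp.1 haT
  obtain ⟨u, hu⟩ : ∃ u, u = k * t * k⁻¹ := ⟨_, rfl⟩
  obtain ⟨huz, hus⟩ := hu ▸ hconj hka hkz hta.symm T.cl.comm_z
  have hu2 : u * u = 1 := by
    rw [hu, show k * t * k⁻¹ * (k * t * k⁻¹) = k * (t * t) * k⁻¹ by group, T.t_sq]; group
  have hθi : θ⁻¹ = θ * θ := inv_eq_of_mul_eq_one_right (by rw [← mul_assoc, T.θ_cube])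
  have hθ2i : (θ * θ)⁻¹ = θ := by rw [← hθi, inv_inv]
  have hurel : u * (θ * u * θ⁻¹) = θ * θ * u * (θ * θ)⁻¹ := by
    have e : ∀ g, k * (g * t * g⁻¹) * k⁻¹ = k * g * k⁻¹ * u * (k * g * k⁻¹)⁻¹ := fun g => by
      rw [hu]; group
    have hr : u * (k * θ * k⁻¹ * u * (k * θ * k⁻¹)⁻¹) =
        k * (θ * θ) * k⁻¹ * u * (k * (θ * θ) * k⁻¹)⁻¹ := by
      rw [← e, ← e, ← T.rel, hu]; group
    rcases hkθ with r | r
    · rw [show k * (θ * θ) * k⁻¹ = k * θ * k⁻¹ * (k * θ * k⁻¹) by group, r] at hr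
      exact hr
    · rw [show k * (θ * θ) * k⁻¹ = k * θ * k⁻¹ * (k * θ * k⁻¹) by group, r,
        show θ * θ * (θ * θ) = θ by rw [← mul_assoc, T.θ_cube, one_mul]] at hr
      rw [← hr, ← mul_assoc u u, hu2, one_mul]
  -- `u` is not in `R`
  have huR : ∀ A U, ¬ F.Cl u A U := by
    intro A U hA
    have hdi : d⁻¹ * z = z * d⁻¹ := (Commute.inv_left hd).eq
    have hdsi : d⁻¹ * s = s * d⁻¹ := (Commute.inv_left hds).eq
    have h1 := hA.conjC hdi hdsi
    obtain ⟨hy0', hy1'⟩ := F.swap_inv hy0 hy1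
    obtain ⟨A', U', h2⟩ := F.exists_cl_swap hy0' hy1' h1
    rw [show y⁻¹ * (d⁻¹ * u * d⁻¹⁻¹) * y⁻¹⁻¹ = c⁻¹ * t * c by rw [hu, hk, hk0]; group] at h2
    obtain ⟨v, hv⟩ : ∃ v, v = F.data.act c⁻¹ (mk6 16) := ⟨_, rfl⟩
    have hcv : F.data.act c v = mk6 16 := by
      rw [hv, ← F.data.act_mul hc hci, mul_inv_cancel, F.data.act_one]
    have hcs0 : F.data.act c s0 = π a := by
      rw [← F.π_s, F.data.act_π hc F.pair.mem, hcs]
    have hvs : b6 v s0 = false := by
      rw [← (F.data.act_iso hc).polar, hcv, hcs0]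
      rcases hπa with r | r <;> rcases hp with rfl | rfl <;> rw [r] <;> decide
    have hact := h2.act_eq F v
    rw [F.data.act_mul (Commute.mul_left hci T.cl.comm_z).eq hc, hcv,
      F.data.act_mul hci T.cl.comm_z, T.cl.act_eq F] at hact
    have hmap : F.data.act c⁻¹ (sie u0 (mk6 16) + mk6 16) = sm (b6 v U') s0 := by
      rw [(F.data.act_iso hci).add, hact, ← hv]
      exact sie_add_orth U' h2.inU_right v hvs
    rw [sie_image_s0] at hmap
    have hinj : s0 = F.data.act c (sm (b6 v U') s0) := by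
      rw [← hmap, ← F.data.act_mul hc hci, mul_inv_cancel, F.data.act_one]
    rw [(F.data.act_iso hc).map_sm, hcs0] at hinj
    cases hb : b6 v U' <;> rw [hb] at hinj <;> simp only [sm, if_true, Bool.false_eq_true, if_false] at hinj
    · exact s0_ne_zero hinj
    · rcases hπa with r | r <;> rcases hp with rfl | rfl <;> rw [r] at hinj <;>
        exact absurd hinj (by decide)
  -- a common fixed vector
  have hactθ : ∀ v, F.data.act θ v = sig v := T.θ_act
  have hθ2 : θ * θ * z = z * (θ * θ) := (Commute.mul_left T.θ_comm_z T.θ_comm_z).eq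
  have hactθ2 : ∀ v, F.data.act (θ * θ) v = sig (sig v) := fun v => by
    rw [F.data.act_mul T.θ_comm_z T.θ_comm_z, hactθ, hactθ]
  obtain ⟨v, hv1, hv2, hv3⟩ := exists_fixed_v (F.data.act_iso huz) (F.act_s huz hus)
    (fun v => by rw [← F.data.act_mul huz huz, hu2, F.data.act_one])
    (fun v => by
      have h : F.data.act (u * (θ * u * θ⁻¹)) v = F.data.act (θ * θ * u * (θ * θ)⁻¹) v := by
        rw [hurel]
      rw [hθi, hθ2i] at h
      have n1 : θ * u * z = z * (θ * u) := (Commute.mul_left T.θ_comm_z huz).eq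
      rw [F.data.act_mul huz (Commute.mul_left n1 hθ2).eq, F.data.act_mul n1 hθ2,
        F.data.act_mul T.θ_comm_z huz, hactθ, hactθ2,
        F.data.act_mul (Commute.mul_left hθ2 huz).eq T.θ_comm_z, F.data.act_mul hθ2 huz,
        hactθ, hactθ2] at h
      exact h)
    fun htriv => by
      obtain ⟨A, U, hA⟩ := F.exists_cl_of_triv huz hus htriv
      exact huR A U hA
  obtain ⟨q, hq, hqπ⟩ := F.data.surj v
  have hzE : ∀ {x : G}, x * z = z * x → F.data.act x v = v → ∃ i, x * q * x⁻¹ = zE z s i false * q := by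
    intro x hx hfix
    have h : π q = π (x * q * x⁻¹) := by rw [← F.data.act_π hx hq, hqπ, hfix]
    rcases F.data.eq_or_eq_of_π_eq hq (F.data.sub.conj_mem hx hq) h with e | e
    · exact ⟨false, by rw [e, F.zE_ff, one_mul]⟩
    · exact ⟨true, by rw [e, F.zE_tf]⟩
  have hqθ : θ * q = q * θ := by
    obtain ⟨i, e⟩ := hzE T.θ_comm_z ((hactθ v).trans hv2)
    exact T.θ_fix e
  obtain ⟨i, hi⟩ := hzE huz hv3
  have hcθ : ∀ g : G, g * q = q * g → g * z = z * g → g * s = s * g →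
      g * u * g⁻¹ * q * (g * u * g⁻¹)⁻¹ = zE z s i false * q := by
    intro g hgq hgz hgs
    have hgi : g⁻¹ * q * g = q := by rw [mul_assoc, ← hgq, inv_mul_cancel_left]
    rw [show g * u * g⁻¹ * q * (g * u * g⁻¹)⁻¹ = g * (u * (g⁻¹ * q * g) * u⁻¹) * g⁻¹ by group, hgi, hi,
      show g * (zE z s i false * q) * g⁻¹ = g * zE z s i false * g⁻¹ * (g * q * g⁻¹) by group,
      F.zE_conj hgz hgs, mul_inv_eq_iff_eq_mul.2 hgq]
  have hi0 : i = false := by
    have h2 := hcθ (θ * θ) (Commute.mul_left hqθ hqθ).eq hθ2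
      (Commute.mul_left T.θ_comm_s T.θ_comm_s).eq
    rw [← hurel, show u * (θ * u * θ⁻¹) * q * (u * (θ * u * θ⁻¹))⁻¹ =
      u * (θ * u * θ⁻¹ * q * (θ * u * θ⁻¹)⁻¹) * u⁻¹ by group, hcθ θ hqθ T.θ_comm_z T.θ_comm_s,
      show u * (zE z s i false * q) * u⁻¹ = u * zE z s i false * u⁻¹ * (u * q * u⁻¹) by group,
      F.zE_conj huz hus, hi, ← mul_assoc, F.zE_mul_self, one_mul] at h2
    rw [eq_comm, mul_eq_right, ← F.zE_ff] at h2
    exact (F.zE_inj h2).1
  have hqu : u * q = q * u := by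
    rw [hi0, F.zE_ff, one_mul] at hi
    exact mul_inv_eq_iff_eq_mul.1 hi
  have hqz := F.data.Q_comm hq
  have hqs : ¬ q * s = s * q := fun e => by
    have hb := (F.comm_s_iff hq).1 e
    rw [hqπ, hv1] at hb
    exact Bool.noConfusion hb
  refine ⟨k, k⁻¹ * q * k, hka, by rw [show k * (k⁻¹ * q * k) * k⁻¹ = q by group]; exact hq, ?_, ?_⟩
  · have hback : ∀ g : G, Commute q (k * g * k⁻¹) → Commute (k⁻¹ * q * k) g := fun g hg => by
      have := (Commute.conj_iff k⁻¹).2 hg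
      rwa [inv_inv, show k⁻¹ * (k * g * k⁻¹) * k = g by group] at this
    refine mem_Kgrp.2 ⟨(hback t (by rw [← hu]; exact hqu.symm)).eq, (hback _ ?_).eq⟩
    have hq1 : Commute q (θ * u * θ⁻¹) :=
      ((Commute.mul_right hqθ.symm hqu.symm).mul_right (Commute.inv_right hqθ.symm))
    rw [show k * (θ * t * θ⁻¹) * k⁻¹ = k * θ * k⁻¹ * u * (k * θ * k⁻¹)⁻¹ by rw [hu]; group]
    rcases hkθ with r | r <;> rw [r]
    · exact hq1
    · rw [← hurel]; exact Commute.mul_right hqu.symm hq1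
  · intro e
    have h := (Commute.conj_iff k).2 (show Commute (k⁻¹ * q * k) z from e)
    rw [show k * (k⁻¹ * q * k) * k⁻¹ = q by group, hkz] at h
    exact hqs h.eq

/-- Involutions of `T` conjugate to `z` with trivial second class are fused to `⟨z, s⟩` in `K`. -/
theorem exists_fuse {a : G} (ha : a ∈ Q) (haT : a ∈ Subgroup.centralizer ({z, s, t} : Set G))
    {p : V6} (hp : p = mk6 4 ∨ p = mk6 8) (hcl : T.frame.Cl a p 0) :
    ∃ g ∈ Kgrp θ t, MemE z s (g * a * g⁻¹) := by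
  classical
  have : Fact (Nat.Prime 2) := ⟨Nat.prime_two⟩
  have F := T.frame
  obtain ⟨k, h, hka, hkh, hhK, hhz⟩ := T.exists_outside ha haT hp hcl
  obtain ⟨T', hT'⟩ : ∃ T', T' = Subgroup.centralizer ({z, s, t} : Set G) := ⟨_, rfl⟩
  obtain ⟨M, hM⟩ : ∃ M, M = T' ⊓ Subgroup.centralizer ({a} : Set G) := ⟨_, rfl⟩
  obtain ⟨N, hN⟩ : ∃ N, N = Q.map (MulAut.conj k⁻¹).toMonoidHom ⊓
      (Kgrp θ t ⊓ Subgroup.centralizer ({a} : Set G)) := ⟨_, rfl⟩
  have hNk : ∀ x, x ∈ N ↔ k * x * k⁻¹ ∈ Q ∧ x ∈ Kgrp θ t ∧ x * a = a * x := by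
    intro x
    rw [hN, Subgroup.mem_inf, Subgroup.mem_inf, Subgroup.mem_centralizer_singleton_iff]
    refine and_congr ⟨?_, fun hx => ⟨_, hx, by simp [mul_assoc]⟩⟩ Iff.rfl
    rintro ⟨q, hq, rfl⟩
    simpa [mul_assoc] using hq
  have hMmem : ∀ x, x ∈ M → x ∈ Kgrp θ t ∧ x * a = a * x ∧ x * z = z * x := fun x hx => by
    rw [hM, Subgroup.mem_inf, Subgroup.mem_centralizer_singleton_iff, hT'] at hx
    exact ⟨T.Tgrp_le_K hx.1, hx.2, (T.mem_Tgrp.1 hx.1).1⟩
  have hnorm : M ≤ Subgroup.normalizer (N : Set G) := by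
    intro m hm
    rw [Subgroup.mem_normalizer_iff]
    obtain ⟨hmK, hma, -⟩ := hMmem m hm
    have key : ∀ m, m ∈ Kgrp θ t → m * a = a * m → ∀ x, x ∈ N → m * x * m⁻¹ ∈ N := by
      intro m hmK hma x hx
      obtain ⟨h1, h2, h3⟩ := (hNk x).1 hx
      refine (hNk _).2 ⟨?_, mul_mem (mul_mem hmK h2) (inv_mem hmK),
        ((Commute.mul_left hma h3).mul_left (Commute.inv_left hma)).eq⟩
      have hcz := (Commute.conj_iff k).2 (show Commute m a from hma)
      rw [hka] at hcz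
      have := F.data.sub.conj_mem hcz.eq h1
      rwa [show k * m * k⁻¹ * (k * x * k⁻¹) * (k * m * k⁻¹)⁻¹ = k * (m * x * m⁻¹) * k⁻¹ by group] at this
    intro x
    refine ⟨key m hmK hma x, fun hx => ?_⟩
    have := key m⁻¹ (inv_mem hmK) (Commute.inv_left hma).eq _ hx
    rwa [show m⁻¹ * (m * x * m⁻¹) * m⁻¹⁻¹ = x by group] at this
  have hTp : IsPGroup 2 T' := hT' ▸ T.Tgrp_isPGroup
  have hMp : IsPGroup 2 M := hTp.to_le (hM ▸ inf_le_left)
  have hNp : IsPGroup 2 N := (F.data.sub.extra.1.1.map _).to_le (hN ▸ inf_le_left)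
  have hSp : IsPGroup 2 (M ⊔ N : Subgroup G) := IsPGroup.to_sup_of_normal_right' hMp hNp hnorm
  have hle : ∀ x ∈ M ⊔ N, x ∈ Kgrp θ t ⊓ Subgroup.centralizer ({a} : Set G) := by
    have : M ⊔ N ≤ Kgrp θ t ⊓ Subgroup.centralizer ({a} : Set G) := by
      refine sup_le (fun x hx => ?_) (hN ▸ inf_le_right)
      exact Subgroup.mem_inf.2
        ⟨(hMmem x hx).1, Subgroup.mem_centralizer_singleton_iff.2 (hMmem x hx).2.1⟩
    exact fun x hx => this hx
  obtain ⟨g, hgK, hg⟩ := T.exists_conj_T hSp fun x hx => (hle x hx).1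
  have haM : a ∈ M := by
    rw [hM, hT']
    exact Subgroup.mem_inf.2 ⟨haT, Subgroup.mem_centralizer_singleton_iff.2 rfl⟩
  have hgaT := hg a (Subgroup.mem_sup_left haM)
  obtain ⟨A, U, hAU, hTc⟩ := T.exists_cl_T hgaT
  have ha2 : a * a = 1 := hcl.sq_eq_one_iff.2 (by rcases hp with rfl | rfl <;> decide)
  have ha1 : a ≠ 1 := fun e => by
    subst e
    have h0 := (hcl.unique F.cl_one).1
    rcases hp with rfl | rfl <;> exact absurd h0 (by decide)
  have hga2 : g * a * g⁻¹ * (g * a * g⁻¹) = 1 := by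
    rw [show g * a * g⁻¹ * (g * a * g⁻¹) = g * (a * a) * g⁻¹ by group, ha2]; group
  have hqU : q6 U = false := (F.isConj_z_iff hAU hga2 fun e => ha1 (conj_eq_one_iff.1 e)).1
    ((F.isConj_z_of_iso hcl ha2 ha1 q6_zero).trans (isConj_iff.2 ⟨g, rfl⟩))
  obtain ⟨hqA, hqU'⟩ := hAU.sq_eq_one_iff.1 hga2
  have hiso := iso_classes hAU.inU_left hAU.inU_right hTc hqA hqU' hqU
  have hcount := List.all_eq_true.1 iso_count' (A, U) hiso
  simp only [Bool.or_eq_true, decide_eq_true_eq] at hcount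
  rcases hcount with e | e
  · simp only [Prod.mk.injEq] at e
    obtain ⟨rfl, rfl⟩ := e
    obtain ⟨i, j, e⟩ := hAU.eq_zE
    exact ⟨g, hgK, e ▸ F.memE_zE i j⟩
  exfalso
  -- the centraliser of the image in `T` is too small
  have h64 : Nat.card {x : G // ∃ A' U', F.Cl x A' U' ∧ (Tcond A' U' ∧ Ccond A U A' U')} = 64 := by
    rw [F.card_cl fun A' U' => Tcond A' U' ∧ Ccond A U A' U', e]
  have hinj : Nat.card (M ⊔ N : Subgroup G) ≤ 64 := by
    rw [← h64]
    refine Nat.card_le_card_of_injective (fun x => ⟨g * (x : G) * g⁻¹, ?_⟩) fun x y hxy =>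
      Subtype.ext (mul_left_cancel (mul_right_cancel (congrArg Subtype.val hxy)))
    obtain ⟨A', U', hx', hT''⟩ := T.exists_cl_T (hg x x.2)
    refine ⟨A', U', hx', hT'', (hAU.commute_iff hx').1 ?_⟩
    exact ((Commute.conj_iff g).2
      (show Commute (x : G) a from Subgroup.mem_centralizer_singleton_iff.1 (hle x x.2).2)).eq
  have hiso' : (p, (0 : V6)) ∈ isoList := by rcases hp with rfl | rfl <;> simp [isoList]
  have hcount' := List.all_eq_true.1 iso_count' (p, 0) hiso'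
  simp only [Bool.or_eq_true, decide_eq_true_eq] at hcount'
  rcases hcount' with e' | e'
  · rcases hp with rfl | rfl <;> exact absurd (congrArg Prod.fst e') (by decide)
  have hMcard : 64 ≤ Nat.card M := by
    have h64' : Nat.card {x : G // ∃ A' U', F.Cl x A' U' ∧ (Tcond A' U' ∧ Ccond p 0 A' U')} = 64 := by
      rw [F.card_cl fun A' U' => Tcond A' U' ∧ Ccond p 0 A' U', e']
    rw [← h64']
    refine Nat.card_le_card_of_injective (fun x => ⟨x.1, ?_⟩) fun x y hxy =>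
      Subtype.ext (congrArg (fun w : M => (w : G)) hxy :)
    obtain ⟨A', U', hx', hT'', hC⟩ := x.2
    rw [hM, hT']
    exact Subgroup.mem_inf.2 ⟨T.mem_T_of_cl hx' hT'',
      Subgroup.mem_centralizer_singleton_iff.2 ((hcl.commute_iff hx').2 hC)⟩
  have hhN : h ∈ N := (hNk h).2 ⟨hkh, hhK, by
    have h2 := (Commute.conj_iff k⁻¹).2
      (show Commute (k * h * k⁻¹) z from F.data.Q_comm hkh)
    rw [show k⁻¹ * (k * h * k⁻¹) * k⁻¹⁻¹ = h by group,
      show k⁻¹ * z * k⁻¹⁻¹ = a by rw [← hka]; group] at h2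
    exact h2.eq⟩
  have hlt : M < M ⊔ N := lt_of_le_of_ne le_sup_left fun e2 =>
    hhz (hMmem h (e2 ▸ Subgroup.mem_sup_right hhN)).2.2
  have : Nat.card M < Nat.card (M ⊔ N : Subgroup G) :=
    Set.Finite.card_lt_card (Set.toFinite _) hlt
  omega

end Four

end CfsgLib.SuzType
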