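import Cfsg.Agent.SuzType.Rho

/-!
# Four groups of isometries fixing a singular point and normalised by `θ`
-/

set_option autoImplicit false

namespace CfsgLib.SuzType

theorem sig_facts : (∀ w : V6, pU (sig w) = sig (pU w)) ∧ (∀ w : V6, b6 (sig w) s0 = b6 w s0) := by
  decide +kernel

theorem sig_inU {v : V6} (hv : InU v) : InU (sig v) := by
  show pU (sig v) = sig v
  rw [sig_facts.1, show pU v = v from hv]

/-- Images of the basis of the orthogonal of `s0, d0` under its isometries. -/
def uIsoList : List (List V6) :=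
  let S : List V6 := uSingList
  let N : List V6 := uNsList
  S.flatMap fun a => (S.filter fun c => b6 a c).flatMap fun c =>
    (N.filter fun e => !b6 e a && !b6 e c).flatMap fun e =>
      (N.filter fun f => !b6 f a && !b6 f c && b6 e f).map fun f => [0, 0, a, c, e, f]

/-- The relations of a four group on the orthogonal of `s0, d0`. -/
def condU (l : List V6) : Bool :=
  ([mk6 4, mk6 8, mk6 16, mk6 32] : List V6).all fun x =>
    decide (app6 l (app6 l x) = x) &&
      decide (app6 l (sig (app6 l (sig (sig x)))) = sig (sig (app6 l (sig x))))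

/-- The nontrivial solutions. -/
def hKeep : List (List V6) :=
  ([[4, 28, 16, 36], [4, 44, 20, 32], [4, 60, 20, 36], [28, 8, 16, 40], [44, 8, 24, 32],
    [60, 8, 24, 40]] : List (List ℕ)).map fun l => 0 :: 0 :: l.map mk6

theorem hKeep_spec : (uIsoList.all fun l => !condU l ||
    (decide (l ∈ hKeep) || decide (l = [0, 0, mk6 4, mk6 8, mk6 16, mk6 32]))) = true := by
  decide +kernel

/-- The images of the standard basis under an isometry fixing `s0` with given data. -/
def gcode (u : V6) (l : List V6) : List V6 :=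
  s0 :: (d0 + u + sm (q6 u) s0) :: (l.drop 2).map fun y => y + sm (b6 y u) s0

/-- The relations of a four group. -/
def cond6 (l : List V6) : Bool :=
  basis6.all fun x => decide (app6 l (app6 l x) = x) &&
      decide (app6 l (sig (app6 l (sig (sig x)))) = sig (sig (app6 l (sig x))))

/-- The vectors of `U`. -/
def uList : List V6 := ((List.range 16).map fun n => mk6 (4 * n))

theorem uList_spec : ∀ u : V6, InU u → u ∈ uList := by decide +kernel

theorem hFix_spec : (hKeep.all fun l => uList.all fun u => !cond6 (gcode u l) ||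
    ((List.range 64).map mk6).any fun v =>
      b6 v s0 && (decide (sig v = v) && decide (app6 (gcode u l) v = v))) = true := by
  decide +kernel

theorem expand_orth : ∀ y : V6, b6 y s0 = false → ∀ u : V6, InU u →
    b6 y (d0 + u + sm (q6 u) s0) = false → y = pU y + sm (b6 (pU y) u) s0 := by decide +kernel

theorem app6_inU (a c : V6) (l : List V6) {v : V6} (hv : InU v) :
    app6 (a :: c :: l) v = app6 (0 :: 0 :: l) v := by
  obtain ⟨k, hk⟩ : ∃ k, v.bits = 4 * k := by
    have h : v.bits % 4 = 0 := by
      have h1 : (pU v).bits % 4 = 0 := by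
        show (mk6 (4 * (v.bits / 4))).bits % 4 = 0
        show 4 * (v.bits / 4) % 64 % 4 = 0
        omega
      rwa [show pU v = v from hv] at h1
    exact ⟨v.bits / 4, by omega⟩
  have h1 : v.bits % 2 = 0 := by omega
  have h2 : v.bits / 2 % 2 = 0 := by omega
  simp [app6, bitsum, h1, h2]

/-- A four group of isometries fixing `s0`, normalised by `θ` and nontrivial on the orthogonal
modulo `s0`, fixes a vector outside that orthogonal together with `θ`. -/
theorem exists_fixed_v {g : V6 → V6} (hg : IsIso6 g) (hs : g s0 = s0) (h2 : ∀ v, g (g v) = v)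
    (hrel : ∀ v, g (sig (g (sig (sig v)))) = sig (sig (g (sig v))))
    (hnt : ¬ ∀ v, InU v → pU (g v) = v) :
    ∃ v, b6 v s0 = true ∧ sig v = v ∧ g v = v := by
  obtain ⟨l, hl⟩ : ∃ l, l = [0, 0, pU (g (mk6 4)), pU (g (mk6 8)), pU (g (mk6 16)), pU (g (mk6 32))] :=
    ⟨_, rfl⟩
  -- the induced map
  have happ : ∀ v, InU v → app6 l v = pU (g v) := by
    intro v hv
    have h : app6 (code6 fun w => pU (g w)) v = pU (g v) := by
      rw [app6, code6, bitsum_map (fun a b => by simp only [hg.add, pU_add])
        (by rw [hg.zero, pU_zero])]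
      exact congrArg (fun w => pU (g w)) (app6_basis v)
    rw [← h, hl]
    exact (app6_inU _ _ _ hv).symm
  have hmap : ∀ w, b6 w s0 = false → pU (g w) = app6 l (pU w) := fun w hw => by
    rw [happ _ (pU_pU w), hg.pU_map_pU hs hw]
  have hbasis : ∀ x ∈ ([mk6 4, mk6 8, mk6 16, mk6 32] : List V6), InU x := by decide +kernel
  have hcond : condU l = true := by
    rw [condU, List.all_eq_true]
    intro x hx
    have hxU := hbasis x hx
    have hxo := (inU_orth x hxU).1
    have hs2 : InU (sig (sig x)) := sig_inU (sig_inU hxU)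
    rw [Bool.and_eq_true, decide_eq_true_eq, decide_eq_true_eq]
    constructor
    · rw [happ x hxU, ← hmap _ (hg.orth_s0 hs hxo), h2]
      exact hxU
    · rw [happ _ hs2, ← sig_facts.1,
        ← hmap _ (by rw [sig_facts.2]; exact hg.orth_s0 hs (inU_orth _ hs2).1), hrel,
        sig_facts.1, sig_facts.1, happ _ (sig_inU hxU)]
  have hmem : l ∈ uIsoList := by
    have o : ∀ n, n ∈ [4, 8, 16, 32] → b6 (mk6 n) s0 = false := by decide +kernel
    have hq : ∀ n, n ∈ [4, 8, 16, 32] → q6 (pU (g (mk6 n))) = q6 (mk6 n) := fun n hn =>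
      hg.q6_pU_map hs (o n hn)
    have hb : ∀ n, n ∈ [4, 8, 16, 32] → ∀ k, k ∈ [4, 8, 16, 32] →
        b6 (pU (g (mk6 n))) (pU (g (mk6 k))) = b6 (mk6 n) (mk6 k) := fun n hn k hk =>
      hg.b6_pU_map hs (o n hn) (o k hk)
    have hne : ∀ n, n ∈ [4, 8] → pU (g (mk6 n)) ≠ 0 := by
      intro n hn e
      have h4 : b6 (pU (g (mk6 4))) (pU (g (mk6 8))) = true := by
        rw [hb 4 (by simp) 8 (by simp)]; decide
      simp only [List.mem_cons, List.not_mem_nil, or_false] at hn
      rcases hn with rfl | rfl <;> rw [e] at h4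
      · rw [b6_zero_left] at h4; exact Bool.noConfusion h4
      · rw [b6_zero_right] at h4; exact Bool.noConfusion h4
    simp only [uIsoList, List.mem_flatMap, List.mem_map, List.mem_filter]
    refine ⟨_, uSingList_facts.2 _ (pU_pU _) ?_ (hne 4 (by simp)), _,
      ⟨uSingList_facts.2 _ (pU_pU _) ?_ (hne 8 (by simp)), ?_⟩, _,
      ⟨uNsList_facts.2 _ (pU_pU _) ?_, ?_⟩, _, ⟨uNsList_facts.2 _ (pU_pU _) ?_, ?_⟩, hl.symm⟩ <;>
      simp only [hq, hb, List.mem_cons, true_or, or_true] <;> decide +kernel
  have h1 := List.all_eq_true.1 hKeep_spec l hmem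
  rw [hcond] at h1
  simp only [Bool.not_true, Bool.false_or, Bool.or_eq_true, decide_eq_true_eq] at h1
  rcases h1 with hk | hk
  swap
  · refine absurd (fun v hv => ?_) hnt
    rw [← happ v hv, hk]
    refine (app6_inU (mk6 1) (mk6 2) [mk6 4, mk6 8, mk6 16, mk6 32] hv).symm.trans ?_
    exact app6_basis v
  obtain ⟨u, hu⟩ : ∃ u, u = pU (g d0) := ⟨_, rfl⟩
  have hgd : g d0 = d0 + u + sm (q6 u) s0 := by
    rw [hu]; exact d0_image _ (by rw [hg.quad]; decide) (by rw [← hs, hg.polar]; decide)
  have hcode : code6 g = gcode u l := by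
    have hx : ∀ x, InU x → g x = pU (g x) + sm (b6 (pU (g x)) u) s0 := fun x hxU => by
      refine expand_orth _ (hg.orth_s0 hs (inU_orth x hxU).1) u (hu ▸ pU_pU _) ?_
      rw [← hgd, hg.polar]
      exact (inU_orth x hxU).2
    show [g s0, g d0, g (mk6 4), g (mk6 8), g (mk6 16), g (mk6 32)] = _
    rw [hl, gcode, hs, hgd, hx (mk6 4) (by decide), hx (mk6 8) (by decide), hx (mk6 16) (by decide),
      hx (mk6 32) (by decide)]
    simp only [pU_add, pU_pU]
    have hp : ∀ (b : Bool) (w : V6), pU w + pU (sm b s0) = pU w := fun b w => by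
      cases b <;> simp [sm, pU_zero, pU_s0]
    simp [hp]
  have hall := List.all_eq_true.1 (List.all_eq_true.1 hFix_spec l hk) u
    (uList_spec u (hu ▸ pU_pU _))
  have hgapp : ∀ v, app6 (gcode u l) v = g v := fun v => by rw [← hcode, hg.app6_code]
  have hc6 : cond6 (gcode u l) = true := by
    rw [cond6, List.all_eq_true]
    intro x _
    simp only [hgapp, Bool.and_eq_true, decide_eq_true_eq]
    exact ⟨h2 x, hrel x⟩
  rw [hc6] at hall
  simp only [Bool.not_true, Bool.false_or, List.any_eq_true, Bool.and_eq_true, decide_eq_true_eq,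
    hgapp] at hall
  obtain ⟨v, -, h⟩ := hall
  exact ⟨v, h⟩

end CfsgLib.SuzType
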