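import Cfsg.Agent.SuzType.Rel

/-!
# The involutions of `C(z)` by their classes
-/

set_option autoImplicit false

namespace CfsgLib.SuzType

open CfsgLib.LargeExtraspecial

theorem pU_s0 : pU s0 = 0 := by decide

namespace Frame

variable {G : Type*} [Group G] {z s : G} {Q P : Subgroup G} {π : G → V6}
  (F : Frame z Q π P s)
include F

theorem conj_z_comm {c x : G} (hc : c * z = z * c) (hx : x * z = z * x) :
    c * x * c⁻¹ * z = z * (c * x * c⁻¹) :=
  ((Commute.mul_left hc hx).mul_left (Commute.inv_left hc)).eq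

theorem pU_act_mul {m n : G} (hm : m * z = z * m) (hms : m * s = s * m) (hn : n * z = z * n)
    (hns : n * s = s * n) {v : V6} (hv : b6 v s0 = false) :
    pU (F.data.act (m * n) v) = pU (F.data.act m (pU (F.data.act n v))) := by
  rw [F.data.act_mul hm hn, (F.data.act_iso hm).pU_map_pU (F.act_s hm hms)
    ((F.data.act_iso hn).orth_s0 (F.act_s hn hns) hv)]

theorem pU_act_inv {c : G} (hc : c * z = z * c) (hcs : c * s = s * c) {v : V6} (hv : InU v) :
    pU (F.data.act c⁻¹ (pU (F.data.act c v))) = v := by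
  rw [← F.pU_act_mul (Commute.inv_left hc).eq (Commute.inv_left hcs).eq hc hcs (inU_orth v hv).1,
    inv_mul_cancel, F.data.act_one]
  exact hv

/-- The elements of `C(z) ∩ C(s)` realise all anisotropic pairs. -/
theorem exists_pair_map {A U : V6} (hA : InU A) (hU : InU U) (hqA : q6 A = true) (hqU : q6 U = true)
    (hb : b6 A U = true) : ∃ n, n * z = z * n ∧ n * s = s * n ∧
      pU (F.data.act n a0) = A ∧ pU (F.data.act n u0) = U :=
  (chainOK_prop (P := fun x : V6 × V6 => ∃ n, n * z = z * n ∧ n * s = s * n ∧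
      pU (F.data.act n a0) = x.1 ∧ pU (F.data.act n u0) = x.2)
    ⟨1, by simp, by simp, by rw [F.data.act_one]; exact std_pair.1,
      by rw [F.data.act_one]; exact std_pair.2.1⟩
    (fun g hg x hx => by
      obtain ⟨p, hp, rfl⟩ := List.mem_map.1 hg
      obtain ⟨n, hn, hns, h1, h2⟩ := hx
      obtain ⟨m, hm, hms, hmv⟩ := F.exists_pr (hsGens_ok p hp).1 (hsGens_ok p hp).2
      refine ⟨m * n, (Commute.mul_left hm hn).eq, (Commute.mul_left hms hns).eq, ?_, ?_⟩
      · rw [F.pU_act_mul hm hms hn hns (inU_orth _ std_pair.1).1, h1, hmv]; rfl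
      · rw [F.pU_act_mul hm hms hn hns (inU_orth _ std_pair.2.1).1, h2, hmv]; rfl)
    pairList pairList_facts.1) (A, U) (pairList_facts.2 A hA U hU hqA hqU hb)

variable [Finite G]

theorem exists_cl_of_act {y : G} (hy : y * z = z * y) (hys : y * s = s * y) {u : V6} (hu : InU u)
    (hact : ∀ v, F.data.act y v = sie u v) : ∃ A, F.Cl y A u := by
  obtain ⟨w, hw, hwz, hwu⟩ := F.exists_ups hu
  have hwi : w⁻¹ * z = z * w⁻¹ := (Commute.inv_left hwz).eq
  have haz : y * w⁻¹ * z = z * (y * w⁻¹) := (Commute.mul_left hy hwi).eq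
  refine ⟨cls π (y * w⁻¹), y * w⁻¹, w, F.data.mem_of_act haz fun v => ?_,
    (Commute.mul_left hys (Commute.inv_left (F.W_comm_s hw))).eq, hw, hwz, rfl, hwu, by group⟩
  rw [F.data.act_mul hy hwi, hact, ← hwu, ← F.act_W hw hwz, ← F.data.act_mul hwz hwi,
    mul_inv_cancel, F.data.act_one]

/-- Membership of `R`. -/
theorem exists_cl_of_triv {c : G} (hc : c * z = z * c) (hcs : c * s = s * c)
    (h : ∀ v, InU v → pU (F.data.act c v) = v) : ∃ A U, F.Cl c A U := by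
  obtain ⟨f, hf⟩ : ∃ f, f = F.data.act c := ⟨_, rfl⟩
  have hiso : IsIso6 f := hf ▸ F.data.act_iso hc
  have hs : f s0 = s0 := hf ▸ F.act_s hc hcs
  refine (F.exists_cl_of_act hc hcs (pU_pU (f d0)) fun v => ?_).elim fun A hA => ⟨A, _, hA⟩
  rw [← hf]
  refine hiso.eq_sie hs (fun x hx => pU_eq_zero _ ?_ ?_) v
  · rw [pU_add, ← hiso.pU_map_pU hs hx, hf, h _ (pU_pU x), add_self6]
  · rw [b6_add_left, hx, hiso.orth_s0 hs hx]; rfl

theorem comm_s_of_invol {y : G} (hy : y * z = z * y) (h2 : y * y = 1) {u : V6} (hu : InU u)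
    (hu0 : u ≠ 0) (hact : ∀ v, F.data.act y v = sie u v) : y * s = s * y := by
  obtain ⟨w, hw, hwz, hwu⟩ := F.exists_ups hu
  have hwi : w⁻¹ * z = z * w⁻¹ := (Commute.inv_left hwz).eq
  obtain ⟨a, rfl⟩ : ∃ a, y = a * w := ⟨y * w⁻¹, by group⟩
  have haz : a * z = z * a := by
    have := (Commute.mul_left hy hwi).eq
    rwa [mul_inv_cancel_right] at this
  have haQ : a ∈ Q := F.data.mem_of_act haz fun v => by
    rw [show a = a * w * w⁻¹ by group, F.data.act_mul hy hwi, hact, ← hwu,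
      ← F.act_W hw hwz, ← F.data.act_mul hwz hwi, mul_inv_cancel, F.data.act_one]
  have hww : MemE z s (w * w) := by
    rw [F.sq_formula hw hwz]; split
    · exact Or.inr (Or.inr (Or.inl rfl))
    · exact Or.inl rfl
  have hwwQ := (F.memE_mem hww).1
  have e : w * a * w⁻¹ = a⁻¹ * (w * w)⁻¹ := by
    calc w * a * w⁻¹ = a⁻¹ * (a * w * (a * w)) * (w * w)⁻¹ := by group
      _ = a⁻¹ * (w * w)⁻¹ := by rw [h2, mul_one]
  have hπ := congrArg π e
  rw [← F.data.act_π hwz haQ, F.act_W hw hwz, hwu, F.data.map_mul _ (inv_mem haQ) _ (inv_mem hwwQ),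
    F.data.π_inv haQ, F.data.π_inv hwwQ] at hπ
  refine (Commute.mul_left ((F.comm_s_iff haQ).2 (sie_moves u hu hu0 _ ?_)) (F.W_comm_s hw)).eq
  rw [hπ, add_comm (π a), add_add_cancel6]
  exact (F.memE_iff_cls hwwQ).1 hww

/-- An involution of `C(z)` outside `Q` has a conjugate in `R` with nonzero second class. -/
theorem exists_conj_R {x : G} (hx : x * z = z * x) (h2 : x * x = 1) (hxQ : x ∉ Q) :
    ∃ c A U, c * z = z * c ∧ U ≠ 0 ∧ F.Cl (c * x * c⁻¹) A U := by
  obtain ⟨c, u, hc, hu, hu0, hact⟩ := F.data.exists_conj_sie hx h2 hxQ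
  have hyz := F.conj_z_comm hc hx
  have hyy : c * x * c⁻¹ * (c * x * c⁻¹) = 1 := by
    rw [show c * x * c⁻¹ * (c * x * c⁻¹) = c * (x * x) * c⁻¹ by group, h2]; group
  obtain ⟨A, hA⟩ := F.exists_cl_of_act hyz (F.comm_s_of_invol hyz hyy hu hu0 hact) hu hact
  exact ⟨c, A, u, hc, hu0, hA⟩

/-- Involutions of `R` with isotropic classes are conjugate to `z`. -/
theorem isConj_z_of_iso {x : G} {A U : V6} (h : F.Cl x A U) (h2 : x * x = 1) (h1 : x ≠ 1)
    (hq : q6 U = false) : IsConj z x := by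
  have key : ∀ {y : G} {A' U' : V6}, F.Cl y A' U' → y * y = 1 → y ≠ 1 →
      (A' = 0 ∨ U' = 0) → IsConj z y := by
    intro y A' U' hy hyy hy1 hAU
    obtain ⟨a, w, ha, has, hw, hwz, rfl, rfl, rfl⟩ := hy
    rcases hAU with h0 | h0
    · by_cases hys : a * w = s
      · rw [hys]; exact F.isConj_z_s
      exact F.isConj_of_mem_P (mul_mem (F.memE_mem (F.memE_of_cls ha has h0)).2 hw) hyy hy1 hys
    · by_cases hyz : a * w = z
      · rw [hyz]
      exact F.isConj_of_mem (mul_mem ha (F.memE_mem (F.memE_of_ups hw hwz h0)).1) hyy hy1 hyz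
  by_cases hA0 : A = 0
  · exact key h h2 h1 (Or.inl hA0)
  by_cases hU0 : U = 0
  · exact key h h2 h1 (Or.inr hU0)
  obtain ⟨hqA, hqU⟩ := h.sq_eq_one_iff.1 h2
  rw [hq] at hqU
  rw [← hqU] at hqA
  have hAU := singular_orth_eq _ h.inU_left _ h.inU_right hA0 hU0 hqA hq hqU.symm
  obtain ⟨q, hq', -, -, -, hqb⟩ := F.exists_not_comm
  have h' := h.conjQ hq' hqb
  have hc : IsConj x (q * x * q⁻¹) := isConj_iff.2 ⟨q, rfl⟩
  exact (key h' (by rw [show q * x * q⁻¹ * (q * x * q⁻¹) = q * (x * x) * q⁻¹ by group, h2]; group)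
    (fun e => h1 (conj_eq_one_iff.1 e)) (Or.inl (by rw [hAU, add_self6]))).trans hc.symm

theorem aniso_of_not_isConj {x : G} {A U : V6} (h : F.Cl x A U) (h2 : x * x = 1) (h1 : x ≠ 1)
    (hn : ¬ IsConj z x) : q6 A = true ∧ q6 U = true ∧ b6 A U = true := by
  obtain ⟨hqA, hqU⟩ := h.sq_eq_one_iff.1 h2
  cases hq : q6 U
  · exact absurd (F.isConj_z_of_iso h h2 h1 hq) hn
  · rw [hq] at hqU
    exact ⟨hqA.trans hqU.symm, rfl, hqU.symm⟩

theorem not_isConj_aniso {x : G} {A U : V6} (h : F.Cl x A U) (hqA : q6 A = true) (hqU : q6 U = true)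
    (hb : b6 A U = true) : ¬ IsConj z x := by
  obtain ⟨a, w, ha, has, hw, hwz, hA, hU, -⟩ := F.exists_std
  obtain ⟨a1, w1, ha1, has1, hw1, hwz1, rfl, rfl, rfl⟩ := h
  exact fun hc => F.not_isConj ha has hw hwz hA hU
    (hc.trans (F.isConj_aniso ha has hw hwz hA hU ha1 has1 hw1 hwz1 hqA hqU hb).symm)

theorem isConj_z_iff {x : G} {A U : V6} (h : F.Cl x A U) (h2 : x * x = 1) (h1 : x ≠ 1) :
    IsConj z x ↔ q6 U = false := by
  refine ⟨fun hc => ?_, F.isConj_z_of_iso h h2 h1⟩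
  obtain ⟨hqA, hqU⟩ := h.sq_eq_one_iff.1 h2
  cases hq : q6 U
  · rfl
  · rw [hq] at hqU
    exact absurd hc (F.not_isConj_aniso h (hqA.trans hqU.symm) hq hqU.symm)

/-- The anisotropic elements are conjugate under `C(z) ∩ C(s)`. -/
theorem exists_conj_eq {t x : G} {A U : V6} (ht : F.Cl t a0 u0) (h : F.Cl x A U)
    (hqA : q6 A = true) (hqU : q6 U = true) (hb : b6 A U = true) :
    ∃ c, c * z = z * c ∧ c * s = s * c ∧ c * t * c⁻¹ = x := by
  obtain ⟨n, hn, hns, h1, h2⟩ := F.exists_pair_map h.inU_left h.inU_right hqA hqU hb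
  have ht' := ht.conjC hn hns
  rw [h1, h2] at ht'
  obtain ⟨i, j, e⟩ := ht'.eq_zE_mul h
  obtain ⟨v, hv, hvA, hvU⟩ := fuse _ h.inU_left _ h.inU_right hqA hb hqU (xor i j) j
  obtain ⟨q, hq⟩ := F.exists_cl hv (U := 0) (by decide)
  refine ⟨q * n, (Commute.mul_left hq.comm_z hn).eq, (Commute.mul_left hq.comm_s hns).eq, ?_⟩
  rw [show q * n * t * (q * n)⁻¹ = q * (n * t * n⁻¹) * q⁻¹ by group, ht'.conj_eq hq, hvA, hvU,
    b6_zero_left, b6_zero_left, Bool.xor_false, Bool.false_xor, Bool.xor_assoc, Bool.xor_self,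
    Bool.xor_false, e]

/-- All involutions of `C(z)` not conjugate to `z` are conjugate in `C(z)`. -/
theorem exists_conj_t {t x : G} (ht : F.Cl t a0 u0) (hx : x * z = z * x) (h2 : x * x = 1)
    (h1 : x ≠ 1) (hn : ¬ IsConj z x) : ∃ c, c * z = z * c ∧ c * t * c⁻¹ = x := by
  have hxQ : x ∉ Q := fun hxQ => hn (by
    by_cases hxz : x = z
    · rw [hxz]
    · exact F.isConj_of_mem hxQ h2 h1 hxz)
  obtain ⟨c, A, U, hc, -, hy⟩ := F.exists_conj_R hx h2 hxQ
  obtain ⟨hA, hU, hb⟩ := F.aniso_of_not_isConj hy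
    (by rw [show c * x * c⁻¹ * (c * x * c⁻¹) = c * (x * x) * c⁻¹ by group, h2]; group)
    (fun e => h1 (conj_eq_one_iff.1 e))
    (fun e => hn (e.trans (IsConj.symm (isConj_iff.2 ⟨c, rfl⟩))))
  obtain ⟨d, hd, -, hdt⟩ := F.exists_conj_eq ht hy hA hU hb
  refine ⟨c⁻¹ * d, (Commute.mul_left (Commute.inv_left hc) hd).eq, ?_⟩
  rw [show c⁻¹ * d * t * (c⁻¹ * d)⁻¹ = c⁻¹ * (d * t * d⁻¹) * c by group, hdt]
  group

end Frame

end CfsgLib.SuzType
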