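import Cfsg.Agent.SuzType.Fusion

/-!
# The involutions of `K`
-/

set_option autoImplicit false

namespace CfsgLib.SuzType

open CfsgLib.LargeExtraspecial

theorem iso_Tcond : ∀ p ∈ isoList, Tcond p.1 p.2 := by
  have h : (isoList.all fun p => decide (Tcond p.1 p.2)) = true := by decide +kernel
  exact fun p hp => of_decide_eq_true (List.all_eq_true.1 h p hp)

theorem iso_zero : ∀ p ∈ isoList, p.2 = 0 → p = (0, 0) ∨ (p.1 = mk6 4 ∨ p.1 = mk6 8) := by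
  have h : (isoList.all fun p => !decide (p.2 = 0) ||
      decide (p = (0, 0) ∨ (p.1 = mk6 4 ∨ p.1 = mk6 8))) = true := by decide +kernel
  intro p hp h2
  have := List.all_eq_true.1 h p hp
  rw [decide_eq_true h2] at this
  simpa using this

theorem iso_types : ∀ p ∈ isoList, q6 p.2 = false ∧ (p.2 = 0 ∨ p.1 = 0 ∨ p.1 = p.2) := by
  have h : (isoList.all fun p => decide (q6 p.2 = false ∧ (p.2 = 0 ∨ p.1 = 0 ∨ p.1 = p.2))) = true := by
    decide +kernel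
  exact fun p hp => of_decide_eq_true (List.all_eq_true.1 h p hp)

namespace Four

variable {G : Type*} [Group G] [Finite G] {z s θ t : G} {Q P : Subgroup G} {π : G → V6}
  (T : Four z Q π P s θ t)
include T

theorem memV_one : MemV θ t (1 : G) := Or.inl rfl

theorem memV_mul {v w : G} (hv : MemV θ t v) (hw : MemV θ t w) : MemV θ t (v * w) := by
  have h11 : ∀ x, t * (t * x) = x := fun x => by rw [← mul_assoc, T.t_sq, one_mul]
  have h22 : ∀ x, θ * t * θ⁻¹ * (θ * t * θ⁻¹ * x) = x := fun x => by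
    rw [← mul_assoc, T.t1_sq, one_mul]
  have hc : ∀ x, θ * t * θ⁻¹ * (t * x) = t * (θ * t * θ⁻¹ * x) := fun x => by
    rw [← mul_assoc, ← T.comm_t1, mul_assoc]
  obtain ⟨u, hu⟩ : ∃ u, u = θ * t * θ⁻¹ := ⟨_, rfl⟩
  rw [← hu] at h22 hc
  have huu : u * u = 1 := by rw [hu]; exact T.t1_sq
  have hut : u * t = t * u := by rw [hu]; exact T.comm_t1.symm
  unfold MemV at *
  rw [← hu] at hv hw ⊢
  rcases hv with r | r | r | r <;> rcases hw with r' | r' | r' | r' <;>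
    simp [r, r', T.t_sq, huu, hut, h11, h22, hc, mul_assoc]

theorem memV_inv {v : G} (hv : MemV θ t v) : MemV θ t v⁻¹ := by
  rwa [inv_eq_of_mul_eq_one_right (T.memV_sq hv)]

theorem memV_cl_zero {v : G} (hv : MemV θ t v) (h : T.frame.Cl v 0 0) : v = 1 := by
  have h1 : ∀ {x : G} {A U : V6}, T.frame.Cl x A U → T.frame.Cl x 0 0 → A = 0 := fun hx h0 =>
    (hx.unique h0).1
  rcases hv with r | r | r | r
  · exact r
  · exact absurd (h1 T.cl (r ▸ h :)) a0_ne.1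
  · exact absurd (h1 T.cl1 (r ▸ h :)) a0_ne.2.1
  · have h3 := T.cl.mul T.cl1
    rw [pair48.2.1] at h3
    exact absurd (h1 h3 (r ▸ h :)) (by decide)

/-- A nontrivial element of the four group times an element of `⟨z, s⟩` is not conjugate to `z`. -/
theorem not_isConj_memV_mul {v e : G} (hv : MemV θ t v) (hv1 : v ≠ 1) (he : MemE z s e) :
    ¬ IsConj z (v * e) := by
  have F := T.frame
  obtain ⟨p, hp, hcl⟩ := T.memV_classes hv
  have h := hcl.mul (F.cl_of_memE he)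
  rw [add_zero, add_zero] at h
  rcases four_aniso p hp with r | r
  · exact absurd (T.memV_cl_zero hv (r ▸ hcl :)) hv1
  intro hc
  have h2 : v * e * (v * e) = 1 := by
    obtain ⟨c, hc⟩ := isConj_iff.1 hc
    rw [← hc, show c * z * c⁻¹ * (c * z * c⁻¹) = c * (z * z) * c⁻¹ by group, F.data.sub.mul_self]
    group
  have h1 : v * e ≠ 1 := fun e' => F.data.sub.ne_one (by
    obtain ⟨c, hc⟩ := isConj_iff.1 hc
    rw [e'] at hc; exact conj_eq_one_iff.1 hc)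
  rw [(F.isConj_z_iff h h2 h1).1 hc] at r
  exact Bool.noConfusion r

theorem conj_mem_K {g x : G} (hg : g ∈ Kgrp θ t) (hx : x ∈ Kgrp θ t) : g * x * g⁻¹ ∈ Kgrp θ t :=
  mul_mem (mul_mem hg hx) (inv_mem hg)

theorem conj_memV {g v : G} (hg : g ∈ Kgrp θ t) (hv : MemV θ t v) : g * v * g⁻¹ = v :=
  mul_inv_eq_iff_eq_mul.2 (hv.comm hg)

/-- In a coset of the four group at most one element is conjugate to `z`. -/
theorem eq_one_of_isConj {v g : G} (hv : MemV θ t v) (hg : g ∈ Kgrp θ t)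
    (hc : IsConj z (v * (g * z * g⁻¹))) : v = 1 := by
  by_contra hv1
  refine T.not_isConj_memV_mul hv hv1 (Or.inr (Or.inl rfl)) ?_
  refine hc.trans (IsConj.symm (isConj_iff.2 ⟨g, ?_⟩))
  rw [show g * (v * z) * g⁻¹ = g * v * g⁻¹ * (g * z * g⁻¹) by group, T.conj_memV hg hv]

theorem sq_eq_one_of_memV {x : G} (hx : x ∈ Kgrp θ t) (hV : MemV θ t (x * x)) : x * x = 1 := by
  have : Fact (Nat.Prime 2) := ⟨Nat.prime_two⟩
  have h4 : x ^ (2 ^ 2) = 1 := by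
    rw [show x ^ (2 ^ 2) = x * x * (x * x) by simp [pow_succ, mul_assoc]]
    exact T.memV_sq hV
  have hp : IsPGroup 2 (Subgroup.zpowers x) := by
    obtain ⟨k, -, hk⟩ := (Nat.dvd_prime_pow Nat.prime_two).1 (orderOf_dvd_of_pow_eq_one h4)
    exact IsPGroup.of_card (n := k) (by rw [Nat.card_zpowers, hk])
  obtain ⟨g, hg, hgT⟩ := T.exists_conj_T hp (Subgroup.zpowers_le.2 hx)
  obtain ⟨A, U, h, -⟩ := T.exists_cl_T (hgT x (Subgroup.mem_zpowers x))
  have h2 := h.sq_eq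
  have he : g * x * g⁻¹ * (g * x * g⁻¹) = x * x := by
    rw [show g * x * g⁻¹ * (g * x * g⁻¹) = g * (x * x) * g⁻¹ by group, T.conj_memV hg hV]
  rw [he] at h2
  exact T.memV_cl_zero hV (h2 ▸ T.frame.cl_zE _ _)

/-- An involution of `T` of isotropic type is conjugate in `K` to `z`. -/
theorem exists_conj_iso {r : G} {p : V6 × V6} (hp : p ∈ isoList) (hcl : T.frame.Cl r p.1 p.2)
    (h2 : r * r = 1) (h1 : r ≠ 1) : ∃ g ∈ Kgrp θ t, g * z * g⁻¹ = r := by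
  have F := T.frame
  obtain ⟨ρ, hρz, hρs, hρθ, hρt⟩ := T.exists_rho
  have hρK := T.rho_mem_K hρθ hρt
  have hzs : ρ * (z * s) * ρ⁻¹ = z := by
    rw [show ρ * (z * s) * ρ⁻¹ = ρ * z * ρ⁻¹ * (ρ * s * ρ⁻¹) by group, hρz, hρs, ← mul_assoc,
      F.s_comm, mul_assoc, F.s_mul_self, mul_one]
  have hρT : ∀ g, (g = ρ ∨ g = ρ⁻¹) → ∀ x ∈ Subgroup.centralizer ({z, s, t} : Set G),
      g * x * g⁻¹ ∈ Subgroup.centralizer ({z, s, t} : Set G) := by
    intro g hg x hx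
    obtain ⟨c1, c2, c3⟩ := T.center_zE hx
    have hxt := (T.mem_Tgrp.1 hx).2.2
    rw [T.mem_Tgrp]
    rcases hg with rfl | rfl
    · refine ⟨?_, ?_, ?_⟩
      · have := ((Commute.conj_iff g).2 (show Commute x (z * s) from c3)).eq
        rwa [hzs] at this
      · have := ((Commute.conj_iff g).2 (show Commute x z from c1)).eq
        rwa [hρz] at this
      · have := ((Commute.conj_iff g).2 (show Commute x t from hxt)).eq
        rwa [mul_inv_eq_iff_eq_mul.2 hρt] at this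
    · have e1 : ρ⁻¹ * s * ρ⁻¹⁻¹ = z := by rw [← hρz]; group
      have e2 : ρ⁻¹ * (z * s) * ρ⁻¹⁻¹ = s := by rw [← hρs]; group
      have e3 : ρ⁻¹ * t * ρ⁻¹⁻¹ = t := mul_inv_eq_iff_eq_mul.2 (Commute.inv_left hρt).eq
      refine ⟨?_, ?_, ?_⟩
      · have := ((Commute.conj_iff ρ⁻¹).2 (show Commute x s from c2)).eq
        rwa [e1] at this
      · have := ((Commute.conj_iff ρ⁻¹).2 (show Commute x (z * s) from c3)).eq
        rwa [e2] at this
      · have := ((Commute.conj_iff ρ⁻¹).2 (show Commute x t from hxt)).eq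
        rwa [e3] at this
  have hEr : ∀ e, MemE z s e → e ≠ 1 → ∃ g ∈ Kgrp θ t, g * z * g⁻¹ = e := by
    intro e he h
    rcases he with e' | e' | e' | e'
    · exact absurd e' h
    · exact ⟨1, one_mem _, by rw [e']; group⟩
    · exact ⟨ρ, hρK, by rw [e', hρz]⟩
    · exact ⟨ρ * ρ, mul_mem hρK hρK, by
        rw [e', show ρ * ρ * z * (ρ * ρ)⁻¹ = ρ * (ρ * z * ρ⁻¹) * ρ⁻¹ by group, hρz, hρs]⟩
  have hrT := T.mem_T_of_cl hcl (iso_Tcond p hp)
  -- move to `Q`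
  obtain ⟨k, hkK, hkQ, hkT⟩ : ∃ k ∈ Kgrp θ t, k * r * k⁻¹ ∈ Q ∧
      k * r * k⁻¹ ∈ Subgroup.centralizer ({z, s, t} : Set G) := by
    obtain ⟨-, hp3⟩ := iso_types p hp
    obtain ⟨a, w, ha, has, hw, hwz, hA, hU, hr⟩ := id hcl
    rcases hp3 with r0 | r0 | r0
    · refine ⟨1, one_mem _, ?_, by rw [one_mul, inv_one, mul_one]; exact hrT⟩
      rw [one_mul, inv_one, mul_one, hr]
      exact mul_mem ha (F.memE_mem (F.memE_of_ups hw hwz (hU.trans r0))).1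
    · refine ⟨ρ⁻¹, inv_mem hρK, F.conj_P_mem ?_ ?_, hρT _ (Or.inr rfl) r hrT⟩
      · rw [← hρz]; group
      · rw [hr]
        exact mul_mem (F.memE_mem (F.memE_of_cls ha has (hA.trans r0))).2 hw
    · refine ⟨ρ, hρK, ?_, hρT _ (Or.inl rfl) r hrT⟩
      obtain ⟨q, hq, hqz, hqs, hqs', hqb⟩ := F.exists_not_comm
      have h' := hcl.conjQ hq hqb
      rw [r0, add_self6] at h'
      obtain ⟨a', w', ha', has', hw', -, hA', -, hr'⟩ := h'
      have hP : q * r * q⁻¹ ∈ P := hr' ▸ mul_mem (F.memE_mem (F.memE_of_cls ha' has' hA')).2 hw'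
      have hmap : ρ * q⁻¹ * s * (ρ * q⁻¹)⁻¹ = z := by
        rw [show ρ * q⁻¹ * s * (ρ * q⁻¹)⁻¹ = ρ * (q⁻¹ * s * q) * ρ⁻¹ by group, hqs', hzs]
      have := F.conj_P_mem hmap hP
      rwa [show ρ * q⁻¹ * (q * r * q⁻¹) * (ρ * q⁻¹)⁻¹ = ρ * r * ρ⁻¹ by group] at this
  obtain ⟨A, U, hAU, hT⟩ := T.exists_cl_T hkT
  have hk2 : k * r * k⁻¹ * (k * r * k⁻¹) = 1 := by
    rw [show k * r * k⁻¹ * (k * r * k⁻¹) = k * (r * r) * k⁻¹ by group, h2]; group
  have hk1 : k * r * k⁻¹ ≠ 1 := fun e => h1 (conj_eq_one_iff.1 e)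
  have hz : IsConj z (k * r * k⁻¹) :=
    (F.isConj_z_of_iso hcl h2 h1 (iso_types p hp).1).trans (isConj_iff.2 ⟨k, rfl⟩)
  have hU0 : U = 0 := by
    obtain ⟨hkU, -⟩ := (F.cl_of_Q hkQ (T.mem_Tgrp.1 hkT).2.1).unique hAU
    exact ((F.cl_of_Q hkQ (T.mem_Tgrp.1 hkT).2.1).unique hAU).2.symm
  subst hU0
  obtain ⟨hqA, hqU⟩ := hAU.sq_eq_one_iff.1 hk2
  have hiso := iso_classes hAU.inU_left hAU.inU_right hT hqA hqU q6_zero
  obtain ⟨e, g0, hg0, he, hee⟩ : ∃ e, ∃ g0 ∈ Kgrp θ t, MemE z s e ∧ e = g0 * (k * r * k⁻¹) * g0⁻¹ := by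
    rcases iso_zero _ hiso rfl with r0 | r0
    · simp only [Prod.mk.injEq, and_true] at r0
      subst r0
      obtain ⟨i, j, hij⟩ := hAU.eq_zE
      exact ⟨_, 1, one_mem _, hij ▸ F.memE_zE i j, by rw [one_mul, inv_one, mul_one]⟩
    · obtain ⟨g, hg, hgE⟩ := T.exists_fuse hkQ hkT r0 hAU
      exact ⟨_, g, hg, hgE, rfl⟩
  obtain ⟨g, hg, hge⟩ := hEr e he fun h => hk1 (conj_eq_one_iff.1 (hee.symm.trans h))
  refine ⟨k⁻¹ * g0⁻¹ * g, mul_mem (mul_mem (inv_mem hkK) (inv_mem hg0)) hg, ?_⟩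
  rw [show k⁻¹ * g0⁻¹ * g * z * (k⁻¹ * g0⁻¹ * g)⁻¹ = k⁻¹ * g0⁻¹ * (g * z * g⁻¹) * g0 * k by group,
    hge, hee]
  group

/-- Every involution of `K` outside the four group is a multiple of a conjugate of `z`. -/
theorem exists_conj_z {x : G} (hx : x ∈ Kgrp θ t) (h2 : x * x = 1) (hV : ¬ MemV θ t x) :
    ∃ v g, MemV θ t v ∧ g ∈ Kgrp θ t ∧ x = v * (g * z * g⁻¹) := by
  have : Fact (Nat.Prime 2) := ⟨Nat.prime_two⟩
  have F := T.frame
  have hp : IsPGroup 2 (Subgroup.zpowers x) := by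
    obtain ⟨k, -, hk⟩ := (Nat.dvd_prime_pow Nat.prime_two).1
      (orderOf_dvd_of_pow_eq_one (show x ^ 2 ^ 1 = 1 by rw [pow_one, pow_two, h2]))
    exact IsPGroup.of_card (n := k) (by rw [Nat.card_zpowers, hk])
  obtain ⟨g0, hg0, hgT⟩ := T.exists_conj_T hp (Subgroup.zpowers_le.2 hx)
  obtain ⟨y, hy⟩ : ∃ y, y = g0 * x * g0⁻¹ := ⟨_, rfl⟩
  have hyT := hy ▸ hgT x (Subgroup.mem_zpowers x)
  obtain ⟨A, U, h, hT⟩ := T.exists_cl_T hyT
  have hy2 : y * y = 1 := by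
    rw [hy, show g0 * x * g0⁻¹ * (g0 * x * g0⁻¹) = g0 * (x * x) * g0⁻¹ by group, h2]; group
  obtain ⟨hqA, hqU⟩ := h.sq_eq_one_iff.1 hy2
  obtain ⟨p, hp4, hiso⟩ := split_classes h.inU_left h.inU_right hT hqA hqU
  obtain ⟨v, hv, hvcl⟩ := T.cl_four hp4
  have hr := h.mul hvcl
  have hyv : y * v = v * y := hv.comm (T.Tgrp_le_K hyT)
  have hr2 : y * v * (y * v) = 1 := by
    rw [mul_assoc, ← mul_assoc v, ← hyv, mul_assoc y v v, T.memV_sq hv, mul_one, hy2]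
  have hback : ∀ w, MemV θ t w → y = w → x = w := fun w hw e => by
    rw [show x = g0⁻¹ * y * g0 by rw [hy]; group, e]
    have := T.conj_memV (inv_mem hg0) hw
    rwa [inv_inv] at this
  have hr1 : y * v ≠ 1 := fun e => hV (by
    have hyV : y = v := by
      rw [← inv_eq_of_mul_eq_one_right (T.memV_sq hv)]; exact eq_inv_of_mul_eq_one_left e
    rw [hback v hv hyV]; exact hv)
  obtain ⟨g, hg, hge⟩ := T.exists_conj_iso hiso hr hr2 hr1
  refine ⟨v, g0⁻¹ * g, hv, mul_mem (inv_mem hg0) hg, ?_⟩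
  rw [show g0⁻¹ * g * z * (g0⁻¹ * g)⁻¹ = g0⁻¹ * (g * z * g⁻¹) * g0 by group, hge,
    show g0⁻¹ * (y * v) * g0 = g0⁻¹ * y * g0 * (g0⁻¹ * v * g0) by group]
  have hvv := T.conj_memV (inv_mem hg0) hv
  rw [inv_inv] at hvv
  rw [hvv, show g0⁻¹ * y * g0 = x by rw [hy]; group, ← mul_assoc, ← hv.comm hx, mul_assoc,
    T.memV_sq hv, mul_one]

end Four

end CfsgLib.SuzType
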