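import Cfsg.Agent.SuzType.KInvol
import Cfsg.Agent.CITGroups.Main
import Cfsg.Agent.FGS74.ThreeOrders.OuterCIT
import Cfsg.Agent.EPPOFour.Main
import Cfsg.Agent.CITAlmost.Recognition
import Cfsg.Agent.BlockPairing.ItoSolvable

/-!
# `K` modulo the four group is `PSL₃` over four elements
-/

set_option autoImplicit false
set_option linter.style.haveILetI false

namespace CfsgLib.SuzType

open CfsgLib.LargeExtraspecial

/-- The vectors orthogonal to the anisotropic plane inside the orthogonal of `s0, d0`. -/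
def hypList : List V6 := [0, mk6 4, mk6 8, mk6 12]

theorem T_gen' : ∀ A : V6, InU A → ∀ U : V6, InU U → Tcond A U →
    (fourList.any fun p => hypList.contains (A + p.1) && hypList.contains (U + p.2)) = true := by
  decide +kernel

theorem T_gen {A U : V6} (hA : InU A) (hU : InU U) (hT : Tcond A U) :
    ∃ p ∈ fourList, A + p.1 ∈ hypList ∧ U + p.2 ∈ hypList := by
  obtain ⟨p, hp, h⟩ := List.any_eq_true.1 (T_gen' A hA U hU hT)
  rw [Bool.and_eq_true] at h
  exact ⟨p, hp, List.contains_iff_mem.1 h.1, List.contains_iff_mem.1 h.2⟩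

namespace Four

variable {G : Type*} [Group G] [Finite G] {z s θ t : G} {Q P : Subgroup G} {π : G → V6}
  (T : Four z Q π P s θ t)
include T

/-- The four group inside `K`. -/
def Vk : Subgroup (Kgrp θ t) where
  carrier := {v | MemV θ t (v : G)}
  one_mem' := T.memV_one
  mul_mem' := fun ha hb => T.memV_mul ha hb
  inv_mem' := fun ha => T.memV_inv ha

theorem mem_Vk {x : Kgrp θ t} : x ∈ T.Vk ↔ MemV θ t (x : G) := Iff.rfl

instance Vk_normal : T.Vk.Normal := by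
  refine ⟨fun v hv g => ?_⟩
  show MemV θ t ((g : G) * (v : G) * (g : G)⁻¹)
  rw [T.conj_memV g.2 hv]
  exact hv

theorem mk_eq_one {x : Kgrp θ t} : (x : Kgrp θ t ⧸ T.Vk) = 1 ↔ MemV θ t (x : G) :=
  (QuotientGroup.eq_one_iff x).trans T.mem_Vk

/-- The image of `z`. -/
noncomputable def zbar : Kgrp θ t ⧸ T.Vk := ((⟨z, T.z_mem_K⟩ : Kgrp θ t) : Kgrp θ t ⧸ T.Vk)

theorem zbar_ne_one : T.zbar ≠ 1 := fun e => by
  have hv := T.mk_eq_one.1 e
  exact T.frame.data.sub.ne_one (T.memV_cl_zero hv (T.frame.cl_of_memE (Or.inr (Or.inl rfl))))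

theorem zbar_sq : T.zbar * T.zbar = 1 :=
  T.mk_eq_one.2 (by
    show MemV θ t (z * z)
    rw [T.frame.data.sub.mul_self]; exact T.memV_one)

theorem orderOf_zbar : orderOf T.zbar = 2 :=
  CfsgLib.CITGroups.orderOf_two_of_mul_self T.zbar_sq T.zbar_ne_one

/-- One class of involutions in the quotient. -/
theorem quot_invol {q : Kgrp θ t ⧸ T.Vk} (hq : orderOf q = 2) :
    ∃ g : Kgrp θ t ⧸ T.Vk, g * T.zbar * g⁻¹ = q := by
  obtain ⟨x, rfl⟩ := QuotientGroup.mk_surjective q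
  have h2 : (x : G) * x = 1 := T.sq_eq_one_of_memV x.2 ((T.mk_eq_one (x := x * x)).1 (by
    rw [QuotientGroup.mk_mul, ← pow_two, ← hq, pow_orderOf_eq_one]))
  have hV : ¬ MemV θ t (x : G) := fun h => by
    rw [T.mk_eq_one.2 h, orderOf_one] at hq
    omega
  obtain ⟨v, g, hv, hg, hx⟩ := T.exists_conj_z x.2 h2 hV
  refine ⟨((⟨g, hg⟩ : Kgrp θ t) : Kgrp θ t ⧸ T.Vk), ?_⟩
  have e : x = (⟨v, T.memV_mem hv⟩ : Kgrp θ t) * (⟨g, hg⟩ * ⟨z, T.z_mem_K⟩ * (⟨g, hg⟩ : Kgrp θ t)⁻¹) :=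
    Subtype.ext hx
  rw [e, QuotientGroup.mk_mul, (T.mk_eq_one (x := ⟨v, T.memV_mem hv⟩)).2 hv, one_mul]
  rfl

theorem comm_zbar {x : Kgrp θ t} :
    (x : Kgrp θ t ⧸ T.Vk) * T.zbar = T.zbar * x ↔
      (x : G) ∈ Subgroup.centralizer ({z, s, t} : Set G) := by
  constructor
  · intro h
    have hv := (T.mk_eq_one (x := x * ⟨z, T.z_mem_K⟩ * x⁻¹ * (⟨z, T.z_mem_K⟩ : Kgrp θ t)⁻¹)).1 (by
      rw [QuotientGroup.mk_mul, QuotientGroup.mk_mul, QuotientGroup.mk_mul, QuotientGroup.mk_inv,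
        QuotientGroup.mk_inv]
      show (x : Kgrp θ t ⧸ T.Vk) * T.zbar * (x : Kgrp θ t ⧸ T.Vk)⁻¹ * T.zbar⁻¹ = 1
      rw [h]; group)
    change MemV θ t ((x : G) * z * (x : G)⁻¹ * z⁻¹) at hv
    have h1 : (x : G) * z * (x : G)⁻¹ * z⁻¹ = 1 := by
      refine T.eq_one_of_isConj hv (one_mem _) ?_
      rw [one_mul, inv_one, mul_one, inv_mul_cancel_right]
      exact isConj_iff.2 ⟨x, rfl⟩
    rw [T.mem_Tgrp]
    exact T.zK_iff.1 ⟨mul_inv_eq_iff_eq_mul.1 (mul_inv_eq_one.1 h1), x.2⟩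
  · intro h
    have hc := (T.mem_Tgrp.1 h).1
    rw [show T.zbar = ((⟨z, T.z_mem_K⟩ : Kgrp θ t) : Kgrp θ t ⧸ T.Vk) from rfl, ← QuotientGroup.mk_mul,
      ← QuotientGroup.mk_mul]
    exact congrArg _ (Subtype.ext hc)

theorem isPGroup_cent_zbar :
    IsPGroup 2 (Subgroup.centralizer ({T.zbar} : Set (Kgrp θ t ⧸ T.Vk))) := by
  rintro ⟨q, hq⟩
  obtain ⟨x, rfl⟩ := QuotientGroup.mk_surjective q
  have hx := T.comm_zbar.1 (Subgroup.mem_centralizer_singleton_iff.1 hq)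
  obtain ⟨k, hk⟩ := T.Tgrp_isPGroup ⟨(x : G), hx⟩
  refine ⟨k, Subtype.ext ?_⟩
  rw [SubmonoidClass.coe_pow]
  show ((x : Kgrp θ t) : Kgrp θ t ⧸ T.Vk) ^ 2 ^ k = 1
  rw [← QuotientGroup.mk_pow, T.mk_eq_one, SubmonoidClass.coe_pow]
  have : (x : G) ^ 2 ^ k = 1 := congrArg Subtype.val hk
  rw [this]; exact T.memV_one

theorem isCIT_quot : CfsgLib.CITGroups.IsCIT (Kgrp θ t ⧸ T.Vk) := by
  intro q hq
  obtain ⟨g, rfl⟩ := T.quot_invol hq
  rintro ⟨y, hy⟩
  have hy' := Subgroup.mem_centralizer_singleton_iff.1 hy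
  have hc : g⁻¹ * y * g ∈ Subgroup.centralizer ({T.zbar} : Set (Kgrp θ t ⧸ T.Vk)) := by
    refine Subgroup.mem_centralizer_singleton_iff.2 ?_
    have h := (Commute.conj_iff g⁻¹).2 (show Commute y (g * T.zbar * g⁻¹) from hy')
    rw [show g⁻¹ * (g * T.zbar * g⁻¹) * g⁻¹⁻¹ = T.zbar by group, inv_inv] at h
    exact h.eq
  obtain ⟨k, hk⟩ := T.isPGroup_cent_zbar ⟨_, hc⟩
  refine ⟨k, Subtype.ext ?_⟩
  have hk' : (g⁻¹ * y * g) ^ 2 ^ k = 1 := congrArg Subtype.val hk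
  have e : (g⁻¹ * y * g) ^ 2 ^ k = g⁻¹ * y ^ 2 ^ k * g⁻¹⁻¹ := by
    rw [inv_inv, show g⁻¹ * y * g = g⁻¹ * y * g⁻¹⁻¹ by rw [inv_inv], conj_pow, inv_inv]
  rw [e, conj_eq_one_iff] at hk'
  exact hk'

/-- Two noncommuting involutions in the centraliser of the image of `z`. -/
theorem exists_noncommuting : ∃ a b : Kgrp θ t ⧸ T.Vk, orderOf a = 2 ∧ orderOf b = 2 ∧
    a * T.zbar = T.zbar * a ∧ b * T.zbar = T.zbar * b ∧ a * b ≠ b * a ∧ orderOf (a * b) = 4 := by
  have F := T.frame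
  have e4 : InU (mk6 4) := by decide
  have e8 : InU (mk6 8) := by decide
  obtain ⟨r1, h1⟩ := F.exists_cl e4 (U := 0) (by decide)
  obtain ⟨r2, h2⟩ := F.exists_cl e8 (U := 0) (by decide)
  have hT1 := T.mem_T_of_cl h1 (by decide)
  have hT2 := T.mem_T_of_cl h2 (by decide)
  have s1 : r1 * r1 = 1 := h1.sq_eq_one_iff.2 (by decide)
  have s2 : r2 * r2 = 1 := h2.sq_eq_one_iff.2 (by decide)
  obtain ⟨a, ha⟩ : ∃ a : Kgrp θ t, (a : G) = r1 := ⟨⟨r1, T.Tgrp_le_K hT1⟩, rfl⟩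
  obtain ⟨b, hb⟩ : ∃ b : Kgrp θ t, (b : G) = r2 := ⟨⟨r2, T.Tgrp_le_K hT2⟩, rfl⟩
  have hinv : ∀ (x : Kgrp θ t) (A : V6), F.Cl (x : G) A 0 → A ≠ 0 → (x : G) * x = 1 →
      orderOf (x : Kgrp θ t ⧸ T.Vk) = 2 := by
    intro x A hA hA0 hx
    refine CfsgLib.CITGroups.orderOf_two_of_mul_self ?_ fun e => ?_
    · rw [← QuotientGroup.mk_mul, T.mk_eq_one]
      show MemV θ t ((x : G) * x)
      rw [hx]; exact T.memV_one
    · have hv := T.mk_eq_one.1 e
      obtain ⟨p, hp, hpc⟩ := T.memV_classes hv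
      obtain ⟨q1, q2⟩ := hpc.unique hA
      rcases four_aniso p hp with r | r
      · rw [r] at q1; exact hA0 q1.symm
      · rw [q2, q6_zero] at r; exact Bool.noConfusion r
  have hab : (r1 * r2) * (r1 * r2) = z := by
    have h := (h1.mul h2).sq_eq
    rw [h]
    have hb : xor (q6 (mk6 4 + mk6 8)) (b6 (mk6 4 + mk6 8) (0 + 0)) = true ∧
        xor (q6 ((0 : V6) + 0)) (b6 (mk6 4 + mk6 8) (0 + 0)) = false := by decide
    rw [hb.1, hb.2, F.zE_tf]
  have hne : (a * b : Kgrp θ t) * (a * b) = ⟨z, T.z_mem_K⟩ := Subtype.ext (by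
    show (a : G) * b * ((a : G) * b) = z
    rw [ha, hb, hab])
  have hq : ((a : Kgrp θ t ⧸ T.Vk) * b) * ((a : Kgrp θ t ⧸ T.Vk) * b) = T.zbar := by
    rw [← QuotientGroup.mk_mul, ← QuotientGroup.mk_mul, hne]; rfl
  refine ⟨a, b, hinv a _ (ha ▸ h1) (by decide) (by rw [ha, s1]),
    hinv b _ (hb ▸ h2) (by decide) (by rw [hb, s2]), T.comm_zbar.2 (ha ▸ hT1),
    T.comm_zbar.2 (hb ▸ hT2), fun e => T.zbar_ne_one ?_, ?_⟩
  · have ha' : (a : Kgrp θ t ⧸ T.Vk) * a = 1 := by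
      rw [← QuotientGroup.mk_mul, T.mk_eq_one]
      show MemV θ t ((a : G) * a)
      rw [ha, s1]; exact T.memV_one
    have hb' : (b : Kgrp θ t ⧸ T.Vk) * b = 1 := by
      rw [← QuotientGroup.mk_mul, T.mk_eq_one]
      show MemV θ t ((b : G) * b)
      rw [hb, s2]; exact T.memV_one
    rw [← hq]
    calc (a : Kgrp θ t ⧸ T.Vk) * b * ((a : Kgrp θ t ⧸ T.Vk) * b)
        = (a : Kgrp θ t ⧸ T.Vk) * ((b : Kgrp θ t ⧸ T.Vk) * a) * b := by group
      _ = ((a : Kgrp θ t ⧸ T.Vk) * a) * ((b : Kgrp θ t ⧸ T.Vk) * b) := by rw [← e]; group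
      _ = 1 := by rw [ha', hb', one_mul]
  · have : Fact (Nat.Prime 2) := ⟨Nat.prime_two⟩
    refine orderOf_eq_prime_pow (p := 2) (n := 1) ?_ ?_
    · rw [pow_one, pow_two, hq]; exact T.zbar_ne_one
    · rw [show (2 : ℕ) ^ (1 + 1) = 2 * 2 by norm_num, pow_mul, pow_two, pow_two, hq, T.zbar_sq]

/-- No nontrivial normal two-subgroup. -/
theorem no_two_normal (L : Subgroup (Kgrp θ t ⧸ T.Vk)) [L.Normal] (hL : IsPGroup 2 L) : L = ⊥ := by
  have : Fact (Nat.Prime 2) := ⟨Nat.prime_two⟩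
  by_contra hne
  haveI : Nontrivial L := (Subgroup.nontrivial_iff_ne_bot _).2 hne
  haveI := hL.center_nontrivial
  obtain ⟨c, hc⟩ : ∃ c : Subgroup.center L, orderOf c = 2 := by
    obtain ⟨k, hk⟩ := IsPGroup.iff_card.1 (hL.to_subgroup (Subgroup.center L))
    have h1 : 1 < Nat.card (Subgroup.center L) := Finite.one_lt_card
    rw [hk] at h1
    rcases k with _ | k
    · simp at h1
    exact exists_prime_orderOf_dvd_card' 2 (by rw [hk]; exact dvd_pow_self 2 (by omega))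
  obtain ⟨c', hc'⟩ : ∃ c', c' = ((c : L) : Kgrp θ t ⧸ T.Vk) := ⟨_, rfl⟩
  have hcL : c' ∈ L := hc' ▸ (c : L).2
  have hc2 : orderOf c' = 2 := by rw [hc', Subgroup.orderOf_coe, Subgroup.orderOf_coe, hc]
  obtain ⟨g, hg⟩ := T.quot_invol hc2
  have hzL : T.zbar ∈ L := by
    have h := Subgroup.Normal.conj_mem inferInstance c' hcL g⁻¹
    rwa [← hg, show g⁻¹ * (g * T.zbar * g⁻¹) * g⁻¹⁻¹ = T.zbar by group] at h
  have hall : ∀ q, orderOf q = 2 → q ∈ L ∧ ∀ x ∈ L, x * q = q * x := by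
    intro q hq
    obtain ⟨k, rfl⟩ := T.quot_invol hq
    refine ⟨Subgroup.Normal.conj_mem inferInstance _ hzL k, fun x hx => ?_⟩
    have hcc : ∀ y ∈ L, y * c' = c' * y := fun y hy => by
      rw [hc']
      exact congrArg Subtype.val (Subgroup.mem_center_iff.1 c.2 ⟨y, hy⟩)
    obtain ⟨m, hm⟩ : ∃ m, m = g * k⁻¹ := ⟨_, rfl⟩
    have h := hcc (m * x * m⁻¹) (Subgroup.Normal.conj_mem inferInstance x hx m)
    have h' := (Commute.conj_iff m⁻¹).2 (show Commute (m * x * m⁻¹) c' from h)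
    rw [show m⁻¹ * (m * x * m⁻¹) * m⁻¹⁻¹ = x by group,
      show m⁻¹ * c' * m⁻¹⁻¹ = k * T.zbar * k⁻¹ by rw [← hg, hm]; group] at h'
    exact h'.eq
  obtain ⟨a, b, ha, hb, -, -, hab, -⟩ := T.exists_noncommuting
  exact hab ((hall b hb).2 a (hall a ha).1)

/-- Elements of the four group `⟨z, s⟩` act without fixed points on odd normal subgroups. -/
theorem no_odd_normal (L : Subgroup (Kgrp θ t ⧸ T.Vk)) [L.Normal] (hL : Odd (Nat.card L)) :
    L = ⊥ := by
  have F := T.frame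
  obtain ⟨sb, hsb⟩ : ∃ sb : Kgrp θ t ⧸ T.Vk, sb = ((⟨s, T.s_mem_K⟩ : Kgrp θ t) : Kgrp θ t ⧸ T.Vk) :=
    ⟨_, rfl⟩
  obtain ⟨hz1, hs1, hzs', hzs1, -, -⟩ := F.zs_facts
  have hsK : orderOf sb = 2 := by
    refine CfsgLib.CITGroups.orderOf_two_of_mul_self ?_ ?_
    · rw [hsb, ← QuotientGroup.mk_mul, T.mk_eq_one]
      show MemV θ t (s * s)
      rw [F.s_mul_self]; exact T.memV_one
    · rw [hsb, Ne, T.mk_eq_one]
      exact fun hv => hs1 (T.memV_cl_zero hv (F.cl_of_memE (Or.inr (Or.inr (Or.inl rfl)))))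
  have hcomm : T.zbar * sb = sb * T.zbar := by
    rw [hsb]
    exact (congrArg _ (Subtype.ext F.s_comm.symm) :
      (((⟨z, T.z_mem_K⟩ * ⟨s, T.s_mem_K⟩ : Kgrp θ t)) : Kgrp θ t ⧸ T.Vk) =
        ((⟨s, T.s_mem_K⟩ * ⟨z, T.z_mem_K⟩ : Kgrp θ t) : Kgrp θ t ⧸ T.Vk))
  have hne : T.zbar * sb ≠ 1 := by
    rw [hsb, show T.zbar = ((⟨z, T.z_mem_K⟩ : Kgrp θ t) : Kgrp θ t ⧸ T.Vk) from rfl,
      ← QuotientGroup.mk_mul, Ne, T.mk_eq_one]
    exact fun hv => hzs1 (T.memV_cl_zero hv (F.cl_of_memE (Or.inr (Or.inr (Or.inr rfl)))))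
  have hsb2 : sb * sb = 1 := by rw [← pow_two, ← hsK, pow_orderOf_eq_one]
  have hprod : T.zbar * sb * (T.zbar * sb) = 1 := by
    calc T.zbar * sb * (T.zbar * sb) = T.zbar * (sb * T.zbar) * sb := by group
      _ = (T.zbar * T.zbar) * (sb * sb) := by rw [← hcomm]; group
      _ = 1 := by rw [T.zbar_sq, hsb2, one_mul]
  have hfree : ∀ u : Kgrp θ t ⧸ T.Vk, orderOf u = 2 → ∀ x ∈ L, u * x * u = x⁻¹ := by
    intro u hu
    have hu2 : u * u = 1 := by rw [← pow_two, ← hu, pow_orderOf_eq_one]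
    refine CfsgLib.CITGroups.inverts_of_fixedPointFree hu2 (fun x hx => ?_) fun x hx hc => ?_
    · have h := Subgroup.Normal.conj_mem inferInstance x hx u
      rwa [inv_eq_of_mul_eq_one_right hu2] at h
    · refine CfsgLib.CITGroups.eq_one_of_odd_mem (T.isCIT_quot u hu)
        (Subgroup.mem_centralizer_singleton_iff.2 hc.symm) (hL.of_dvd_nat ?_)
      have := orderOf_dvd_natCard (⟨x, hx⟩ : L)
      rwa [Subgroup.orderOf_mk] at this
  refine (Subgroup.eq_bot_iff_forall _).2 fun x hx => ?_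
  have e1 := hfree _ T.orderOf_zbar x hx
  have e2 := hfree sb hsK x hx
  have e3 := hfree _ (CfsgLib.CITGroups.orderOf_two_of_mul_self hprod hne) x hx
  have e4 : T.zbar * sb * x * (T.zbar * sb) = x := by
    calc T.zbar * sb * x * (T.zbar * sb) = T.zbar * sb * x * (sb * T.zbar) := by rw [hcomm]
      _ = T.zbar * (sb * x * sb) * T.zbar := by group
      _ = T.zbar * x⁻¹ * T.zbar := by rw [e2]
      _ = (T.zbar * x * T.zbar)⁻¹ := by
          rw [mul_inv_rev, mul_inv_rev, inv_eq_of_mul_eq_one_right T.zbar_sq]; group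
      _ = x := by rw [e1, inv_inv]
  have hxx : x * x = 1 := by
    have : x = x⁻¹ := e4.symm.trans e3
    calc x * x = x * x⁻¹ := by rw [← this]
      _ = 1 := mul_inv_cancel x
  by_contra hx1
  have h2 := orderOf_dvd_natCard (⟨x, hx⟩ : L)
  rw [Subgroup.orderOf_mk, CfsgLib.CITGroups.orderOf_two_of_mul_self hxx hx1] at h2
  rw [Nat.odd_iff] at hL
  omega

theorem not_solvable : ¬ Group.IsSolvable (Kgrp θ t ⧸ T.Vk) := by
  have : Fact (Nat.Prime 2) := ⟨Nat.prime_two⟩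
  intro hs
  haveI : Nontrivial (Kgrp θ t ⧸ T.Vk) := ⟨⟨T.zbar, 1, T.zbar_ne_one⟩⟩
  obtain ⟨A, hA, hA1, hAc⟩ := CfsgLib.ItoSolvable.exists_normal_abelian_ne_bot hs
  by_cases hev : Even (Nat.card A)
  · let Ω : Subgroup (Kgrp θ t ⧸ T.Vk) :=
      { carrier := {a | a ∈ A ∧ a * a = 1}
        one_mem' := ⟨one_mem A, one_mul 1⟩
        mul_mem' := fun {a b} ha hb => ⟨mul_mem ha.1 hb.1, by
          calc a * b * (a * b) = a * (b * a) * b := by group
            _ = (a * a) * (b * b) := by rw [hAc b hb.1 a ha.1]; group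
            _ = 1 := by rw [ha.2, hb.2, one_mul]⟩
        inv_mem' := fun {a} ha => by
          rw [inv_eq_of_mul_eq_one_right ha.2]; exact ha }
    haveI : Ω.Normal := ⟨fun a ha g => ⟨hA.conj_mem a ha.1 g, by
      rw [show g * a * g⁻¹ * (g * a * g⁻¹) = g * (a * a) * g⁻¹ by group, ha.2]; group⟩⟩
    have hΩ : IsPGroup 2 Ω := fun a => ⟨1, Subtype.ext (by
      rw [pow_one, SubmonoidClass.coe_pow, pow_two]; exact a.2.2)⟩
    have h0 := T.no_two_normal Ω hΩ
    obtain ⟨a, ha⟩ := exists_prime_orderOf_dvd_card' 2 (even_iff_two_dvd.1 hev)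
    have haΩ : (a : Kgrp θ t ⧸ T.Vk) ∈ Ω :=
      ⟨a.2, by rw [← pow_two, ← ha, ← Subgroup.orderOf_coe, pow_orderOf_eq_one]⟩
    rw [h0, Subgroup.mem_bot] at haΩ
    rw [← Subgroup.orderOf_coe, haΩ, orderOf_one] at ha
    omega
  · haveI := hA
    exact hA1 (T.no_odd_normal A (Nat.not_even_iff_odd.1 hev))

/-- A normal subgroup with an involution contains the centralizer of the image of `z`. -/
theorem cent_le_normal (M : Subgroup (Kgrp θ t ⧸ T.Vk)) [M.Normal]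
    (hM : ∃ q ∈ M, orderOf q = 2) :
    Subgroup.centralizer ({T.zbar} : Set (Kgrp θ t ⧸ T.Vk)) ≤ M := by
  have F := T.frame
  obtain ⟨q, hqM, hq⟩ := hM
  obtain ⟨g, hg⟩ := T.quot_invol hq
  have hzM : T.zbar ∈ M := by
    have h := Subgroup.Normal.conj_mem inferInstance q hqM g⁻¹
    rwa [← hg, show g⁻¹ * (g * T.zbar * g⁻¹) * g⁻¹⁻¹ = T.zbar by group] at h
  have hall : ∀ r : Kgrp θ t, (r : G) * r = 1 → (r : Kgrp θ t ⧸ T.Vk) ∈ M := by
    intro r hr
    by_cases h1 : (r : Kgrp θ t ⧸ T.Vk) = 1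
    · rw [h1]; exact one_mem M
    obtain ⟨k, hk⟩ := T.quot_invol (q := (r : Kgrp θ t ⧸ T.Vk))
      (CfsgLib.CITGroups.orderOf_two_of_mul_self (by
        rw [← QuotientGroup.mk_mul, T.mk_eq_one]
        show MemV θ t ((r : G) * r)
        rw [hr]; exact T.memV_one) h1)
    rw [← hk]
    exact Subgroup.Normal.conj_mem inferInstance _ hzM k
  -- the subgroup of `K` above `M`
  obtain ⟨L, hL⟩ : ∃ L : Subgroup G, L = (M.comap (QuotientGroup.mk' T.Vk)).map (Kgrp θ t).subtype :=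
    ⟨_, rfl⟩
  have hLmem : ∀ x : Kgrp θ t, (x : G) ∈ L ↔ (x : Kgrp θ t ⧸ T.Vk) ∈ M := by
    intro x
    rw [hL, Subgroup.mem_map]
    exact ⟨fun ⟨y, hy, e⟩ => Subtype.ext e ▸ hy, fun h => ⟨x, h, rfl⟩⟩
  have hinv : ∀ {x : G} {A U : V6}, F.Cl x A U → Tcond A U → x * x = 1 → x ∈ L := fun h hT h2 =>
    (hLmem ⟨_, T.Tgrp_le_K (T.mem_T_of_cl h hT)⟩).2 (hall _ h2)
  intro q' hq'
  obtain ⟨x, rfl⟩ := QuotientGroup.mk_surjective q'
  have hx := T.comm_zbar.1 (Subgroup.mem_centralizer_singleton_iff.1 hq')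
  rw [← hLmem]
  obtain ⟨A, U, hcl, hT⟩ := T.exists_cl_T hx
  obtain ⟨p, hp, hA, hU⟩ := T_gen hcl.inU_left hcl.inU_right hT
  obtain ⟨v, hv, hvcl⟩ := T.cl_four hp
  -- generators
  have hgen : ∀ B ∈ hypList, ∃ a b, a ∈ L ∧ b ∈ L ∧ F.Cl a B 0 ∧ F.Cl b 0 B := by
    intro B hB
    obtain ⟨a4, ha4⟩ := F.exists_cl (A := mk6 4) (U := 0) (by decide) (by decide)
    obtain ⟨a8, ha8⟩ := F.exists_cl (A := mk6 8) (U := 0) (by decide) (by decide)
    obtain ⟨b4, hb4⟩ := F.exists_cl (A := 0) (U := mk6 4) (by decide) (by decide)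
    obtain ⟨b8, hb8⟩ := F.exists_cl (A := 0) (U := mk6 8) (by decide) (by decide)
    have l1 := hinv ha4 (by decide) (ha4.sq_eq_one_iff.2 (by decide))
    have l2 := hinv ha8 (by decide) (ha8.sq_eq_one_iff.2 (by decide))
    have l3 := hinv hb4 (by decide) (hb4.sq_eq_one_iff.2 (by decide))
    have l4 := hinv hb8 (by decide) (hb8.sq_eq_one_iff.2 (by decide))
    simp only [hypList, List.mem_cons, List.not_mem_nil, or_false] at hB
    rcases hB with rfl | rfl | rfl | rfl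
    · exact ⟨1, 1, one_mem _, one_mem _, F.cl_one, F.cl_one⟩
    · exact ⟨a4, b4, l1, l3, ha4, hb4⟩
    · exact ⟨a8, b8, l2, l4, ha8, hb8⟩
    · have e : mk6 4 + mk6 8 = mk6 12 := by decide
      have c1 := ha4.mul ha8
      have c2 := hb4.mul hb8
      rw [add_zero, e] at c1
      rw [add_zero, e] at c2
      exact ⟨_, _, mul_mem l1 l2, mul_mem l3 l4, c1, c2⟩
  obtain ⟨a, -, ha, -, hac, -⟩ := hgen _ hA
  obtain ⟨-, b, -, hb, -, hbc⟩ := hgen _ hU
  have hprod := (hvcl.mul (hac.mul hbc))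
  rw [add_zero, zero_add, add_comm A p.1, ← add_assoc, add_self6, zero_add, add_comm U p.2,
    ← add_assoc, add_self6, zero_add] at hprod
  obtain ⟨i, j, e⟩ := hprod.eq_zE_mul hcl
  have hvL : v ∈ L := by
    have := (hLmem ⟨v, T.memV_mem hv⟩).2 (hall _ (T.memV_sq hv))
    exact this
  have hzEL : zE z s i j ∈ L :=
    hinv (F.cl_zE i j) (by decide) (F.zE_mul_self i j)
  rw [e]
  exact mul_mem hzEL (mul_mem hvL (mul_mem ha hb))

theorem card_cent_zbar :
    Nat.card (Subgroup.centralizer ({T.zbar} : Set (Kgrp θ t ⧸ T.Vk))) = 64 := by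
  obtain ⟨Ts, hTs⟩ : ∃ Ts : Subgroup (Kgrp θ t),
      Ts = (Subgroup.centralizer ({z, s, t} : Set G)).subgroupOf (Kgrp θ t) := ⟨_, rfl⟩
  let f := (QuotientGroup.mk' T.Vk).comp Ts.subtype
  have hrange : f.range = Subgroup.centralizer ({T.zbar} : Set (Kgrp θ t ⧸ T.Vk)) := by
    ext q
    rw [MonoidHom.range_comp, Subgroup.range_subtype, Subgroup.mem_map,
      Subgroup.mem_centralizer_singleton_iff]
    constructor
    · rintro ⟨x, hx, rfl⟩
      exact T.comm_zbar.2 (Subgroup.mem_subgroupOf.1 (hTs ▸ hx))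
    · intro h
      obtain ⟨x, rfl⟩ := QuotientGroup.mk_surjective q
      exact ⟨x, hTs ▸ Subgroup.mem_subgroupOf.2 (T.comm_zbar.1 h), rfl⟩
  have hker : Nat.card f.ker = 4 := by
    have hVle : T.Vk ≤ Ts := fun v hv => hTs ▸ Subgroup.mem_subgroupOf.2 (T.memV_mem_T hv)
    rw [show f.ker = T.Vk.subgroupOf Ts from by
        rw [← MonoidHom.comap_ker, QuotientGroup.ker_mk']; rfl,
      Nat.card_congr (Subgroup.subgroupOfEquivOfLe hVle).toEquiv]
    obtain ⟨u, hu⟩ : ∃ u, u = θ * t * θ⁻¹ := ⟨_, rfl⟩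
    let g : Bool × Bool → T.Vk := fun p =>
      ⟨⟨(if p.1 then t else 1) * (if p.2 then θ * t * θ⁻¹ else 1), T.memV_mem (by
          rcases p with ⟨_ | _, _ | _⟩ <;> simp [MemV])⟩,
        show MemV θ t _ by rcases p with ⟨_ | _, _ | _⟩ <;> simp [MemV]⟩
    have hne : ∀ x : G, MemV θ t x → x = 1 → ∀ A U, T.frame.Cl x A U → A = 0 := fun x _ e A U h =>
      (h.unique (e ▸ T.frame.cl_one)).1
    have ht := T.t_ne_one
    have ht1 : θ * t * θ⁻¹ ≠ 1 := fun e => ht (conj_eq_one_iff.1 e)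
    have htt : t * (θ * t * θ⁻¹) ≠ 1 := fun e => by
      have h3 := T.cl.mul T.cl1
      rw [pair48.2.1] at h3
      exact absurd (hne _ (Or.inr (Or.inr (Or.inr rfl))) e _ _ h3) (by decide)
    have hd : t ≠ θ * t * θ⁻¹ := fun e => htt (by rw [← e, T.t_sq])
    have hg : Function.Bijective g := by
      constructor
      · rintro ⟨a, b⟩ ⟨a', b'⟩ h
        have h' : (if a then t else 1) * (if b then θ * t * θ⁻¹ else 1) =
            (if a' then t else 1) * (if b' then θ * t * θ⁻¹ else 1) :=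
          congrArg (fun v : T.Vk => ((v : Kgrp θ t) : G)) h
        rcases a <;> rcases b <;> rcases a' <;> rcases b' <;> first
          | rfl
          | (exfalso; simp [ht, ht1, htt, hd, ht.symm, ht1.symm, htt.symm, hd.symm] at h')
      · rintro ⟨⟨v, hvK⟩, hv⟩
        rcases hv with r | r | r | r
        · exact ⟨(false, false), Subtype.ext (Subtype.ext (by simpa [g] using r.symm))⟩
        · exact ⟨(true, false), Subtype.ext (Subtype.ext (by simpa [g] using r.symm))⟩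
        · exact ⟨(false, true), Subtype.ext (Subtype.ext (by simpa [g] using r.symm))⟩
        · exact ⟨(true, true), Subtype.ext (Subtype.ext (by simpa [g] using r.symm))⟩
    rw [← Nat.card_eq_of_bijective g hg, Nat.card_eq_fintype_card, Fintype.card_prod,
      Fintype.card_bool]
  have h := f.ker.card_mul_index
  rw [Subgroup.index_ker, hrange, hker, hTs,
    Nat.card_congr (Subgroup.subgroupOfEquivOfLe T.Tgrp_le_K).toEquiv, T.card_Tgrp] at h
  omega

theorem card_Vk : Nat.card T.Vk = 4 := by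
  have h1 := T.card_cent_zbar
  obtain ⟨Ts, hTs⟩ : ∃ Ts : Subgroup (Kgrp θ t),
      Ts = (Subgroup.centralizer ({z, s, t} : Set G)).subgroupOf (Kgrp θ t) := ⟨_, rfl⟩
  have hVle : T.Vk ≤ Ts := fun v hv => hTs ▸ Subgroup.mem_subgroupOf.2 (T.memV_mem_T hv)
  have hc : Nat.card Ts = 256 := by
    rw [hTs, Nat.card_congr (Subgroup.subgroupOfEquivOfLe T.Tgrp_le_K).toEquiv, T.card_Tgrp]
  let f := (QuotientGroup.mk' T.Vk).comp Ts.subtype
  have hrange : f.range = Subgroup.centralizer ({T.zbar} : Set (Kgrp θ t ⧸ T.Vk)) := by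
    ext q
    rw [MonoidHom.range_comp, Subgroup.range_subtype, Subgroup.mem_map,
      Subgroup.mem_centralizer_singleton_iff]
    constructor
    · rintro ⟨x, hx, rfl⟩
      exact T.comm_zbar.2 (Subgroup.mem_subgroupOf.1 (hTs ▸ hx))
    · intro h
      obtain ⟨x, rfl⟩ := QuotientGroup.mk_surjective q
      exact ⟨x, hTs ▸ Subgroup.mem_subgroupOf.2 (T.comm_zbar.1 h), rfl⟩
  have h := f.ker.card_mul_index
  rw [Subgroup.index_ker, hrange, h1, show f.ker = T.Vk.subgroupOf Ts from by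
        rw [← MonoidHom.comap_ker, QuotientGroup.ker_mk']; rfl,
    Nat.card_congr (Subgroup.subgroupOfEquivOfLe hVle).toEquiv, hc] at h
  omega

theorem index_cent_zbar_odd :
    ¬ 2 ∣ (Subgroup.centralizer ({T.zbar} : Set (Kgrp θ t ⧸ T.Vk))).index := by
  have : Fact (Nat.Prime 2) := ⟨Nat.prime_two⟩
  intro h2
  obtain ⟨C, hC⟩ : ∃ C, C = Subgroup.centralizer ({T.zbar} : Set (Kgrp θ t ⧸ T.Vk)) := ⟨_, rfl⟩
  have hC64 : Nat.card C = 64 := by rw [hC]; exact T.card_cent_zbar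
  have h128 : 2 ^ (6 + 1) ∣ Nat.card (Kgrp θ t ⧸ T.Vk) := by
    rw [← C.card_mul_index, hC64, pow_succ]
    exact Nat.mul_dvd_mul (by norm_num) (hC ▸ h2)
  obtain ⟨S, hS, hle⟩ := Sylow.exists_subgroup_card_pow_succ h128 (H := C)
    (by rw [hC64]; norm_num)
  obtain ⟨R, hR⟩ : ∃ R : Subgroup G, R = (S.comap (QuotientGroup.mk' T.Vk)).map (Kgrp θ t).subtype :=
    ⟨_, rfl⟩
  have hSp : IsPGroup 2 S := IsPGroup.of_card (n := 7) hS
  have hkp : IsPGroup 2 (QuotientGroup.mk' T.Vk).ker := by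
    rw [QuotientGroup.ker_mk']
    exact IsPGroup.of_card (n := 2) (by rw [T.card_Vk]; norm_num)
  have hRp : IsPGroup 2 R := hR ▸ (hSp.comap_of_ker_isPGroup _ hkp).map _
  have hTR : Subgroup.centralizer ({z, s, t} : Set G) ≤ R := fun x hx => by
    rw [hR]
    refine ⟨⟨x, T.Tgrp_le_K hx⟩, hle ?_, rfl⟩
    rw [hC, Subgroup.mem_centralizer_singleton_iff]
    exact T.comm_zbar.2 hx
  have hRT := T.eq_of_two_subgroup hRp (hR ▸ Subgroup.map_subtype_le _) hTR
  have hSC : S ≤ C := fun q hq => by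
    obtain ⟨x, rfl⟩ := QuotientGroup.mk_surjective q
    rw [hC, Subgroup.mem_centralizer_singleton_iff]
    refine T.comm_zbar.2 ?_
    rw [← hRT, hR]
    exact ⟨x, hq, rfl⟩
  have := Subgroup.card_le_of_le hSC
  rw [hS, hC64] at this
  norm_num at this

/-- The quotient is `PSL₃` over four elements. -/
theorem quot_equiv : ∃ (F : Type) (_ : Field F) (_ : Fintype F), Fintype.card F = 4 ∧
    Nonempty (Kgrp θ t ⧸ T.Vk ≃* Matrix.ProjectiveSpecialLinearGroup (Fin 3) F) := by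
  have : Fact (Nat.Prime 2) := ⟨Nat.prime_two⟩
  have h2 : Cfsg.pCore 2 (Kgrp θ t ⧸ T.Vk) = ⊥ := by
    haveI : (Cfsg.pCore 2 (Kgrp θ t ⧸ T.Vk)).Normal := CfsgLib.LocalStructure.pCore_normal
    exact T.no_two_normal _ CfsgLib.LocalStructure.pCore_isPGroup
  obtain ⟨M, hMn, hMs, hMc, hMC, q, hqM, hq⟩ :=
    CfsgLib.CITAlmost.exists_socle T.isCIT_quot T.not_solvable h2
  haveI := hMn
  haveI := hMs
  obtain ⟨C, hC⟩ : ∃ C, C = Subgroup.centralizer ({T.zbar} : Set (Kgrp θ t ⧸ T.Vk)) := ⟨_, rfl⟩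
  have hle : C ≤ M := hC ▸ T.cent_le_normal M ⟨q, hqM, hq⟩
  have hC64 : Nat.card C = 64 := by rw [hC]; exact T.card_cent_zbar
  have h64 : 64 ∣ Nat.card M := hC64 ▸ Subgroup.card_dvd_of_le hle
  have h128 : ¬ 128 ∣ Nat.card M := fun h => by
    have h' := h.trans (Subgroup.card_subgroup_dvd_card M)
    rw [← C.card_mul_index, hC64, show (128 : ℕ) = 64 * 2 by norm_num] at h'
    exact T.index_cent_zbar_odd (hC ▸ (Nat.mul_dvd_mul_iff_left (by norm_num)).1 h')
  obtain ⟨a, b, ha, hb, haz, hbz, hab, hab4⟩ := T.exists_noncommuting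
  have hmemC : ∀ {x}, x * T.zbar = T.zbar * x → x ∈ M := fun hx =>
    hle (hC ▸ Subgroup.mem_centralizer_singleton_iff.2 hx)
  obtain ⟨a', b', z', ha', hb', hz'⟩ : ∃ a' b' z' : M, (a' : Kgrp θ t ⧸ T.Vk) = a ∧
      (b' : Kgrp θ t ⧸ T.Vk) = b ∧ (z' : Kgrp θ t ⧸ T.Vk) = T.zbar :=
    ⟨⟨a, hmemC haz⟩, ⟨b, hmemC hbz⟩, ⟨_, hmemC rfl⟩, rfl, rfl, rfl⟩
  have hna : ∃ x y : M, x * y ≠ y * x := ⟨a', b', fun e => hab (by
    rw [← ha', ← hb', ← Subgroup.coe_mul, e, Subgroup.coe_mul])⟩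
  rcases CfsgLib.CITGroups.simple_classification hna (T.isCIT_quot.subgroup M) with
    ⟨F, hF1, hF2, hcase, ⟨e⟩⟩ | ⟨F, hF1, hF2, hF4, ⟨e⟩⟩ | ⟨H, hH, -⟩
  · exfalso
    have hcard : Nat.card M = Nat.card (Matrix.ProjectiveSpecialLinearGroup (Fin 2) F) :=
      Nat.card_congr e.toEquiv
    rw [hcard] at h64 h128
    rcases hcase with h9 | ⟨n, hn⟩ | ⟨hp, k, hk⟩
    · have h := CfsgLib.Linear.card_PSL_two_odd (F := F) (by rw [h9]; decide)
      rw [h9] at h
      norm_num at h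
      omega
    · have hch : CharP F 2 := ringChar.of_eq (FiniteField.even_card_iff_char_two.2 (by
        rw [hn, Nat.pow_mod]
        rcases n with _ | n
        · exact absurd Fintype.one_lt_card (by rw [hn]; norm_num)
        · simp))
      have h4 : orderOf (e (a' * b')) = 4 := by
        rw [e.orderOf_eq, ← Subgroup.orderOf_coe, Subgroup.coe_mul, ha', hb', hab4]
      have heven : 2 ∣ Fintype.card F := by
        rw [hn]
        rcases n with _ | n
        · exact absurd Fintype.one_lt_card (by rw [hn]; norm_num)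
        · exact dvd_pow_self 2 (by omega)
      rcases CfsgLib.CITAlmost.orderOf_cases (e (a' * b')) with h | h | h <;> rw [h4] at h
      · exact absurd h (by norm_num)
      · omega
      · have := Fintype.one_lt_card (α := F); omega
    · have hodd : Odd (Fintype.card F) := by
        refine hp.eq_two_or_odd'.resolve_left fun h2' => ?_
        rcases k with _ | _ | k
        · rcases hk with hk | hk
          · have h := CfsgLib.Linear.card_PSL_two_even (F := F) (by rw [h2']; exact even_two)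
            rw [h2'] at h
            norm_num at h
            omega
          · rw [h2'] at hk; norm_num at hk
        · rcases hk with hk | hk <;> rw [h2'] at hk <;> norm_num at hk
        · have : 4 ≤ 2 ^ (k + 1 + 1) := by
            calc 4 = 2 ^ 2 := by norm_num
              _ ≤ _ := Nat.pow_le_pow_right (by norm_num) (by omega)
          omega
      have h := CfsgLib.Linear.card_PSL_two_odd (F := F) hodd
      by_cases hk7 : 7 ≤ k
      · apply h128
        have hdvd : 2 ^ k * 2 ∣ Fintype.card F ^ 2 - 1 := by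
          have hsq : Fintype.card F ^ 2 - 1 = (Fintype.card F + 1) * (Fintype.card F - 1) := by
            rw [← Nat.sq_sub_sq, one_pow]
          rw [hsq]
          obtain ⟨m, hm⟩ := hodd
          rcases hk with hk | hk
          · rw [mul_comm]
            exact Nat.mul_dvd_mul (by omega) (by rw [hk, Nat.add_sub_cancel])
          · exact Nat.mul_dvd_mul (by rw [hk]) (by omega)
        have h256 : 128 * 2 ∣ 2 * Nat.card (Matrix.ProjectiveSpecialLinearGroup (Fin 2) F) := by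
          rw [h]
          exact Dvd.dvd.mul_left ((Nat.mul_dvd_mul_right ((show (128 : ℕ) = 2 ^ 7 by norm_num) ▸
            pow_dvd_pow 2 hk7) 2).trans hdvd) _
        rw [mul_comm (128 : ℕ) 2] at h256
        exact (Nat.mul_dvd_mul_iff_left (by norm_num)).1 h256
      · have hk' : k ≤ 6 := by omega
        interval_cases k <;> rcases hk with hk | hk <;> norm_num at hk <;>
          first
            | (rw [hk] at hp; norm_num at hp; done)
            | (have hq' : Fintype.card F ≤ 65 := by omega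
               rw [hk] at h; norm_num at h; omega)
            | (have hq' : Fintype.card F = 2 ^ 6 - 1 := by omega
               rw [hq'] at hp; norm_num at hp; done)
            | (have hq' : Fintype.card F = 2 ^ 5 - 1 := by omega
               rw [hq'] at h; norm_num at h; omega)
            | (have hq' : Fintype.card F = 2 ^ 4 - 1 := by omega
               rw [hq'] at h; norm_num at h; omega)
            | (have hq' : Fintype.card F = 2 ^ 3 - 1 := by omega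
               rw [hq'] at h; norm_num at h; omega)
            | (have hq' : Fintype.card F = 2 ^ 2 - 1 := by omega
               rw [hq'] at h; norm_num at h; omega)
            | (have hq' := hp.two_le; omega)
  · refine ⟨F, hF1, hF2, hF4, ?_⟩
    have htop := CfsgLib.FGS74.ThreeOrders.psl_three_eq_top T.isCIT_quot hMC e hF4
    exact ⟨((MulEquiv.subgroupCongr htop).trans Subgroup.topEquiv).symm.trans e⟩
  · exfalso
    obtain ⟨h0, hh0, ho0⟩ := hH.exists_invol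
    have ho0' : orderOf ((h0 : M) : Kgrp θ t ⧸ T.Vk) = 2 := by rw [Subgroup.orderOf_coe, ho0]
    obtain ⟨g, hg⟩ := T.quot_invol ho0'
    have hconj : ∀ x : Kgrp θ t ⧸ T.Vk, x * T.zbar = T.zbar * x → orderOf x = 2 →
        ∃ x' : M, (x' : Kgrp θ t ⧸ T.Vk) = g * x * g⁻¹ ∧ x' ∈ H := by
      intro x hx hxo
      refine ⟨⟨g * x * g⁻¹, Subgroup.Normal.conj_mem hMn x (hmemC hx) g⟩, rfl, ?_⟩
      have hxo' : orderOf (⟨g * x * g⁻¹, Subgroup.Normal.conj_mem hMn x (hmemC hx) g⟩ : M) = 2 := by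
        rw [Subgroup.orderOf_mk, ← hxo]; exact (MulAut.conj g).orderOf_eq x
      refine hH.invol_mem _ (hH.ti _ h0 hh0 (fun e => by rw [e, orderOf_one] at ho0; omega) ?_) hxo'
      have hc : (g * x * g⁻¹) * ((h0 : M) : Kgrp θ t ⧸ T.Vk) * (g * x * g⁻¹)⁻¹ = h0 := by
        rw [← hg, show g * x * g⁻¹ * (g * T.zbar * g⁻¹) * (g * x * g⁻¹)⁻¹ =
          g * (x * T.zbar * x⁻¹) * g⁻¹ by group, mul_inv_eq_iff_eq_mul.2 hx]
      have hh : (⟨g * x * g⁻¹, Subgroup.Normal.conj_mem hMn x (hmemC hx) g⟩ : M) * h0 *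
          (⟨g * x * g⁻¹, Subgroup.Normal.conj_mem hMn x (hmemC hx) g⟩ : M)⁻¹ = h0 := Subtype.ext hc
      rw [hh]; exact hh0
    obtain ⟨a1, ha1, ha1H⟩ := hconj a haz ha
    obtain ⟨b1, hb1, hb1H⟩ := hconj b hbz hb
    have hcomm := hH.invol_central a1 ha1H (by
      rw [← Subgroup.orderOf_coe, ha1, ← ha]; exact (MulAut.conj g).orderOf_eq a) b1 hb1H
    have h1 : (b1 : Kgrp θ t ⧸ T.Vk) * a1 = (a1 : Kgrp θ t ⧸ T.Vk) * b1 := by
      rw [← Subgroup.coe_mul, hcomm.eq, Subgroup.coe_mul]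
    rw [ha1, hb1] at h1
    refine hab (mul_left_cancel (a := g) (mul_right_cancel (b := g⁻¹) ?_))
    calc g * (a * b) * g⁻¹ = g * a * g⁻¹ * (g * b * g⁻¹) := by group
      _ = g * b * g⁻¹ * (g * a * g⁻¹) := h1.symm
      _ = g * (b * a) * g⁻¹ := by group

/-- The order of `K`. -/
theorem card_K : Nat.card (Kgrp θ t) = 80640 := by
  obtain ⟨F, hF1, hF2, hF4, ⟨e⟩⟩ := T.quot_equiv
  rw [Subgroup.card_eq_card_quotient_mul_card_subgroup T.Vk, Nat.card_congr e.toEquiv,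
    CfsgLib.EPPOFour.card_psl_three_four hF4, T.card_Vk]

end Four

end CfsgLib.SuzType
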