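import Cfsg.Agent.SuzType.XGroup

/-!
# The lines of `Q / ⟨z⟩` attached to conjugates of `z` in `C(z)`
-/

set_option autoImplicit false

namespace CfsgLib.SuzType

open CfsgLib.LargeExtraspecial

/-- The classes of conjugates of `z` in `R` outside `Q`, not at the point `r`. -/
abbrev PartC (r A U : V6) : Prop := U ≠ 0 ∧ U ≠ r ∧ q6 U = false ∧ (A = 0 ∨ A = U)

theorem partC_card : ∀ r : V6, InU r → q6 r = false → r ≠ 0 → (Finset.univ.filter
    fun p : V6 × V6 => InU p.1 ∧ InU p.2 ∧ PartC r p.1 p.2).card = 8 := by decide +kernel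

theorem sie_line : ∀ U : V6, InU U → q6 U = false → U ≠ 0 → ∀ v : V6,
    (∃ x : V6, sie U x + x = v) ↔ (v = 0 ∨ v = s0 ∨ v = U ∨ v = U + s0) := by decide +kernel

theorem sie_perp : ∀ U : V6, InU U → q6 U = false → ∀ w : V6, w = s0 ∨ w = U ∨ w = U + s0 →
    ∀ x : V6, b6 x w = false → sie U x + x = 0 ∨ sie U x + x = w := by decide +kernel

theorem line_point : ∀ U : V6, InU U → q6 U = false → U ≠ 0 → ∀ x : V6, q6 x = false →
    ¬ (x = 0 ∨ x = s0 ∨ x = U ∨ x = U + s0) →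
    (b6 s0 x = false ∨ b6 U x = false ∨ b6 (U + s0) x = false) ∧
    ∀ w w' : V6, (w = s0 ∨ w = U ∨ w = U + s0) → (w' = s0 ∨ w' = U ∨ w' = U + s0) →
      b6 w x = false → b6 w' x = false → w = w' := by decide +kernel

theorem line_mem : ∀ U : V6, InU U → U ≠ 0 → ∀ v : V6, b6 v s0 = false → v ≠ 0 → v ≠ s0 →
    ((v = 0 ∨ v = s0 ∨ v = U ∨ v = U + s0) ↔ U = pU v) := by decide +kernel

theorem line_ne : ∀ U : V6, InU U → q6 U = false → U ≠ 0 →
    q6 (U + s0) = false ∧ U + s0 ≠ 0 := by decide +kernel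

theorem pU_point : ∀ v : V6, b6 v s0 = false → q6 v = false → v ≠ 0 → v ≠ s0 →
    q6 (pU v) = false ∧ pU v ≠ 0 := by decide +kernel

/-- The points under consideration. -/
abbrev Point (p : V6) : Prop := q6 p = false ∧ b6 p s0 = false ∧ p ≠ 0 ∧ p ≠ s0

namespace Data

variable {G : Type*} [Group G] {z : G} {Q : Subgroup G} {π : G → V6} (D : Data z Q π)
include D

theorem act_inv_act {c : G} (hc : c * z = z * c) (v : V6) : D.act c⁻¹ (D.act c v) = v := by
  rw [← D.act_mul (Commute.inv_left hc).eq hc, inv_mul_cancel, D.act_one]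

theorem act_act_inv {c : G} (hc : c * z = z * c) (v : V6) : D.act c (D.act c⁻¹ v) = v := by
  rw [← D.act_mul hc (Commute.inv_left hc).eq, mul_inv_cancel, D.act_one]

theorem act_injective {c : G} (hc : c * z = z * c) : Function.Injective (D.act c) :=
  Function.LeftInverse.injective (g := D.act c⁻¹) (D.act_inv_act hc)

/-- Membership of the line of an element. -/
def Img (u : G) (v : V6) : Prop := ∃ x, D.act u x + x = v

theorem img_conj {c u : G} {v : V6} (hc : c * z = z * c) (hu : u * z = z * u) (h : D.Img u v) :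
    D.Img (c * u * c⁻¹) (D.act c v) := by
  obtain ⟨x, rfl⟩ := h
  refine ⟨D.act c x, ?_⟩
  rw [(D.act_iso hc).add, ← D.act_mul hc hu,
    ← D.act_mul (Commute.mul_left (Commute.mul_left hc hu) (Commute.inv_left hc)).eq hc,
    inv_mul_cancel_right]

theorem img_conj_iff {c u : G} {v : V6} (hc : c * z = z * c) (hu : u * z = z * u) :
    D.Img (c * u * c⁻¹) (D.act c v) ↔ D.Img u v := by
  refine ⟨fun h => ?_, D.img_conj hc hu⟩
  have := D.img_conj (Commute.inv_left hc).eq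
    (Commute.mul_left (Commute.mul_left hc hu) (Commute.inv_left hc)).eq h
  rwa [D.act_inv_act hc, show c⁻¹ * (c * u * c⁻¹) * c⁻¹⁻¹ = u by group] at this

end Data

namespace Frame

variable {G : Type*} [Group G] [Finite G] {z s : G} {Q P : Subgroup G} {π : G → V6}
  (F : Frame z Q π P s)
include F

theorem img_cl {r : G} {A U : V6} (h : F.Cl r A U) (hq : q6 U = false) (hU : U ≠ 0) (v : V6) :
    F.data.Img r v ↔ v = 0 ∨ v = s0 ∨ v = U ∨ v = U + s0 := by
  rw [← sie_line U h.inU_right hq hU v]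
  simp only [Data.Img, Cl.act_eq F h]

theorem mem_Q_of_cl {r : G} {A : V6} (h : F.Cl r A 0) : r ∈ Q :=
  F.data.mem_of_act h.comm_z fun v => by rw [Cl.act_eq F h, sie_zero]

/-- The classes of a conjugate of `z` in `R` outside `Q`. -/
theorem zType_classes {r : G} {A U : V6} (h : F.Cl r A U) (hU : U ≠ 0) (h2 : r * r = 1)
    (hz : IsConj z r) : q6 U = false ∧ (A = 0 ∨ A = U) := by
  have h1 : r ≠ 1 := fun e => hU (h.unique (e ▸ F.cl_one :)).2
  have hq := (F.isConj_z_iff h h2 h1).1 hz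
  obtain ⟨hA, hb⟩ := h.sq_eq_one_iff.1 h2
  rw [hq] at hb
  rw [← hb] at hA
  refine ⟨hq, ?_⟩
  by_cases hA0 : A = 0
  · exact Or.inl hA0
  · exact Or.inr (singular_orth_eq _ h.inU_left _ h.inU_right hA0 hU hA hq hb.symm)

theorem exists_zType_conj {u : G} (hu : u * z = z * u) (h2 : u * u = 1) (hz : IsConj z u)
    (hQ : u ∉ Q) : ∃ c A U, c * z = z * c ∧ U ≠ 0 ∧ q6 U = false ∧ F.Cl (c * u * c⁻¹) A U := by
  obtain ⟨c, A, U, hc, hU, h⟩ := F.exists_conj_R hu h2 hQ
  exact ⟨c, A, U, hc, hU, (F.zType_classes h hU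
    (by rw [show c * u * c⁻¹ * (c * u * c⁻¹) = c * (u * u) * c⁻¹ by group, h2]; group)
    (hz.trans (isConj_iff.2 ⟨c, rfl⟩))).1, h⟩

/-- An element whose line contains `s0` lies in `R`. -/
theorem cl_of_img {u : G} (hu : u * z = z * u) (h2 : u * u = 1) (hz : IsConj z u) (hQ : u ∉ Q)
    (hi : F.data.Img u s0) : ∃ A U, U ≠ 0 ∧ F.Cl u A U := by
  obtain ⟨c, A, U, hc, hU, hq, h⟩ := F.exists_zType_conj hu h2 hz hQ
  obtain ⟨f, hf⟩ : ∃ f, f = F.data.act c := ⟨_, rfl⟩
  have hiso : IsIso6 f := hf ▸ F.data.act_iso hc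
  have hinj : Function.Injective f := hf ▸ F.data.act_injective hc
  have hw : f s0 = s0 ∨ f s0 = U ∨ f s0 = U + s0 := by
    rw [hf]
    exact ((F.img_cl h hq hU _).1 (F.data.img_conj hc hu hi)).resolve_left fun e =>
      s0_ne_zero (F.data.act_injective hc (e.trans (F.data.act_iso hc).zero.symm))
  have hiu : IsIso6 (F.data.act u) := F.data.act_iso hu
  have hx : ∀ x, b6 x s0 = false → F.data.act u x + x = 0 ∨ F.data.act u x + x = s0 := by
    intro x hxs
    have hb : b6 (f x) (f s0) = false := by rw [hiso.polar]; exact hxs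
    have e : f (F.data.act u x + x) = sie U (f x) + f x := by
      rw [hiso.add, hf, ← F.data.act_mul hc hu, ← Cl.act_eq F h,
        ← F.data.act_mul h.comm_z hc, inv_mul_cancel_right]
    rcases sie_perp U h.inU_right hq _ hw _ hb with r | r
    · exact Or.inl (hinj ((e.trans r).trans hiso.zero.symm))
    · exact Or.inr (hinj (e.trans r))
  have hs : F.data.act u s0 = s0 := by
    rcases hx s0 (b6_self _) with e | e
    · exact eq_of_add_eq_zero6 e
    · rw [add_eq_right] at e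
      exact absurd (F.data.act_injective hu (e.trans hiu.zero.symm)) s0_ne_zero
  have hact := hiu.eq_sie hs hx
  have hu0 : pU (F.data.act u d0) ≠ 0 := fun e => hQ (F.data.mem_of_act hu fun v => by
    rw [hact, e, sie_zero])
  have hus := F.comm_s_of_invol hu h2 (pU_pU _) hu0 hact
  obtain ⟨A', h'⟩ := F.exists_cl_of_act hu hus (pU_pU _) hact
  exact ⟨A', _, hu0, h'⟩

/-- A line missing `s0` has exactly one point orthogonal to it. -/
theorem exists_point {u : G} (hu : u * z = z * u) (h2 : u * u = 1) (hz : IsConj z u) (hQ : u ∉ Q)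
    (hi : ¬ F.data.Img u s0) :
    (∃ p, Point p ∧ F.data.Img u p) ∧
      ∀ p p', Point p → Point p' → F.data.Img u p → F.data.Img u p' → p = p' := by
  obtain ⟨c, A, U, hc, hU, hq, h⟩ := F.exists_zType_conj hu h2 hz hQ
  obtain ⟨x, hx⟩ : ∃ x, x = F.data.act c s0 := ⟨_, rfl⟩
  have hiso := F.data.act_iso hc
  have hiff : ∀ v, F.data.Img u v ↔ (F.data.act c v = 0 ∨ F.data.act c v = s0 ∨
      F.data.act c v = U ∨ F.data.act c v = U + s0) := fun v => by
    rw [← F.img_cl h hq hU, F.data.img_conj_iff hc hu]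
  have hxq : q6 x = false := by rw [hx, hiso.quad]; exact q6_s0
  have hxn : ¬ (x = 0 ∨ x = s0 ∨ x = U ∨ x = U + s0) := fun e => hi ((hiff s0).2 (hx ▸ e))
  obtain ⟨hex, huniq⟩ := line_point U h.inU_right hq hU x hxq hxn
  constructor
  · obtain ⟨w, hw, hwb⟩ : ∃ w, (w = s0 ∨ w = U ∨ w = U + s0) ∧ b6 w x = false := by
      rcases hex with e | e | e
      exacts [⟨_, Or.inl rfl, e⟩, ⟨_, Or.inr (Or.inl rfl), e⟩, ⟨_, Or.inr (Or.inr rfl), e⟩]
    obtain ⟨p, hp⟩ : ∃ p, F.data.act c p = w := ⟨_, F.data.act_act_inv hc w⟩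
    have hw0 : q6 w = false ∧ w ≠ 0 := by
      rcases hw with r | r | r <;> rw [r]
      exacts [⟨q6_s0, s0_ne_zero⟩, ⟨hq, hU⟩, line_ne U h.inU_right hq hU]
    have himg : F.data.Img u p := (hiff p).2 (hp ▸ Or.inr hw)
    refine ⟨p, ⟨?_, ?_, fun e => hw0.2 ?_, fun e => hi (e ▸ himg)⟩, himg⟩
    · rw [← hiso.quad, hp]; exact hw0.1
    · rw [← hiso.polar, hp, ← hx]; exact hwb
    · rw [← hp, e, hiso.zero]
  · intro p p' hp hp' hip hip'
    have key : ∀ q, Point q → F.data.Img u q →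
        (F.data.act c q = s0 ∨ F.data.act c q = U ∨ F.data.act c q = U + s0) ∧
          b6 (F.data.act c q) x = false := fun q hq' hi' =>
      ⟨((hiff q).1 hi').resolve_left fun e =>
          hq'.2.2.1 (F.data.act_injective hc (e.trans hiso.zero.symm)),
        by rw [hx, hiso.polar]; exact hq'.2.1⟩
    exact F.data.act_injective hc (huniq _ _ (key p hp hip).1 (key p' hp' hip').1 (key p hp hip).2
      (key p' hp' hip').2)

/-- A point is the image of `s0`. -/
theorem exists_point_conj {p : V6} (hp : Point p) : ∃ c, c * z = z * c ∧ F.data.act c s0 = p ∧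
    c * s * c⁻¹ ∈ Q ∧ π (c * s * c⁻¹) = p ∧ c * s * c⁻¹ * (c * s * c⁻¹) = 1 := by
  obtain ⟨a, ha, hap⟩ := F.data.surj p
  have h2 : a * a = 1 := (F.data.sq a ha).2 (by rw [hap]; exact hp.1)
  obtain ⟨c, hc, hcs⟩ := F.exists_conj_s ha h2
    (fun e => hp.2.2.1 (by rw [← hap, (F.data.ker a ha).2 (Or.inl e)]))
    (fun e => hp.2.2.1 (by rw [← hap, (F.data.ker a ha).2 (Or.inr e)]))
  refine ⟨c, hc, ?_, hcs ▸ ha, by rw [hcs, hap], by rw [hcs, h2]⟩
  rw [← F.π_s, F.data.act_π hc F.pair.mem, hcs, hap]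

/-- The conjugates of `z` through a given point. -/
theorem part_iff {p : V6} (hp : Point p) {c : G} (hc : c * z = z * c) (hcp : F.data.act c s0 = p)
    {u : G} :
    (u * z = z * u ∧ u * u = 1 ∧ IsConj z u ∧ u ∉ Q ∧ ¬ F.data.Img u s0 ∧ F.data.Img u p) ↔
      ∃ A U, F.Cl (c⁻¹ * u * c) A U ∧ PartC (pU (F.data.act c⁻¹ s0)) A U := by
  have hci : c⁻¹ * z = z * c⁻¹ := (Commute.inv_left hc).eq
  obtain ⟨w, hw⟩ : ∃ w, w = F.data.act c⁻¹ s0 := ⟨_, rfl⟩
  have hiso := F.data.act_iso hc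
  have hcw : F.data.act c w = s0 := by rw [hw]; exact F.data.act_act_inv hc _
  have hwb : b6 w s0 = false := by
    rw [← hiso.polar, hcw, hcp, b6_comm]; exact hp.2.1
  have hw0 : w ≠ 0 := fun e => s0_ne_zero (by rw [← hcw, e, hiso.zero])
  have hws : w ≠ s0 := fun e => hp.2.2.2 (by rw [← hcp, ← e, hcw, e])
  obtain ⟨r, hr⟩ : ∃ r, r = c⁻¹ * u * c := ⟨_, rfl⟩
  have hur : u = c * r * c⁻¹ := by rw [hr]; group
  rw [← hw, ← hr]
  constructor
  · rintro ⟨hu, h2, hz, hQ, hi, hip⟩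
    have hrz : r * z = z * r := hr ▸ ((Commute.mul_left hci hu).mul_left hc).eq
    have hr2 : r * r = 1 := by
      rw [hr, show c⁻¹ * u * c * (c⁻¹ * u * c) = c⁻¹ * (u * u) * c by group, h2]; group
    have hrzc : IsConj z r := hz.trans (hr ▸ isConj_iff.2 ⟨c⁻¹, by rw [inv_inv]⟩)
    have hrQ : r ∉ Q := fun e => hQ (hur ▸ F.data.sub.conj_mem hc e)
    have hris : F.data.Img r s0 := by
      rw [← F.data.img_conj_iff hc hrz, ← hur, hcp]; exact hip
    obtain ⟨A, U, hU, h⟩ := F.cl_of_img hrz hr2 hrzc hrQ hris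
    obtain ⟨hq, hA⟩ := F.zType_classes h hU hr2 hrzc
    refine ⟨A, U, h, hU, fun e => hi ?_, hq, hA⟩
    rw [hur, ← hcw, F.data.img_conj_iff hc hrz, F.img_cl h hq hU,
      line_mem U h.inU_right hU w hwb hw0 hws]
    exact e
  · rintro ⟨A, U, h, hU, hne, hq, hA⟩
    have hrz := h.comm_z
    have hb : b6 A U = false := by
      rcases hA with e | e <;> rw [e]
      exacts [b6_zero_left _, b6_self _]
    have hr2 : r * r = 1 := h.sq_eq_one_iff.2 ⟨by
      rcases hA with e | e <;> rw [hb, e]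
      exacts [q6_zero, hq], hq.trans hb.symm⟩
    have hr1 : r ≠ 1 := fun e => hU (h.unique (e ▸ F.cl_one :)).2
    have hrQ : r ∉ Q := fun e => by
      have he : ∀ v, sie U v = v := fun v => by rw [← Cl.act_eq F h, F.data.act_of_mem e]
      have := sie_diag U h.inU_right d0 (by decide)
      rw [he, add_self6, pU_zero] at this
      exact hU this.symm
    refine ⟨hur ▸ (F.conj_z_comm hc hrz), ?_, ?_, fun e => hrQ (hr ▸ ?_), ?_, ?_⟩
    · rw [hur, show c * r * c⁻¹ * (c * r * c⁻¹) = c * (r * r) * c⁻¹ by group, hr2]; group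
    · exact hur ▸ (F.isConj_z_of_iso h hr2 hr1 hq).trans (isConj_iff.2 ⟨c, rfl⟩)
    · have := F.data.sub.conj_mem hci e
      rwa [inv_inv] at this
    · rw [hur, ← hcw, F.data.img_conj_iff hc hrz, F.img_cl h hq hU,
        line_mem U h.inU_right hU w hwb hw0 hws]
      exact hne
    · rw [hur, ← hcp, F.data.img_conj_iff hc hrz, F.img_cl h hq hU]
      exact Or.inr (Or.inl rfl)

theorem card_part {p : V6} (hp : Point p) :
    Nat.card {u : G // u * z = z * u ∧ u * u = 1 ∧ IsConj z u ∧ u ∉ Q ∧ ¬ F.data.Img u s0 ∧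
      F.data.Img u p} = 32 := by
  obtain ⟨c, hc, hcp, -⟩ := F.exists_point_conj hp
  have hci : c⁻¹ * z = z * c⁻¹ := (Commute.inv_left hc).eq
  obtain ⟨w, hw⟩ : ∃ w, w = F.data.act c⁻¹ s0 := ⟨_, rfl⟩
  have hwb : b6 w s0 = false := by
    rw [← (F.data.act_iso hc).polar, hw, F.data.act_act_inv hc, hcp, b6_comm]; exact hp.2.1
  have hw0 : w ≠ 0 := fun e => s0_ne_zero (by
    rw [← F.data.act_act_inv hc s0, ← hw, e, (F.data.act_iso hc).zero])
  have hws : w ≠ s0 := fun e => hp.2.2.2 (by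
    rw [← hcp]; conv_lhs => rw [← e, hw, F.data.act_act_inv hc])
  have hwq : q6 w = false := by rw [hw, (F.data.act_iso hci).quad]; exact q6_s0
  obtain ⟨hrq, hr0⟩ := pU_point w hwb hwq hw0 hws
  rw [Nat.card_congr (Equiv.subtypeEquivRight fun u => F.part_iff hp hc hcp),
    Nat.card_congr ((MulAut.conj c⁻¹).toEquiv.subtypeEquiv
      (q := fun x => ∃ A U, F.Cl x A U ∧ PartC (pU (F.data.act c⁻¹ s0)) A U) fun u => by
      simp [MulAut.conj_apply]), F.card_cl, ← hw, partC_card _ (pU_pU w) hrq hr0]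

end Frame

end CfsgLib.SuzType
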