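import Cfsg.Agent.SuzType.XGroup
import Cfsg.Agent.Small.ThompsonOrder

/-!
# Pairs of involutions whose product has `t` as central involution
-/

set_option autoImplicit false
set_option linter.style.haveILetI false

namespace CfsgLib.SuzType

open CfsgLib.LargeExtraspecial

/-- Isotropic classes of `T`. -/
abbrev IsoC (A U : V6) : Prop := isoList.contains (A, U) = true

/-- Nontrivial isotropic classes of `T`. -/
abbrev IsoC' (A U : V6) : Prop := isoList.contains (A, U) = true ∧ ¬ (A = 0 ∧ U = 0)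

/-- The partners of an isotropic class pair with commutator `z`. -/
abbrev Partner (A' U' A U : V6) : Prop :=
  isoList.contains (A, U) = true ∧ xor (b6 A A') (xor (b6 A U') (b6 U A')) = true ∧
    xor (b6 U U') (xor (b6 A U') (b6 U A')) = false

theorem iso_card : (Finset.univ.filter fun p : V6 × V6 => InU p.1 ∧ InU p.2 ∧ IsoC p.1 p.2).card = 7 ∧
    (Finset.univ.filter fun p : V6 × V6 => InU p.1 ∧ InU p.2 ∧ IsoC' p.1 p.2).card = 6 := by
  decide +kernel

theorem partner_card' : (isoList.all fun r => decide (r = (0, 0)) || decide ((Finset.univ.filter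
    fun p : V6 × V6 => InU p.1 ∧ InU p.2 ∧ Partner r.1 r.2 p.1 p.2).card = 1)) = true := by
  decide +kernel

theorem iso_sq : ∀ p ∈ isoList, q6 p.1 = b6 p.1 p.2 ∧ q6 p.2 = b6 p.1 p.2 := by
  have h : (isoList.all fun p => decide (q6 p.1 = b6 p.1 p.2 ∧ q6 p.2 = b6 p.1 p.2)) = true := by
    decide +kernel
  exact fun p hp => of_decide_eq_true (List.all_eq_true.1 h p hp)

theorem conj_pow_step {G : Type*} [Group G] {a b : G} (ha : a * a = 1) (hb : b * b = 1) (i : ℕ) :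
    (a * b) ^ i * a * ((a * b) ^ i)⁻¹ = (a * b) ^ (2 * i) * a := by
  have h : a * ((a * b) ^ i)⁻¹ = (a * b) ^ i * a := by
    have h1 : a * (a * b) * a⁻¹ = (a * b)⁻¹ := by
      rw [mul_inv_rev, inv_eq_of_mul_eq_one_right ha, inv_eq_of_mul_eq_one_right hb]
      rw [← mul_assoc a a b, ha, one_mul]
    have h2 : a * (a * b) ^ i * a⁻¹ = ((a * b) ^ i)⁻¹ := by rw [← conj_pow, h1, inv_pow]
    rw [← h2, inv_eq_of_mul_eq_one_right ha, ← mul_assoc, ← mul_assoc, ha, one_mul]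
  rw [mul_assoc, h, ← mul_assoc, ← pow_add, two_mul]

namespace Four

variable {G : Type*} [Group G] [Finite G] {z s θ t : G} {Q P : Subgroup G} {π : G → V6}
  (T : Four z Q π P s θ t)
include T

theorem zsq_of_isConj {x : G} (h : IsConj z x) : x * x = 1 ∧ x ≠ 1 := by
  obtain ⟨c, hc⟩ := isConj_iff.1 h
  refine ⟨?_, fun e => T.frame.data.sub.ne_one ?_⟩
  · rw [← hc, show c * z * c⁻¹ * (c * z * c⁻¹) = c * (z * z) * c⁻¹ by group,
      T.frame.data.sub.mul_self]
    group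
  · rw [e] at hc; exact conj_eq_one_iff.1 hc

theorem not_memV_of_isConj {x : G} (h : IsConj z x) : ¬ MemV θ t x := fun hv =>
  T.not_isConj_memV_mul hv (T.zsq_of_isConj h).2 (Or.inl rfl) (by rwa [mul_one])

/-- Conjugates of `z` in `K` are `K`-conjugates. -/
theorem exists_conj_zK {x : G} (hx : x ∈ Kgrp θ t) (h : IsConj z x) :
    ∃ g ∈ Kgrp θ t, x = g * z * g⁻¹ :=
  T.exists_conj_of_zType (mem_Kgrp.1 hx).1 h

theorem isConj_t_of_not {x : G} (hx : x * z = z * x) (h2 : x * x = 1) (h1 : x ≠ 1)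
    (hn : ¬ IsConj z x) : IsConj t x := by
  obtain ⟨c, -, hc⟩ := T.frame.exists_conj_t T.cl hx h2 h1 hn
  exact isConj_iff.2 ⟨c, hc⟩

/-- A power of `z * l` in the four group is trivial. -/
theorem pow_eq_one_of_memV {l : G} (hl : IsConj z l) (hlK : l ∈ Kgrp θ t) {k : ℕ}
    (hV : MemV θ t ((z * l) ^ k)) : (z * l) ^ k = 1 := by
  have F := T.frame
  have hz2 := F.data.sub.mul_self
  have hl2 := (T.zsq_of_isConj hl).1
  obtain ⟨i, hi⟩ := Nat.even_or_odd' k
  rcases hi with hk | hk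
  · obtain ⟨d, hd⟩ : ∃ d, d = (z * l) ^ i := ⟨_, rfl⟩
    have hdK : d ∈ Kgrp θ t := hd ▸ pow_mem (mul_mem T.z_mem_K hlK) i
    have h := conj_pow_step hz2 hl2 i
    rw [← hd, ← hk] at h
    refine T.eq_one_of_isConj hV (one_mem _) ?_
    rw [one_mul, inv_one, mul_one, ← h]
    exact isConj_iff.2 ⟨d, rfl⟩
  · obtain ⟨g, hg, hge⟩ := T.exists_conj_zK hlK hl
    refine T.eq_one_of_isConj hV hg ?_
    have h := conj_pow_step hz2 hl2 i
    have e : (z * l) ^ k * l = (z * l) ^ (2 * i) * z := by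
      rw [hk, pow_succ]
      calc (z * l) ^ (2 * i) * (z * l) * l = (z * l) ^ (2 * i) * z * (l * l) := by group
        _ = _ := by rw [hl2, mul_one]
    rw [← hge, e, ← h]
    exact isConj_iff.2 ⟨_, rfl⟩

/-- Elements of `K` commuting with a conjugate of `z` in `⟨z, s⟩` lie in `T`. -/
theorem comm_E_K {e x : G} (he : e = z ∨ e = s ∨ e = z * s) (hx : x ∈ Kgrp θ t)
    (hc : x * e = e * x) : x * z = z * x := by
  have F := T.frame
  obtain ⟨ρ, hρz, hρs, hρθ, hρt⟩ := T.exists_rho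
  have hρK := T.rho_mem_K hρθ hρt
  have hρzs : ρ * (z * s) * ρ⁻¹ = z := by
    rw [show ρ * (z * s) * ρ⁻¹ = ρ * z * ρ⁻¹ * (ρ * s * ρ⁻¹) by group, hρz, hρs, ← mul_assoc,
      F.s_comm, mul_assoc, F.s_mul_self, mul_one]
  rcases he with r | r | r <;> rw [r] at hc
  · exact hc
  · have h1 := (Commute.conj_iff ρ⁻¹).2 (show Commute x s from hc)
    rw [show ρ⁻¹ * s * ρ⁻¹⁻¹ = z by rw [← hρz]; group] at h1
    have h2 := (T.zK_iff.1 ⟨h1.eq, T.conj_mem_K (inv_mem hρK) hx⟩).2.1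
    have h3 := (Commute.conj_iff ρ).2 (show Commute (ρ⁻¹ * x * ρ⁻¹⁻¹) s from h2)
    rw [show ρ * (ρ⁻¹ * x * ρ⁻¹⁻¹) * ρ⁻¹ = x by group, hρs] at h3
    have h4 := h3.mul_right (show Commute x s from hc)
    rwa [mul_assoc, F.s_mul_self, mul_one] at h4
  · have h1 := (Commute.conj_iff ρ).2 (show Commute x (z * s) from hc)
    rw [hρzs] at h1
    have h2 := (T.zK_iff.1 ⟨h1.eq, T.conj_mem_K hρK hx⟩).2.1
    have h3 := (Commute.conj_iff ρ⁻¹).2 (show Commute (ρ * x * ρ⁻¹) s from h2)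
    rw [show ρ⁻¹ * (ρ * x * ρ⁻¹) * ρ⁻¹⁻¹ = x by group,
      show ρ⁻¹ * s * ρ⁻¹⁻¹ = z by rw [← hρz]; group] at h3
    exact h3.eq

theorem mem_T_iso {l : G} (hlT : l ∈ Subgroup.centralizer ({z, s, t} : Set G)) (hl : IsConj z l) :
    ∃ A U, T.frame.Cl l A U ∧ IsoC A U := by
  obtain ⟨A, U, h, hT⟩ := T.exists_cl_T hlT
  obtain ⟨h2, h1⟩ := T.zsq_of_isConj hl
  obtain ⟨hqA, hqU⟩ := h.sq_eq_one_iff.1 h2
  exact ⟨A, U, h, List.contains_iff_mem.2 (iso_classes h.inU_left h.inU_right hT hqA hqU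
    ((T.frame.isConj_z_iff h h2 h1).1 hl))⟩

theorem iso_mem_T {x : G} {A U : V6} (h : T.frame.Cl x A U) (hi : IsoC A U) :
    x ∈ Subgroup.centralizer ({z, s, t} : Set G) ∧ x * x = 1 ∧ (x ≠ 1 → IsConj z x) := by
  have hm : (A, U) ∈ isoList := List.contains_iff_mem.1 (show isoList.contains (A, U) = true from hi)
  have h2 : x * x = 1 := h.sq_eq_one_iff.2 (iso_sq (A, U) hm)
  exact ⟨T.mem_T_of_cl h (iso_Tcond (A, U) hm), h2,
    fun h1 => T.frame.isConj_z_of_iso h h2 h1 (iso_types (A, U) hm).1⟩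

theorem card_zK : Nat.card {l : G // l ∈ Kgrp θ t ∧ IsConj z l} = 315 := by
  classical
  choose rep hrK hre using fun l : {l : G // l ∈ Kgrp θ t ∧ IsConj z l} =>
    T.exists_conj_zK l.2.1 l.2.2
  obtain ⟨T', hT'⟩ : ∃ T', T' = Subgroup.centralizer ({z, s, t} : Set G) := ⟨_, rfl⟩
  let f : {l : G // l ∈ Kgrp θ t ∧ IsConj z l} × T' → Kgrp θ t := fun p =>
    ⟨rep p.1 * p.2.1, mul_mem (hrK p.1) (T.Tgrp_le_K (hT' ▸ p.2.2))⟩
  have hfix : ∀ c : T', (c : G) * z * (c : G)⁻¹ = z := fun c =>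
    mul_inv_eq_iff_eq_mul.2 (T.mem_Tgrp.1 (hT' ▸ c.2)).1
  have hf : Function.Bijective f := by
    constructor
    · rintro ⟨a, c⟩ ⟨a', c'⟩ h
      have h' : rep a * c.1 = rep a' * c'.1 := congrArg Subtype.val h
      have ha : a = a' := Subtype.ext (by
        calc a.1 = rep a * c.1 * z * (rep a * c.1)⁻¹ := by
              rw [show rep a * c.1 * z * (rep a * c.1)⁻¹ = rep a * (c.1 * z * c.1⁻¹) * (rep a)⁻¹ by
                group, hfix, ← hre]
          _ = a'.1 := by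
              rw [h', show rep a' * c'.1 * z * (rep a' * c'.1)⁻¹ =
                rep a' * (c'.1 * z * c'.1⁻¹) * (rep a')⁻¹ by group, hfix, ← hre])
      subst ha
      exact Prod.ext rfl (Subtype.ext (mul_left_cancel h'))
    · rintro ⟨k, hk⟩
      obtain ⟨a, ha⟩ : ∃ a : {l : G // l ∈ Kgrp θ t ∧ IsConj z l}, a.1 = k * z * k⁻¹ :=
        ⟨⟨_, T.conj_mem_K hk T.z_mem_K, isConj_iff.2 ⟨k, rfl⟩⟩, rfl⟩
      have hd : (rep a)⁻¹ * k ∈ T' := by
        rw [hT', T.mem_Tgrp]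
        refine T.zK_iff.1 ⟨mul_inv_eq_iff_eq_mul.1 ?_, mul_mem (inv_mem (hrK a)) hk⟩
        rw [show (rep a)⁻¹ * k * z * ((rep a)⁻¹ * k)⁻¹ = (rep a)⁻¹ * (k * z * k⁻¹) * rep a by group,
          ← ha, hre a]
        group
      exact ⟨(a, ⟨_, hd⟩), Subtype.ext (mul_inv_cancel_left _ _)⟩
  have h := Nat.card_eq_of_bijective f hf
  rw [Nat.card_prod, T.card_K, hT', T.card_Tgrp] at h
  omega

/-- The structure of the products of even order. -/
theorem even_cases {l : G} (hlK : l ∈ Kgrp θ t) (hl : IsConj z l) (ho : ¬ Odd (orderOf (z * l))) :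
    (z * l) ^ 4 = 1 ∧ (z * l = l * z ∨ (((z * l) * (z * l)) ∈ Kgrp θ t ∧
      IsConj z ((z * l) * (z * l)) ∧ (z * l) * (z * l) * z = z * ((z * l) * (z * l)))) := by
  have F := T.frame
  have hz2 := F.data.sub.mul_self
  have hl2 := (T.zsq_of_isConj hl).1
  rw [Nat.not_odd_iff_even] at ho
  obtain ⟨k, hk⟩ := ho
  have hpos := orderOf_pos (z * l)
  obtain ⟨c, hc⟩ : ∃ c, c = (z * l) ^ k := ⟨_, rfl⟩
  have hc2 : c * c = 1 := by rw [hc, ← pow_add, ← hk, pow_orderOf_eq_one]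
  have hc1 : c ≠ 1 := by
    intro e
    rw [hc] at e
    have := orderOf_le_of_pow_eq_one (by omega) e
    omega
  have hcK : c ∈ Kgrp θ t := hc ▸ pow_mem (mul_mem T.z_mem_K hlK) k
  have hcV : ¬ MemV θ t c := fun hv => hc1 (by rw [hc] at hv ⊢; exact T.pow_eq_one_of_memV hl hlK hv)
  obtain ⟨v, g, hv, hg, hce⟩ := T.exists_conj_z hcK hc2 hcV
  have hzc : z * c = c * z := by
    have h1 : z * (z * l) * z⁻¹ = (z * l)⁻¹ := by
      rw [mul_inv_rev, inv_eq_of_mul_eq_one_right hz2, inv_eq_of_mul_eq_one_right hl2,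
        ← mul_assoc z z l, hz2, one_mul]
    have h2 : z * c * z⁻¹ = c := by
      rw [hc, ← conj_pow, h1, inv_pow, ← hc, inv_eq_of_mul_eq_one_right hc2]
    exact mul_inv_eq_iff_eq_mul.1 h2
  have hlc : l * c = c * l := by
    have h1 : Commute c (z * l) := by rw [hc]; exact (Commute.refl (z * l)).pow_left k
    have h2 : Commute c (z * (z * l)) := (show Commute c z from hzc.symm).mul_right h1
    rw [← mul_assoc, hz2, one_mul] at h2
    exact h2.eq.symm
  have hmove : ∀ x ∈ Kgrp θ t, x * c = c * x →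
      g⁻¹ * x * g ∈ Subgroup.centralizer ({z, s, t} : Set G) := by
    intro x hx hxc
    have h1 : Commute x (g * z * g⁻¹) := by
      have e : g * z * g⁻¹ = v * c := by rw [hce, ← mul_assoc, T.memV_sq hv, one_mul]
      rw [e]
      exact (show Commute x v from hv.comm hx).mul_right hxc
    have h2 := (Commute.conj_iff g⁻¹).2 h1
    rw [inv_inv, show g⁻¹ * (g * z * g⁻¹) * g = z by group] at h2
    exact T.mem_Tgrp.2 (T.zK_iff.1 ⟨h2.eq, mul_mem (mul_mem (inv_mem hg) hx) hg⟩)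
  obtain ⟨A, U, hcl, -⟩ := T.exists_cl_T (mul_mem (hmove z T.z_mem_K hzc) (hmove l hlK hlc))
  have hsq := hcl.sq_eq
  rw [show g⁻¹ * z * g * (g⁻¹ * l * g) * (g⁻¹ * z * g * (g⁻¹ * l * g)) =
    g⁻¹ * (z * l * (z * l)) * g by group] at hsq
  have h4 : z * l * (z * l) * (z * l * (z * l)) = 1 := by
    have := congrArg (fun x => g * (x * x) * g⁻¹) hsq
    simp only [F.zE_mul_self, mul_one, mul_inv_cancel] at this
    rw [← this]; group
  have h4' : (z * l) ^ 4 = 1 := by rw [← h4]; simp [pow_succ, mul_assoc]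
  refine ⟨h4', ?_⟩
  by_cases hcomm : z * l = l * z
  · exact Or.inl hcomm
  refine Or.inr ⟨mul_mem (mul_mem T.z_mem_K hlK) (mul_mem T.z_mem_K hlK), ?_, ?_⟩
  · have hne : z * l * (z * l) ≠ 1 := fun e => hcomm (by
      calc z * l = (z * l)⁻¹ := eq_inv_of_mul_eq_one_left e
        _ = l * z := by
          rw [mul_inv_rev, inv_eq_of_mul_eq_one_right hz2, inv_eq_of_mul_eq_one_right hl2])
    have he : z * l * (z * l) = g * zE z s (xor (q6 A) (b6 A U)) (xor (q6 U) (b6 A U)) * g⁻¹ := by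
      rw [← hsq]; group
    obtain ⟨e, hee, hez⟩ : ∃ e, z * l * (z * l) = g * e * g⁻¹ ∧ MemE z s e :=
      ⟨_, he, F.memE_zE _ _⟩
    rw [hee] at hne ⊢
    have : IsConj z e := by
      rcases hez with r | r | r | r
      · exact absurd (by rw [r]; group) hne
      · rw [r]
      · rw [r]; exact F.isConj_z_s
      · obtain ⟨q, -, -, hqs, -, -⟩ := F.exists_not_comm
        rw [r]; exact F.isConj_z_s.trans (isConj_iff.2 ⟨q, hqs⟩)
    exact this.trans (isConj_iff.2 ⟨g, rfl⟩)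
  · have h1 : z * (z * l) * z⁻¹ = (z * l)⁻¹ := by
      rw [mul_inv_rev, inv_eq_of_mul_eq_one_right hz2, inv_eq_of_mul_eq_one_right hl2,
        ← mul_assoc z z l, hz2, one_mul]
    refine (mul_inv_eq_iff_eq_mul.1 ?_).symm
    rw [show z * (z * l * (z * l)) * z⁻¹ = z * (z * l) * z⁻¹ * (z * (z * l) * z⁻¹) by group, h1,
      ← mul_inv_rev, inv_eq_of_mul_eq_one_right h4]

theorem card_iso_sets :
    Nat.card {x : G // x ∈ Subgroup.centralizer ({z, s, t} : Set G) ∧ IsConj z x} = 27 ∧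
    Nat.card {x : G // ∃ A U, T.frame.Cl x A U ∧ IsoC' A U} = 24 := by
  classical
  refine ⟨?_, by rw [T.frame.card_cl IsoC', iso_card.2]⟩
  let _ : Fintype G := Fintype.ofFinite G
  have h28 : Nat.card {x : G // ∃ A U, T.frame.Cl x A U ∧ IsoC A U} = 28 := by
    rw [T.frame.card_cl IsoC, iso_card.1]
  rw [Nat.card_eq_fintype_card, Fintype.card_subtype] at h28 ⊢
  have h1 : (1 : G) ∈ Finset.univ.filter fun x => ∃ A U, T.frame.Cl x A U ∧ IsoC A U :=
    Finset.mem_filter.2 ⟨Finset.mem_univ _, 0, 0, T.frame.cl_one,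
      List.contains_iff_mem.2 List.mem_cons_self⟩
  have h := Finset.card_erase_of_mem h1
  rw [h28] at h
  refine (congrArg Finset.card (Finset.ext fun x => ?_)).trans h
  simp only [Finset.mem_erase, Finset.mem_filter, Finset.mem_univ, true_and]
  constructor
  · rintro ⟨hT, hx⟩
    exact ⟨(T.zsq_of_isConj hx).2, T.mem_T_iso hT hx⟩
  · rintro ⟨hx1, A, U, h, hi⟩
    obtain ⟨hT, -, hz⟩ := T.iso_mem_T h hi
    exact ⟨hT, hz hx1⟩

omit [Finite G] in
theorem conj_pair {g a b : G} :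
    g * a * g⁻¹ * (g * b * g⁻¹) * (g * a * g⁻¹ * (g * b * g⁻¹)) = g * (a * b * (a * b)) * g⁻¹ := by
  group

/-- The conjugates of `z` forming a dihedral group of order eight with it of given center. -/
theorem card_fibre {c : G} (hc : ∃ A U, T.frame.Cl c A U ∧ IsoC' A U) :
    Nat.card {l : G // l ∈ Kgrp θ t ∧ IsConj z l ∧ z * l * (z * l) = c} = 4 := by
  classical
  have F := T.frame
  obtain ⟨A, U, hcl, hi, hne⟩ := hc
  obtain ⟨hcT, -, hcz⟩ := T.iso_mem_T hcl hi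
  have hc1 : c ≠ 1 := fun e => hne (by
    obtain ⟨r1, r2⟩ := hcl.unique (e ▸ F.cl_one :)
    exact ⟨r1, r2⟩)
  obtain ⟨g, hg, hge⟩ := T.exists_conj_zK (T.Tgrp_le_K hcT) (hcz hc1)
  obtain ⟨w, hw⟩ : ∃ w, w = g⁻¹ * z * g := ⟨_, rfl⟩
  have hwz : IsConj z w := hw ▸ isConj_iff.2 ⟨g⁻¹, by rw [inv_inv]⟩
  have hwK : w ∈ Kgrp θ t := hw ▸ mul_mem (mul_mem (inv_mem hg) T.z_mem_K) hg
  have hwT : w ∈ Subgroup.centralizer ({z, s, t} : Set G) := by
    refine T.mem_Tgrp.2 (T.zK_iff.1 ⟨?_, hwK⟩)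
    have h := (Commute.conj_iff g⁻¹).2 (show Commute z c from (T.mem_Tgrp.1 hcT).1.symm)
    rw [hge, inv_inv, show g⁻¹ * (g * z * g⁻¹) * g = z by group, ← hw] at h
    exact h.eq
  obtain ⟨A', U', hwcl, hwi⟩ := T.mem_T_iso hwT hwz
  have hw0 : ¬ (A' = 0 ∧ U' = 0) := by
    rintro ⟨rfl, rfl⟩
    obtain ⟨i, j, hij⟩ := hwcl.eq_zE
    obtain ⟨ρ, hρz, hρs, hρθ, hρt⟩ := T.exists_rho
    have hρK := T.rho_mem_K hρθ hρt
    have hρzs : ρ * (z * s) * ρ⁻¹ = z := by
      rw [show ρ * (z * s) * ρ⁻¹ = ρ * z * ρ⁻¹ * (ρ * s * ρ⁻¹) by group, hρz, hρs, ← mul_assoc,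
        F.s_comm, mul_assoc, F.s_mul_self, mul_one]
    have hρ2 : ρ * ρ * z * (ρ * ρ)⁻¹ = z * s := by
      rw [show ρ * ρ * z * (ρ * ρ)⁻¹ = ρ * (ρ * z * ρ⁻¹) * ρ⁻¹ by group, hρz, hρs]
    have hgw : z = g * w * g⁻¹ := by rw [hw]; group
    -- `g` followed by a power of `ρ` centralises `z`, so `c` would lie in `⟨z, s⟩`
    obtain ⟨r, hrK, hrw, hrE⟩ : ∃ r ∈ Kgrp θ t, r * z * r⁻¹ = w ∧
        ∀ x, x = z ∨ x = s ∨ x = z * s → r⁻¹ * x * r = z ∨ r⁻¹ * x * r = s ∨ r⁻¹ * x * r = z * s := by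
      have hi1 : ρ⁻¹ * s * ρ = z := by rw [← hρz]; group
      have hi2 : ρ⁻¹ * (z * s) * ρ = s := by rw [← hρs]; group
      have hi3 : ρ⁻¹ * z * ρ = z * s := by
        conv_lhs => rw [← hρzs]
        group
      cases i <;> cases j
      · exact absurd (hij.trans F.zE_ff) (T.zsq_of_isConj hwz).2
      · refine ⟨ρ, hρK, by rw [hρz, hij, F.zE_ft], fun x hx => ?_⟩
        rcases hx with e | e | e <;> rw [e]
        exacts [Or.inr (Or.inr hi3), Or.inl hi1, Or.inr (Or.inl hi2)]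
      · refine ⟨1, one_mem _, by rw [hij, F.zE_tf]; group, fun x hx => ?_⟩
        simpa using hx
      · refine ⟨ρ * ρ, mul_mem hρK hρK, by rw [hρ2, hij, F.zE_tt], fun x hx => ?_⟩
        have hh : ∀ y, (ρ * ρ)⁻¹ * y * (ρ * ρ) = ρ⁻¹ * (ρ⁻¹ * y * ρ) * ρ := fun y => by group
        rcases hx with e | e | e <;> rw [e, hh]
        · right; left; rw [hi3, hi2]
        · right; right; rw [hi1, hi3]
        · left; rw [hi2, hi1]
    have hgr : g * r * z = z * (g * r) := mul_inv_eq_iff_eq_mul.1 (by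
      rw [show g * r * z * (g * r)⁻¹ = g * (r * z * r⁻¹) * g⁻¹ by group, hrw, ← hgw])
    obtain ⟨-, hgrs, -⟩ := T.zK_iff.1 ⟨hgr, mul_mem hg hrK⟩
    have hcE : c = z ∨ c = s ∨ c = z * s := by
      rw [hge, show g * z * g⁻¹ = g * r * (r⁻¹ * z * r) * (g * r)⁻¹ by group]
      rcases hrE z (Or.inl rfl) with e | e | e <;> rw [e]
      · exact Or.inl (mul_inv_eq_iff_eq_mul.2 hgr)
      · exact Or.inr (Or.inl (mul_inv_eq_iff_eq_mul.2 hgrs))
      · exact Or.inr (Or.inr (mul_inv_eq_iff_eq_mul.2 (Commute.mul_right hgr hgrs).eq))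
    have hcm : MemE z s c := by
      rcases hcE with e | e | e
      exacts [Or.inr (Or.inl e), Or.inr (Or.inr (Or.inl e)), Or.inr (Or.inr (Or.inr e))]
    exact hne (hcl.unique (F.cl_of_memE hcm))
  have hcard : Nat.card {x : G // ∃ A U, F.Cl x A U ∧ Partner A' U' A U} = 4 := by
    have hm : (A', U') ∈ isoList := List.contains_iff_mem.1 (show isoList.contains (A', U') = true from hwi)
    have h := List.all_eq_true.1 partner_card' (A', U') hm
    simp only [Bool.or_eq_true, decide_eq_true_eq] at h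
    rcases h with h | h
    · exact absurd (by simpa [Prod.ext_iff] using h) hw0
    · rw [F.card_cl (fun A U => Partner A' U' A U), h]
  refine Eq.trans ?_ hcard
  have hcomm : ∀ x : G, x * x = 1 → w * x * (w * x) = x * w * x⁻¹ * w → w * x * (w * x) = z →
      x * z = z * x := by
    intro x hx _ he
    have hw2 := (T.zsq_of_isConj hwz).1
    have h1 : x * (w * x * (w * x)) * x⁻¹ = (w * x * (w * x))⁻¹ := by
      simp only [mul_inv_rev, inv_eq_of_mul_eq_one_right hw2, inv_eq_of_mul_eq_one_right hx, mul_assoc,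
        hx, mul_one]
    rw [he, inv_eq_of_mul_eq_one_right F.data.sub.mul_self] at h1
    exact mul_inv_eq_iff_eq_mul.1 h1
  refine Nat.card_congr
    { toFun := fun l => ⟨g⁻¹ * l.1 * g, ?_⟩
      invFun := fun x => ⟨g * x.1 * g⁻¹, ?_⟩
      left_inv := fun l => Subtype.ext (show g * (g⁻¹ * l.1 * g) * g⁻¹ = l.1 by group)
      right_inv := fun x => Subtype.ext (show g⁻¹ * (g * x.1 * g⁻¹) * g = x.1 by group) }
  · obtain ⟨l, hlK, hl, hle⟩ := l
    dsimp only
    obtain ⟨x, hx⟩ : ∃ x, x = g⁻¹ * l * g := ⟨_, rfl⟩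
    rw [← hx]
    have hxz : IsConj z x := hl.trans (hx ▸ isConj_iff.2 ⟨g⁻¹, by rw [inv_inv]⟩)
    have hxx : w * x * (w * x) = z := by
      rw [hw, hx, show g⁻¹ * z * g * (g⁻¹ * l * g) * (g⁻¹ * z * g * (g⁻¹ * l * g)) =
        g⁻¹ * (z * l * (z * l)) * g by group, hle, hge]
      group
    have hx2 := (T.zsq_of_isConj hxz).1
    have he : w * x * (w * x) = w * (x * w * x⁻¹) := by
      rw [inv_eq_of_mul_eq_one_right hx2]; group
    have hxz' : x * z = z * x := by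
      have hw2 := (T.zsq_of_isConj hwz).1
      have h1 : x * (w * x * (w * x)) * x⁻¹ = (w * x * (w * x))⁻¹ := by
        simp only [mul_inv_rev, inv_eq_of_mul_eq_one_right hw2, inv_eq_of_mul_eq_one_right hx2,
          mul_assoc, hx2, mul_one]
      rw [hxx, inv_eq_of_mul_eq_one_right F.data.sub.mul_self] at h1
      exact mul_inv_eq_iff_eq_mul.1 h1
    have hxT := T.mem_Tgrp.2 (T.zK_iff.1 ⟨hxz', hx ▸ mul_mem (mul_mem (inv_mem hg) hlK) hg⟩)
    obtain ⟨A, U, hxcl, hxi⟩ := T.mem_T_iso hxT hxz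
    rw [he, hwcl.conj_eq hxcl, ← mul_assoc, F.zE_comm hwcl.comm_z hwcl.comm_s, mul_assoc,
      (T.zsq_of_isConj hwz).1, mul_one] at hxx
    obtain ⟨e1, e2⟩ := F.zE_inj (hxx.trans (F.zE_tf).symm)
    exact ⟨A, U, hxcl, hxi, e1, e2⟩
  · obtain ⟨x, A, U, hxcl, hxi, e1, e2⟩ := x
    dsimp only
    obtain ⟨hxT, hx2, hxz⟩ := T.iso_mem_T hxcl hxi
    have hx1 : x ≠ 1 := fun e => by
      obtain ⟨r1, r2⟩ := hxcl.unique (e ▸ F.cl_one :)
      simp [r1, r2, b6_zero_left] at e1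
    refine ⟨T.conj_mem_K hg (T.Tgrp_le_K hxT), (hxz hx1).trans (isConj_iff.2 ⟨g, rfl⟩), ?_⟩
    have hxx : w * x * (w * x) = z := by
      rw [show w * x * (w * x) = w * (x * w * x⁻¹) by rw [inv_eq_of_mul_eq_one_right hx2]; group,
        hwcl.conj_eq hxcl, e1, e2, F.zE_tf, ← mul_assoc, ← hwcl.comm_z.symm, mul_assoc,
        (T.zsq_of_isConj hwz).1, mul_one]
    have h := T.conj_pair (g := g) (a := w) (b := x)
    rw [show g * w * g⁻¹ = z by rw [hw]; group, hxx] at h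
    rw [h, hge]

/-- The number of conjugates of `z` in `K` whose product with `z` has odd order. -/
theorem card_odd :
    Nat.card {l : G // l ∈ Kgrp θ t ∧ IsConj z l ∧ Odd (orderOf (z * l))} = 193 := by
  classical
  let _ : Fintype G := Fintype.ofFinite G
  have F := T.frame
  obtain ⟨h27, h24⟩ := T.card_iso_sets
  have h315 := T.card_zK
  rw [Nat.card_eq_fintype_card, Fintype.card_subtype] at h27 h24 h315 ⊢
  obtain ⟨A1, hA1⟩ : ∃ A1 : Finset G,
      A1 = Finset.univ.filter fun l => l ∈ Kgrp θ t ∧ IsConj z l := ⟨_, rfl⟩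
  rw [← hA1] at h315
  obtain ⟨C, hC⟩ : ∃ C : Finset G,
      C = Finset.univ.filter fun l => ∃ A U, T.frame.Cl l A U ∧ IsoC' A U := ⟨_, rfl⟩
  rw [← hC] at h24
  obtain ⟨S4, hS4⟩ : ∃ S4 : Finset G,
      S4 = A1.filter fun l => (z * l) ^ 4 = 1 ∧ ¬ z * l = l * z := ⟨_, rfl⟩
  have hz2 := F.data.sub.mul_self
  have hmaps : ∀ l ∈ S4, z * l * (z * l) ∈ C := by
    intro l hl
    simp only [hS4, hA1, Finset.mem_filter, Finset.mem_univ, true_and] at hl
    obtain ⟨⟨hlK, hlz⟩, h4, hnc⟩ := hl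
    have ho : ¬ Odd (orderOf (z * l)) := fun ho => by
      have h1 : orderOf (z * l) ∣ 2 ^ 2 := orderOf_dvd_of_pow_eq_one h4
      have : orderOf (z * l) = 1 :=
        Nat.eq_one_of_dvd_coprimes (Nat.Coprime.pow_right 2 (Nat.coprime_two_right.2 ho)) dvd_rfl h1
      rw [orderOf_eq_one_iff] at this
      refine hnc ?_
      rw [eq_inv_of_mul_eq_one_right this, inv_eq_of_mul_eq_one_right hz2]
    obtain ⟨-, h | ⟨hcK, hcz, hcomm⟩⟩ := T.even_cases hlK hlz ho
    · exact absurd h hnc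
    obtain ⟨A, U, hcl, hi⟩ := T.mem_T_iso (T.mem_Tgrp.2 (T.zK_iff.1 ⟨hcomm, hcK⟩)) hcz
    rw [hC, Finset.mem_filter]
    refine ⟨Finset.mem_univ _, A, U, hcl, hi, ?_⟩
    rintro ⟨rfl, rfl⟩
    obtain ⟨i, j, hij⟩ := hcl.eq_zE
    have hE : z * l * (z * l) = z ∨ z * l * (z * l) = s ∨ z * l * (z * l) = z * s := by
      have hne := (T.zsq_of_isConj hcz).2
      rcases F.memE_zE i j with r | r | r | r <;> rw [← hij] at r
      exacts [absurd r hne, Or.inl r, Or.inr (Or.inl r), Or.inr (Or.inr r)]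
    have hl2 := (T.zsq_of_isConj hlz).1
    have hcl' : l * (z * l * (z * l)) = z * l * (z * l) * l := by
      refine mul_inv_eq_iff_eq_mul.1 ?_
      have h1 : l * (z * l * (z * l)) * l⁻¹ = (z * l * (z * l))⁻¹ := by
        simp only [mul_inv_rev, inv_eq_of_mul_eq_one_right hz2, inv_eq_of_mul_eq_one_right hl2,
          mul_assoc, hl2, mul_one]
      rw [h1]
      exact inv_eq_of_mul_eq_one_right (T.zsq_of_isConj hcz).1
    exact hnc (T.comm_E_K hE hlK hcl').symm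
  have h96 : S4.card = 96 := by
    rw [Finset.card_eq_sum_card_fiberwise hmaps, Finset.sum_congr rfl (g := fun _ => 4) (fun c hc => ?_),
      Finset.sum_const, h24]
    · rfl
    rw [hC, Finset.mem_filter] at hc
    have h4 := T.card_fibre hc.2
    rw [Nat.card_eq_fintype_card, Fintype.card_subtype] at h4
    refine (congrArg Finset.card (Finset.ext fun l => ?_)).trans h4
    simp only [hS4, hA1, Finset.mem_filter, Finset.mem_univ, true_and]
    constructor
    · rintro ⟨⟨⟨h1, h2⟩, -, -⟩, h5⟩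
      exact ⟨h1, h2, h5⟩
    · rintro ⟨h1, h2, h5⟩
      refine ⟨⟨⟨h1, h2⟩, ?_, fun e => ?_⟩, h5⟩
      · obtain ⟨A, U, hcl, hi, -⟩ := hc.2
        rw [show (z * l) ^ 4 = z * l * (z * l) * (z * l * (z * l)) by simp [pow_succ, mul_assoc], h5,
          (T.iso_mem_T hcl hi).2.1]
      · obtain ⟨A, U, hcl, hi, hne⟩ := hc.2
        have : c = 1 := by
          rw [← h5]
          calc z * l * (z * l) = z * l * (l * z) := by rw [← e]
            _ = z * (l * l) * z := by group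
            _ = 1 := by rw [(T.zsq_of_isConj h2).1, mul_one, hz2]
        exact hne (hcl.unique (this ▸ F.cl_one))
  obtain ⟨S2, hS2⟩ : ∃ S2 : Finset G, S2 = (Finset.univ.filter
      fun x => x ∈ Subgroup.centralizer ({z, s, t} : Set G) ∧ IsConj z x).erase z := ⟨_, rfl⟩
  have h26 : S2.card = 26 := by
    rw [hS2, Finset.card_erase_of_mem, h27]
    exact Finset.mem_filter.2 ⟨Finset.mem_univ _,
      T.mem_Tgrp.2 ⟨rfl, F.s_comm.symm, T.cl.comm_z.symm⟩, IsConj.refl z⟩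
  have hsplit : A1.filter (fun l => ¬ Odd (orderOf (z * l))) = S2 ∪ S4 := by
    ext l
    simp only [hA1, hS2, hS4, Finset.mem_filter, Finset.mem_univ, true_and, Finset.mem_union,
      Finset.mem_erase]
    constructor
    · rintro ⟨⟨hlK, hlz⟩, ho⟩
      obtain ⟨h4, h⟩ := T.even_cases hlK hlz ho
      by_cases hc : z * l = l * z
      · left
        refine ⟨fun e => ?_, T.mem_Tgrp.2 (T.zK_iff.1 ⟨hc.symm, hlK⟩), hlz⟩
        rw [e, hz2, orderOf_one] at ho
        exact ho odd_one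
      · exact Or.inr ⟨⟨hlK, hlz⟩, h4, hc⟩
    · rintro (⟨hne, hT, hlz⟩ | ⟨hl, h4, hnc⟩)
      · refine ⟨⟨T.Tgrp_le_K hT, hlz⟩, fun ho => hne ?_⟩
        have hl2 := (T.zsq_of_isConj hlz).1
        have h2 : (z * l) ^ 2 = 1 := by
          rw [pow_two]
          calc z * l * (z * l) = z * l * (l * z) := by rw [(T.mem_Tgrp.1 hT).1]
            _ = z * (l * l) * z := by group
            _ = 1 := by rw [hl2, mul_one, hz2]
        have : orderOf (z * l) = 1 := Nat.eq_one_of_dvd_coprimes (Nat.coprime_two_right.2 ho) dvd_rfl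
          (orderOf_dvd_of_pow_eq_one h2)
        rw [orderOf_eq_one_iff] at this
        rw [eq_inv_of_mul_eq_one_right this, inv_eq_of_mul_eq_one_right hz2]
      · refine ⟨hl, fun ho => hnc ?_⟩
        have : orderOf (z * l) = 1 := Nat.eq_one_of_dvd_coprimes
          (Nat.Coprime.pow_right 2 (Nat.coprime_two_right.2 ho)) dvd_rfl
          (orderOf_dvd_of_pow_eq_one (show (z * l) ^ 2 ^ 2 = 1 from h4))
        rw [orderOf_eq_one_iff] at this
        rw [eq_inv_of_mul_eq_one_right this, inv_eq_of_mul_eq_one_right hz2]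
  have hdisj : Disjoint S2 S4 := by
    rw [Finset.disjoint_left]
    intro l h2 h4
    simp only [hS2, hS4, Finset.mem_filter, Finset.mem_erase, Finset.mem_univ, true_and] at h2 h4
    exact h4.2.2 (T.mem_Tgrp.1 h2.2.1).1.symm
  have h := Finset.card_filter_add_card_filter_not (s := A1) (fun l => Odd (orderOf (z * l)))
  rw [hsplit, Finset.card_union_of_disjoint hdisj, h26, h96, h315] at h
  rw [show (Finset.univ.filter fun l => l ∈ Kgrp θ t ∧ IsConj z l ∧ Odd (orderOf (z * l))) =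
    A1.filter (fun l => Odd (orderOf (z * l))) by
      rw [hA1, Finset.filter_filter]; exact Finset.filter_congr fun l _ => by tauto]
  omega

/-- The partners of `z`. -/
theorem card_partners :
    Nat.card {v : G // IsConj t v ∧ t ∈ Subgroup.zpowers (z * v)} = 193 := by
  have F := T.frame
  rw [← T.card_odd]
  have hz2 := F.data.sub.mul_self
  have key : ∀ v, IsConj t v → t ∈ Subgroup.zpowers (z * v) →
      t * v ∈ Kgrp θ t ∧ IsConj z (t * v) ∧ Odd (orderOf (z * (t * v))) := by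
    intro v hv hm
    obtain ⟨c, hc⟩ := isConj_iff.1 hv
    have hv2 : v * v = 1 := by
      rw [← hc, show c * t * c⁻¹ * (c * t * c⁻¹) = c * (t * t) * c⁻¹ by group, T.t_sq]; group
    have ht2 : orderOf t = 2 := CfsgLib.CITGroups.orderOf_two_of_mul_self T.t_sq T.t_ne_one
    obtain ⟨k, hk⟩ : ∃ k, k = orderOf (z * v) / 2 := ⟨_, rfl⟩
    have htk : t = (z * v) ^ k := hk ▸ CfsgLib.Small.invol_mem_zpowers_eq ht2 hm
    have hzw : z * (z * v) * z⁻¹ = (z * v)⁻¹ := by
      rw [mul_inv_rev, inv_eq_of_mul_eq_one_right hz2, inv_eq_of_mul_eq_one_right hv2,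
        ← mul_assoc z z v, hz2, one_mul]
    have hzv : z * v * t = t * (z * v) := by
      rw [htk]; exact ((Commute.refl (z * v)).pow_right k).eq
    have hvt : v * t = t * v := by
      have := (Commute.mul_left (show Commute z t from T.cl.comm_z.symm) hzv).eq
      rwa [← mul_assoc, hz2, one_mul] at this
    -- the exponent is odd
    have hodd : Odd k := by
      rw [← Nat.not_even_iff_odd]
      rintro ⟨j, hj⟩
      obtain ⟨w, hw⟩ : ∃ w, w = (z * v) ^ j := ⟨_, rfl⟩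
      have hww : t = w * w := by rw [htk, hj, pow_add, hw]
      have h1 : z * w * z⁻¹ = w⁻¹ := by rw [hw, ← conj_pow, hzw, inv_pow]
      have h2 : z * t = w⁻¹ * z * w⁻¹⁻¹ := by
        rw [hww, inv_inv, ← h1, inv_eq_of_mul_eq_one_right hz2]
        calc z * (w * w) = z * w * (z * z) * w := by rw [hz2]; group
          _ = z * w * z * z * w := by group
      refine T.not_isConj_memV_mul (Or.inr (Or.inl rfl)) T.t_ne_one (Or.inr (Or.inl rfl)) ?_
      rw [show t * z = z * t from T.cl.comm_z]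
      exact h2 ▸ isConj_iff.2 ⟨w⁻¹, rfl⟩
    obtain ⟨j, hj⟩ := hodd
    -- squares lie in `K`
    have hsqK : ∀ x : G, x * t = t * x → x * x ∈ Kgrp θ t := by
      intro x hx
      refine mem_Kgrp.2 ⟨(Commute.mul_left hx hx).eq, mul_inv_eq_iff_eq_mul.1 ?_⟩
      rw [show x * x * (θ * t * θ⁻¹) * (x * x)⁻¹ = x * (x * (θ * t * θ⁻¹) * x⁻¹) * x⁻¹ by group]
      rcases T.X_normalizes hx with e | e <;> rw [e]
      · exact e
      · rw [show x * (t * (θ * t * θ⁻¹)) * x⁻¹ = x * t * x⁻¹ * (x * (θ * t * θ⁻¹) * x⁻¹) by group,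
          mul_inv_eq_iff_eq_mul.2 hx, e, ← mul_assoc, T.t_sq, one_mul]
    have hzvK : z * v ∈ Kgrp θ t := by
      have h1 : z * v = t * ((z * v * (z * v)) ^ j)⁻¹ := by
        rw [eq_mul_inv_iff_mul_eq, htk, hj, ← pow_two, ← pow_mul, pow_succ', pow_mul]
      rw [h1]
      exact mul_mem (T.memV_mem (Or.inr (Or.inl rfl))) (inv_mem (pow_mem (hsqK _ hzv) j))
    have hvK : v ∈ Kgrp θ t := by
      have := mul_mem T.z_mem_K hzvK
      rwa [← mul_assoc, hz2, one_mul] at this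
    have hpowV : ∀ w, MemV θ t w → ∀ m : ℕ, MemV θ t (w ^ m) := fun w hw m => by
      induction m with
      | zero => rw [pow_zero]; exact T.memV_one
      | succ n ih => rw [pow_succ]; exact T.memV_mul ih hw
    have hodd_pow : ∀ w, MemV θ t w → w ^ k = w := fun w hw => by
      rw [hj, pow_succ, pow_mul, pow_two, T.memV_sq hw, one_pow, one_mul]
    have hvV : ¬ MemV θ t v := fun h => by
      have e : z * v = t * z ^ 0 * v ^ 0 * (v * z) * t := by
        simp only [pow_zero, mul_one]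
        rw [mul_assoc, (Commute.mul_left hvt T.cl.comm_z.symm).eq, ← mul_assoc, T.t_sq, one_mul,
          h.comm T.z_mem_K]
      have h2 : (z * v) * (z * v) = 1 := by
        calc (z * v) * (z * v) = z * v * (v * z) := by rw [h.comm T.z_mem_K]
          _ = z * (v * v) * z := by group
          _ = 1 := by rw [hv2, mul_one, hz2]
      have h3 : t = z * v := by
        rw [htk, hj, pow_succ, pow_mul, pow_two, h2, one_pow, one_mul]
      have hz : z = t * v := by rw [h3, mul_assoc, hv2, mul_one]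
      exact T.not_memV_of_isConj (IsConj.refl z) (hz ▸ T.memV_mul (Or.inr (Or.inl rfl)) h)
    obtain ⟨v', g, hv', hg, hvg⟩ := T.exists_conj_z hvK hv2 hvV
    obtain ⟨l, hl⟩ : ∃ l, l = g * z * g⁻¹ := ⟨_, rfl⟩
    rw [← hl] at hvg
    have hlK : l ∈ Kgrp θ t := hl ▸ T.conj_mem_K hg T.z_mem_K
    have hlz : IsConj z l := hl ▸ isConj_iff.2 ⟨g, rfl⟩
    have hpow : (z * v) ^ k = v' * (z * l) ^ k := by
      have hc : Commute v' (z * l) := (hv'.comm (mul_mem T.z_mem_K hlK)).symm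
      rw [hvg, ← mul_assoc, hv'.comm T.z_mem_K, mul_assoc, hc.mul_pow, hodd_pow v' hv']
    have hzl : (z * l) ^ k = v' * t := by
      rw [htk, hpow, ← mul_assoc, T.memV_sq hv', one_mul]
    have hzl1 := T.pow_eq_one_of_memV hlz hlK (k := k)
      (hzl ▸ T.memV_mul hv' (Or.inr (Or.inl rfl)))
    have hv't : v' = t := by
      rw [hzl1] at hzl
      rw [← inv_eq_of_mul_eq_one_right T.t_sq]
      exact eq_inv_of_mul_eq_one_left hzl.symm
    have htv : t * v = l := by rw [hvg, hv't, ← mul_assoc, T.t_sq, one_mul]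
    rw [htv]
    refine ⟨hlK, hlz, Odd.of_dvd_nat ⟨j, hj⟩ (orderOf_dvd_of_pow_eq_one hzl1)⟩
  refine Nat.card_congr
    { toFun := fun v => ⟨t * v.1, key v.1 v.2.1 v.2.2⟩
      invFun := fun l => ⟨t * l.1, ?_, ?_⟩
      left_inv := fun v => Subtype.ext (by
        show t * (t * v.1) = v.1
        rw [← mul_assoc, T.t_sq, one_mul])
      right_inv := fun l => Subtype.ext (by
        show t * (t * l.1) = l.1
        rw [← mul_assoc, T.t_sq, one_mul]) }
  · obtain ⟨g, hg, hge⟩ := T.exists_conj_zK l.2.1 l.2.2.1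
    have hgt : g * t * g⁻¹ = t := mul_inv_eq_iff_eq_mul.2 (mem_Kgrp.1 hg).1
    have htz : IsConj t (t * z) := by
      refine T.isConj_t_of_not (Commute.mul_left T.cl.comm_z (Commute.refl z)).eq ?_ ?_
        (T.not_isConj_memV_mul (Or.inr (Or.inl rfl)) T.t_ne_one (Or.inr (Or.inl rfl)))
      · rw [Commute.mul_mul_mul_comm T.cl.comm_z.symm t z, T.t_sq, hz2, one_mul]
      · intro e
        exact T.not_memV_of_isConj (IsConj.refl z) (Or.inr (Or.inl (by
          rw [← inv_eq_of_mul_eq_one_right T.t_sq]; exact eq_inv_of_mul_eq_one_right e)))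
    refine htz.trans (isConj_iff.2 ⟨g, ?_⟩)
    rw [hge, show g * (t * z) * g⁻¹ = g * t * g⁻¹ * (g * z * g⁻¹) by group, hgt]
  · refine Subgroup.mem_zpowers_iff.2 ⟨(orderOf (z * l.1) : ℕ), ?_⟩
    rw [zpow_natCast]
    obtain ⟨i, hi⟩ := l.2.2.2
    have hc : Commute t (z * l.1) :=
      (show Commute t z from T.cl.comm_z).mul_right (mem_Kgrp.1 l.2.1).1.symm
    rw [show z * (t * l.1) = t * (z * l.1) by
        rw [← mul_assoc, ← T.cl.comm_z, mul_assoc], hc.mul_pow, pow_orderOf_eq_one, mul_one, hi,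
      pow_succ, pow_mul, pow_two, T.t_sq, one_pow, one_mul]

/-- The pairs whose product generates a group containing `t`. -/
theorem card_pairs_t :
    Nat.card {p : G × G // IsConj z p.1 ∧ IsConj t p.2 ∧ t ∈ Subgroup.zpowers (p.1 * p.2)} = 60795 := by
  classical
  have F := T.frame
  choose rep hrK hre using fun l : {l : G // l ∈ Kgrp θ t ∧ IsConj z l} =>
    T.exists_conj_zK l.2.1 l.2.2
  have hrt : ∀ l, rep l * t * (rep l)⁻¹ = t := fun l =>
    mul_inv_eq_iff_eq_mul.2 (mem_Kgrp.1 (hrK l)).1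
  have hut : ∀ u v : G, IsConj z u → IsConj t v → t ∈ Subgroup.zpowers (u * v) →
      u ∈ Kgrp θ t ∧ IsConj z u := by
    intro u v hu hv hm
    refine ⟨?_, hu⟩
    obtain ⟨n, hn⟩ := Subgroup.mem_zpowers_iff.1 hm
    have hu2 := (T.zsq_of_isConj hu).1
    have hv2 : v * v = 1 := by
      obtain ⟨c, hc⟩ := isConj_iff.1 hv
      rw [← hc, show c * t * c⁻¹ * (c * t * c⁻¹) = c * (t * t) * c⁻¹ by group, T.t_sq]; group
    have h1 : u * (u * v) * u⁻¹ = (u * v)⁻¹ := by
      rw [mul_inv_rev, inv_eq_of_mul_eq_one_right hu2, inv_eq_of_mul_eq_one_right hv2,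
        ← mul_assoc u u v, hu2, one_mul]
    have h2 : u * t * u⁻¹ = t := by
      rw [← hn, ← conj_zpow, h1, inv_zpow, hn, inv_eq_of_mul_eq_one_right T.t_sq]
    obtain ⟨g, hg, hge⟩ := T.exists_conj_of_zType (mul_inv_eq_iff_eq_mul.1 h2) hu
    rw [hge]; exact T.conj_mem_K hg T.z_mem_K
  let e : {l : G // l ∈ Kgrp θ t ∧ IsConj z l} ×
      {v : G // IsConj t v ∧ t ∈ Subgroup.zpowers (z * v)} →
      {p : G × G // IsConj z p.1 ∧ IsConj t p.2 ∧ t ∈ Subgroup.zpowers (p.1 * p.2)} := fun q =>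
    ⟨(q.1.1, rep q.1 * q.2.1 * (rep q.1)⁻¹), q.1.2.2, q.2.2.1.trans (isConj_iff.2 ⟨rep q.1, rfl⟩), by
      obtain ⟨n, hn⟩ := Subgroup.mem_zpowers_iff.1 q.2.2.2
      refine Subgroup.mem_zpowers_iff.2 ⟨n, ?_⟩
      show (q.1.1 * (rep q.1 * q.2.1 * (rep q.1)⁻¹)) ^ n = t
      conv_lhs => arg 1; arg 1; rw [hre q.1]
      rw [show rep q.1 * z * (rep q.1)⁻¹ * (rep q.1 * q.2.1 * (rep q.1)⁻¹) =
        rep q.1 * (z * q.2.1) * (rep q.1)⁻¹ by group, conj_zpow, hn, hrt]⟩
  have he : Function.Bijective e := by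
    constructor
    · rintro ⟨l, v⟩ ⟨l', v'⟩ h
      have h' := congrArg Subtype.val h
      simp only [e, Prod.mk.injEq] at h'
      obtain ⟨h1, h2⟩ := h'
      obtain rfl : l = l' := Subtype.ext h1
      exact Prod.ext rfl (Subtype.ext (mul_left_cancel (mul_right_cancel h2)))
    · rintro ⟨⟨u, v⟩, hu, hv, hm⟩
      obtain ⟨l, hl⟩ : ∃ l : {l : G // l ∈ Kgrp θ t ∧ IsConj z l}, l.1 = u := ⟨⟨u, hut u v hu hv hm⟩, rfl⟩
      have hv' : IsConj t ((rep l)⁻¹ * v * rep l) :=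
        hv.trans (isConj_iff.2 ⟨(rep l)⁻¹, by rw [inv_inv]⟩)
      have hm' : t ∈ Subgroup.zpowers (z * ((rep l)⁻¹ * v * rep l)) := by
        obtain ⟨n, hn⟩ := Subgroup.mem_zpowers_iff.1 hm
        refine Subgroup.mem_zpowers_iff.2 ⟨n, ?_⟩
        have hn' : (u * v) ^ n = t := hn
        have e2 : z * ((rep l)⁻¹ * v * rep l) = (rep l)⁻¹ * (u * v) * (rep l)⁻¹⁻¹ := by
          rw [← hl, hre l]; group
        rw [e2, conj_zpow, hn']
        exact mul_inv_eq_iff_eq_mul.2 (Commute.inv_left (mem_Kgrp.1 (hrK l)).1).eq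
      refine ⟨(l, ⟨_, hv', hm'⟩), Subtype.ext (Prod.ext hl ?_)⟩
      show rep l * ((rep l)⁻¹ * v * rep l) * (rep l)⁻¹ = v
      group
  rw [← Nat.card_eq_of_bijective e he, Nat.card_prod, T.card_zK, T.card_partners]

end Four

end CfsgLib.SuzType
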