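import Cfsg.Agent.SuzType.PairPoints
import Cfsg.Agent.SuzType.PairT

/-!
# Pairs of involutions whose product has `z` as central involution
-/

set_option autoImplicit false

namespace CfsgLib.SuzType

open CfsgLib.LargeExtraspecial

/-- The classes whose product with a standard involution squares to `z`. -/
abbrev ExpC (A U : V6) : Prop :=
  xor (q6 (A + a0)) (b6 (A + a0) (U + u0)) = true ∧ xor (q6 (U + u0)) (b6 (A + a0) (U + u0)) = false

/-- The classes of partners of a standard involution in `R`. -/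
abbrev GoodR (A U : V6) : Prop := q6 A = b6 A U ∧ q6 U = b6 A U ∧ q6 U = false ∧ ExpC A U

/-- The points carrying partners of a standard involution. -/
abbrev GoodPt (p : V6) : Prop := Point p ∧ (b6 p u0 = true ∨ b6 (pU p) a0 = true)

theorem goodR_card : (Finset.univ.filter
    fun p : V6 × V6 => InU p.1 ∧ InU p.2 ∧ GoodR p.1 p.2).card = 3 := by decide +kernel

theorem goodPt_card : (Finset.univ.filter fun p : V6 => GoodPt p).card = 6 := by decide +kernel

theorem moved_count : (Finset.univ.filter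
    fun v : V6 => q6 v = false ∧ b6 v s0 = true).card = 16 := by decide +kernel

theorem moved_diff : ∀ v : V6, b6 v s0 = true →
    q6 (v + sie u0 v) = true ∧ q6 (sie u0 v + v) = true ∧
      sie u0 v = v + u0 + sm (!(b6 v u0)) s0 := by decide +kernel

theorem moved_sie : ∀ U : V6, InU U → q6 U = false → ∀ v : V6, b6 v s0 = true →
    sie U v = v + U + sm (b6 v U) s0 := by decide +kernel

theorem aniso_ne : ∀ U : V6, q6 U = false → U + u0 ≠ 0 := by decide +kernel

theorem point_u0 : ∀ p : V6, b6 p s0 = false → b6 u0 (pU p) = b6 p u0 ∧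
    b6 a0 (pU p) = b6 (pU p) a0 ∧ b6 a0 0 = false ∧ b6 u0 0 = false := by decide +kernel

theorem pair_table : ∀ U : V6, InU U → q6 U = false → U ≠ 0 → ∀ U' : V6, InU U' → q6 U' = false →
    U' ≠ 0 → U ≠ U' → U + U' ≠ 0 ∧ ∀ i k : Bool,
      ((xor (q6 (sm i U + (sm i U' + sm k U'))) (b6 (sm i U + (sm i U' + sm k U')) (U + U')) = true ∧
        xor (q6 (U + U')) (b6 (sm i U + (sm i U' + sm k U')) (U + U')) = false) ↔ k = true) := by
  decide +kernel

theorem point_table : ∀ p : V6, Point p → b6 p u0 = true →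
    ExpC (sm (b6 (pU p) a0) (pU (u0 + p))) (pU (u0 + p)) := by decide +kernel

theorem pU_sm (i : Bool) (v : V6) : pU (sm i v) = sm i (pU v) := by
  cases i <;> simp [sm, pU_zero]

theorem mem_zpowers_conj {G : Type*} [Group G] {z c w : G} (hc : c * z = z * c) :
    z ∈ Subgroup.zpowers (c * w * c⁻¹) ↔ z ∈ Subgroup.zpowers w := by
  have hz : c * z * c⁻¹ = z := mul_inv_eq_iff_eq_mul.2 hc
  simp only [Subgroup.mem_zpowers_iff, conj_zpow]
  refine exists_congr fun n => ⟨fun h => ?_, fun h => by rw [h, hz]⟩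
  rw [← hz] at h
  exact mul_left_cancel (mul_right_cancel h)

namespace Frame

variable {G : Type*} [Group G] [Finite G] {z s : G} {Q P : Subgroup G} {π : G → V6}
  (F : Frame z Q π P s)
include F

theorem z_mem_iff {x : G} {A U : V6} (h : F.Cl x A U) (hU : U ≠ 0) :
    z ∈ Subgroup.zpowers x ↔ xor (q6 A) (b6 A U) = true ∧ xor (q6 U) (b6 A U) = false := by
  have hsq := h.sq_eq
  have hne : x ≠ z := fun e =>
    hU (h.unique (by rw [e]; exact F.cl_of_memE (Or.inr (Or.inl rfl)))).2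
  constructor
  · intro hm
    obtain ⟨k, hk : x ^ k = z⟩ := (mem_powers_iff_mem_zpowers).2 hm
    have h4 : x ^ 4 = 1 := by
      rw [show x ^ 4 = x * x * (x * x) by simp [pow_succ, mul_assoc], hsq, F.zE_mul_self]
    rw [← Nat.mod_add_div k 4, pow_add, pow_mul, h4, one_pow, mul_one] at hk
    have h3 : k % 4 < 4 := Nat.mod_lt _ (by norm_num)
    obtain ⟨m, hm'⟩ : ∃ m, m = k % 4 := ⟨_, rfl⟩
    rw [← hm'] at hk h3
    interval_cases m
    · exact absurd (pow_zero x ▸ hk).symm F.data.sub.ne_one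
    · exact absurd (pow_one x ▸ hk) hne
    · rw [pow_two, hsq] at hk
      exact F.zE_inj (hk.trans F.zE_tf.symm)
    · refine absurd ?_ hne
      calc x = x ^ 4 * (x ^ 3)⁻¹ := by group
        _ = z := by rw [h4, hk, one_mul, inv_eq_of_mul_eq_one_right F.data.sub.mul_self]
  · rintro ⟨h1, h2⟩
    rw [h1, h2, F.zE_tf] at hsq
    exact hsq ▸ mul_mem (Subgroup.mem_zpowers x) (Subgroup.mem_zpowers x)

theorem z_mem_sq_iff {w : G} {A U : V6} (h : F.Cl (w * w) A U) (hU : U ≠ 0) :
    z ∈ Subgroup.zpowers w ↔ z ∈ Subgroup.zpowers (w * w) := by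
  refine ⟨fun hm => ?_, fun hm => Subgroup.zpowers_le.2
    (mul_mem (Subgroup.mem_zpowers w) (Subgroup.mem_zpowers w)) hm⟩
  obtain ⟨k, hk : w ^ k = z⟩ := (mem_powers_iff_mem_zpowers).2 hm
  rcases Nat.even_or_odd' k with ⟨j, rfl | rfl⟩
  · rw [pow_mul, pow_two] at hk
    exact hk ▸ Subgroup.npow_mem_zpowers _ _
  · exfalso
    have h4 : (w * w) ^ 2 ^ 2 = 1 := by
      rw [show (w * w) ^ 2 ^ 2 = w * w * (w * w) * (w * w * (w * w)) by simp [pow_succ, mul_assoc],
        h.sq_eq, F.zE_mul_self]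
    have hodd : (w * w) ^ (2 * j + 1) = 1 := by
      rw [(Commute.refl w).mul_pow, hk, F.data.sub.mul_self]
    have : orderOf (w * w) = 1 := Nat.eq_one_of_dvd_coprimes
      (Nat.Coprime.pow_right 2 (Nat.coprime_two_right.2 ⟨j, rfl⟩))
      (orderOf_dvd_of_pow_eq_one hodd) (orderOf_dvd_of_pow_eq_one h4)
    exact hU (h.unique (orderOf_eq_one_iff.1 this ▸ F.cl_one :)).2

/-- Conjugation by an element fixing `⟨z, s⟩`. -/
theorem cl_conj_zs {g x : G} {A U : V6} {k : Bool} (h : F.Cl x A U) (hg : g * z = z * g)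
    (hgs : g * s * g⁻¹ = zE z s k false * s) :
    F.Cl (g * x * g⁻¹) (pU (F.data.act g A) + sm k (pU (F.data.act g U)))
      (pU (F.data.act g U)) := by
  cases k
  · rw [F.zE_ff, one_mul] at hgs
    simpa [sm] using h.conjC hg (mul_inv_eq_iff_eq_mul.1 hgs)
  · rw [F.zE_tf] at hgs
    obtain ⟨q, hq, hqz, hqs, -, hqb⟩ := F.exists_not_comm
    have hqi : q⁻¹ * z = z * q⁻¹ := (Commute.inv_left hqz).eq
    have hact : ∀ v, F.data.act (q⁻¹ * g) v = F.data.act g v := fun v => by
      rw [F.data.act_mul hqi hg, F.data.act_of_mem (inv_mem hq)]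
    have h' := (h.conjC (Commute.mul_left hqi hg).eq (mul_inv_eq_iff_eq_mul.1 (by
      rw [show q⁻¹ * g * s * (q⁻¹ * g)⁻¹ = q⁻¹ * (g * s * g⁻¹) * q by group, hgs, ← hqs]
      group))).conjQ hq hqb
    rw [hact, hact, show q * (q⁻¹ * g * x * (q⁻¹ * g)⁻¹) * q⁻¹ = g * x * g⁻¹ by group] at h'
    exact h'

omit [Finite G] in
theorem conj_zE {c : G} (hc : c * z = z * c) (i : Bool) :
    c * zE z s i true * c⁻¹ = zE z s i false * (c * s * c⁻¹) := by
  have hz : c * z * c⁻¹ = z := mul_inv_eq_iff_eq_mul.2 hc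
  cases i
  · simp [zE]
  · simp only [zE, if_true, Bool.false_eq_true, if_false, mul_one]
    rw [show c * (z * s) * c⁻¹ = c * z * c⁻¹ * (c * s * c⁻¹) by group, hz]

omit [Finite G] in
theorem conj_zE_false {c : G} (hc : c * z = z * c) (i : Bool) :
    c * zE z s i false * c⁻¹ = zE z s i false := by
  have hz : c * z * c⁻¹ = z := mul_inv_eq_iff_eq_mul.2 hc
  cases i
  · simp [zE]
  · simp [zE, hz]

end Frame

namespace Four

variable {G : Type*} [Group G] [Finite G] {z s θ t : G} {Q P : Subgroup G} {π : G → V6}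
  (T : Four z Q π P s θ t)
include T

theorem good_moved {u : G} (hu : u ∈ Q) (hb : b6 (π u) s0 = true) :
    z ∈ Subgroup.zpowers (u * t) := by
  have F := T.frame
  have hd := F.data.sub.conj_mem T.cl.comm_z hu
  obtain ⟨d, hdd⟩ : ∃ d, d = u * (t * u * t⁻¹) := ⟨_, rfl⟩
  have hdQ : d ∈ Q := hdd ▸ mul_mem hu hd
  have hπ : π d = π u + sie u0 (π u) := by
    rw [hdd, F.data.map_mul _ hu _ hd, ← F.data.act_π T.cl.comm_z hu, Frame.Cl.act_eq F T.cl]
  have hd2 : d * d = z := (F.data.sub.sq_eq hdQ).resolve_left fun e => by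
    have := (F.data.sq d hdQ).1 e
    rw [hπ, (moved_diff _ hb).1] at this
    exact Bool.noConfusion this
  have e : u * t * (u * t) = d := by
    rw [hdd, inv_eq_of_mul_eq_one_right T.t_sq]; group
  have hm : ∀ {x : G}, x ∈ Subgroup.zpowers (u * t) → x * x ∈ Subgroup.zpowers (u * t) :=
    fun h => mul_mem h h
  exact hd2 ▸ hm (e ▸ hm (Subgroup.mem_zpowers _))

theorem good_R_iff {u : G} {A U : V6} (h : T.frame.Cl u A U) (hq : q6 U = false) :
    z ∈ Subgroup.zpowers (u * t) ↔ ExpC A U :=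
  T.frame.z_mem_iff (h.mul T.cl) (aniso_ne U hq)

/-- Which conjugates of `z` through a point are partners of `t`. -/
theorem good_part_iff {p : V6} (hp : Point p) {u : G}
    (hu : u * z = z * u ∧ u * u = 1 ∧ IsConj z u ∧ u ∉ Q ∧ ¬ T.frame.data.Img u s0 ∧
      T.frame.data.Img u p) :
    z ∈ Subgroup.zpowers (u * t) ↔ GoodPt p := by
  have F := T.frame
  obtain ⟨c, hc, hcp, haQ, haπ, ha2⟩ := F.exists_point_conj hp
  have hci : c⁻¹ * z = z * c⁻¹ := (Commute.inv_left hc).eq
  have hiso := F.data.act_iso hc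
  have hisoi := F.data.act_iso hci
  obtain ⟨A, U, h, hU, hne, hq, hA⟩ := (F.part_iff hp hc hcp).1 hu
  obtain ⟨i, hi⟩ : ∃ i, A = sm i U := by
    rcases hA with e | e
    exacts [⟨false, e⟩, ⟨true, e⟩]
  subst hi
  obtain ⟨r, hr⟩ : ∃ r, r = c⁻¹ * u * c := ⟨_, rfl⟩
  rw [← hr] at h
  have hrz := h.comm_z
  have hur : u = c * r * c⁻¹ := by rw [hr]; group
  have hr2 : r * r = 1 := by
    rw [hr, show c⁻¹ * u * c * (c⁻¹ * u * c) = c⁻¹ * (u * u) * c by group, hu.2.1]; group
  obtain ⟨w0, hw0⟩ : ∃ w0, w0 = F.data.act c⁻¹ s0 := ⟨_, rfl⟩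
  rw [← hw0] at hne
  have hcw : F.data.act c w0 = s0 := by rw [hw0]; exact F.data.act_act_inv hc _
  have hwb : b6 w0 s0 = false := by rw [← hiso.polar, hcw, hcp, b6_comm]; exact hp.2.1
  have hw00 : w0 ≠ 0 := fun e => s0_ne_zero (by rw [← hcw, e, hiso.zero])
  have hw0s : w0 ≠ s0 := fun e => hp.2.2.2 (by rw [← hcp, ← e, hcw, e])
  have hw0q : q6 w0 = false := by rw [hw0, hisoi.quad]; exact q6_s0
  obtain ⟨hr0q, hr00⟩ := pU_point w0 hwb hw0q hw00 hw0s
  have hUs := (inU_orth U h.inU_right).1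
  have hUw : b6 U w0 = true := by
    have e : b6 (pU U) (pU w0) = b6 U w0 := b6_pU hUs hwb
    rw [h.inU_right] at e
    rw [← e, ← Bool.not_eq_false]
    exact fun e' => hne (singular_orth_eq _ h.inU_right _ (pU_pU w0) hU hr00 hq hr0q e')
  obtain ⟨w, hw⟩ : ∃ w, w = F.data.act c U := ⟨_, rfl⟩
  have hws : b6 w s0 = true := by rw [hw, ← hcw, hiso.polar]; exact hUw
  obtain ⟨a, ha⟩ : ∃ a, a = c * s * c⁻¹ := ⟨_, rfl⟩
  rw [← ha] at haQ haπ ha2
  have has : a * s = s * a := (F.comm_s_iff haQ).2 (by rw [haπ]; exact hp.2.1)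
  obtain ⟨hpu, hpa, ha00, hu00⟩ := point_u0 p hp.2.1
  have hta : t * a * t⁻¹ = zE z s (xor (b6 (pU p) a0) (b6 p u0)) (b6 p u0) * a := by
    have := (F.cl_of_Q haQ has).conj_eq T.cl
    rw [show cls π a = pU p by rw [cls, haπ], hpu, hpa, ha00, hu00] at this
    simpa using this
  cases hb : b6 p u0
  · rw [hb, Bool.xor_false] at hta
    obtain ⟨k, hk⟩ : ∃ k, k = b6 (pU p) a0 := ⟨_, rfl⟩
    rw [← hk] at hta
    have hgood : GoodPt p ↔ k = true :=
      ⟨fun h => hk.trans (h.2.resolve_left (by simp [hb])), fun h => ⟨hp, Or.inr (hk ▸ h)⟩⟩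
    rw [hgood]
    obtain ⟨y, hy⟩ : ∃ y, y = c⁻¹ * t * c := ⟨_, rfl⟩
    have hy2 : y * y = 1 := by
      rw [hy, show c⁻¹ * t * c * (c⁻¹ * t * c) = c⁻¹ * (t * t) * c by group, T.t_sq]; group
    have hyz : y * z = z * y := hy ▸ ((Commute.mul_left hci T.cl.comm_z).mul_left hc).eq
    have hys : y * s * y⁻¹ = zE z s k false * s := by
      rw [hy, show c⁻¹ * t * c * s * (c⁻¹ * t * c)⁻¹ = c⁻¹ * (t * (c * s * c⁻¹) * t⁻¹) * c by group,
        ← ha, hta, ha, show c⁻¹ * (zE z s k false * (c * s * c⁻¹)) * c =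
          c⁻¹ * zE z s k false * c⁻¹⁻¹ * s by group, F.conj_zE_false hci]
    have h' := F.cl_conj_zs h hyz hys
    have hiy := F.data.act_iso hyz
    rw [hiy.map_sm, pU_sm] at h'
    obtain ⟨U', hU'⟩ : ∃ U', U' = pU (F.data.act y U) := ⟨_, rfl⟩
    rw [← hU'] at h'
    have hactys : F.data.act y s0 = s0 := by
      have hkQ : zE z s k false ∈ Q := (F.memE_mem (F.memE_zE k false)).1
      rw [← F.π_s, F.data.act_π hyz F.pair.mem, hys, F.data.map_mul _ hkQ _ F.pair.mem]
      cases k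
      · rw [F.zE_ff, F.data.π_one, zero_add]
      · rw [F.zE_tf, F.data.π_z, zero_add]
    have hyU : b6 (F.data.act y U) s0 = false := hiy.orth_s0 hactys hUs
    have hU'q : q6 U' = false := by rw [hU', hiy.q6_pU_map hactys hUs]; exact hq
    have hyc : F.data.act c (F.data.act y U) = sie u0 w := by
      rw [hy, F.data.act_mul (Commute.mul_left hci T.cl.comm_z).eq hc,
        F.data.act_mul hci T.cl.comm_z, F.data.act_act_inv hc, Frame.Cl.act_eq F T.cl, hw]
    have hmoved : q6 (sie u0 w + w) = true := (moved_diff w hws).2.1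
    have hU'0 : U' ≠ 0 := fun e => by
      rw [hU'] at e
      rcases pU_eq_zero _ e hyU with r' | r'
      · exact hU (F.data.act_injective hyz (r'.trans hiy.zero.symm))
      · exact hU ((F.data.act_injective hyz (r'.trans hactys.symm)).symm ▸
          (h.inU_right.symm.trans (by rw [F.data.act_injective hyz (r'.trans hactys.symm), pU_s0])))
    have hUU : U ≠ U' := by
      intro e
      rw [hU'] at e
      rcases eq_pU_add _ hyU with r' | r' <;> rw [← e] at r' <;> rw [r'] at hyc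
      · rw [← hw] at hyc
        rw [← hyc, add_self6, q6_zero] at hmoved
        exact Bool.noConfusion hmoved
      · rw [hiso.add, ← hw, hcp] at hyc
        rw [← hyc, add_comm w p, add_add_cancel6, hp.1] at hmoved
        exact Bool.noConfusion hmoved
    obtain ⟨hsum, htab⟩ := pair_table U h.inU_right hq hU U' h'.inU_right hU'q hU'0 hUU
    have hrr := h.mul h'
    have hw2 : r * y * (r * y) = r * (y * r * y⁻¹) := by
      rw [inv_eq_of_mul_eq_one_right hy2]; group
    rw [← hw2] at hrr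
    rw [show u * t = c * (r * y) * c⁻¹ by rw [hur, hy]; group, mem_zpowers_conj hc,
      F.z_mem_sq_iff hrr hsum, F.z_mem_iff hrr hsum]
    exact htab i k
  · rw [hb, Bool.xor_true] at hta
    obtain ⟨k, hk⟩ : ∃ k, k = b6 (pU p) a0 := ⟨_, rfl⟩
    rw [← hk] at hta
    refine iff_of_true ?_ ⟨hp, Or.inl hb⟩
    obtain ⟨s', hs'⟩ : ∃ s', s' = c⁻¹ * s * c := ⟨_, rfl⟩
    have hs'Q : s' ∈ Q := by
      have := F.data.sub.conj_mem hci F.pair.mem
      rw [inv_inv] at this
      exact hs' ▸ this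
    have hs'π : π s' = w0 := by
      rw [hw0, ← F.π_s, F.data.act_π hci F.pair.mem, hs', inv_inv]
    have hs's : s' * s = s * s' := (F.comm_s_iff hs'Q).2 (by rw [hs'π]; exact hwb)
    have hrs : r * s' * r⁻¹ = zE z s (!i) true * s' := by
      have := (F.cl_of_Q hs'Q hs's).conj_eq h
      have e1 : b6 U (pU w0) = true := by
        rw [← h.inU_right, b6_pU hUs hwb]; exact hUw
      rw [show cls π s' = pU w0 by rw [cls, hs'π], b6_sm_left, b6_sm_left, e1] at this
      cases i <;> simpa [b6_zero_right] using this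
    have hua : u * a * u⁻¹ = a := by
      rw [hur, ha, show c * r * c⁻¹ * (c * s * c⁻¹) * (c * r * c⁻¹)⁻¹ = c * (r * s * r⁻¹) * c⁻¹ by
        group, mul_inv_eq_iff_eq_mul.2 h.comm_s]
    have hus : u * s * u⁻¹ = zE z s (!i) false * a * s := by
      rw [hur, show c * r * c⁻¹ * s * (c * r * c⁻¹)⁻¹ = c * (r * (c⁻¹ * s * c) * r⁻¹) * c⁻¹ by
        group, ← hs', hrs, show c * (zE z s (!i) true * s') * c⁻¹ =
          c * zE z s (!i) true * c⁻¹ * (c * s' * c⁻¹) by group, F.conj_zE hc, ← ha,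
        show c * s' * c⁻¹ = s by rw [hs']; group]
    have huz : u * z = z * u := hu.1
    obtain ⟨g, hg⟩ : ∃ g, g = u * t * c := ⟨_, rfl⟩
    have hgz : g * z = z * g := hg ▸ ((Commute.mul_left huz T.cl.comm_z).mul_left hc).eq
    have hgs : g * s * g⁻¹ = zE z s (xor i k) false * s := by
      rw [hg, show u * t * c * s * (u * t * c)⁻¹ = u * (t * (c * s * c⁻¹) * t⁻¹) * u⁻¹ by group,
        ← ha, hta, show zE z s (!k) true = zE z s (!k) false * s by simp [zE],
        show u * (zE z s (!k) false * s * a) * u⁻¹ =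
          u * zE z s (!k) false * u⁻¹ * (u * s * u⁻¹) * (u * a * u⁻¹) by group,
        hua, hus, F.conj_zE_false huz,
        show zE z s (!k) false * (zE z s (!i) false * a * s) * a =
          zE z s (!k) false * zE z s (!i) false * (a * (s * a)) by group,
        ← has, ← mul_assoc a a s, ha2, one_mul, F.zE_mul]
      cases i <;> cases k <;> rfl
    have hig := F.data.act_iso hgz
    have h' := F.cl_conj_zs h hgz hgs
    rw [hig.map_sm, pU_sm] at h'
    obtain ⟨e', he'⟩ : ∃ e', e' = F.data.act c⁻¹ u0 := ⟨_, rfl⟩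
    have hce : F.data.act c e' = u0 := by rw [he']; exact F.data.act_act_inv hc _
    have he's : b6 e' s0 = true := by rw [← hiso.polar, hce, hcp, b6_comm]; exact hb
    have hgU : pU (F.data.act g U) = pU (u0 + p) := by
      rw [hg, F.data.act_mul (Commute.mul_left huz T.cl.comm_z).eq hc,
        F.data.act_mul huz T.cl.comm_z, Frame.Cl.act_eq F T.cl, ← hw, (moved_diff w hws).2.2]
      have hactu : ∀ v, F.data.act u (F.data.act c v) = F.data.act c (sie U v) := fun v => by
        rw [← F.data.act_mul huz hc, ← Frame.Cl.act_eq F h, ← F.data.act_mul hc hrz]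
        congr 1
        rw [hur]; group
      have e1 : F.data.act u w = w := by
        rw [hw, hactu, show sie U U = U by
          have := sie_add_orth U h.inU_right U hUs
          rw [b6_self, sm, if_neg Bool.false_ne_true] at this
          exact eq_of_add_eq_zero6 this]
      have e2 : F.data.act u u0 = u0 + w + sm (b6 e' U) p := by
        conv_lhs => rw [← hce, hactu, moved_sie U h.inU_right hq e' he's]
        rw [hiso.add, hiso.add, hiso.map_sm, hce, hcp, ← hw]
      have e3 : F.data.act u s0 = s0 + p := by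
        have := sie_add_orth U h.inU_right w0 hwb
        rw [b6_comm w0, hUw, sm, if_pos rfl] at this
        conv_lhs => rw [← hcw, hactu, show sie U w0 = w0 + s0 by
          rw [← add_add_cancel6 (sie U w0) w0, this, add_comm]]
        rw [hiso.add, hcw, hcp]
      have hb' : b6 e' U = b6 w u0 := by rw [← hiso.polar, hce, ← hw, b6_comm]
      have hiu := F.data.act_iso huz
      rw [hiu.add, hiu.add, hiu.map_sm, e1, e2, e3, hb']
      cases b6 w u0
      · simp only [sm, Bool.not_false, Bool.false_eq_true, if_false, if_true, pU_add, pU_s0,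
          zero_add, add_zero]
        rw [add_comm (pU u0) (pU w), ← add_assoc, add_self6, zero_add]
      · simp only [sm, Bool.not_true, Bool.false_eq_true, if_false, if_true, pU_add, add_zero]
        rw [add_comm (pU u0) (pU w), ← add_assoc, ← add_assoc, add_self6, zero_add]
    rw [hgU, ← sm_xor, show xor i (xor i k) = k by cases i <;> cases k <;> rfl] at h'
    have hm := (T.good_R_iff h' (by
      have := point_u0 p hp.2.1
      rw [pU_add, std_pair.2.1, q6_add, this.1, hb, std_pair.2.2.2.1,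
        (pU_point p hp.2.1 hp.1 hp.2.2.1 hp.2.2.2).1]
      rfl)).2 (hk ▸ point_table p hp hb)
    have e6 : g * r * g⁻¹ * t = (u * t) ^ 3 := by
      rw [hg, show u * t * c * r * (u * t * c)⁻¹ = u * t * (c * r * c⁻¹) * t⁻¹ * u⁻¹ by group, ← hur,
        inv_eq_of_mul_eq_one_right hu.2.1, inv_eq_of_mul_eq_one_right T.t_sq]
      simp [pow_succ, mul_assoc]
    rw [e6] at hm
    exact Subgroup.zpowers_le.2 (pow_mem (Subgroup.mem_zpowers _) 3) hm

theorem card_Q_fibre (S : V6 → Prop) [DecidablePred S] :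
    Nat.card {x : G // x ∈ Q ∧ S (π x)} = 2 * (Finset.univ.filter S).card := by
  classical
  have F := T.frame
  let f : {v : V6 // S v} × Bool → {x : G // x ∈ Q ∧ S (π x)} := fun q =>
    ⟨(if q.2 then z else 1) * F.data.sec q.1.1, by
      cases q.2
      · simpa [F.data.π_sec] using And.intro (F.data.sec_mem q.1.1) q.1.2
      · simpa [F.data.π_z_mul (F.data.sec_mem q.1.1), F.data.π_sec] using
          And.intro (mul_mem F.data.sub.z_mem (F.data.sec_mem q.1.1)) q.1.2⟩
  have hf : Function.Bijective f := by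
    have hπ : ∀ q, π (f q).1 = q.1.1 := by
      rintro ⟨v, _ | _⟩ <;> simp [f, F.data.π_z_mul (F.data.sec_mem v.1), F.data.π_sec]
    constructor
    · intro q q' h
      obtain ⟨v, b⟩ := q
      obtain ⟨v', b'⟩ := q'
      have hv : v = v' := Subtype.ext (by rw [← hπ (v, b), h, hπ])
      subst hv
      have h' := mul_right_cancel (congrArg Subtype.val h)
      cases b <;> cases b' <;> simp at h' ⊢
      · exact F.data.sub.ne_one h'.symm
      · exact F.data.sub.ne_one h'
    · rintro ⟨x, hx, hS⟩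
      rcases F.data.eq_or_eq_of_π_eq (F.data.sec_mem (π x)) hx (F.data.π_sec _) with e | e
      · exact ⟨(⟨π x, hS⟩, false), Subtype.ext (by simpa [f] using e.symm)⟩
      · exact ⟨(⟨π x, hS⟩, true), Subtype.ext (by simpa [f] using e.symm)⟩
  rw [← Nat.card_eq_of_bijective f hf, Nat.card_prod, Nat.card_eq_fintype_card,
    Nat.card_eq_fintype_card (α := Bool), Fintype.card_bool, Fintype.card_subtype, mul_comm]

/-- The conjugates of `z` whose product with `t` has `z` as a power. -/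
theorem card_partners_z :
    Nat.card {u : G // u * z = z * u ∧ IsConj z u ∧ z ∈ Subgroup.zpowers (u * t)} = 236 := by
  classical
  let _ : Fintype G := Fintype.ofFinite G
  have F := T.frame
  rw [Nat.card_eq_fintype_card, Fintype.card_subtype]
  obtain ⟨SA, hSA⟩ : ∃ SA : Finset G,
      SA = Finset.univ.filter fun x => x ∈ Q ∧ (q6 (π x) = false ∧ b6 (π x) s0 = true) := ⟨_, rfl⟩
  obtain ⟨SR, hSR⟩ : ∃ SR : Finset G,
      SR = Finset.univ.filter fun x => ∃ A U, F.Cl x A U ∧ GoodR A U := ⟨_, rfl⟩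
  obtain ⟨Sp, hSp⟩ : ∃ Sp : V6 → Finset G, ∀ p, Sp p = Finset.univ.filter fun u =>
      u * z = z * u ∧ u * u = 1 ∧ IsConj z u ∧ u ∉ Q ∧ ¬ F.data.Img u s0 ∧ F.data.Img u p :=
    ⟨_, fun p => rfl⟩
  have hA : SA.card = 32 := by
    have h := T.card_Q_fibre fun v => q6 v = false ∧ b6 v s0 = true
    rw [moved_count, Nat.card_eq_fintype_card, Fintype.card_subtype] at h
    rw [hSA]; exact h
  have hR : SR.card = 12 := by
    have h := F.card_cl GoodR
    rw [goodR_card, Nat.card_eq_fintype_card, Fintype.card_subtype] at h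
    rw [hSR]; exact h
  obtain ⟨PT, hPT⟩ : ∃ PT : Finset V6, PT = Finset.univ.filter fun p => GoodPt p := ⟨_, rfl⟩
  have hmemPT : ∀ p, p ∈ PT ↔ GoodPt p := fun p => by
    rw [hPT, Finset.mem_filter]; exact and_iff_right (Finset.mem_univ _)
  have hdp : (PT : Set V6).PairwiseDisjoint Sp := by
    intro p hp p' hp' hne
    rw [Function.onFun, Finset.disjoint_left]
    intro u h h'
    simp only [hSp, Finset.mem_filter, Finset.mem_univ, true_and] at h h'
    exact hne ((F.exists_point h.1 h.2.1 h.2.2.1 h.2.2.2.1 h.2.2.2.2.1).2 p p'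
      ((hmemPT p).1 hp).1 ((hmemPT p').1 hp').1 h.2.2.2.2.2 h'.2.2.2.2.2)
  have hB : (PT.biUnion Sp).card = 192 := by
    rw [Finset.card_biUnion hdp, Finset.sum_congr rfl (g := fun _ => 32) (fun p hp => by
      have h := F.card_part ((hmemPT p).1 hp).1
      rw [Nat.card_eq_fintype_card, Fintype.card_subtype] at h
      rw [hSp]; exact h), Finset.sum_const, hPT, goodPt_card]
    rfl
  have hR0 : ∀ {x : G} {A U : V6}, F.Cl x A U → x ∉ Q → F.data.Img x s0 ∨ ¬ (q6 U = false) := by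
    intro x A U h hx
    by_cases hq : q6 U = false
    · left
      have hU : U ≠ 0 := fun e => hx (F.mem_Q_of_cl (e ▸ h))
      exact (F.img_cl h hq hU s0).2 (Or.inr (Or.inl rfl))
    · exact Or.inr hq
  have hd1 : Disjoint SA SR := by
    rw [Finset.disjoint_left]
    intro x hx hx'
    simp only [hSA, hSR, Finset.mem_filter, Finset.mem_univ, true_and] at hx hx'
    obtain ⟨A, U, h, -⟩ := hx'
    have := (F.comm_s_iff hx.1).1 h.comm_s
    rw [hx.2.2] at this
    exact Bool.noConfusion this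
  have hd2 : Disjoint (SA ∪ SR) (PT.biUnion Sp) := by
    rw [Finset.disjoint_left]
    intro x hx hx'
    obtain ⟨p, -, hxp⟩ := Finset.mem_biUnion.1 hx'
    simp only [hSA, hSR, hSp, Finset.mem_union, Finset.mem_filter, Finset.mem_univ, true_and]
      at hx hxp
    rcases hx with ⟨hQ, -⟩ | ⟨A, U, h, -, -, hq, -⟩
    · exact hxp.2.2.2.1 hQ
    · exact (hR0 h hxp.2.2.2.1).elim hxp.2.2.2.2.1 fun e => e hq
  refine Eq.trans (congrArg Finset.card (?_ : _ = SA ∪ SR ∪ PT.biUnion Sp)) (by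
    rw [Finset.card_union_of_disjoint hd2, Finset.card_union_of_disjoint hd1, hA, hR, hB])
  ext u
  simp only [hSA, hSR, Finset.mem_union, Finset.mem_biUnion, hSp, Finset.mem_filter,
    Finset.mem_univ, true_and, hmemPT]
  constructor
  · rintro ⟨hu, hz, hm⟩
    obtain ⟨h2, h1⟩ := T.zsq_of_isConj hz
    by_cases hR' : ∃ A U, F.Cl u A U
    · obtain ⟨A, U, h⟩ := hR'
      obtain ⟨hqA, hqU⟩ := h.sq_eq_one_iff.1 h2
      have hq := (F.isConj_z_iff h h2 h1).1 hz
      exact Or.inl (Or.inr ⟨A, U, h, hqA, hqU, hq, (T.good_R_iff h hq).1 hm⟩)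
    by_cases hQ : u ∈ Q
    · refine Or.inl (Or.inl ⟨hQ, (F.data.sq u hQ).1 h2, ?_⟩)
      cases hb : b6 (π u) s0
      · exact absurd ⟨_, _, F.cl_of_Q hQ ((F.comm_s_iff hQ).2 hb)⟩ hR'
      · rfl
    have hi : ¬ F.data.Img u s0 := fun hi => hR' (by
      obtain ⟨A, U, -, h⟩ := F.cl_of_img hu h2 hz hQ hi
      exact ⟨A, U, h⟩)
    obtain ⟨⟨p, hp, hip⟩, -⟩ := F.exists_point hu h2 hz hQ hi
    exact Or.inr ⟨p, (T.good_part_iff hp ⟨hu, h2, hz, hQ, hi, hip⟩).1 hm,
      hu, h2, hz, hQ, hi, hip⟩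
  · rintro ((⟨hQ, hq, hb⟩ | ⟨A, U, h, hqA, hqU, hq, hE⟩) | ⟨p, hp, h⟩)
    · have hne : π u ≠ 0 := fun e => by
        rw [e, b6_zero_left] at hb; exact Bool.noConfusion hb
      exact ⟨F.data.Q_comm hQ, F.isConj_of_mem hQ ((F.data.sq u hQ).2 hq)
        (fun e => hne (by rw [e, F.data.π_one])) (fun e => hne (by rw [e, F.data.π_z])),
        T.good_moved hQ hb⟩
    · have h1 : u ≠ 1 := fun e => by
        obtain ⟨r1, r2⟩ := h.unique (e ▸ F.cl_one :)
        subst r1; subst r2
        revert hE; decide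
      exact ⟨h.comm_z, F.isConj_z_of_iso h (h.sq_eq_one_iff.2 ⟨hqA, hqU⟩) h1 hq,
        (T.good_R_iff h hq).2 hE⟩
    · exact ⟨h.1, h.2.2.1, (T.good_part_iff hp.1 h).2 hp⟩

/-- The pairs whose product generates a group containing `z`. -/
theorem card_pairs_z :
    Nat.card {p : G × G // IsConj z p.1 ∧ IsConj t p.2 ∧ z ∈ Subgroup.zpowers (p.1 * p.2)} =
      1529280 := by
  classical
  have F := T.frame
  have hz2 := F.data.sub.mul_self
  have hinvol : ∀ {v : G}, IsConj t v → v * v = 1 ∧ v ≠ 1 ∧ ¬ IsConj z v := by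
    intro v hv
    obtain ⟨c, hc⟩ := isConj_iff.1 hv
    refine ⟨by rw [← hc, show c * t * c⁻¹ * (c * t * c⁻¹) = c * (t * t) * c⁻¹ by group, T.t_sq]; group,
      fun e => T.t_ne_one ?_, fun e => T.not_isConj_z (e.trans hv.symm)⟩
    rw [e] at hc; exact conj_eq_one_iff.1 hc
  have hcomm : ∀ {u v : G}, u * u = 1 → v * v = 1 → z ∈ Subgroup.zpowers (u * v) →
      u * z = z * u ∧ v * z = z * v := by
    intro u v hu hv hm
    obtain ⟨n, hn⟩ := Subgroup.mem_zpowers_iff.1 hm
    have key : ∀ g : G, g * (u * v) * g⁻¹ = (u * v)⁻¹ → g * z = z * g := fun g hg => by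
      refine mul_inv_eq_iff_eq_mul.1 ?_
      rw [← hn, ← conj_zpow, hg, inv_zpow, hn, inv_eq_of_mul_eq_one_right hz2]
    constructor <;> refine key _ ?_ <;>
      rw [mul_inv_rev, inv_eq_of_mul_eq_one_right hu, inv_eq_of_mul_eq_one_right hv]
    · rw [← mul_assoc u u v, hu, one_mul]
    · rw [mul_assoc v (u * v) v, mul_assoc u v v, hv, mul_one]
  choose rep hrz hre using fun v : {v : G // v * z = z * v ∧ IsConj t v} =>
    F.exists_conj_t T.cl v.2.1 (hinvol v.2.2).1 (hinvol v.2.2).2.1 (hinvol v.2.2).2.2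
  let e : {v : G // v * z = z * v ∧ IsConj t v} ×
      {u : G // u * z = z * u ∧ IsConj z u ∧ z ∈ Subgroup.zpowers (u * t)} →
      {p : G × G // IsConj z p.1 ∧ IsConj t p.2 ∧ z ∈ Subgroup.zpowers (p.1 * p.2)} := fun q =>
    ⟨(rep q.1 * q.2.1 * (rep q.1)⁻¹, q.1.1), q.2.2.2.1.trans (isConj_iff.2 ⟨rep q.1, rfl⟩),
      q.1.2.2, by
      show z ∈ Subgroup.zpowers (rep q.1 * q.2.1 * (rep q.1)⁻¹ * q.1.1)
      rw [show rep q.1 * q.2.1 * (rep q.1)⁻¹ * q.1.1 = rep q.1 * (q.2.1 * t) * (rep q.1)⁻¹ by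
        conv_lhs => arg 2; rw [← hre q.1]
        group, mem_zpowers_conj (hrz q.1)]
      exact q.2.2.2.2⟩
  have he : Function.Bijective e := by
    constructor
    · rintro ⟨v, u⟩ ⟨v', u'⟩ h
      have h' := congrArg Subtype.val h
      simp only [e, Prod.mk.injEq] at h'
      obtain ⟨h1, h2⟩ := h'
      obtain rfl : v = v' := Subtype.ext h2
      exact Prod.ext rfl (Subtype.ext (mul_left_cancel (mul_right_cancel h1)))
    · rintro ⟨⟨u, v⟩, hu, hv, hm⟩
      have hu2 := (T.zsq_of_isConj hu).1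
      obtain ⟨huz, hvz⟩ := hcomm hu2 (hinvol hv).1 hm
      obtain ⟨l, hl⟩ : ∃ l : {v : G // v * z = z * v ∧ IsConj t v}, l.1 = v := ⟨⟨v, hvz, hv⟩, rfl⟩
      have hri : (rep l)⁻¹ * z = z * (rep l)⁻¹ := (Commute.inv_left (hrz l)).eq
      refine ⟨(l, ⟨(rep l)⁻¹ * u * rep l, ?_, hu.trans (isConj_iff.2 ⟨(rep l)⁻¹, by rw [inv_inv]⟩),
        ?_⟩), Subtype.ext (Prod.ext ?_ hl)⟩
      · exact ((Commute.mul_left hri huz).mul_left (hrz l)).eq
      · rw [← mem_zpowers_conj (hrz l), show rep l * ((rep l)⁻¹ * u * rep l * t) * (rep l)⁻¹ =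
          u * (rep l * t * (rep l)⁻¹) by group, hre l, hl]
        exact hm
      · show rep l * ((rep l)⁻¹ * u * rep l) * (rep l)⁻¹ = u
        group
  rw [← Nat.card_eq_of_bijective e he, Nat.card_prod, T.card_partners_z]
  -- the class of `t` in `C(z)`
  let f : {v : G // v * z = z * v ∧ IsConj t v} × {c : G // c * z = z * c ∧ c * t = t * c} →
      Subgroup.centralizer ({z} : Set G) := fun q =>
    ⟨rep q.1 * q.2.1, Subgroup.mem_centralizer_singleton_iff.2
      (Commute.mul_left (hrz q.1) q.2.2.1).eq⟩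
  have hf : Function.Bijective f := by
    constructor
    · rintro ⟨a, c⟩ ⟨a', c'⟩ h
      have h' : rep a * c.1 = rep a' * c'.1 := congrArg Subtype.val h
      have key : ∀ b : {v : G // v * z = z * v ∧ IsConj t v},
          ∀ d : {c : G // c * z = z * c ∧ c * t = t * c},
          rep b * d.1 * t * (rep b * d.1)⁻¹ = b.1 := fun b d => by
        rw [show rep b * d.1 * t * (rep b * d.1)⁻¹ = rep b * (d.1 * t * d.1⁻¹) * (rep b)⁻¹ by group,
          mul_inv_eq_iff_eq_mul.2 d.2.2, hre]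
      obtain rfl : a = a' := Subtype.ext (by rw [← key a c, h', key])
      exact Prod.ext rfl (Subtype.ext (mul_left_cancel h'))
    · rintro ⟨k, hk⟩
      rw [Subgroup.mem_centralizer_singleton_iff] at hk
      obtain ⟨a, ha⟩ : ∃ a : {v : G // v * z = z * v ∧ IsConj t v}, a.1 = k * t * k⁻¹ :=
        ⟨⟨_, F.conj_z_comm hk T.cl.comm_z, isConj_iff.2 ⟨k, rfl⟩⟩, rfl⟩
      refine ⟨(a, ⟨(rep a)⁻¹ * k, (Commute.mul_left (Commute.inv_left (hrz a)) hk).eq,
        mul_inv_eq_iff_eq_mul.1 ?_⟩), Subtype.ext (mul_inv_cancel_left _ _)⟩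
      rw [show (rep a)⁻¹ * k * t * ((rep a)⁻¹ * k)⁻¹ = (rep a)⁻¹ * (k * t * k⁻¹) * rep a by group,
        ← ha, ← hre a]
      group
  have h := Nat.card_eq_of_bijective f hf
  rw [Nat.card_prod, F.card_cent_zt T.cl, F.data.card_cent] at h
  omega

end Four

end CfsgLib.SuzType
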