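import Cfsg.Agent.SuzType.Aniso

/-!
# Calculations with classes in `R = C_Q(s) C_P(z)`
-/

set_option autoImplicit false

namespace CfsgLib.SuzType

open CfsgLib.LargeExtraspecial

/-- The element `z ^ i * s ^ j`. -/
def zE {G : Type*} [Group G] (z s : G) (i j : Bool) : G :=
  (if i then z else 1) * (if j then s else 1)

theorem pU_zero : pU 0 = 0 := by decide

theorem inU_add {u v : V6} (hu : InU u) (hv : InU v) : InU (u + v) := by
  show pU (u + v) = u + v
  rw [pU_add, hu, hv]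

theorem q6_zero : q6 0 = false := by decide

theorem b6_zero_right (v : V6) : b6 v 0 = false := by rw [b6_comm]; exact b6_zero_left v

namespace Frame

variable {G : Type*} [Group G] {z s : G} {Q P : Subgroup G} {π : G → V6}
  (F : Frame z Q π P s)

/-- `x` is a product of elements of `C_Q(s)` and `C_P(z)` with the given classes. -/
def Cl (x : G) (A U : V6) : Prop :=
  ∃ a w, a ∈ Q ∧ a * s = s * a ∧ w ∈ P ∧ w * z = z * w ∧ cls π a = A ∧ F.ups w = U ∧ x = a * w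

include F

theorem zE_ff : zE z s false false = 1 := by simp [zE]

theorem zE_tf : zE z s true false = z := by simp [zE]

theorem zE_ft : zE z s false true = s := by simp [zE]

theorem zE_tt : zE z s true true = z * s := by simp [zE]

theorem zE_mul (i j i' j' : Bool) :
    zE z s i j * zE z s i' j' = zE z s (xor i i') (xor j j') := by
  have hc : s * z = z * s := F.s_comm
  have hzz := F.data.sub.mul_self
  have hss := F.s_mul_self
  have h1 : s * (z * s) = z := by rw [← mul_assoc, hc, mul_assoc, hss, mul_one]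
  have h2 : z * (z * s) = s := by rw [← mul_assoc, hzz, one_mul]
  have h3 : z * s * z = s := by rw [mul_assoc, hc, h2]
  have h4 : z * s * s = z := by rw [mul_assoc, hss, mul_one]
  have h5 : z * s * (z * s) = 1 := by rw [← mul_assoc, h3, hss]
  cases i <;> cases j <;> cases i' <;> cases j' <;> simp [zE, hzz, hss, hc, h1, h2, h3, h4, h5]

theorem zE_mul_self (i j : Bool) : zE z s i j * zE z s i j = 1 := by
  rw [F.zE_mul, Bool.xor_self, Bool.xor_self, F.zE_ff]

theorem zE_inv (i j : Bool) : (zE z s i j)⁻¹ = zE z s i j :=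
  inv_eq_of_mul_eq_one_right (F.zE_mul_self i j)

theorem memE_zE (i j : Bool) : MemE z s (zE z s i j) := by
  cases i <;> cases j <;> simp [zE, MemE]

theorem exists_zE {e : G} (he : MemE z s e) : ∃ i j, e = zE z s i j := by
  rcases he with r | r | r | r
  · exact ⟨false, false, by rw [r, F.zE_ff]⟩
  · exact ⟨true, false, by rw [r, F.zE_tf]⟩
  · exact ⟨false, true, by rw [r, F.zE_ft]⟩
  · exact ⟨true, true, by rw [r, F.zE_tt]⟩

theorem zE_comm {c : G} (hc : c * z = z * c) (hcs : c * s = s * c) (i j : Bool) :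
    c * zE z s i j = zE z s i j * c :=
  F.memE_comm (F.memE_zE i j) hc hcs

theorem zE_conj {c : G} (hc : c * z = z * c) (hcs : c * s = s * c) (i j : Bool) :
    c * zE z s i j * c⁻¹ = zE z s i j :=
  mul_inv_eq_iff_eq_mul.2 (F.zE_comm hc hcs i j)

theorem conj_z_of_mem {q : G} (hq : q ∈ Q) : q * z * q⁻¹ = z :=
  mul_inv_eq_iff_eq_mul.2 (F.data.Q_comm hq)

theorem moves_s {q : G} (hq : q ∈ Q) (hb : b6 (π q) s0 = true) :
    q * s * q⁻¹ = z * s ∧ q⁻¹ * s * q = z * s := by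
  have hne : q * s ≠ s * q := fun h => by rw [(F.comm_s_iff hq).1 h] at hb; exact Bool.noConfusion hb
  refine ⟨F.data.sub.conj_of_not_commute hq F.pair.mem hne, ?_⟩
  have h : q⁻¹ * s ≠ s * q⁻¹ := fun h => hne (by
    have := (show Commute q⁻¹ s from h).inv_left
    rwa [inv_inv] at this)
  have := F.data.sub.conj_of_not_commute (inv_mem hq) F.pair.mem h
  rwa [inv_inv] at this

theorem sq_Q {a : G} (ha : a ∈ Q) (has : a * s = s * a) :
    a * a = zE z s (q6 (cls π a)) false := by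
  have h := F.data.sq a ha
  rw [← q6_pU _ ((F.comm_s_iff ha).1 has)] at h
  show a * a = zE z s (q6 (pU (π a))) false
  rcases F.data.sub.sq_eq ha with e | e
  · rw [h.1 e, F.zE_ff, e]
  · rw [e]
    cases hq : q6 (pU (π a))
    · exact absurd (e ▸ h.2 hq) F.data.sub.ne_one
    · exact F.zE_tf.symm

theorem conj_QQ {a b : G} (ha : a ∈ Q) (has : a * s = s * a) (hb : b ∈ Q) (hbs : b * s = s * b) :
    b * a * b⁻¹ = zE z s (b6 (cls π b) (cls π a)) false * a := by
  have h2 : b6 (cls π b) (cls π a) = b6 (π b) (π a) :=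
    b6_pU ((F.comm_s_iff hb).1 hbs) ((F.comm_s_iff ha).1 has)
  rw [h2]
  cases hbb : b6 (π b) (π a)
  · rw [mul_inv_eq_iff_eq_mul.2 ((F.data.commute_iff hb ha).2 hbb), F.zE_ff, one_mul]
  · rw [F.data.sub.conj_of_not_commute hb ha fun e => by simp [(F.data.commute_iff hb ha).1 e] at hbb,
      F.zE_tf]

namespace Cl

variable {F}
variable {x x' : G} {A U A' U' : V6}

theorem inU_left (h : F.Cl x A U) : InU A := by
  obtain ⟨a, w, -, -, -, -, rfl, -, -⟩ := h
  exact cls_inU π a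

theorem inU_right (h : F.Cl x A U) : InU U := by
  obtain ⟨a, w, -, -, -, -, -, rfl, -⟩ := h
  exact F.ups_inU w

theorem comm_z (h : F.Cl x A U) : x * z = z * x := by
  obtain ⟨a, w, ha, -, -, hwz, -, -, rfl⟩ := h
  exact (Commute.mul_left (F.data.Q_comm ha) hwz).eq

theorem comm_s (h : F.Cl x A U) : x * s = s * x := by
  obtain ⟨a, w, -, has, hw, -, -, -, rfl⟩ := h
  exact (Commute.mul_left has (F.W_comm_s hw)).eq

end Cl

theorem cl_one : F.Cl 1 0 0 :=
  ⟨1, 1, one_mem _, by simp, one_mem _, by simp, F.cls_memE (Or.inl rfl),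
    F.ups_memE (Or.inl rfl), (mul_one 1).symm⟩

theorem cl_of_memE {e : G} (he : MemE z s e) : F.Cl e 0 0 := by
  obtain ⟨h1, -⟩ := F.memE_mem he
  exact ⟨e, 1, h1, (F.memE_comm he F.s_comm rfl).symm, one_mem _, by simp, F.cls_memE he,
    F.ups_memE (Or.inl rfl), (mul_one e).symm⟩

theorem cl_zE (i j : Bool) : F.Cl (zE z s i j) 0 0 := F.cl_of_memE (F.memE_zE i j)

theorem cl_of_Q {a : G} (ha : a ∈ Q) (has : a * s = s * a) : F.Cl a (cls π a) 0 :=
  ⟨a, 1, ha, has, one_mem _, by simp, rfl, F.ups_memE (Or.inl rfl), (mul_one a).symm⟩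

theorem cl_of_P {w : G} (hw : w ∈ P) (hwz : w * z = z * w) : F.Cl w 0 (F.ups w) :=
  ⟨1, w, one_mem _, by simp, hw, hwz, F.cls_memE (Or.inl rfl), rfl, (one_mul w).symm⟩

section Fin

variable [Finite G]

theorem zE_inj {i j i' j' : Bool} (h : zE z s i j = zE z s i' j') : i = i' ∧ j = j' := by
  obtain ⟨h1, h2, h3, h4, h5, h6⟩ := F.zs_facts
  cases i <;> cases j <;> cases i' <;> cases j' <;>
    simp [zE, h1, h2, h3, h3.symm, h4, h5, h6, h1.symm, h2.symm, h4.symm, h5.symm, h6.symm] at h ⊢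

theorem exists_cl {A U : V6} (hA : InU A) (hU : InU U) : ∃ x, F.Cl x A U := by
  obtain ⟨a, ha, has, hπ⟩ := F.exists_mem A (inU_orth _ hA).1
  obtain ⟨w, hw, hwz, hu⟩ := F.exists_ups hU
  exact ⟨a * w, a, w, ha, has, hw, hwz, by rw [cls, hπ]; exact hA, hu, rfl⟩

theorem conj_WW {w v : G} (hw : w ∈ P) (hwz : w * z = z * w) (hv : v ∈ P) (hvz : v * z = z * v) :
    v * w * v⁻¹ = zE z s false (b6 (F.ups v) (F.ups w)) * w := by
  have hS : ∀ b, (if b then s else 1) = zE z s false b := fun b => by simp [zE]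
  have h1 := F.sq_formula hv hvz
  have h2 := F.sq_formula hw hwz
  have h3 := F.sq_formula (mul_mem hv hw) (Commute.mul_left hvz hwz).eq
  rw [F.ups_mul hv hvz hw hwz, q6_add] at h3
  rw [hS] at h1 h2 h3
  have hwi : w⁻¹ = zE z s false (q6 (F.ups w)) * w := by
    refine inv_eq_of_mul_eq_one_right ?_
    rw [← mul_assoc, F.zE_comm hwz (F.W_comm_s hw), mul_assoc, h2, F.zE_mul_self]
  have e : v * w * v⁻¹ = (v * w * (v * w)) * w⁻¹ * (v * v)⁻¹ := by group
  rw [e, h3, hwi, h1, F.zE_inv, mul_assoc, mul_assoc, F.zE_comm hwz (F.W_comm_s hw), ← mul_assoc,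
    ← mul_assoc, F.zE_mul, F.zE_mul]
  congr 2
  cases q6 (F.ups v) <;> cases q6 (F.ups w) <;> cases b6 (F.ups v) (F.ups w) <;> rfl

theorem conj_WQ {a w : G} (ha : a ∈ Q) (has : a * s = s * a) (hw : w ∈ P) (hwz : w * z = z * w) :
    w * a * w⁻¹ = zE z s (b6 (cls π a) (F.ups w)) (b6 (cls π a) (F.ups w)) * a := by
  rw [F.comm_formula ha has hw hwz]
  congr 1
  cases b6 (cls π a) (F.ups w) <;> simp [zE]

namespace Cl

variable {F}
variable {x x' : G} {A U A' U' : V6}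

theorem mul (h : F.Cl x A U) (h' : F.Cl x' A' U') : F.Cl (x * x') (A + A') (U + U') := by
  obtain ⟨a, w, ha, has, hw, hwz, rfl, rfl, rfl⟩ := h
  obtain ⟨a', w', ha', has', hw', hwz', rfl, rfl, rfl⟩ := h'
  obtain ⟨b, hbdef⟩ : ∃ b, b = zE z s (b6 (cls π a') (F.ups w)) (b6 (cls π a') (F.ups w)) :=
    ⟨_, rfl⟩
  have hb : MemE z s b := hbdef ▸ F.memE_zE _ _
  obtain ⟨hbQ, -⟩ := F.memE_mem hb
  refine ⟨a * (b * a'), w * w', mul_mem ha (mul_mem hbQ ha'), ?_, mul_mem hw hw',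
    (Commute.mul_left hwz hwz').eq, ?_, F.ups_mul hw hwz hw' hwz', ?_⟩
  · exact (Commute.mul_left has (Commute.mul_left (F.memE_comm hb F.s_comm rfl).symm has')).eq
  · rw [F.cls_mul ha (mul_mem hbQ ha'), F.cls_mul hbQ ha', F.cls_memE hb, zero_add]
  · rw [hbdef, ← F.conj_WQ ha' has' hw hwz]
    group

theorem unique (h : F.Cl x A U) (h' : F.Cl x A' U') : A = A' ∧ U = U' := by
  obtain ⟨a, w, ha, has, hw, hwz, rfl, rfl, rfl⟩ := h
  obtain ⟨a', w', ha', has', hw', hwz', rfl, rfl, e⟩ := h'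
  have e' : a'⁻¹ * a = w' * w⁻¹ := by
    calc a'⁻¹ * a = a'⁻¹ * (a * w) * w⁻¹ := by group
      _ = w' * w⁻¹ := by rw [e]; group
  have hE : MemE z s (a'⁻¹ * a) :=
    F.memE_of_mem (mul_mem (inv_mem ha') ha) (e' ▸ mul_mem hw' (inv_mem hw))
  have h1 := F.cls_memE hE
  rw [F.cls_mul (inv_mem ha') ha, F.cls_inv ha'] at h1
  have h2 := F.ups_memE hE
  have hwi : w⁻¹ * z = z * w⁻¹ := (Commute.inv_left hwz).eq
  rw [e', F.ups_mul hw' hwz' (inv_mem hw) hwi] at h2
  have h3 : F.ups w⁻¹ + F.ups w = 0 := by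
    rw [← F.ups_mul (inv_mem hw) hwi hw hwz, inv_mul_cancel, F.ups_memE (Or.inl rfl)]
  exact ⟨(eq_of_add_eq_zero6 h1).symm,
    (eq_of_add_eq_zero6 h3).symm.trans (eq_of_add_eq_zero6 h2).symm⟩

theorem inv (h : F.Cl x A U) : F.Cl x⁻¹ A U := by
  obtain ⟨a, w, ha, has, hw, hwz, rfl, rfl, rfl⟩ := h
  have h1 := F.cl_of_Q (inv_mem ha) (Commute.inv_left has).eq
  have h2 := F.cl_of_P (inv_mem hw) (Commute.inv_left hwz).eq
  have h3 : F.ups w⁻¹ + F.ups w = 0 := by
    rw [← F.ups_mul (inv_mem hw) (Commute.inv_left hwz).eq hw hwz, inv_mul_cancel,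
      F.ups_memE (Or.inl rfl)]
  have := h2.mul h1
  rw [zero_add, add_zero, F.cls_inv ha, eq_of_add_eq_zero6 h3] at this
  rwa [mul_inv_rev]

theorem eq_zE_mul (h : F.Cl x A U) (h' : F.Cl x' A U) : ∃ i j, x' = zE z s i j * x := by
  obtain ⟨a, w, ha, has, hw, hwz, rfl, rfl, rfl⟩ := h
  obtain ⟨a', w', ha', has', hw', hwz', hA, hU, rfl⟩ := h'
  obtain ⟨e, he, hee⟩ := F.eq_memE_mul ha has hw hwz ha' has' hw' hwz' hA hU
  obtain ⟨i, j, rfl⟩ := F.exists_zE he
  exact ⟨i, j, hee⟩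

theorem zE_mul_left (h : F.Cl x A U) (i j : Bool) : F.Cl (zE z s i j * x) A U := by
  have := (F.cl_zE i j).mul h
  rwa [zero_add, zero_add] at this

theorem eq_zE (h : F.Cl x 0 0) : ∃ i j, x = zE z s i j := by
  obtain ⟨i, j, e⟩ := F.cl_one.eq_zE_mul h
  exact ⟨i, j, by rw [e, mul_one]⟩

/-- Conjugation inside `R`. -/
theorem conj_eq (h : F.Cl x A U) (h' : F.Cl x' A' U') :
    x' * x * x'⁻¹ = zE z s (xor (b6 A' A) (xor (b6 A' U) (b6 U' A)))
      (xor (b6 U' U) (xor (b6 A' U) (b6 U' A))) * x := by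
  obtain ⟨a, w, ha, has, hw, hwz, rfl, rfl, rfl⟩ := h
  obtain ⟨a', w', ha', has', hw', hwz', rfl, rfl, rfl⟩ := h'
  have haz := F.data.Q_comm ha
  have haz' := F.data.Q_comm ha'
  have hws := F.W_comm_s hw
  have e0 : a' * w' * (a * w) * (a' * w')⁻¹ =
      a' * ((w' * a * w'⁻¹) * (w' * w * w'⁻¹)) * a'⁻¹ := by group
  rw [e0, F.conj_WQ ha has hw' hwz', F.conj_WW hw hwz hw' hwz', b6_comm (F.ups w') (cls π a)]
  obtain ⟨e1, he1⟩ : ∃ e1, e1 = zE z s (b6 (cls π a) (F.ups w')) (b6 (cls π a) (F.ups w')) *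
      zE z s false (b6 (F.ups w') (F.ups w)) := ⟨_, rfl⟩
  have e2 : zE z s (b6 (cls π a) (F.ups w')) (b6 (cls π a) (F.ups w')) * a *
      (zE z s false (b6 (F.ups w') (F.ups w)) * w) = e1 * (a * w) := by
    rw [he1, mul_assoc, ← mul_assoc a, F.zE_comm haz has]
    group
  have he1' : MemE z s e1 := by rw [he1, F.zE_mul]; exact F.memE_zE _ _
  have hconj := F.conj_aw ha has hw hwz ha' has'
  have hif : (if b6 (cls π a') (cls π a) then z else 1) *
      (if b6 (cls π a') (F.ups w) then z * s else 1) =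
      zE z s (b6 (cls π a') (cls π a)) false *
        zE z s (b6 (cls π a') (F.ups w)) (b6 (cls π a') (F.ups w)) := by
    cases b6 (cls π a') (cls π a) <;> cases b6 (cls π a') (F.ups w) <;> simp [zE]
  rw [hif] at hconj
  rw [e2, show a' * (e1 * (a * w)) * a'⁻¹ = (a' * e1 * a'⁻¹) * (a' * (a * w) * a'⁻¹) by group,
    mul_inv_eq_iff_eq_mul.2 (F.memE_comm he1' haz' has'), hconj, he1, F.zE_mul, F.zE_mul,
    ← mul_assoc, F.zE_mul]
  congr 2
  · cases b6 (cls π a') (cls π a) <;> cases b6 (cls π a') (F.ups w) <;>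
      cases b6 (cls π a) (F.ups w') <;> rfl
  · cases b6 (F.ups w') (F.ups w) <;> cases b6 (cls π a') (F.ups w) <;>
      cases b6 (cls π a) (F.ups w') <;> rfl

theorem commute_iff (h : F.Cl x A U) (h' : F.Cl x' A' U') :
    x' * x = x * x' ↔ b6 A' A = xor (b6 A' U) (b6 U' A) ∧ b6 U' U = xor (b6 A' U) (b6 U' A) := by
  rw [← mul_inv_eq_iff_eq_mul, h.conj_eq h']
  constructor
  · intro e
    rw [mul_eq_right, ← F.zE_ff] at e
    obtain ⟨h1, h2⟩ := F.zE_inj e
    exact ⟨by simpa using h1, by simpa using h2⟩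
  · rintro ⟨h1, h2⟩
    rw [h1, h2, Bool.xor_self, F.zE_ff, one_mul]

/-- Squares in `R`. -/
theorem sq_eq (h : F.Cl x A U) : x * x = zE z s (xor (q6 A) (b6 A U)) (xor (q6 U) (b6 A U)) := by
  obtain ⟨a, w, ha, has, hw, hwz, rfl, rfl, rfl⟩ := h
  have hw2 : w * w = zE z s false (q6 (F.ups w)) := by rw [F.sq_formula hw hwz]; simp [zE]
  rw [show a * w * (a * w) = a * (w * a * w⁻¹) * (w * w) by group, F.conj_WQ ha has hw hwz, hw2,
    ← mul_assoc a, F.zE_comm (F.data.Q_comm ha) has, mul_assoc (zE z s _ _) a a,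
    F.sq_Q ha has, F.zE_mul, F.zE_mul]
  congr 1 <;> cases b6 (cls π a) (F.ups w) <;> cases q6 (cls π a) <;> cases q6 (F.ups w) <;> rfl

theorem sq_eq_one_iff (h : F.Cl x A U) : x * x = 1 ↔ q6 A = b6 A U ∧ q6 U = b6 A U := by
  rw [h.sq_eq, ← F.zE_ff]
  constructor
  · intro e
    obtain ⟨h1, h2⟩ := F.zE_inj e
    exact ⟨by simpa using h1, by simpa using h2⟩
  · rintro ⟨h1, h2⟩
    rw [h1, h2, Bool.xor_self]

/-- Conjugation by `C(z) ∩ C(s)`. -/
theorem conjC (h : F.Cl x A U) {c : G} (hc : c * z = z * c) (hcs : c * s = s * c) :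
    F.Cl (c * x * c⁻¹) (pU (F.data.act c A)) (pU (F.data.act c U)) := by
  obtain ⟨a, w, ha, has, hw, hwz, rfl, rfl, rfl⟩ := h
  obtain ⟨hw', hwz'⟩ := F.conj_mem_W hc hcs hw hwz
  exact ⟨c * a * c⁻¹, c * w * c⁻¹, F.data.sub.conj_mem hc ha,
    ((Commute.mul_left hcs has).mul_left (Commute.inv_left hcs)).eq, hw', hwz',
    F.cls_conj hc hcs ha has, F.ups_conj hc hcs hw hwz, by group⟩

/-- Conjugation by an element of `Q` moving `s`. -/
theorem conjQ (h : F.Cl x A U) {q : G} (hq : q ∈ Q) (hb : b6 (π q) s0 = true) :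
    F.Cl (q * x * q⁻¹) (A + U) U := by
  obtain ⟨a, w, ha, has, hw, hwz, rfl, rfl, rfl⟩ := h
  obtain ⟨a', ha', has', hA', he⟩ := F.conj_W_eq hq (F.moves_s hq hb).2 hb hw hwz
  have hq' : F.Cl (q * a * q⁻¹) (cls π a) 0 := by
    rcases F.data.sub.conj_eq hq ha with e | e
    · rw [e]; exact F.cl_of_Q ha has
    · have h1 := (F.cl_of_Q ha has).zE_mul_left true false
      rw [F.zE_tf] at h1
      rw [e]; exact h1
  have h2 : F.Cl (a' * w) (cls π a') (F.ups w) := ⟨a', w, ha', has', hw, hwz, rfl, rfl, rfl⟩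
  have := hq'.mul h2
  rw [hA', zero_add] at this
  rwa [show q * (a * w) * q⁻¹ = q * a * q⁻¹ * (q * w * q⁻¹) by group, he]

end Cl

/-- The subgroup `R = C_Q(s) C_P(z)`. -/
def Rsub : Subgroup G where
  carrier := {x | ∃ A U, F.Cl x A U}
  one_mem' := ⟨0, 0, F.cl_one⟩
  mul_mem' := by
    rintro x y ⟨A, U, h⟩ ⟨A', U', h'⟩
    exact ⟨_, _, h.mul h'⟩
  inv_mem' := by
    rintro x ⟨A, U, h⟩
    exact ⟨A, U, h.inv⟩

/-- The elements with classes in a given set. -/
theorem card_cl (S : V6 → V6 → Prop) [DecidableRel S] :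
    Nat.card {x : G // ∃ A U, F.Cl x A U ∧ S A U} = 4 * (Finset.univ.filter
      fun p : V6 × V6 => InU p.1 ∧ InU p.2 ∧ S p.1 p.2).card := by
  classical
  obtain ⟨N, hN⟩ : ∃ N : Finset (V6 × V6),
      N = Finset.univ.filter fun p : V6 × V6 => InU p.1 ∧ InU p.2 ∧ S p.1 p.2 := ⟨_, rfl⟩
  rw [← hN]
  have hmem : ∀ p : V6 × V6, p ∈ N ↔ InU p.1 ∧ InU p.2 ∧ S p.1 p.2 := fun p => by
    subst hN; simp only [Finset.mem_filter, Finset.mem_univ, true_and]
  choose rep hrep using fun p : N => F.exists_cl (A := p.1.1) (U := p.1.2)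
    ((hmem p.1).1 p.2).1 ((hmem p.1).1 p.2).2.1
  let f : N × Bool × Bool → {x : G // ∃ A U, F.Cl x A U ∧ S A U} := fun p =>
    ⟨zE z s p.2.1 p.2.2 * rep p.1, _, _, (hrep p.1).zE_mul_left _ _,
      ((hmem p.1.1).1 p.1.2).2.2⟩
  have hf : Function.Bijective f := by
    constructor
    · rintro ⟨p, i, j⟩ ⟨p', i', j'⟩ h
      have h' : zE z s i j * rep p = zE z s i' j' * rep p' := congrArg Subtype.val h
      have hp : p = p' := by
        obtain ⟨h1, h2⟩ := ((hrep p).zE_mul_left i j).unique (h' ▸ (hrep p').zE_mul_left i' j')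
        exact Subtype.ext (Prod.ext h1 h2)
      subst hp
      obtain ⟨h1, h2⟩ := F.zE_inj (mul_right_cancel h')
      rw [h1, h2]
    · rintro ⟨x, A, U, h, hS⟩
      obtain ⟨i, j, e⟩ := (hrep ⟨(A, U), (hmem (A, U)).2
        ⟨h.inU_left, h.inU_right, hS⟩⟩).eq_zE_mul h
      exact ⟨⟨_, i, j⟩, Subtype.ext e.symm⟩
  rw [← Nat.card_eq_of_bijective f hf, Nat.card_prod, Nat.card_prod, Nat.card_eq_finsetCard,
    Nat.card_eq_fintype_card (α := Bool), Fintype.card_bool]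
  ring

end Fin

end Frame

end CfsgLib.SuzType
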