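import Cfsg.Agent.SuzType.Four

/-!
# An element permuting `z, s, z * s` and centralising the four group
-/

set_option autoImplicit false

namespace CfsgLib.SuzType

open CfsgLib.LargeExtraspecial

/-- The map induced by `θ`. -/
def sig (v : V6) : V6 := pr (16, 32) v

/-- The class pairs of the two `θ`-invariant four groups. -/
def sixList : List (V6 × V6) :=
  [(mk6 16, mk6 32), (mk6 32, mk6 48), (mk6 48, mk6 16),
   (mk6 16, mk6 48), (mk6 48, mk6 32), (mk6 32, mk6 16)]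

theorem six_half : ∀ A : V6, InU A → q6 A = true → A + sig A = sig (sig A) →
    A = mk6 16 ∨ A = mk6 32 ∨ A = mk6 48 := by
  decide +kernel

theorem six_classify {A U : V6} (hA : InU A) (hU : InU U) (hqA : q6 A = true) (hqU : q6 U = true)
    (hb : b6 A U = true) (h1 : A + sig A = sig (sig A)) (h2 : U + sig U = sig (sig U)) :
    (A, U) ∈ sixList := by
  revert hb
  rcases six_half A hA hqA h1 with r | r | r <;> rcases six_half U hU hqU h2 with r' | r' | r' <;>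
    subst r <;> subst r' <;> decide

theorem six_orbit : ∀ p ∈ sixList, ∀ p' ∈ sixList,
    decide (p.2 = sig p.1) = decide (p'.2 = sig p'.1) →
    p' = p ∨ p' = (sig p.1, sig p.2) ∨ p' = (sig (sig p.1), sig (sig p.2)) := by
  have key : (sixList.all fun p => sixList.all fun p' =>
      !(decide (p.2 = sig p.1) == decide (p'.2 = sig p'.1)) || decide (p' = p ∨
        p' = (sig p.1, sig p.2) ∨ p' = (sig (sig p.1), sig (sig p.2)))) = true := by decide +kernel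
  intro p hp p' hp' h
  have h1 := List.all_eq_true.1 (List.all_eq_true.1 key p hp) p' hp'
  rw [h, beq_self_eq_true] at h1
  simpa using h1

theorem six_std : (a0, u0) ∈ sixList ∧ u0 = sig a0 := by decide

/-- A map of order dividing three on a finite set of order prime to three fixes a point. -/
theorem exists_fixed_of_cube {α : Type*} [Finite α] (f : α → α) (h : ∀ a, f (f (f a)) = a)
    (hc : ¬ 3 ∣ Nat.card α) : ∃ a, f a = a := by
  classical
  have : Fintype α := Fintype.ofFinite α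
  have : Fact (Nat.Prime 3) := ⟨Nat.prime_three⟩
  rw [Nat.card_eq_fintype_card] at hc
  obtain ⟨σ, hσ⟩ : ∃ σ : Equiv.Perm α, ∀ a, σ a = f a :=
    ⟨⟨f, fun a => f (f a), fun a => h a, fun a => h a⟩, fun a => rfl⟩
  obtain ⟨a, ha⟩ := Equiv.Perm.exists_fixed_point_of_prime (p := 3) (n := 1) hc (σ := σ) (by
    ext a
    simp [pow_succ, hσ, h])
  exact ⟨a, hσ a ▸ ha⟩

namespace Frame

variable {G : Type*} [Group G] {z s : G} {Q P : Subgroup G} {π : G → V6}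
  (F : Frame z Q π P s)
include F

theorem conj_Q_mem {g x : G} (hg : g * z * g⁻¹ = s) (hx : x ∈ Q) : g * x * g⁻¹ ∈ P := by
  obtain ⟨g', hg', hgP⟩ := F.pair.conj
  rw [← hgP, ← F.data.sub.map_conj_eq (hg.trans hg'.symm)]
  exact ⟨x, hx, rfl⟩

theorem card_P : Nat.card P = 128 := by
  obtain ⟨g, -, hgP⟩ := F.pair.conj
  rw [← hgP, Subgroup.card_map_of_injective (MulAut.conj g).injective, F.data.card]

theorem conj_of_mem_P {p : G} (hp : p ∈ P) (hpz : p * z ≠ z * p) : p * z * p⁻¹ = z * s :=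
  (F.pair.subP.conj_of_not_commute hp F.pair.z_mem hpz).trans F.s_comm

variable [Finite G]

theorem exists_cl_swap {y x : G} {A U : V6} (h0 : y * z * y⁻¹ = s) (h1 : y * s * y⁻¹ = z)
    (h : F.Cl x A U) : ∃ A' U', F.Cl (y * x * y⁻¹) A' U' := by
  obtain ⟨a, w, ha, has, hw, hwz, -, -, rfl⟩ := h
  obtain ⟨hP, hPz⟩ := (F.swap_mem_W h0 h1).1 ha has
  obtain ⟨hQ, hQs⟩ := (F.swap_mem_W h0 h1).2 hw hwz
  rw [show y * (a * w) * y⁻¹ = y * a * y⁻¹ * (y * w * y⁻¹) by group]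
  exact ⟨_, _, (F.cl_of_P hP hPz).mul (F.cl_of_Q hQ hQs)⟩

theorem exists_cl_conj_P {p x : G} {A U : V6} (hp : p ∈ P) (hpz : p * z ≠ z * p)
    (h : F.Cl x A U) : ∃ A' U', F.Cl (p * x * p⁻¹) A' U' := by
  obtain ⟨y, h0, h1⟩ := F.exists_swap
  obtain ⟨h0', h1'⟩ := F.swap_inv h0 h1
  have hq := (F.swap_mem h0' h1').2 hp
  rw [inv_inv] at hq
  have hb : b6 (π (y⁻¹ * p * y)) s0 = true := by
    cases hb : b6 (π (y⁻¹ * p * y)) s0
    · exfalso
      apply hpz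
      have h2 := (Commute.conj_iff y).2 (show Commute (y⁻¹ * p * y) s from (F.comm_s_iff hq).2 hb)
      rw [show y * (y⁻¹ * p * y) * y⁻¹ = p by group, h1] at h2
      exact h2.eq
    · rfl
  obtain ⟨A1, U1, hx1⟩ := F.exists_cl_swap h0' h1' h
  rw [inv_inv] at hx1
  obtain ⟨A2, U2, hx2⟩ := F.exists_cl_swap h0 h1 (hx1.conjQ hq hb)
  refine ⟨A2, U2, ?_⟩
  rwa [show p * x * p⁻¹ = y * (y⁻¹ * p * y * (y⁻¹ * x * y) * (y⁻¹ * p * y)⁻¹) * y⁻¹ by group]

theorem card_P_not_comm : ¬ 3 ∣ Nat.card {p : G // p ∈ P ∧ p * z ≠ z * p} := by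
  classical
  set W := P ⊓ Subgroup.centralizer ({z} : Set G) with hW
  have hWle : W ≤ P := inf_le_left
  have hdvd := Subgroup.card_dvd_of_le hWle
  rw [F.card_P] at hdvd
  obtain ⟨y, hy1, hy2⟩ := F.exists_swap
  have hcard : 64 ≤ Nat.card W := by
    refine F.card_centralizer_s.trans (Nat.card_le_card_of_injective
      (fun a => ⟨y * a.1 * y⁻¹, Subgroup.mem_inf.2
        ⟨((F.swap_mem_W hy1 hy2).1 a.2.1 (Subgroup.mem_centralizer_singleton_iff.1 a.2.2)).1,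
          Subgroup.mem_centralizer_singleton_iff.2
            ((F.swap_mem_W hy1 hy2).1 a.2.1 (Subgroup.mem_centralizer_singleton_iff.1 a.2.2)).2⟩⟩)
      fun a b h => ?_)
    exact Subtype.ext (mul_left_cancel (mul_right_cancel (congrArg Subtype.val h)))
  let e : {p : P // ¬ (p : G) * z = z * p} ≃ {p : G // p ∈ P ∧ p * z ≠ z * p} :=
    { toFun := fun p => ⟨p.1.1, p.1.2, p.2⟩
      invFun := fun p => ⟨⟨p.1, p.2.1⟩, p.2.2⟩
      left_inv := fun p => rfl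
      right_inv := fun p => rfl }
  have hW' : Nat.card {p : P // (p : G) * z = z * p} = Nat.card W :=
    Nat.card_congr
      { toFun := fun p => ⟨p.1.1, p.1.2, Subgroup.mem_centralizer_singleton_iff.2 p.2⟩
        invFun := fun p => ⟨⟨p.1, p.2.1⟩, Subgroup.mem_centralizer_singleton_iff.1 p.2.2⟩
        left_inv := fun p => rfl
        right_inv := fun p => rfl }
  have hsum : Nat.card {p : P // (p : G) * z = z * p} + Nat.card {p : P // ¬ (p : G) * z = z * p} =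
      128 := by
    rw [← Nat.card_sum, Nat.card_congr (Equiv.sumCompl fun p : P => (p : G) * z = z * p), F.card_P]
  have hne : Nat.card {p : P // (p : G) * z = z * p} ≠ 128 := by
    intro h
    obtain ⟨q, hq, hqs⟩ := F.data.sub.exists_not_commute F.pair.subP.ne_one F.pair.ne
    have hp := (F.swap_mem hy1 hy2).1 hq
    have hempty : Nat.card {p : P // ¬ (p : G) * z = z * p} = 0 := by omega
    rcases Nat.card_eq_zero.1 hempty with he | he
    · refine he.false ⟨⟨_, hp⟩, fun hc => hqs ?_⟩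
      have h2 := (Commute.conj_iff y⁻¹).2 (show Commute (y * q * y⁻¹) z from hc)
      rw [show y⁻¹ * (y * q * y⁻¹) * y⁻¹⁻¹ = q by group, (F.swap_inv hy1 hy2).1] at h2
      exact h2.eq
    · exact he.not_finite inferInstance
  rw [← Nat.card_congr e]
  rw [hW'] at hsum hne
  obtain ⟨k, hk, hkW⟩ := (Nat.dvd_prime_pow Nat.prime_two).1 (show Nat.card W ∣ 2 ^ 7 by simpa using hdvd)
  rw [hkW] at hsum hne hcard
  interval_cases k <;> omega

end Frame

namespace Four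

variable {G : Type*} [Group G] [Finite G] {z s θ t : G} {Q P : Subgroup G} {π : G → V6}
  (T : Four z Q π P s θ t)
include T

theorem conj_θ {x : G} {A U : V6} (h : T.frame.Cl x A U) :
    T.frame.Cl (θ * x * θ⁻¹) (sig A) (sig U) := by
  have hpU := sigma_facts.2.2.2.2.2.2.2
  have h' := h.conjC T.θ_comm_z T.θ_comm_s
  rwa [T.θ_act, T.θ_act, hpU _ h.inU_left, hpU _ h.inU_right] at h'

theorem conj_θθ {x : G} {A U : V6} (h : T.frame.Cl x A U) :
    T.frame.Cl (θ * θ * x * (θ * θ)⁻¹) (sig (sig A)) (sig (sig U)) := by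
  have h' := T.conj_θ (T.conj_θ h)
  rwa [show θ * (θ * x * θ⁻¹) * θ⁻¹ = θ * θ * x * (θ * θ)⁻¹ by group] at h'

theorem exists_q : ∃ q ∈ Q, b6 (π q) s0 = true ∧ θ * q = q * θ := by
  have D := T.frame.data
  obtain ⟨q, hq, hπ⟩ := D.surj d0
  refine ⟨q, hq, by rw [hπ, b6_comm]; exact b6_s0_d0, ?_⟩
  have h1 : π (θ * q * θ⁻¹) = π q := by
    rw [← D.act_π T.θ_comm_z hq, T.θ_act, hπ]; exact sigma_facts.2.2.2.2.2.1
  rcases D.eq_or_eq_of_π_eq hq (D.sub.conj_mem T.θ_comm_z hq) h1.symm with e | e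
  · exact mul_inv_eq_iff_eq_mul.1 e
  · exfalso
    apply D.sub.ne_one
    have hzz : θ * z * θ⁻¹ = z := mul_inv_eq_iff_eq_mul.2 T.θ_comm_z
    have h2 : θ * (θ * q * θ⁻¹) * θ⁻¹ = q := by
      rw [e, show θ * (z * q) * θ⁻¹ = θ * z * θ⁻¹ * (θ * q * θ⁻¹) by group, hzz, e, ← mul_assoc,
        D.sub.mul_self, one_mul]
    have h3 : θ * (θ * (θ * q * θ⁻¹) * θ⁻¹) * θ⁻¹ = q := by
      rw [show θ * (θ * (θ * q * θ⁻¹) * θ⁻¹) * θ⁻¹ = θ * θ * θ * q * (θ * θ * θ)⁻¹ by group,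
        T.θ_cube]
      group
    rw [h2, e] at h3
    exact mul_eq_right.1 h3

theorem exists_p : ∃ p ∈ P, p * z ≠ z * p ∧ θ * p = p * θ := by
  have F := T.frame
  let f : {p : G // p ∈ P ∧ p * z ≠ z * p} → {p : G // p ∈ P ∧ p * z ≠ z * p} := fun p =>
    ⟨θ * p.1 * θ⁻¹, F.pair.subP.conj_mem T.θ_comm_s p.2.1, fun h => p.2.2 (by
      have h2 := (Commute.conj_iff θ⁻¹).2 (show Commute (θ * p.1 * θ⁻¹) z from h)
      rw [show θ⁻¹ * (θ * p.1 * θ⁻¹) * θ⁻¹⁻¹ = p.1 by group,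
        mul_inv_eq_iff_eq_mul.2 (Commute.inv_left T.θ_comm_z).eq] at h2
      exact h2.eq)⟩
  obtain ⟨p, hp⟩ := exists_fixed_of_cube f (fun p => Subtype.ext (by
    show θ * (θ * (θ * p.1 * θ⁻¹) * θ⁻¹) * θ⁻¹ = p.1
    rw [show θ * (θ * (θ * p.1 * θ⁻¹) * θ⁻¹) * θ⁻¹ = θ * θ * θ * p.1 * (θ * θ * θ)⁻¹ by group,
      T.θ_cube]
    group)) F.card_P_not_comm
  exact ⟨p.1, p.2.1, p.2.2, mul_inv_eq_iff_eq_mul.1 (congrArg Subtype.val hp)⟩

/-- The classes of the conjugates of `t` which generate four groups with `θ`. -/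
theorem six {x : G} {A U : V6} (h : T.frame.Cl x A U) (h2 : x * x = 1) (h1 : x ≠ 1)
    (hn : ¬ IsConj z x) (hrel : x * (θ * x * θ⁻¹) = θ * θ * x * (θ * θ)⁻¹) :
    (A, U) ∈ sixList := by
  obtain ⟨hA, hU, hb⟩ := T.frame.aniso_of_not_isConj h h2 h1 hn
  have h' := h.mul (T.conj_θ h)
  rw [hrel] at h'
  obtain ⟨e1, e2⟩ := h'.unique (T.conj_θθ h)
  exact six_classify h.inU_left h.inU_right hA hU hb e1 e2

theorem exists_orbit {x x' : G} {A U A' U' : V6} (h : T.frame.Cl x A U) (h' : T.frame.Cl x' A' U')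
    (hm : (A, U) ∈ sixList) (hm' : (A', U') ∈ sixList)
    (ho : decide (U = sig A) = decide (U' = sig A')) :
    ∃ k i j, (k = 1 ∨ k = θ ∨ k = θ * θ) ∧ x' = zE z s i j * (k * x * k⁻¹) := by
  rcases six_orbit _ hm _ hm' ho with e | e | e <;> simp only [Prod.mk.injEq] at e <;>
    obtain ⟨rfl, rfl⟩ := e
  · obtain ⟨i, j, e⟩ := h.eq_zE_mul h'
    exact ⟨1, i, j, Or.inl rfl, by simp [e]⟩
  · obtain ⟨i, j, e⟩ := (T.conj_θ h).eq_zE_mul h'
    exact ⟨θ, i, j, Or.inr (Or.inl rfl), e⟩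
  · obtain ⟨i, j, e⟩ := (T.conj_θθ h).eq_zE_mul h'
    exact ⟨θ * θ, i, j, Or.inr (Or.inr rfl), e⟩

/-- An element cycling `z, s, z * s` which centralises `θ` and the four group. -/
theorem exists_rho : ∃ ρ, ρ * z * ρ⁻¹ = s ∧ ρ * s * ρ⁻¹ = z * s ∧ ρ * θ = θ * ρ ∧
    ρ * t = t * ρ := by
  have F := T.frame
  obtain ⟨q, hq, hqb, hqθ⟩ := T.exists_q
  obtain ⟨p, hp, hpz, hpθ⟩ := T.exists_p
  obtain ⟨a, ha⟩ : ∃ a, a = q * p := ⟨_, rfl⟩
  have hzz := F.data.sub.mul_self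
  have hqz := F.conj_z_of_mem hq
  have hqs := (F.moves_s hq hqb).1
  have hps : p * s * p⁻¹ = s := mul_inv_eq_iff_eq_mul.2 (F.W_comm_s hp)
  have hpz' := F.conj_of_mem_P hp hpz
  have hzzs : z * (z * s) = s := by rw [← mul_assoc, hzz, one_mul]
  have haz : a * z * a⁻¹ = s := by
    rw [ha, show q * p * z * (q * p)⁻¹ = q * (p * z * p⁻¹) * q⁻¹ by group, hpz',
      show q * (z * s) * q⁻¹ = q * z * q⁻¹ * (q * s * q⁻¹) by group, hqz, hqs, hzzs]
  have has : a * s * a⁻¹ = z * s := by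
    rw [ha, show q * p * s * (q * p)⁻¹ = q * (p * s * p⁻¹) * q⁻¹ by group, hps, hqs]
  have haE : ∀ i j, ∃ i' j', a * zE z s i j * a⁻¹ = zE z s i' j' := by
    intro i j
    obtain ⟨i', j', e⟩ := F.exists_zE (e := a * zE z s i j * a⁻¹) (by
      rcases F.memE_zE i j with e | e | e | e <;> rw [e]
      · exact Or.inl (by group)
      · exact Or.inr (Or.inr (Or.inl haz))
      · exact Or.inr (Or.inr (Or.inr has))
      · refine Or.inr (Or.inl ?_)
        rw [show a * (z * s) * a⁻¹ = a * z * a⁻¹ * (a * s * a⁻¹) by group, haz, has,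
          ← mul_assoc, F.s_comm, mul_assoc, F.s_mul_self, mul_one])
    exact ⟨i', j', e⟩
  have haE' : ∀ i j, ∃ i' j', a * zE z s i' j' * a⁻¹ = zE z s i j := by
    intro i j
    cases i <;> cases j
    · exact ⟨false, false, by rw [F.zE_ff]; group⟩
    · exact ⟨true, false, by rw [F.zE_tf, F.zE_ft, haz]⟩
    · refine ⟨true, true, ?_⟩
      rw [F.zE_tt, F.zE_tf, show a * (z * s) * a⁻¹ = a * z * a⁻¹ * (a * s * a⁻¹) by group, haz, has,
        ← mul_assoc, F.s_comm, mul_assoc, F.s_mul_self, mul_one]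
    · exact ⟨false, true, by rw [F.zE_tt, F.zE_ft, has]⟩
  have haθ : θ * a = a * θ := by rw [ha]; exact (Commute.mul_right hqθ hpθ).eq
  have hR : ∀ {x : G} {A U : V6}, F.Cl x A U → ∃ A' U', F.Cl (a * x * a⁻¹) A' U' := by
    intro x A U h
    obtain ⟨A1, U1, h1⟩ := F.exists_cl_conj_P hp hpz h
    refine ⟨A1 + U1, U1, ?_⟩
    rw [ha, show q * p * x * (q * p)⁻¹ = q * (p * x * p⁻¹) * q⁻¹ by group]
    exact h1.conjQ hq hqb
  have hkθ : ∀ k : G, (k = 1 ∨ k = θ ∨ k = θ * θ) →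
      k * z = z * k ∧ k * s = s * k ∧ k * θ = θ * k ∧ k * a = a * k := by
    rintro k (rfl | rfl | rfl)
    · simp
    · exact ⟨T.θ_comm_z, T.θ_comm_s, rfl, haθ⟩
    · exact ⟨(Commute.mul_left T.θ_comm_z T.θ_comm_z).eq, (Commute.mul_left T.θ_comm_s T.θ_comm_s).eq,
        by group, (Commute.mul_left haθ haθ).eq⟩
  -- conjugates of `t` keep its properties
  have hstep : ∀ {x : G} {A U : V6}, F.Cl x A U → x * x = 1 → x ≠ 1 → ¬ IsConj z x →
      x * (θ * x * θ⁻¹) = θ * θ * x * (θ * θ)⁻¹ →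
      ∃ A' U', F.Cl (a * x * a⁻¹) A' U' ∧ a * x * a⁻¹ * (a * x * a⁻¹) = 1 ∧ a * x * a⁻¹ ≠ 1 ∧
        ¬ IsConj z (a * x * a⁻¹) ∧ a * x * a⁻¹ * (θ * (a * x * a⁻¹) * θ⁻¹) =
          θ * θ * (a * x * a⁻¹) * (θ * θ)⁻¹ := by
    intro x A U h h2 h1 hn hrel
    obtain ⟨A', U', h'⟩ := hR h
    have hc : IsConj x (a * x * a⁻¹) := isConj_iff.2 ⟨a, rfl⟩
    have e1 : θ * (a * x * a⁻¹) * θ⁻¹ = a * (θ * x * θ⁻¹) * a⁻¹ := by
      rw [show θ * (a * x * a⁻¹) * θ⁻¹ = θ * a * x * (θ * a)⁻¹ by group, haθ]; group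
    refine ⟨A', U', h', by rw [show a * x * a⁻¹ * (a * x * a⁻¹) = a * (x * x) * a⁻¹ by group, h2]; group,
      fun e => h1 (conj_eq_one_iff.1 e), fun e => hn (e.trans hc.symm), ?_⟩
    rw [e1, show a * x * a⁻¹ * (a * (θ * x * θ⁻¹) * a⁻¹) = a * (x * (θ * x * θ⁻¹)) * a⁻¹ by group,
      hrel, show θ * θ * (a * x * a⁻¹) * (θ * θ)⁻¹ = θ * θ * a * x * (θ * θ * a)⁻¹ by group,
      (Commute.mul_left haθ haθ).eq]
    group
  obtain ⟨A1, U1, h1, h12, h11, h1n, h1r⟩ := hstep T.cl T.t_sq T.t_ne_one T.not_isConj_z T.rel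
  obtain ⟨A2, U2, h2, h22, h21, h2n, h2r⟩ := hstep h1 h12 h11 h1n h1r
  have m1 := T.six h1 h12 h11 h1n h1r
  have m2 := T.six h2 h22 h21 h2n h2r
  have hI : decide (u0 = sig a0) = true := decide_eq_true six_std.2
  have hIcl : ∀ k : G, (k = 1 ∨ k = θ ∨ k = θ * θ) → ∀ i j A U,
      F.Cl (zE z s i j * (k * t * k⁻¹)) A U → decide (U = sig A) = true := by
    intro k hk i j A U h
    have h' : ∃ A' U', F.Cl (k * t * k⁻¹) A' U' ∧ U' = sig A' := by
      rcases hk with hk | hk | hk <;> rw [hk]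
      · exact ⟨a0, u0, by simpa using T.cl, six_std.2⟩
      · exact ⟨_, _, T.conj_θ T.cl, by rw [← six_std.2]⟩
      · exact ⟨_, _, T.conj_θθ T.cl, by rw [← six_std.2]⟩
    obtain ⟨A', U', hcl, hsig⟩ := h'
    obtain ⟨rfl, rfl⟩ := h.unique (hcl.zE_mul_left i j)
    exact decide_eq_true hsig
  -- the square of `a` keeps the orbit of `t`
  have ho : decide (u0 = sig a0) = decide (U2 = sig A2) := by
    rw [hI]
    cases hd1 : decide (U1 = sig A1) <;> cases hd2 : decide (U2 = sig A2)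
    · exfalso
      obtain ⟨k, i, j, hk, e⟩ := T.exists_orbit h1 h2 m1 m2 (hd1.trans hd2.symm)
      obtain ⟨-, -, -, hka⟩ := hkθ k hk
      obtain ⟨i', j', e'⟩ := haE' i j
      have e3 : a * t * a⁻¹ = zE z s i' j' * (k * t * k⁻¹) := by
        have e4 : a * (a * t * a⁻¹) * a⁻¹ = a * (zE z s i' j' * (k * t * k⁻¹)) * a⁻¹ := by
          rw [e, show a * (zE z s i' j' * (k * t * k⁻¹)) * a⁻¹ =
            a * zE z s i' j' * a⁻¹ * (a * k * t * (a * k)⁻¹) by group, e', ← hka]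
          group
        exact mul_left_cancel (mul_right_cancel e4)
      have hI1 := hIcl k hk i' j' A1 U1 (by rw [← e3]; exact h1)
      rw [hI1] at hd1
      exact Bool.noConfusion hd1
    · rfl
    · exfalso
      -- `a t a⁻¹` lies in the orbit of `t`, so does its conjugate under `a`
      obtain ⟨k, i, j, hk, e⟩ := T.exists_orbit T.cl h1 six_std.1 m1 (hI.trans hd1.symm)
      obtain ⟨hkz, hks, -, hka⟩ := hkθ k hk
      obtain ⟨i', j', e'⟩ := haE i j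
      have e3 : a * (a * t * a⁻¹) * a⁻¹ = zE z s (xor i' i) (xor j' j) * (k * k * t * (k * k)⁻¹) := by
        conv_lhs => rw [e]
        rw [show a * (zE z s i j * (k * t * k⁻¹)) * a⁻¹ =
          a * zE z s i j * a⁻¹ * (a * k * t * (a * k)⁻¹) by group, e', ← hka,
          show k * a * t * (k * a)⁻¹ = k * (a * t * a⁻¹) * k⁻¹ by group, e,
          show k * (zE z s i j * (k * t * k⁻¹)) * k⁻¹ =
            k * zE z s i j * k⁻¹ * (k * k * t * (k * k)⁻¹) by group, F.zE_conj hkz hks,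
          ← mul_assoc, F.zE_mul]
      have hk2 : k * k = 1 ∨ k * k = θ ∨ k * k = θ * θ := by
        rcases hk with rfl | rfl | rfl
        · exact Or.inl (one_mul 1)
        · exact Or.inr (Or.inr rfl)
        · exact Or.inr (Or.inl (by rw [← mul_assoc, T.θ_cube, one_mul]))
      have hI2 := hIcl (k * k) hk2 _ _ A2 U2 (by rw [← e3]; exact h2)
      rw [hI2] at hd2
      exact Bool.noConfusion hd2
    · rfl
  obtain ⟨k, i, j, hk, e⟩ := T.exists_orbit T.cl h2 six_std.1 m2 ho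
  obtain ⟨hkz, hks, hkt, hka⟩ := hkθ k hk
  obtain ⟨b, hb⟩ : ∃ b, b = k⁻¹ * (a * a) := ⟨_, rfl⟩
  have hbt : b * t * b⁻¹ = zE z s i j * t := by
    rw [hb, show k⁻¹ * (a * a) * t * (k⁻¹ * (a * a))⁻¹ = k⁻¹ * (a * (a * t * a⁻¹) * a⁻¹) * k by group,
      e, show k⁻¹ * (zE z s i j * (k * t * k⁻¹)) * k = k⁻¹ * zE z s i j * k * t by group]
    have := F.zE_conj (Commute.inv_left hkz).eq (Commute.inv_left hks).eq i j
    rw [inv_inv] at this
    rw [this]
  have hbθ : θ * b = b * θ := by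
    rw [hb]
    exact (Commute.mul_right (Commute.inv_right hkt.symm) (Commute.mul_right haθ haθ)).eq
  have hEθ := F.zE_conj T.θ_comm_z T.θ_comm_s i j
  have hbe : b * t * b⁻¹ = t := by
    have r : b * (t * (θ * t * θ⁻¹)) * b⁻¹ = b * (θ * θ * t * (θ * θ)⁻¹) * b⁻¹ := by rw [T.rel]
    rw [show b * (t * (θ * t * θ⁻¹)) * b⁻¹ = b * t * b⁻¹ * (b * θ * t * (b * θ)⁻¹) by group,
      ← hbθ, show θ * b * t * (θ * b)⁻¹ = θ * (b * t * b⁻¹) * θ⁻¹ by group,
      show b * (θ * θ * t * (θ * θ)⁻¹) * b⁻¹ = b * (θ * θ) * t * (b * (θ * θ))⁻¹ by group,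
      show b * (θ * θ) = θ * θ * b from (Commute.mul_right hbθ.symm hbθ.symm).eq,
      show θ * θ * b * t * (θ * θ * b)⁻¹ = θ * θ * (b * t * b⁻¹) * (θ * θ)⁻¹ by group, hbt,
      show θ * (zE z s i j * t) * θ⁻¹ = θ * zE z s i j * θ⁻¹ * (θ * t * θ⁻¹) by group, hEθ,
      show θ * θ * (zE z s i j * t) * (θ * θ)⁻¹ =
        θ * (θ * zE z s i j * θ⁻¹) * θ⁻¹ * (θ * θ * t * (θ * θ)⁻¹) by group, hEθ, hEθ,
      mul_assoc, ← mul_assoc t, F.zE_comm T.cl.comm_z T.cl.comm_s i j, mul_assoc (zE z s i j) t,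
      ← mul_assoc (zE z s i j) (zE z s i j), F.zE_mul_self, one_mul, T.rel] at r
    rw [hbt, mul_eq_right.1 r.symm, one_mul]
  have hzzs' : ∀ x : G, z * (z * x) = x := fun x => by rw [← mul_assoc, hzz, one_mul]
  have hbs : b * s * b⁻¹ = z := by
    rw [hb, show k⁻¹ * (a * a) * s * (k⁻¹ * (a * a))⁻¹ = k⁻¹ * (a * (a * s * a⁻¹) * a⁻¹) * k by group,
      has, show a * (z * s) * a⁻¹ = a * z * a⁻¹ * (a * s * a⁻¹) by group, haz, has, ← mul_assoc s,
      F.s_comm, mul_assoc z, F.s_mul_self, mul_one, mul_assoc, ← hkz, inv_mul_cancel_left]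
  have hbzs : b * (z * s) * b⁻¹ = s := by
    have hbz : b * z * b⁻¹ = z * s := by
      rw [hb, show k⁻¹ * (a * a) * z * (k⁻¹ * (a * a))⁻¹ = k⁻¹ * (a * (a * z * a⁻¹) * a⁻¹) * k by group,
        haz, has, mul_assoc, ← (Commute.mul_right hkz hks).eq, inv_mul_cancel_left]
    rw [show b * (z * s) * b⁻¹ = b * z * b⁻¹ * (b * s * b⁻¹) by group, hbz, hbs, mul_assoc, F.s_comm,
      hzzs']
  refine ⟨b⁻¹, ?_, ?_, (Commute.inv_left hbθ.symm).eq,
    (Commute.inv_left (mul_inv_eq_iff_eq_mul.1 hbe)).eq⟩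
  · conv_lhs => rw [← hbs]
    group
  · conv_lhs => rw [← hbzs]
    group

end Four

end CfsgLib.SuzType
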