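import Cfsg.Agent.SuzType.Order
import Cfsg.Agent.GLBlocks.Three

/-!
# Elements of order seven in `K`
-/

set_option autoImplicit false
set_option linter.style.haveILetI false

namespace CfsgLib.SuzType

open CfsgLib.LargeExtraspecial

/-- The normalizer of a subgroup of order seven in a group where this is a Sylow subgroup. -/
theorem sylow_seven_counts {G : Type*} [Group G] [Finite G] {m : ℕ} (hG : Nat.card G = 7 * m)
    (hm : ¬ 7 ∣ m) {B : Subgroup G} (hB : Nat.card B = 7) :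
    ∃ n : ℕ, n % 7 = 1 ∧ n * Nat.card (Subgroup.normalizer (B : Set G)) = Nat.card G ∧
      Nat.card (Subgroup.centralizer (B : Set G)) ∣ Nat.card (Subgroup.normalizer (B : Set G)) ∧
      Nat.card (Subgroup.normalizer (B : Set G)) ∣ Nat.card (Subgroup.centralizer (B : Set G)) * 6 := by
  have : Fact (Nat.Prime 7) := ⟨by norm_num⟩
  have hB7 : Nat.card B = 7 ^ (Nat.card G).factorization 7 := by
    rw [hB, hG, Nat.factorization_mul (by norm_num) (fun h => hm (by rw [h]; norm_num)),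
      Finsupp.add_apply, Nat.Prime.factorization_self (by norm_num),
      Nat.factorization_eq_zero_of_not_dvd hm]
    norm_num
  let P : Sylow 7 G := Sylow.ofCard B hB7
  have hP : (P : Subgroup G) = B := rfl
  have hn1 : Nat.card (Sylow 7 G) % 7 = 1 := card_sylow_modEq_one 7 G
  have hn2 := P.card_eq_index_normalizer
  obtain ⟨N, hN⟩ : ∃ N, N = Subgroup.normalizer (B : Set G) := ⟨_, rfl⟩
  rw [← hN]
  have hidx : N.index = Nat.card (Sylow 7 G) := by rw [hn2, hN]; rfl
  refine ⟨Nat.card (Sylow 7 G), hn1, by rw [← hidx, mul_comm]; exact N.card_mul_index,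
    Subgroup.card_dvd_of_le (hN ▸ Subgroup.centralizer_le_normalizer (B : Set G)), ?_⟩
  subst hN
  have hker : Nat.card B.normalizerMonoidHom.ker = Nat.card (Subgroup.centralizer (B : Set G)) := by
    rw [B.normalizerMonoidHom_ker]
    exact Nat.card_congr
      (Subgroup.subgroupOfEquivOfLe (Subgroup.centralizer_le_normalizer (B : Set G))).toEquiv
  have haut : Nat.card (MulAut B) = 6 := by
    have : IsCyclic B := isCyclic_of_prime_card hB
    rw [IsCyclic.card_mulAut, hB, Nat.totient_prime (by norm_num)]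
  rw [← hker, ← B.normalizerMonoidHom.ker.card_mul_index, Subgroup.index_ker, ← haut]
  exact Nat.mul_dvd_mul_left _ B.normalizerMonoidHom.range.card_subgroup_dvd_card

/-- The elements commuting with a generator of order seven of a cyclic centralizer. -/
theorem card_zpowers_seven {G : Type*} [Group G] {b : G} (hb : orderOf b = 7) :
    Nat.card (Subgroup.zpowers b) = 7 := by rw [Nat.card_zpowers, hb]

namespace Four

variable {G : Type*} [Group G] [Finite G] {z s θ t : G} {Q P : Subgroup G} {π : G → V6}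
  (T : Four z Q π P s θ t)
include T

theorem card_quot : Nat.card (Kgrp θ t ⧸ T.Vk) = 20160 := by
  have h := Subgroup.card_eq_card_quotient_mul_card_subgroup T.Vk
  rw [T.card_K, T.card_Vk] at h
  omega

theorem orders_quot (q : Kgrp θ t ⧸ T.Vk) :
    orderOf q ∣ 7 ∨ orderOf q ∣ 5 ∨ orderOf q ∣ 3 ∨ orderOf q ∣ 2 ∨ orderOf q ∣ 4 := by
  obtain ⟨F, hF1, hF2, hF4, ⟨e⟩⟩ := T.quot_equiv
  haveI : Fact (Nat.Prime 2) := ⟨Nat.prime_two⟩
  haveI : CharP F 2 := ringChar.of_eq (FiniteField.even_card_iff_char_two.2 (by rw [hF4]))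
  have h : orderOf (e q) ∈ Set.range
      (orderOf : Matrix.ProjectiveSpecialLinearGroup (Fin 3) F → ℕ) := ⟨_, rfl⟩
  rw [CfsgLib.GLBlocks.range_orderOf_three 2, e.orderOf_eq] at h
  simp only [Set.mem_setOf_eq, hF4] at h
  norm_num at h
  tauto

/-- The centralizer of an element of order seven in the quotient. -/
theorem card_cent_seven_quot {q : Kgrp θ t ⧸ T.Vk} (hq : orderOf q = 7) :
    Nat.card (Subgroup.centralizer (Subgroup.zpowers q : Set (Kgrp θ t ⧸ T.Vk))) = 7 := by
  obtain ⟨C, hC⟩ : ∃ C, C = Subgroup.centralizer (Subgroup.zpowers q : Set (Kgrp θ t ⧸ T.Vk)) :=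
    ⟨_, rfl⟩
  rw [← hC]
  have hmem : ∀ x ∈ C, Commute q x := fun x hx =>
    Subgroup.mem_centralizer_iff.1 (hC ▸ hx) q (Subgroup.mem_zpowers q)
  have h7 : ∀ x ∈ C, x ^ 7 = 1 := by
    intro x hx
    refine orderOf_dvd_iff_pow_eq_one.1 ?_
    have hsmall : ∀ k, Nat.Coprime 7 k → orderOf x = k → k ∣ 1 := by
      intro k hk hxk
      have h := (hmem x hx).orderOf_mul_eq_mul_orderOf_of_coprime (by rw [hq, hxk]; exact hk)
      rw [hq, hxk] at h
      have hpos : 0 < k := hxk ▸ orderOf_pos x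
      rcases T.orders_quot (q * x) with h' | h' | h' | h' | h' <;> rw [h] at h' <;>
        have hle := Nat.le_of_dvd (by norm_num) h' <;>
        [skip; omega; omega; omega; omega]
      rw [Nat.dvd_one]
      omega
    rcases T.orders_quot x with h | h | h | h | h
    · exact h
    all_goals
      refine (hsmall _ ?_ rfl).trans (one_dvd _)
      exact Nat.Coprime.coprime_dvd_right h (by norm_num)
  haveI : Fact (Nat.Prime 7) := ⟨by norm_num⟩
  have hp : IsPGroup 7 C := fun x => ⟨1, Subtype.ext (by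
    rw [pow_one, SubmonoidClass.coe_pow]; exact h7 x x.2)⟩
  obtain ⟨k, hk⟩ := IsPGroup.iff_card.1 hp
  have hdvd := C.card_subgroup_dvd_card
  rw [hk, T.card_quot] at hdvd
  have hle : Subgroup.zpowers q ≤ C := fun x hx => by
    rw [hC, Subgroup.mem_centralizer_iff]
    intro y hy
    obtain ⟨i, rfl⟩ := Subgroup.mem_zpowers_iff.1 hx
    obtain ⟨j, rfl⟩ := Subgroup.mem_zpowers_iff.1 hy
    exact ((Commute.refl q).zpow_zpow j i).eq
  have h1 := Subgroup.card_le_of_le hle
  rw [card_zpowers_seven hq, hk] at h1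
  rcases k with _ | _ | k
  · norm_num at h1
  · rw [hk, pow_one]
  · exfalso
    have : 49 ∣ 20160 := (Dvd.intro (7 ^ k) (by ring)).trans hdvd
    norm_num at this

/-- The normalizer of a subgroup of order seven in the quotient. -/
theorem card_normalizer_seven_quot {q : Kgrp θ t ⧸ T.Vk} (hq : orderOf q = 7) :
    Nat.card (Subgroup.normalizer (Subgroup.zpowers q : Set (Kgrp θ t ⧸ T.Vk))) = 21 := by
  obtain ⟨n, hn, hN, h1, h2⟩ := sylow_seven_counts (m := 2880)
    (by rw [T.card_quot]) (by norm_num) (card_zpowers_seven hq)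
  rw [T.card_cent_seven_quot hq] at h1 h2
  rw [T.card_quot] at hN
  obtain ⟨k, hk⟩ := h1
  rw [hk] at h2 hN ⊢
  have hk6 : k ∣ 6 := (Nat.mul_dvd_mul_iff_left (by norm_num)).1 h2
  have := Nat.le_of_dvd (by norm_num) hk6
  interval_cases k <;> omega

/-- No involution normalises a subgroup of order seven of the quotient. -/
theorem no_invol_normalizes {q u : Kgrp θ t ⧸ T.Vk} (hq : orderOf q = 7) (hu : orderOf u = 2)
    (hn : u * q * u⁻¹ = q⁻¹) : False := by
  obtain ⟨N, hN⟩ : ∃ N, N = Subgroup.normalizer (Subgroup.zpowers q : Set (Kgrp θ t ⧸ T.Vk)) :=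
    ⟨_, rfl⟩
  have huN : u ∈ N := by
    rw [hN, Subgroup.mem_normalizer_iff_map_conj_eq, MonoidHom.map_zpowers]
    show Subgroup.zpowers (u * q * u⁻¹) = _
    rw [hn, Subgroup.zpowers_inv]
  have h := N.orderOf_dvd_natCard huN
  rw [hu, hN, T.card_normalizer_seven_quot hq] at h
  norm_num at h

/-- An element of order seven of `K` has such an image. -/
theorem orderOf_quot_seven {b : Kgrp θ t} (hb : orderOf (b : G) = 7) :
    orderOf (b : Kgrp θ t ⧸ T.Vk) = 7 := by
  haveI : Fact (Nat.Prime 7) := ⟨by norm_num⟩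
  have hb' : b ^ 7 = 1 := Subtype.ext (by rw [SubmonoidClass.coe_pow, ← hb, pow_orderOf_eq_one]; rfl)
  refine orderOf_eq_prime (by rw [← QuotientGroup.mk_pow, hb', QuotientGroup.mk_one]) fun e => ?_
  have hv := T.mk_eq_one.1 e
  have h := orderOf_dvd_of_pow_eq_one (show (b : G) ^ 2 = 1 by rw [pow_two]; exact T.memV_sq hv)
  rw [hb] at h
  norm_num at h

/-- The centralizer in `K` of an element of order seven. -/
theorem cent_seven_K {b x : G} (hb : orderOf b = 7) (hbK : b ∈ Kgrp θ t) (hx : x ∈ Kgrp θ t)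
    (hc : x * b = b * x) : ∃ (i : ℤ) (v : G), MemV θ t v ∧ x = b ^ i * v := by
  obtain ⟨b', hb'⟩ : ∃ b' : Kgrp θ t, (b' : G) = b := ⟨⟨b, hbK⟩, rfl⟩
  obtain ⟨q, hqd⟩ : ∃ q : Kgrp θ t ⧸ T.Vk, q = b' := ⟨_, rfl⟩
  have hq : orderOf q = 7 := hqd ▸ T.orderOf_quot_seven (hb' ▸ hb)
  obtain ⟨C, hC⟩ : ∃ C, C = Subgroup.centralizer (Subgroup.zpowers q : Set (Kgrp θ t ⧸ T.Vk)) :=
    ⟨_, rfl⟩
  have hle : Subgroup.zpowers q ≤ C := fun y hy => by
    rw [hC, Subgroup.mem_centralizer_iff]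
    intro w hw
    obtain ⟨i, rfl⟩ := Subgroup.mem_zpowers_iff.1 hy
    obtain ⟨j, rfl⟩ := Subgroup.mem_zpowers_iff.1 hw
    exact ((Commute.refl q).zpow_zpow j i).eq
  have heq : Subgroup.zpowers q = C := Subgroup.eq_of_le_of_card_ge hle (by
    rw [hC, T.card_cent_seven_quot hq, card_zpowers_seven hq])
  have hxC : ((⟨x, hx⟩ : Kgrp θ t) : Kgrp θ t ⧸ T.Vk) ∈ C := by
    rw [hC, Subgroup.mem_centralizer_iff]
    intro w hw
    obtain ⟨j, rfl⟩ := Subgroup.mem_zpowers_iff.1 hw
    have : Commute (b' : Kgrp θ t) ⟨x, hx⟩ := Subtype.ext (by rw [Subgroup.coe_mul, Subgroup.coe_mul, hb']; exact hc.symm)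
    exact ((hqd ▸ (this.map (QuotientGroup.mk' T.Vk)) : Commute q _).zpow_left j).eq
  rw [← heq] at hxC
  obtain ⟨i, hi⟩ := Subgroup.mem_zpowers_iff.1 hxC
  rw [hqd, ← QuotientGroup.mk_zpow, QuotientGroup.eq] at hi
  refine ⟨i, _, T.mem_Vk.1 hi, ?_⟩
  rw [Subgroup.coe_mul, Subgroup.coe_inv, SubgroupClass.coe_zpow, hb']
  group

end Four

end CfsgLib.SuzType
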