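import Cfsg.Agent.SuzType.ThreeBits
import Cfsg.Agent.SuzType.Rho

/-!
# Elements of order three in `C(z)` acting on an anisotropic plane
-/

set_option autoImplicit false
set_option linter.style.haveILetI false

namespace CfsgLib.SuzType

theorem b6_nondeg : ∀ v : V6, (∀ w : V6, b6 w v = false) → v = 0 := by decide +kernel

theorem planeW : ∀ v : V6, q6 v = true → b6 v (mk6 3) = false → b6 v (mk6 13) = false →
    b6 v (mk6 12) = false → b6 v (mk6 7) = false → v = a0 ∨ v = u0 ∨ v = mk6 48 := by decide +kernel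

/-- Two elements of order three in one coset of a two group are conjugate by that group. -/
theorem conj_of_coset_two {G : Type*} [Group G] [Finite G] {R : Subgroup G} (hR : IsPGroup 2 R)
    {x y : G} (hx : x * x * x = 1) (hy : y * y * y = 1) (hn : ∀ r ∈ R, x * r * x⁻¹ ∈ R)
    (hxy : x⁻¹ * y ∈ R) : ∃ r ∈ R, r * y * r⁻¹ = x := by
  have hxy' : x * y⁻¹ ∈ R := by
    have := hn _ (inv_mem hxy)
    rwa [show x * (x⁻¹ * y)⁻¹ * x⁻¹ = x * y⁻¹ by group] at this
  have hmem : ∀ r : R, x * (r : G) * y⁻¹ ∈ R := fun r => by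
    have := mul_mem (hn _ r.2) hxy'
    rwa [show x * (r : G) * x⁻¹ * (x * y⁻¹) = x * r * y⁻¹ by group] at this
  have h3 : ¬ 3 ∣ Nat.card R := by
    obtain ⟨k, hk⟩ := hR.exists_card_eq
    rw [hk]
    intro h
    have := Nat.Prime.dvd_of_dvd_pow Nat.prime_three h
    norm_num at this
  obtain ⟨r, hr⟩ := exists_fixed_of_cube (fun r : R => (⟨x * r * y⁻¹, hmem r⟩ : R)) (fun r => by
    apply Subtype.ext
    show x * (x * (x * (r : G) * y⁻¹) * y⁻¹) * y⁻¹ = r
    rw [show x * (x * (x * (r : G) * y⁻¹) * y⁻¹) * y⁻¹ = x * x * x * r * (y * y * y)⁻¹ by group,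
      hx, hy]
    group) h3
  have e : x * (r : G) * y⁻¹ = r := congrArg Subtype.val hr
  refine ⟨r, r.2, ?_⟩
  rw [← mul_inv_eq_iff_eq_mul.1 e]
  group

namespace Data

variable {G : Type*} [Group G] [Finite G] {z : G} {Q : Subgroup G} {π : G → V6} (D : Data z Q π)
include D

theorem isPGroup_Q : IsPGroup 2 Q := IsPGroup.of_card (n := 7) (by rw [D.card]; norm_num)

theorem act_inv_cancel {c : G} (hc : c * z = z * c) (v : V6) :
    D.act c⁻¹ (D.act c v) = v ∧ D.act c (D.act c⁻¹ v) = v := by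
  have hci : c⁻¹ * z = z * c⁻¹ := (Commute.inv_left hc).eq
  rw [← D.act_mul hci hc, ← D.act_mul hc hci, inv_mul_cancel, mul_inv_cancel, D.act_one]
  exact ⟨rfl, rfl⟩

theorem mem_of_act_eq {c d : G} (hc : c * z = z * c) (hd : d * z = z * d)
    (h : ∀ v, D.act c v = D.act d v) : c⁻¹ * d ∈ Q := by
  have hci : c⁻¹ * z = z * c⁻¹ := (Commute.inv_left hc).eq
  exact D.mem_of_act (Commute.mul_left hci hd).eq fun v => by
    rw [D.act_mul hci hd, ← h, (D.act_inv_cancel hc v).1]

/-- Elements of order three with conjugate actions are conjugate. -/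
theorem exists_conj_of_act {c x y : G} (hc : c * z = z * c) (hx : x * z = z * x) (hy : y * z = z * y)
    (hx3 : x * x * x = 1) (hy3 : y * y * y = 1)
    (h : ∀ v, D.act y (D.act c v) = D.act c (D.act x v)) :
    ∃ d, d * z = z * d ∧ d * x * d⁻¹ = y ∧ ∀ v, D.act d v = D.act c v := by
  have hci : c⁻¹ * z = z * c⁻¹ := (Commute.inv_left hc).eq
  have hcx : c * x * c⁻¹ * z = z * (c * x * c⁻¹) := ((Commute.mul_left hc hx).mul_left hci).eq
  obtain ⟨q, hq, hqe⟩ := conj_of_coset_two D.isPGroup_Q hy3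
    (y := c * x * c⁻¹) (by rw [show c * x * c⁻¹ * (c * x * c⁻¹) * (c * x * c⁻¹) = c * (x * x * x) * c⁻¹ by group, hx3, mul_one, mul_inv_cancel])
    (fun r hr => D.sub.conj_mem hy hr) (D.mem_of_act_eq hy hcx fun v => by
      rw [D.act_mul (Commute.mul_left hc hx).eq hci, D.act_mul hc hx, ← h, (D.act_inv_cancel hc v).2])
  refine ⟨q * c, (Commute.mul_left (D.Q_comm hq) hc).eq, ?_, fun v => ?_⟩
  · rw [← hqe]; group
  · rw [D.act_mul (D.Q_comm hq) hc, D.act_of_mem hq]

/-- `C(z)` is transitive on ordered anisotropic pairs. -/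
theorem exists_move {a b : V6} (ha : q6 a = true) (hb : q6 b = true) (hab : b6 a b = true) :
    ∃ c, c * z = z * c ∧ D.act c a0 = a ∧ D.act c u0 = b := by
  have h1 : ∀ v ∈ nsList, ∃ c, c * z = z * c ∧ D.act c a0 = v :=
    chainOK_prop (P := fun v => ∃ c, c * z = z * c ∧ D.act c a0 = v) ⟨1, by simp, D.act_one _⟩
      (fun g hgm v hv => by
        obtain ⟨p, hp, rfl⟩ := List.mem_map.1 hgm
        obtain ⟨c, hc, hcv⟩ := hv
        obtain ⟨d, hd, hdv⟩ := D.exists_pr (allGens_ok p hp)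
        exact ⟨d * c, (Commute.mul_left hd hc).eq, by rw [D.act_mul hd hc, hcv, hdv]⟩)
      nsList nsList_facts.1
  have h2 : ∀ v ∈ partnerList, ∃ c, c * z = z * c ∧ D.act c a0 = a0 ∧ D.act c u0 = v :=
    chainOK_prop (P := fun v => ∃ c, c * z = z * c ∧ D.act c a0 = a0 ∧ D.act c u0 = v)
      ⟨1, by simp, D.act_one _, D.act_one _⟩
      (fun g hgm v hv => by
        obtain ⟨p, hp, rfl⟩ := List.mem_map.1 hgm
        obtain ⟨c, hc, hca, hcv⟩ := hv
        obtain ⟨hok, hpa⟩ := partnerList_facts.2.1 p hp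
        obtain ⟨d, hd, hdv⟩ := D.exists_pr hok
        exact ⟨d * c, (Commute.mul_left hd hc).eq, by rw [D.act_mul hd hc, hca, hdv, hpa],
          by rw [D.act_mul hd hc, hcv, hdv]⟩)
      partnerList partnerList_facts.1
  obtain ⟨c, hc, hca⟩ := h1 a (nsList_facts.2 a ha)
  have hci : c⁻¹ * z = z * c⁻¹ := (Commute.inv_left hc).eq
  have hinv : D.act c⁻¹ a = a0 := by rw [← hca, (D.act_inv_cancel hc _).1]
  obtain ⟨d, hd, hda, hdv⟩ := h2 (D.act c⁻¹ b) (partnerList_facts.2.2 _
    (by rw [(D.act_iso hci).quad, hb]) (by rw [← hinv, (D.act_iso hci).polar, hab]))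
  exact ⟨c * d, (Commute.mul_left hc hd).eq, by rw [D.act_mul hc hd, hda, hca],
    by rw [D.act_mul hc hd, hdv, (D.act_inv_cancel hc b).2]⟩

end Data

namespace Four

variable {G : Type*} [Group G] [Finite G] {z s θ t : G} {Q P : Subgroup G} {π : G → V6}
  (T : Four z Q π P s θ t)
include T

theorem θ_act' (v : V6) : T.frame.data.act θ v = sigW v := T.θ_act v

theorem θ_mem_iff {x : G} (hx : x ∈ Q) : x * θ = θ * x ↔ Low (π x) := by
  have D := T.frame.data
  have hπ : π (θ * x * θ⁻¹) = sigW (π x) := by rw [← D.act_π T.θ_comm_z hx, T.θ_act']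
  constructor
  · intro h
    show sigW (π x) = π x
    rw [← hπ, mul_inv_eq_iff_eq_mul.2 h.symm]
  · intro h
    rcases D.eq_or_eq_of_π_eq hx (D.sub.conj_mem T.θ_comm_z hx) (by rw [hπ]; exact h.symm) with e | e
    · exact (mul_inv_eq_iff_eq_mul.1 e).symm
    · exfalso
      have hz : ∀ r, θ * (z * r) * θ⁻¹ = z * (θ * r * θ⁻¹) := fun r => by
        rw [← mul_assoc, T.θ_comm_z]; group
      have e3 : θ * θ * θ * x * (θ * θ * θ)⁻¹ = z * x := by
        rw [show θ * θ * θ * x * (θ * θ * θ)⁻¹ = θ * (θ * (θ * x * θ⁻¹) * θ⁻¹) * θ⁻¹ by group, e,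
          hz, e, hz, hz, e, ← mul_assoc z z, D.sub.mul_self, one_mul]
      rw [T.θ_cube, one_mul, inv_one, mul_one] at e3
      exact D.sub.ne_one (mul_eq_right.1 e3.symm)

/-- An element of order three whose commutators with `Q` lie over a plane is conjugate to `θ`. -/
theorem exists_conj_theta {y : G} (hy : y * z = z * y) (hy3 : y * y * y = 1) (hyQ : y ∉ Q)
    (S : Finset V6) (hS : S.card ≤ 4) (hmem : ∀ v, T.frame.data.act y v + v ∈ S) :
    ∃ d, d * z = z * d ∧ d * θ * d⁻¹ = y := by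
  classical
  have D := T.frame.data
  obtain ⟨f, hf⟩ : ∃ f, f = T.frame.data.act y := ⟨_, rfl⟩
  have hiso : IsIso6 f := hf ▸ D.act_iso hy
  have hcube : ∀ v, f (f (f v)) = v := fun v => by
    rw [hf, ← D.act_mul hy hy, ← D.act_mul (Commute.mul_left hy hy).eq hy, hy3, D.act_one]
  obtain ⟨v, hv⟩ : ∃ v, f v ≠ v := by
    by_contra! h
    exact hyQ (D.mem_of_act hy (hf ▸ h))
  obtain ⟨a, ha⟩ : ∃ a, a = f v + v := ⟨_, rfl⟩
  obtain ⟨b, hb⟩ : ∃ b, b = f a := ⟨_, rfl⟩
  have hfb : f b = a + b := by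
    apply eq_of_add_eq_zero6
    rw [hb, ha, hiso.add, hiso.add, hcube]
    calc v + f (f v) + (f v + v + (f (f v) + f v))
        = (v + v) + (f (f v) + f (f v)) + (f v + f v) := by abel
      _ = 0 := by simp only [add_self6, add_zero]
  have ha0 : a ≠ 0 := fun e => hv (eq_of_add_eq_zero6 (ha ▸ e))
  have hab : a ≠ b := fun e => by
    rw [← e, ← hb, ← e, add_self6] at hfb
    exact ha0 hfb
  have hb0 : b ≠ 0 := fun e => ha0 (by
    have := hcube a
    rw [← hb, e, hiso.zero, hiso.zero] at this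
    exact this.symm)
  have hc0 : a + b ≠ 0 := fun e => hab (eq_of_add_eq_zero6 e)
  have hS' : ∀ x ∈ S, x = 0 ∨ x = a ∨ x = b ∨ x = a + b := by
    have hmem' : ∀ v, f v + v ∈ S := hf ▸ hmem
    have hsub : ({0, a, b, a + b} : Finset V6) ⊆ S := by
      intro x hx
      simp only [Finset.mem_insert, Finset.mem_singleton] at hx
      rcases hx with rfl | rfl | rfl | rfl
      · simpa [hiso.zero] using hmem' 0
      · rw [ha]; exact hmem' v
      · rw [hb, ha, hiso.add]; exact hmem' (f v)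
      · rw [← hfb, hb, ha, hiso.add, hiso.add]; exact hmem' (f (f v))
    have h4 : ({0, a, b, a + b} : Finset V6).card = 4 := by
      rw [Finset.card_insert_of_notMem (by simp [ha0.symm, hb0.symm, hc0.symm]),
        Finset.card_insert_of_notMem (by simp [hab, left_eq_add, hb0]),
        Finset.card_insert_of_notMem (by simp [ha0]), Finset.card_singleton]
    intro x hx
    rw [← Finset.eq_of_subset_of_card_le hsub (by rw [h4]; exact hS)] at hx
    simpa using hx
  have hqb : q6 b = q6 a := by rw [hb, hiso.quad]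
  have hbab : b6 a b = q6 a := by
    have h := q6_add a b
    rw [← hfb, hiso.quad, hqb] at h
    revert h; cases q6 a <;> cases b6 a b <;> simp
  have hqa : q6 a = true := by
    by_contra hq
    simp only [Bool.not_eq_true] at hq
    rw [hq] at hbab
    refine hc0 (b6_nondeg _ fun w => ?_)
    obtain ⟨w, rfl⟩ : ∃ w', f w' = w := ⟨f (f w), hcube w⟩
    have h1 : b6 (f w + w) a = false := by
      rcases hS' _ (hf ▸ hmem w) with e | e | e | e <;> rw [e]
      · exact b6_zero_left _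
      · exact b6_self _
      · rw [b6_comm, hbab]
      · rw [b6_add_left, b6_self, b6_comm, hbab]; rfl
    rw [b6_add_left] at h1
    rw [b6_add_right, hb, hiso.polar]
    exact h1
  rw [hqa] at hbab hqb
  have hfix : ∀ w, b6 w a = false → b6 w b = false → f w = w := by
    intro w h1 h2
    have e1 : b6 (f w) b = false := by rw [hb, hiso.polar, h1]
    have e2 : b6 (f w) a = false := by
      have : f (a + b) = a := by rw [← hfb, hb, hcube]
      rw [← this, hiso.polar, b6_add_right, h1, h2]; rfl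
    rcases hS' _ (hf ▸ hmem w) with e | e | e | e
    · exact eq_of_add_eq_zero6 e
    all_goals exfalso
    · have := congrArg (fun r => b6 r b) e
      simp [b6_add_left, e1, h2, hbab] at this
    · have := congrArg (fun r => b6 r a) e
      simp [b6_add_left, e2, h1, b6_comm b a, hbab] at this
    · have := congrArg (fun r => b6 r a) e
      simp [b6_add_left, e2, h1, b6_comm b a, hbab, b6_self] at this
  obtain ⟨c, hc, hca, hcb⟩ := D.exists_move hqa hqb hbab
  have hci : c⁻¹ * z = z * c⁻¹ := (Commute.inv_left hc).eq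
  have hθ := T.θ_comm_z
  have hg : c * θ * c⁻¹ * z = z * (c * θ * c⁻¹) := ((Commute.mul_left hc hθ).mul_left hci).eq
  have hgv : ∀ w, D.act (c * θ * c⁻¹) w = D.act c (sigW (D.act c⁻¹ w)) := fun w => by
    rw [D.act_mul (Commute.mul_left hc hθ).eq hci, D.act_mul hc hθ, T.θ_act']
  have hgfix : ∀ w, b6 w a = false → b6 w b = false → D.act (c * θ * c⁻¹) w = w := by
    intro w h1 h2
    rw [hgv, (low_iff _).2 ⟨?_, ?_⟩, (D.act_inv_cancel hc w).2]
    · rw [← (D.act_iso hc).polar, hca, (D.act_inv_cancel hc w).2, h1]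
    · rw [← (D.act_iso hc).polar, hcb, (D.act_inv_cancel hc w).2, h2]
  have e1 : D.act (c * θ * c⁻¹) a = b := by
    rw [hgv, ← hca, (D.act_inv_cancel hc a0).1, sigW_facts.1, hcb]
  have e2 : D.act (c * θ * c⁻¹) b = a + b := by
    rw [hgv, ← hcb, (D.act_inv_cancel hc u0).1, sigW_facts.2.1, ← hca,
      ← pair48.2.1, (D.act_iso hc).add]
  have heq := eq_of_plane hiso (D.act_iso hg) hbab hfix hgfix (by rw [← hb]; exact e1.symm)
    (by rw [hfb]; exact e2.symm)
  obtain ⟨d, hd, hde, -⟩ := D.exists_conj_of_act hc hθ hy T.θ_cube hy3 (fun w => by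
    rw [← hf, heq, hgv, (D.act_inv_cancel hc w).1, T.θ_act'])
  exact ⟨d, hd, hde⟩

/-- An isometry in the image commuting with the action of `θ` comes from the centralizer of `θ`. -/
theorem exists_lift {c : G} (hc : c * z = z * c)
    (h : ∀ v, T.frame.data.act c (sigW v) = sigW (T.frame.data.act c v)) :
    ∃ d, d * z = z * d ∧ d * θ = θ * d ∧ ∀ v, T.frame.data.act d v = T.frame.data.act c v := by
  obtain ⟨d, hd, hde, hda⟩ := T.frame.data.exists_conj_of_act hc T.θ_comm_z T.θ_comm_z T.θ_cube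
    T.θ_cube (fun v => by rw [T.θ_act', T.θ_act', h])
  exact ⟨d, hd, mul_inv_eq_iff_eq_mul.1 hde, hda⟩

/-- A rotation commuting with the action of `θ` comes from an element of order three of `C(θ)`. -/
theorem exists_rot {p : ℕ × ℕ} (hp : okPair p = true) (hs : ∀ v, pr p (sigW v) = sigW (pr p v))
    (h3 : ∀ v, pr p (pr p (pr p v)) = v) :
    ∃ e, e * z = z * e ∧ e * θ = θ * e ∧ e * e * e = 1 ∧ ∀ v, T.frame.data.act e v = pr p v := by
  have D := T.frame.data
  obtain ⟨c0, hc0, hc0v⟩ := D.exists_pr hp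
  obtain ⟨c, hc, hcθ, hcv⟩ := T.exists_lift hc0 (fun v => by rw [hc0v, hc0v, hs])
  simp only [hc0v] at hcv
  have h2 := (Commute.mul_left hc hc).eq
  have hc3 : c * c * c * z = z * (c * c * c) := (Commute.mul_left h2 hc).eq
  have hQ : c * c * c ∈ Q := D.mem_of_act hc3 fun v => by
    rw [D.act_mul h2 hc, D.act_mul hc hc, hcv, hcv, hcv, h3]
  have h12 : c * c * c * (c * c * c) * (c * c * c * (c * c * c)) = 1 := by
    rcases D.sub.sq_eq hQ with e | e
    · rw [e, one_mul]
    · rw [e, D.sub.mul_self]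
  refine ⟨c * c * c * c, (Commute.mul_left hc3 hc).eq,
    (Commute.mul_left (Commute.mul_left (Commute.mul_left hcθ hcθ) hcθ) hcθ).eq,
    by rw [← h12]; group, fun v => ?_⟩
  rw [D.act_mul hc3 hc, D.act_mul h2 hc, D.act_mul hc hc, hcv, hcv, hcv, hcv, h3]

end Four

end CfsgLib.SuzType
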