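import Cfsg.Agent.SuzType.Bits

/-!
# The three anisotropic planes of the six dimensional space and their rotations
-/

set_option autoImplicit false

namespace CfsgLib.SuzType

/-- The rotation of the plane `⟨16, 32⟩`. -/
def sigW (v : V6) : V6 := pr (16, 32) v

/-- The rotation of the plane `⟨3, 13⟩`. -/
def rotA (v : V6) : V6 := pr (3, 13) v

/-- The rotation of the plane `⟨12, 7⟩`. -/
def rotB (v : V6) : V6 := pr (12, 7) v

/-- Fixed vectors of `sigW`. -/
abbrev Low (v : V6) : Prop := sigW v = v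

/-- The four rotations of the two planes in the fixed space of `sigW`. -/
def rotPairs : List (ℕ × ℕ) := [(3, 13), (13, 3), (12, 7), (7, 12)]

/-- The nonsingular vectors, in the order they are reached from `16`. -/
def nsList : List V6 :=
  ([38, 7, 18, 50, 3, 34, 42, 22, 54, 14, 47, 11, 41, 63, 13, 26, 31, 32, 40, 58, 12, 56, 36, 25,
    24, 17, 49, 57, 37, 53, 20, 33, 21, 52, 48, 16] : List ℕ).map mk6

/-- Pairs fixing `16`. -/
def aGens : List (ℕ × ℕ) := [(12, 22), (7, 24), (13, 20)]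

/-- The partners of `16`, in the order they are reached from `32`. -/
def partnerList : List V6 :=
  ([36, 33, 48, 42, 40, 53, 34, 41, 49, 52, 38, 47, 50, 56, 37, 54, 57, 63, 58, 32] : List ℕ).map mk6

theorem nsList_facts : chainOK (allGens.map pr) a0 nsList = true ∧
    ∀ v : V6, q6 v = true → v ∈ nsList := by decide +kernel

theorem partnerList_facts : chainOK (aGens.map pr) u0 partnerList = true ∧
    (∀ p ∈ aGens, okPair p = true ∧ pr p a0 = a0) ∧
    ∀ v : V6, q6 v = true → b6 a0 v = true → v ∈ partnerList := by decide +kernel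

/-- Coordinates for the basis `3, 13, 12, 7, 16, 32`. -/
theorem plane_expand : ∀ v : V6, v =
    sm (b6 v (mk6 13)) (mk6 3) + sm (b6 v (mk6 3)) (mk6 13) + sm (b6 v (mk6 7)) (mk6 12) +
      sm (b6 v (mk6 12)) (mk6 7) + sm (b6 v u0) a0 + sm (b6 v a0) u0 := by decide +kernel

theorem low_iff : ∀ v : V6, Low v ↔ b6 v a0 = false ∧ b6 v u0 = false := by decide +kernel

theorem low_ns : ∀ v : V6, Low v → q6 v = true → v = mk6 3 ∨ v = mk6 13 ∨ v = mk6 14 ∨
    v = mk6 12 ∨ v = mk6 7 ∨ v = mk6 11 := by decide +kernel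

theorem sigW_facts : sigW a0 = u0 ∧ sigW u0 = mk6 48 ∧ sigW (mk6 48) = a0 ∧
    (∀ v : V6, sigW (sigW (sigW v)) = v) ∧ Low (mk6 3) ∧ Low (mk6 13) ∧ Low (mk6 12) ∧
    Low (mk6 7) := by decide +kernel

theorem rot_cube : ∀ v : V6, rotA (rotA (rotA v)) = v ∧ rotB (rotB (rotB v)) = v := by
  decide +kernel

theorem rot_comm : ∀ v : V6, rotA (sigW v) = sigW (rotA v) ∧ rotB (sigW v) = sigW (rotB v) ∧
    rotA (rotB v) = rotB (rotA v) := by decide +kernel

theorem rot_fixed : (∀ v : V6, Low v → rotA v = v → v = 0 ∨ v = mk6 12 ∨ v = mk6 7 ∨ v = mk6 11) ∧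
    (∀ v : V6, Low v → rotB v = v → v = 0 ∨ v = mk6 3 ∨ v = mk6 13 ∨ v = mk6 14) ∧
    rotA (mk6 12) = mk6 12 ∧ rotA (mk6 7) = mk6 7 ∧ rotA a0 = a0 ∧ rotA u0 = u0 ∧
    rotB (mk6 3) = mk6 3 ∧ rotB (mk6 13) = mk6 13 ∧ rotB a0 = a0 ∧ rotB u0 = u0 := by
  decide +kernel

theorem rot_values : rotA (mk6 3) = mk6 13 ∧ rotA (mk6 13) = mk6 14 ∧ rotA (mk6 14) = mk6 3 ∧
    rotB (mk6 12) = mk6 7 ∧ rotB (mk6 7) = mk6 11 ∧ rotB (mk6 11) = mk6 12 := by decide +kernel

/-- A product of two reflections in nonsingular fixed vectors is one of four rotations. -/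
theorem rot_cases : ∀ a : V6, Low a → ∀ c : V6, Low c → q6 a = true → q6 c = true → b6 a c = true →
    ∃ p ∈ rotPairs, ∀ v : V6, rf a (rf c v) = pr p v := by decide +kernel

namespace IsIso6

variable {f g : V6 → V6}

/-- Two isometries agreeing on `3, 13, 12, 7, 16, 32` agree. -/
theorem ext_planes (hf : IsIso6 f) (hg : IsIso6 g) (h3 : f (mk6 3) = g (mk6 3))
    (h13 : f (mk6 13) = g (mk6 13)) (h12 : f (mk6 12) = g (mk6 12)) (h7 : f (mk6 7) = g (mk6 7))
    (ha : f a0 = g a0) (hu : f u0 = g u0) (v : V6) : f v = g v := by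
  rw [plane_expand v]
  simp only [hf.add, hg.add, hf.map_sm, hg.map_sm, h3, h13, h12, h7, ha, hu]

theorem map_rf (hf : IsIso6 f) (a v : V6) : f (rf a v) = rf (f a) (f v) := by
  unfold rf
  rw [hf.polar]
  cases b6 v a <;> simp [hf.add]

theorem map_pr (hf : IsIso6 f) (p : ℕ × ℕ) (v : V6) :
    f (pr p v) = rf (f (mk6 p.1)) (rf (f (mk6 p.2)) (f v)) := by
  rw [pr, hf.map_rf, hf.map_rf]

theorem low (hf : IsIso6 f) (hs : ∀ v, f (sigW v) = sigW (f v)) {v : V6} (hv : Low v) :
    Low (f v) := by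
  show sigW (f v) = f v
  rw [← hs, hv]

/-- An isometry commuting with `sigW` permutes the four rotations. -/
theorem conj_rot (hf : IsIso6 f) (hs : ∀ v, f (sigW v) = sigW (f v)) {p : ℕ × ℕ}
    (hp : p ∈ rotPairs) : ∃ p' ∈ rotPairs, ∀ v, f (pr p v) = pr p' (f v) := by
  have hfacts : ∀ p ∈ rotPairs, Low (mk6 p.1) ∧ Low (mk6 p.2) ∧ q6 (mk6 p.1) = true ∧
      q6 (mk6 p.2) = true ∧ b6 (mk6 p.1) (mk6 p.2) = true := by decide +kernel
  obtain ⟨l1, l2, q1, q2, hb⟩ := hfacts p hp
  obtain ⟨p', hp', h⟩ := rot_cases _ (hf.low hs l1) _ (hf.low hs l2) (by rw [hf.quad, q1])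
    (by rw [hf.quad, q2]) (by rw [hf.polar, hb])
  exact ⟨p', hp', fun v => by rw [hf.map_pr, h]⟩

end IsIso6

theorem iso_pr (p : ℕ × ℕ) (hp : okPair p = true) : IsIso6 (pr p) := by
  simp only [okPair, Bool.and_eq_true] at hp
  have key : ∀ a : V6, q6 a = true → IsIso6 (rf a) := by
    intro a ha
    refine ⟨fun u v => ?_, fun v => ?_⟩
    · simp only [rf, b6_add_left]
      cases b6 u a <;> cases b6 v a
      · simp
      · simp [add_assoc]
      · simp [add_assoc, add_comm a v]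
      · simp only [Bool.xor_self, Bool.false_eq_true, if_false, if_true]
        rw [show u + a + (v + a) = u + v + (a + a) by abel, add_self6, add_zero]
    · unfold rf
      cases h : b6 v a
      · simp
      · simp only [if_true]
        rw [q6_add, ha, h]
        cases q6 v <;> rfl
  exact ⟨fun u v => by simp only [pr, (key _ hp.2).add, (key _ hp.1).add],
    fun v => by simp only [pr, (key _ hp.1).quad, (key _ hp.2).quad]⟩

/-- An isometry fixing the vectors orthogonal to an anisotropic plane is determined by its values. -/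
theorem eq_of_plane {f g : V6 → V6} (hf : IsIso6 f) (hg : IsIso6 g) {a c : V6}
    (hb : b6 a c = true)
    (hfix : ∀ w, b6 w a = false → b6 w c = false → f w = w)
    (gfix : ∀ w, b6 w a = false → b6 w c = false → g w = w)
    (h1 : f a = g a) (h2 : f c = g c) (v : V6) : f v = g v := by
  have hw1 : b6 (v + sm (b6 v c) a + sm (b6 v a) c) a = false := by
    rw [b6_add_left, b6_add_left, b6_sm_left, b6_sm_left, b6_self, b6_comm c a, hb]
    cases b6 v a <;> cases b6 v c <;> rfl
  have hw2 : b6 (v + sm (b6 v c) a + sm (b6 v a) c) c = false := by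
    rw [b6_add_left, b6_add_left, b6_sm_left, b6_sm_left, b6_self, hb]
    cases b6 v a <;> cases b6 v c <;> rfl
  have e := (hfix _ hw1 hw2).trans (gfix _ hw1 hw2).symm
  simp only [hf.add, hg.add, hf.map_sm, hg.map_sm, h1, h2] at e
  exact add_right_cancel (add_right_cancel e)

end CfsgLib.SuzType
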