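import Cfsg.Agent.SuzType.ThreeBasic

/-!
# The order of the centralizer of `θ` in `C(z)`
-/

set_option autoImplicit false
set_option linter.style.haveILetI false

namespace CfsgLib.SuzType

theorem anisoPairs_card : Fintype.card {p : V6 × V6 // q6 p.1 = true ∧ q6 p.2 = true ∧
    b6 p.1 p.2 = true} = 720 := by decide +kernel

namespace Four

variable {G : Type*} [Group G] [Finite G] {z s θ t : G} {Q P : Subgroup G} {π : G → V6}
  (T : Four z Q π P s θ t)
include T

theorem card_Qθ : Nat.card ↥(Q ⊓ Subgroup.centralizer ({θ} : Set G)) = 32 := by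
  classical
  have D := T.frame.data
  have hz : ∀ b : Bool, (if b then z else 1) ∈ Q ∧ π (if b then z else 1) = 0 := fun b => by
    cases b
    · exact ⟨one_mem _, D.π_one⟩
    · exact ⟨D.sub.z_mem, D.π_z⟩
  have hπ : ∀ (b : Bool) (v : V6), π ((if b then z else 1) * D.sec v) = v := fun b v => by
    rw [D.map_mul _ (hz b).1 _ (D.sec_mem v), (hz b).2, D.π_sec, zero_add]
  let f : {v : V6 // Low v} × Bool → ↥(Q ⊓ Subgroup.centralizer ({θ} : Set G)) := fun x =>
    ⟨(if x.2 then z else 1) * D.sec x.1.1, mul_mem (hz x.2).1 (D.sec_mem _),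
      Subgroup.mem_centralizer_singleton_iff.2 ((T.θ_mem_iff (mul_mem (hz x.2).1 (D.sec_mem _))).2
        (by rw [hπ]; exact x.1.2))⟩
  have hbij : Function.Bijective f := by
    constructor
    · rintro ⟨v, b⟩ ⟨v', b'⟩ h
      have h' : (if b then z else 1) * D.sec v.1 = (if b' then z else 1) * D.sec v'.1 :=
        congrArg Subtype.val h
      have hv : v = v' := Subtype.ext (by rw [← hπ b v.1, h', hπ])
      subst hv
      have h2 : (if b then z else 1) = (if b' then z else 1) := mul_right_cancel h'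
      cases b <;> cases b'
      · rfl
      · exact absurd h2.symm D.sub.ne_one
      · exact absurd h2 D.sub.ne_one
      · rfl
    · rintro ⟨x, hxQ, hxθ⟩
      have hl := (T.θ_mem_iff hxQ).1 (Subgroup.mem_centralizer_singleton_iff.1 hxθ)
      rcases D.eq_or_eq_of_π_eq (D.sec_mem (π x)) hxQ (D.π_sec (π x)) with e | e
      · exact ⟨(⟨π x, hl⟩, false), Subtype.ext ((one_mul _).trans e.symm)⟩
      · exact ⟨(⟨π x, hl⟩, true), Subtype.ext e.symm⟩
  rw [← Nat.card_eq_of_bijective f hbij, Nat.card_eq_fintype_card]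
  decide +kernel

theorem act_three {c : G} (hc : c * z = z * c)
    (h : ∀ v, T.frame.data.act c (sigW v) = sigW (T.frame.data.act c v)) :
    T.frame.data.act c a0 = a0 ∨ T.frame.data.act c a0 = u0 ∨
      T.frame.data.act c a0 = mk6 48 := by
  have D := T.frame.data
  have hci : c⁻¹ * z = z * c⁻¹ := (Commute.inv_left hc).eq
  have hi : ∀ v, D.act c⁻¹ (sigW v) = sigW (D.act c⁻¹ v) := fun v => by
    conv_lhs => rw [← (D.act_inv_cancel hc v).2, ← h, (D.act_inv_cancel hc _).1]
  have ho : ∀ l, Low l → b6 (D.act c a0) l = false := fun l hl => by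
    rw [← (D.act_inv_cancel hc l).2, (D.act_iso hc).polar, b6_comm]
    exact ((low_iff _).1 ((D.act_iso hci).low hi hl)).1
  exact planeW _ (by rw [(D.act_iso hc).quad]; decide) (ho _ sigW_facts.2.2.2.2.1)
    (ho _ sigW_facts.2.2.2.2.2.1) (ho _ sigW_facts.2.2.2.2.2.2.1) (ho _ sigW_facts.2.2.2.2.2.2.2)

/-- The centralizer of `θ` in `C(z)` has order `3456`. -/
theorem card_cent_z_θ : Nat.card (Subgroup.centralizer ({z, θ} : Set G)) = 3456 := by
  classical
  have D := T.frame.data
  letI := MulAction.compHom (V6 × V6) D.actHom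
  obtain ⟨x₀, hx₀⟩ : ∃ x₀ : V6 × V6, x₀ = (a0, u0) := ⟨_, rfl⟩
  have hsmul : ∀ (c : Subgroup.centralizer ({z} : Set G)) (x : V6 × V6),
      c • x = (D.act (c : G) x.1, D.act (c : G) x.2) := fun c x => rfl
  have hC : ∀ c : Subgroup.centralizer ({z} : Set G), (c : G) * z = z * (c : G) :=
    fun c => Subgroup.mem_centralizer_singleton_iff.1 c.2
  have horb : MulAction.orbit (Subgroup.centralizer ({z} : Set G)) x₀ =
      {p : V6 × V6 | q6 p.1 = true ∧ q6 p.2 = true ∧ b6 p.1 p.2 = true} := by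
    ext p
    constructor
    · rintro ⟨c, rfl⟩
      show q6 (c • x₀).1 = true ∧ q6 (c • x₀).2 = true ∧ b6 (c • x₀).1 (c • x₀).2 = true
      rw [hsmul, hx₀, (D.act_iso (hC c)).quad, (D.act_iso (hC c)).quad, (D.act_iso (hC c)).polar]
      decide
    · rintro ⟨h1, h2, h3⟩
      obtain ⟨c, hc, hca, hcu⟩ := D.exists_move h1 h2 h3
      exact ⟨⟨c, Subgroup.mem_centralizer_singleton_iff.2 hc⟩, by
        show _ • x₀ = p; rw [hsmul, hx₀, hca, hcu]⟩
  have hS : Nat.card (MulAction.stabilizer (Subgroup.centralizer ({z} : Set G)) x₀) = 4608 := by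
    have h := (MulAction.stabilizer (Subgroup.centralizer ({z} : Set G)) x₀).card_mul_index
    rw [MulAction.index_stabilizer, horb, D.card_cent] at h
    have h720 : ({p : V6 × V6 | q6 p.1 = true ∧ q6 p.2 = true ∧ b6 p.1 p.2 = true}).ncard = 720 := by
      rw [← Nat.card_coe_set_eq, Nat.card_eq_fintype_card]
      exact anisoPairs_card
    rw [h720] at h
    omega
  let A : Subgroup (Subgroup.centralizer ({z} : Set G)) :=
    { carrier := {c | ∀ v, D.act (c : G) (sigW v) = sigW (D.act (c : G) v)}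
      one_mem' := fun v => by simp only [OneMemClass.coe_one, D.act_one]
      mul_mem' := fun {c d} h1 h2 v => by
        rw [Subgroup.coe_mul, D.act_mul (hC c) (hC d), D.act_mul (hC c) (hC d), h2 v, h1 _]
      inv_mem' := fun {c} h v => by
        show D.act (c : G)⁻¹ (sigW v) = sigW (D.act (c : G)⁻¹ v)
        conv_lhs => rw [← (D.act_inv_cancel (hC c) v).2, ← h, (D.act_inv_cancel (hC c) _).1] }
  have hSA : MulAction.stabilizer (Subgroup.centralizer ({z} : Set G)) x₀ ≤ A := by
    intro c hc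
    rw [MulAction.mem_stabilizer_iff, hsmul, hx₀] at hc
    have ha : D.act (c : G) a0 = a0 := congrArg Prod.fst hc
    have hu : D.act (c : G) u0 = u0 := congrArg Prod.snd hc
    have hi := D.act_iso (hC c)
    have hl : ∀ v, Low v → D.act (c : G) (sigW v) = sigW (D.act (c : G) v) := fun v hv => by
      rw [hv]
      refine ((low_iff _).2 ⟨?_, ?_⟩).symm
      · rw [← ha, hi.polar]; exact ((low_iff v).1 hv).1
      · rw [← hu, hi.polar]; exact ((low_iff v).1 hv).2
    obtain ⟨s1, s2, s3, -, l3, l13, l12, l7⟩ := sigW_facts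
    have hiso := iso_pr (16, 32) (by decide)
    refine fun v => IsIso6.ext_planes (f := fun v => D.act (c : G) (sigW v))
      (g := fun v => sigW (D.act (c : G) v)) ⟨fun u v => ?_, fun v => ?_⟩ ⟨fun u v => ?_, fun v => ?_⟩
      (hl _ l3) (hl _ l13) (hl _ l12) (hl _ l7) ?_ ?_ v
    · show D.act (c : G) (sigW (u + v)) = D.act (c : G) (sigW u) + D.act (c : G) (sigW v)
      rw [← hi.add]; exact congrArg _ (hiso.add u v)
    · show q6 (D.act (c : G) (sigW v)) = q6 v
      rw [hi.quad]; exact hiso.quad v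
    · show sigW (D.act (c : G) (u + v)) = sigW (D.act (c : G) u) + sigW (D.act (c : G) v)
      rw [hi.add]; exact hiso.add _ _
    · show q6 (sigW (D.act (c : G) v)) = q6 v
      rw [← hi.quad v]; exact hiso.quad _
    · show D.act (c : G) (sigW a0) = sigW (D.act (c : G) a0)
      rw [ha, s1, hu]
    · show D.act (c : G) (sigW u0) = sigW (D.act (c : G) u0)
      rw [hu, s2, ← pair48.2.1, hi.add, ha, hu]
  have hθA : (⟨θ, Subgroup.mem_centralizer_singleton_iff.2 T.θ_comm_z⟩ :
      Subgroup.centralizer ({z} : Set G)) ∈ A := fun v => by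
    show D.act θ (sigW v) = sigW (D.act θ v)
    rw [T.θ_act', T.θ_act']
  have horbA : MulAction.orbit A x₀ = {(a0, u0), (u0, mk6 48), (mk6 48, a0)} := by
    obtain ⟨s1, s2, s3, -⟩ := sigW_facts
    ext p
    constructor
    · rintro ⟨c, rfl⟩
      show (c : Subgroup.centralizer ({z} : Set G)) • x₀ ∈ _
      rw [hsmul, hx₀]
      show (D.act _ a0, D.act _ u0) ∈ _
      rw [show D.act ((c : Subgroup.centralizer ({z} : Set G)) : G) u0 =
        sigW (D.act ((c : Subgroup.centralizer ({z} : Set G)) : G) a0) by rw [← c.2, s1]]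
      rcases T.act_three (hC c) c.2 with e | e | e <;> rw [e]
      · rw [s1]; exact Or.inl rfl
      · rw [s2]; exact Or.inr (Or.inl rfl)
      · rw [s3]; exact Or.inr (Or.inr rfl)
    · have h1 : (⟨_, hθA⟩ : A) • x₀ = (u0, mk6 48) := by
        show (D.act θ x₀.1, D.act θ x₀.2) = _
        rw [hx₀, T.θ_act', T.θ_act', s1, s2]
      have h2 : ((⟨_, hθA⟩ : A) * ⟨_, hθA⟩) • x₀ = (mk6 48, a0) := by
        rw [mul_smul, h1]
        show (D.act θ u0, D.act θ (mk6 48)) = _
        rw [T.θ_act', T.θ_act', s2, s3]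
      rintro (rfl | rfl | rfl)
      · exact hx₀ ▸ MulAction.mem_orbit_self x₀
      · exact ⟨_, h1⟩
      · exact ⟨_, h2⟩
  have hA : Nat.card A = 13824 := by
    have h := (MulAction.stabilizer A x₀).card_mul_index
    rw [MulAction.index_stabilizer, horbA] at h
    have h3 : ({(a0, u0), (u0, mk6 48), (mk6 48, a0)} : Set (V6 × V6)).ncard = 3 := by
      rw [Set.ncard_insert_of_notMem (by simp; decide), Set.ncard_pair (by decide)]
    have e : Nat.card (MulAction.stabilizer A x₀) = 4608 := by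
      rw [← hS]
      exact Nat.card_congr ((MulEquiv.subgroupCongr (show MulAction.stabilizer A x₀ =
        (MulAction.stabilizer (Subgroup.centralizer ({z} : Set G)) x₀).subgroupOf A from rfl)).trans
        (Subgroup.subgroupOfEquivOfLe hSA)).toEquiv
    rw [h3, e] at h
    omega
  -- the image of `A` and of the centralizer of `θ`
  have hker : ∀ c : Subgroup.centralizer ({z} : Set G), D.actHom c = 1 ↔ (c : G) ∈ Q := fun c =>
    ⟨fun h => D.mem_of_act (hC c) fun v => Equiv.ext_iff.1 h v,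
      fun h => Equiv.ext fun v => D.act_of_mem h v⟩
  obtain ⟨ψ, hψ⟩ : ∃ ψ : A →* Equiv.Perm V6, ψ = D.actHom.comp A.subtype := ⟨_, rfl⟩
  have hψk : Nat.card ψ.ker = 128 := by
    rw [← D.card]
    refine Nat.card_congr
      { toFun := fun c => ⟨((c.1 : Subgroup.centralizer ({z} : Set G)) : G), (hker _).1
          ((DFunLike.congr_fun hψ c.1).symm.trans c.2)⟩
        invFun := fun x => ⟨⟨⟨(x : G), Subgroup.mem_centralizer_singleton_iff.2 (D.Q_comm x.2)⟩,
          fun v => by rw [D.act_of_mem x.2, D.act_of_mem x.2]⟩, by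
            rw [hψ]; exact (hker _).2 x.2⟩
        left_inv := fun c => rfl
        right_inv := fun x => rfl }
  have hψr : Nat.card ψ.range = 108 := by
    have h := ψ.ker.card_mul_index
    rw [Subgroup.index_ker, hψk, hA] at h
    omega
  have hN : ∀ c : Subgroup.centralizer ({z, θ} : Set G), (c : G) * z = z * c ∧ (c : G) * θ = θ * c :=
    fun c => ⟨(Subgroup.mem_centralizer_iff.1 c.2 z (Or.inl rfl)).symm,
      (Subgroup.mem_centralizer_iff.1 c.2 θ (Or.inr rfl)).symm⟩
  have hNmem : ∀ c : G, c * z = z * c → c * θ = θ * c → c ∈ Subgroup.centralizer ({z, θ} : Set G) :=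
    fun c h1 h2 => Subgroup.mem_centralizer_iff.2 fun x hx => by
      rcases hx with rfl | rfl
      · exact h1.symm
      · exact h2.symm
  obtain ⟨χ, hχ⟩ : ∃ χ : Subgroup.centralizer ({z, θ} : Set G) →* Equiv.Perm V6,
      χ = D.actHom.comp (Subgroup.inclusion (Subgroup.centralizer_le (by simp))) := ⟨_, rfl⟩
  have hχv : ∀ c v, χ c v = D.act (c : G) v := fun c v => by rw [hχ]; rfl
  have hχk : Nat.card χ.ker = 32 := by
    rw [← T.card_Qθ]
    refine Nat.card_congr
      { toFun := fun c => ⟨((c.1 : Subgroup.centralizer ({z, θ} : Set G)) : G),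
          D.mem_of_act (hN c.1).1 (fun v => by
            rw [← hχv, (MonoidHom.mem_ker.1 c.2)]; rfl),
          Subgroup.mem_centralizer_singleton_iff.2 (hN c.1).2⟩
        invFun := fun x => ⟨⟨(x : G), hNmem _ (D.Q_comm x.2.1)
          (Subgroup.mem_centralizer_singleton_iff.1 x.2.2)⟩,
          MonoidHom.mem_ker.2 (Equiv.ext fun v => by rw [hχv]; exact D.act_of_mem x.2.1 v)⟩
        left_inv := fun c => rfl
        right_inv := fun x => rfl }
  have hr : χ.range = ψ.range := by
    ext p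
    constructor
    · rintro ⟨c, rfl⟩
      refine ⟨⟨⟨(c : G), Subgroup.mem_centralizer_singleton_iff.2 (hN c).1⟩, fun v => ?_⟩, ?_⟩
      · show D.act (c : G) (sigW v) = sigW (D.act (c : G) v)
        rw [← T.θ_act', ← T.θ_act', ← D.act_mul (hN c).1 T.θ_comm_z, (hN c).2,
          D.act_mul T.θ_comm_z (hN c).1]
      · rw [hψ, hχ]; rfl
    · rintro ⟨c, rfl⟩
      obtain ⟨d, hd, hdθ, hdv⟩ := T.exists_lift (hC c.1) c.2
      refine ⟨⟨d, hNmem d hd hdθ⟩, Equiv.ext fun v => ?_⟩
      rw [hχv, hψ]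
      exact hdv v
  have h := χ.ker.card_mul_index
  rw [Subgroup.index_ker, hχk, hr, hψr] at h
  omega

end Four

end CfsgLib.SuzType
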