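import Mathlib

/-!
# The group `SL₂(3)` from a quaternion pair cycled by an element of order three
-/

set_option autoImplicit false

namespace CfsgLib.SuzType.SLThree

open scoped MatrixGroups

/-- Indices of the normal form. -/
abbrev Idx : Type := Fin 4 × Fin 2 × Fin 3

variable {M : Type*} [Group M]

/-- The normal form. -/
def nf (i j e : M) (k : Idx) : M := i ^ k.1.val * (j ^ k.2.1.val * e ^ k.2.2.val)

/-- Left multiplication by `i`. -/
def li (k : Idx) : Idx := (k.1 + 1, k.2)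

/-- Left multiplication by `j`. -/
def lj (k : Idx) : Idx := if k.2.1 = 0 then (-k.1, 1, k.2.2) else (2 - k.1, 0, k.2.2)

/-- Left multiplication by `e`. -/
def le' (k : Idx) : Idx :=
  lj^[k.1.val] (if k.2.1 = 0 then ((0, 0, k.2.2 + 1) : Idx) else li (lj (0, 0, k.2.2 + 1)))

/-- The relations. -/
structure Rel (i j e : M) : Prop where
  i4 : i * i * (i * i) = 1
  j2 : j * j = i * i
  ji : j * i = i⁻¹ * j
  e3 : e * e * e = 1
  ei : e * i = j * e
  ej : e * j = i * j * e

namespace Rel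

variable {i j e : M} (h : Rel i j e)
include h

theorem i_pow_four : i ^ 4 = 1 := by rw [show (4 : ℕ) = 2 + 2 from rfl, pow_add, pow_two, h.i4]

theorem nf_li (k : Idx) : i * nf i j e k = nf i j e (li k) := by
  rw [nf, nf, li, ← mul_assoc, ← pow_succ']
  congr 1
  rw [pow_eq_pow_mod _ h.i_pow_four, Fin.val_add]
  simp

theorem j_ipow : ∀ n : ℕ, j * i ^ n = (i⁻¹) ^ n * j
  | 0 => by simp
  | n + 1 => by rw [pow_succ', ← mul_assoc, h.ji, mul_assoc, j_ipow n, pow_succ', mul_assoc]

theorem inv_ipow (a : Fin 4) : (i⁻¹) ^ a.val = i ^ (-a).val := by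
  rw [inv_pow]
  refine inv_eq_of_mul_eq_one_right ?_
  rw [← pow_add, pow_eq_pow_mod _ h.i_pow_four]
  have : ∀ a : Fin 4, (a.val + (-a).val) % 4 = 0 := by decide
  rw [this, pow_zero]

theorem nf_lj (k : Idx) : j * nf i j e k = nf i j e (lj k) := by
  obtain ⟨a, b, c⟩ := k
  fin_cases b
  · show j * (i ^ a.val * (j ^ 0 * e ^ c.val)) = i ^ (-a).val * (j ^ 1 * e ^ c.val)
    rw [← mul_assoc, h.j_ipow, h.inv_ipow, pow_zero, one_mul, pow_one, mul_assoc]
  · show j * (i ^ a.val * (j ^ 1 * e ^ c.val)) = i ^ (2 - a).val * (j ^ 0 * e ^ c.val)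
    rw [← mul_assoc, h.j_ipow, h.inv_ipow, pow_zero, one_mul, pow_one, mul_assoc, ← mul_assoc j, h.j2,
      ← mul_assoc, ← pow_two, ← pow_add, pow_eq_pow_mod _ h.i_pow_four]
    congr 2
    fin_cases a <;> rfl

theorem nf_zero : nf i j e 0 = 1 := by simp [nf]

theorem nf_e (c : Fin 3) : e * nf i j e (0, 0, c) = nf i j e (0, 0, c + 1) := by
  show e * (i ^ 0 * (j ^ 0 * e ^ c.val)) = i ^ 0 * (j ^ 0 * e ^ (c + 1).val)
  rw [pow_zero, pow_zero, one_mul, one_mul, one_mul, one_mul, ← pow_succ']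
  have he : e ^ 3 = 1 := by rw [pow_succ, pow_two, h.e3]
  rw [pow_eq_pow_mod _ he, Fin.val_add]
  simp

theorem nf_iter : ∀ (n : ℕ) (k : Idx), j ^ n * nf i j e k = nf i j e (lj^[n] k)
  | 0, k => by simp
  | n + 1, k => by
    rw [pow_succ, mul_assoc, h.nf_lj, nf_iter n, Function.iterate_succ_apply]

theorem e_ipow : ∀ n : ℕ, e * i ^ n = j ^ n * e
  | 0 => by simp
  | n + 1 => by rw [pow_succ', ← mul_assoc, h.ei, mul_assoc, e_ipow n, pow_succ', mul_assoc]

theorem nf_le (k : Idx) : e * nf i j e k = nf i j e (le' k) := by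
  obtain ⟨a, b, c⟩ := k
  have hc := h.nf_e c
  have e0 : nf i j e (0, 0, c) = e ^ c.val := by simp [nf]
  rw [le', ← h.nf_iter]
  show e * (i ^ a.val * (j ^ b.val * e ^ c.val)) = _
  rw [← mul_assoc, h.e_ipow, mul_assoc]
  congr 1
  fin_cases b
  · show e * (j ^ 0 * e ^ c.val) = nf i j e (0, 0, c + 1)
    rw [pow_zero, one_mul, ← e0, hc]
  · show e * (j ^ 1 * e ^ c.val) = nf i j e (li (lj (0, 0, c + 1)))
    rw [pow_one, ← mul_assoc, h.ej, mul_assoc, ← e0, hc, mul_assoc, h.nf_lj, h.nf_li]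

/-- The letters. -/
def step (x : Fin 3) : Idx → Idx := if x = 0 then li else if x = 1 then lj else le'

theorem nf_word (w : List (Fin 3)) (k : Idx) :
    (w.map ![i, j, e]).prod * nf i j e k = nf i j e (w.foldr step k) := by
  induction w with
  | nil => simp
  | cons x w ih =>
    rw [List.map_cons, List.prod_cons, mul_assoc, ih, List.foldr_cons]
    fin_cases x
    exacts [h.nf_li _, h.nf_lj _, h.nf_le _]

end Rel

/-- The word of an index. -/
def word (k : Idx) : List (Fin 3) :=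
  List.replicate k.1.val 0 ++ (List.replicate k.2.1.val 1 ++ List.replicate k.2.2.val 2)

theorem word_prod (i j e : M) (k : Idx) : ((word k).map ![i, j, e]).prod = nf i j e k := by
  simp [word, nf]

/-- The product of two indices. -/
def mulIdx (k l : Idx) : Idx := (word k).foldr Rel.step l

theorem Rel.nf_mul {i j e : M} (h : Rel i j e) (k l : Idx) :
    nf i j e k * nf i j e l = nf i j e (mulIdx k l) := by
  rw [← word_prod i j e k, h.nf_word, mulIdx]

/-- The quaternion generator. -/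
def sI : SL(2, ZMod 3) := ⟨!![0, 2; 1, 0], by decide⟩

/-- The second quaternion generator. -/
def sJ : SL(2, ZMod 3) := ⟨!![1, 1; 1, 2], by decide⟩

/-- The element of order three. -/
def sE : SL(2, ZMod 3) := ⟨!![1, 1; 0, 1], by decide⟩

theorem sl_rel : Rel sI sJ sE := by
  constructor <;> decide +kernel

theorem sl_inj : ∀ k l : Idx, nf sI sJ sE k = nf sI sJ sE l → k = l := by decide +kernel

theorem sl_surj : ∀ x : SL(2, ZMod 3), ∃ k : Idx, nf sI sJ sE k = x := by decide +kernel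

/-- A group generated by such a triple with distinct normal forms is `SL₂(3)`. -/
theorem exists_equiv {i j e : M} (h : Rel i j e) (hinj : ∀ k : Idx, nf i j e k = 1 → k = 0) :
    ∃ H : Subgroup M, Nonempty (H ≃* SL(2, ZMod 3)) ∧
      ∀ x, x ∈ H ↔ ∃ k : Idx, nf i j e k = x := by
  choose idx hidx using sl_surj
  let f : SL(2, ZMod 3) →* M :=
    { toFun := fun x => nf i j e (idx x)
      map_one' := by
        rw [show idx 1 = 0 from sl_inj _ _ (by rw [hidx, sl_rel.nf_zero]), h.nf_zero]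
      map_mul' := fun x y => by
        rw [h.nf_mul, show idx (x * y) = mulIdx (idx x) (idx y) from sl_inj _ _ (by
          rw [hidx, ← sl_rel.nf_mul, hidx, hidx])] }
  have hf : Function.Injective f := by
    rw [injective_iff_map_eq_one]
    intro x hx
    rw [← hidx x, hinj _ hx, sl_rel.nf_zero]
  refine ⟨f.range, ⟨(MonoidHom.ofInjective hf).symm⟩, fun x => ⟨?_, ?_⟩⟩
  · rintro ⟨y, rfl⟩; exact ⟨idx y, rfl⟩
  · rintro ⟨k, rfl⟩
    refine ⟨nf sI sJ sE k, ?_⟩
    show nf i j e (idx _) = _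
    rw [sl_inj _ _ (hidx (nf sI sJ sE k))]

end CfsgLib.SuzType.SLThree
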