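import Cfsg.Agent.SuzType.ThreeCount
import Cfsg.Agent.SuzType.ThreeSL

/-!
# The two factors of the centralizer of `θ` in `C(z)`
-/

set_option autoImplicit false
set_option linter.style.haveILetI false

namespace CfsgLib.SuzType

open SLThree

theorem rotWord_vals : ∀ k i j : Fin 3,
    sigW^[k.val] (rotA^[i.val] (rotB^[j.val] (mk6 3))) = rotA^[i.val] (mk6 3) ∧
    sigW^[k.val] (rotA^[i.val] (rotB^[j.val] (mk6 13))) = rotA^[i.val] (mk6 13) ∧
    sigW^[k.val] (rotA^[i.val] (rotB^[j.val] (mk6 12))) = rotB^[j.val] (mk6 12) ∧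
    sigW^[k.val] (rotA^[i.val] (rotB^[j.val] (mk6 7))) = rotB^[j.val] (mk6 7) ∧
    sigW^[k.val] (rotA^[i.val] (rotB^[j.val] a0)) = sigW^[k.val] a0 ∧
    sigW^[k.val] (rotA^[i.val] (rotB^[j.val] u0)) = sigW^[k.val] u0 := by decide +kernel

theorem rot_inj : ∀ i : Fin 3, (rotA^[i.val] (mk6 3) = mk6 3 → i = 0) ∧
    (rotB^[i.val] (mk6 12) = mk6 12 → i = 0) ∧ (sigW^[i.val] a0 = a0 → i = 0) := by decide +kernel

/-- The vectors of the plane spanned by `a` and `b`. -/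
def InPlane (a b v : V6) : Prop := v = 0 ∨ v = a ∨ v = b ∨ v = a + b

theorem planeA_facts : q6 (mk6 3) = true ∧ b6 (mk6 3) (mk6 13) = true ∧
    rotA (mk6 3) = mk6 13 ∧ rotA (mk6 13) = mk6 3 + mk6 13 ∧ rotA (mk6 3 + mk6 13) = mk6 3 ∧
    Low (mk6 3) := by decide +kernel

theorem planeB_facts : q6 (mk6 12) = true ∧ b6 (mk6 12) (mk6 7) = true ∧
    rotB (mk6 12) = mk6 7 ∧ rotB (mk6 7) = mk6 12 + mk6 7 ∧ rotB (mk6 12 + mk6 7) = mk6 12 ∧
    Low (mk6 12) := by decide +kernel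

theorem low_split : ∀ v : V6, Low v → v + (sm (b6 v (mk6 13)) (mk6 3) + sm (b6 v (mk6 3)) (mk6 13)) =
    sm (b6 v (mk6 7)) (mk6 12) + sm (b6 v (mk6 12)) (mk6 7) := by decide +kernel

theorem inPlane_sm (a b : V6) (x y : Bool) : InPlane a b (sm x a + sm y b) := by
  cases x <;> cases y <;> simp [InPlane, sm]

namespace Data

variable {G : Type*} [Group G] [Finite G] {z : G} {Q : Subgroup G} {π : G → V6} (D : Data z Q π)
include D

/-- An element of order three commutes with the elements of `Q` over fixed vectors. -/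
theorem comm_of_fixed {e x : G} (he : e * z = z * e) (he3 : e * e * e = 1) (hx : x ∈ Q)
    (h : D.act e (π x) = π x) : e * x = x * e := by
  rcases D.eq_or_eq_of_π_eq hx (D.sub.conj_mem he hx) (by rw [← D.act_π he hx, h]) with e' | e'
  · exact mul_inv_eq_iff_eq_mul.1 e'
  · exfalso
    have hz : ∀ r, e * (z * r) * e⁻¹ = z * (e * r * e⁻¹) := fun r => by rw [← mul_assoc, he]; group
    have e3 : e * e * e * x * (e * e * e)⁻¹ = z * x := by
      rw [show e * e * e * x * (e * e * e)⁻¹ = e * (e * (e * x * e⁻¹) * e⁻¹) * e⁻¹ by group, e', hz, e',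
        hz, hz, e', ← mul_assoc z z, D.sub.mul_self, one_mul]
    rw [he3, one_mul, inv_one, mul_one] at e3
    exact D.sub.ne_one (mul_eq_right.1 e3.symm)

theorem act_pow {c : G} (hc : c * z = z * c) : ∀ (n : ℕ) (v : V6), D.act (c ^ n) v = (D.act c)^[n] v
  | 0, v => by rw [pow_zero, D.act_one]; rfl
  | n + 1, v => by
    rw [pow_succ, D.act_mul (Commute.pow_left hc n).eq hc, act_pow hc n, Function.iterate_succ_apply]

end Data

namespace Four

variable {G : Type*} [Group G] [Finite G] {z s θ t : G} {Q P : Subgroup G} {π : G → V6}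
  (T : Four z Q π P s θ t)
include T

/-- The elements of the centralizer of `θ` in `C(z)`. -/
def InN (z θ c : G) : Prop := c * z = z * c ∧ c * θ = θ * c

/-- The data of one factor. -/
structure Factor (D : Data z Q π) (θ : G) (a b : V6) (e i j : G) : Prop where
  rel : Rel i j e
  e_mem : InN z θ e
  i_mem : i ∈ Q ∧ i * θ = θ * i ∧ π i = a
  j_mem : j ∈ Q ∧ j * θ = θ * j ∧ π j = b
  i2 : i * i = z
  inj : ∀ k : Idx, nf i j e k = 1 → k = 0
  full : ∀ x ∈ Q, InPlane a b (π x) → ∃ k : Idx, k.2.2 = 0 ∧ nf i j e k = x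

theorem exists_factor {e : G} {a b : V6} (hez : e * z = z * e) (heθ : e * θ = θ * e)
    (he3 : e * e * e = 1) (ha : q6 a = true) (hb : b6 a b = true)
    (h1 : T.frame.data.act e a = b) (h2 : T.frame.data.act e b = a + b)
    (h3 : T.frame.data.act e (a + b) = a) (hl : Low a) :
    ∃ i j, Factor T.frame.data θ a b e i j := by
  have D := T.frame.data
  have hsec : D.sec a ∈ Q ∧ π (D.sec a) = a := ⟨D.sec_mem a, D.π_sec a⟩
  have hlb : ∀ x, x ∈ Q → x * θ = θ * x → e * x * e⁻¹ ∈ Q ∧ e * x * e⁻¹ * θ = θ * (e * x * e⁻¹) :=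
    fun x hx hxθ => ⟨D.sub.conj_mem hez hx,
      ((Commute.mul_left heθ hxθ).mul_left (Commute.inv_left heθ)).eq⟩
  have hπe : ∀ x ∈ Q, π (e * x * e⁻¹) = D.act e (π x) := fun x hx => (D.act_π hez hx).symm
  have hsq : ∀ x ∈ Q, q6 (π x) = true → x * x = z := fun x hx hq =>
    (D.sub.sq_eq hx).resolve_left fun h => by rw [(D.sq x hx).1 h] at hq; exact Bool.noConfusion hq
  have hzz := D.sub.mul_self
  have hez' : ∀ r, e * (z * r) * e⁻¹ = z * (e * r * e⁻¹) := fun r => by rw [← mul_assoc, hez]; group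
  -- choose the sign
  obtain ⟨i, hi, hiθ, hπi, hk⟩ : ∃ i, i ∈ Q ∧ i * θ = θ * i ∧ π i = a ∧
      e * (e * i * e⁻¹) * e⁻¹ = i * (e * i * e⁻¹) := by
    have hi0 := hsec.1
    have hiθ0 : D.sec a * θ = θ * D.sec a := (T.θ_mem_iff hi0).2 (by rw [hsec.2]; exact hl)
    obtain ⟨hj0, -⟩ := hlb _ hi0 hiθ0
    have hπ : π (D.sec a * (e * D.sec a * e⁻¹)) = π (e * (e * D.sec a * e⁻¹) * e⁻¹) := by
      rw [D.map_mul _ hi0 _ hj0, hπe _ hj0, hπe _ hi0, hsec.2, h1, h2]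
    rcases D.eq_or_eq_of_π_eq (mul_mem hi0 hj0) (D.sub.conj_mem hez hj0) hπ with e' | e'
    · exact ⟨_, hi0, hiθ0, hsec.2, e'⟩
    · refine ⟨z * D.sec a, mul_mem D.sub.z_mem hi0,
        (Commute.mul_left T.θ_comm_z.symm hiθ0).eq, by rw [D.π_z_mul hi0, hsec.2], ?_⟩
      rw [hez', hez', e', ← mul_assoc z z, hzz, one_mul,
        show z * D.sec a * (z * (e * D.sec a * e⁻¹)) = z * (D.sec a * z) * (e * D.sec a * e⁻¹) by group,
        D.sub.z_comm hi0, ← mul_assoc z z, hzz, one_mul]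
  obtain ⟨j, hjd⟩ : ∃ j, j = e * i * e⁻¹ := ⟨_, rfl⟩
  rw [← hjd] at hk
  have hj : j ∈ Q ∧ j * θ = θ * j := hjd ▸ hlb i hi hiθ
  have hπj : π j = b := by rw [hjd, hπe i hi, hπi, h1]
  have hi2 := hsq i hi (hπi.symm ▸ ha)
  have hqb : q6 b = true := by rw [← h1, (D.act_iso hez).quad, ha]
  have hj2 := hsq j hj.1 (hπj.symm ▸ hqb)
  have hne : i * j ≠ j * i := fun h => by
    have := (D.commute_iff hi hj.1).1 h
    rw [hπi, hπj, hb] at this
    exact Bool.noConfusion this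
  have hiinv : i⁻¹ = z * i := by
    refine inv_eq_of_mul_eq_one_right ?_
    rw [← mul_assoc, D.sub.z_comm hi, mul_assoc, hi2, hzz]
  have R : Rel i j e := by
    refine ⟨by rw [hi2, hzz], by rw [hi2, hj2], ?_, he3, ?_, ?_⟩
    · rw [hiinv, ← D.sub.conj_of_not_commute hj.1 hi hne.symm, inv_mul_cancel_right]
    · rw [hjd]; group
    · rw [← hk]; group
  have hπij : ∀ (p : Fin 4) (r : Fin 2), π (i ^ p.val * j ^ r.val) = sm (p.val % 2 == 1) a + sm (r.val == 1) b ∧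
      i ^ p.val * j ^ r.val ∈ Q := by
    intro p r
    refine ⟨?_, mul_mem (pow_mem hi _) (pow_mem hj.1 _)⟩
    rw [D.map_mul _ (pow_mem hi _) _ (pow_mem hj.1 _)]
    congr 1
    · fin_cases p
      · simp [D.π_one, sm]
      · simp [hπi, sm]
      · simp [pow_two, hi2, D.π_z, sm]
      · simp [pow_succ, hi2, D.π_z_mul hi, hπi, sm]
    · fin_cases r <;> simp [D.π_one, hπj, sm]
  refine ⟨i, j, R, ⟨hez, heθ⟩, ⟨hi, hiθ, hπi⟩, ⟨hj.1, hj.2, hπj⟩, hi2, ?_, ?_⟩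
  · rintro ⟨p, r, c⟩ hk1
    have hk1' : i ^ p.val * (j ^ r.val * e ^ c.val) = 1 := hk1
    obtain ⟨hπpr, hQpr⟩ := hπij p r
    have hact : D.act (e ^ c.val) a = a := by
      rw [← mul_assoc] at hk1'
      rw [eq_inv_of_mul_eq_one_right hk1', D.act_of_mem (inv_mem hQpr)]
    rw [D.act_pow hez] at hact
    have hc : c = 0 := by
      fin_cases c
      · rfl
      · exfalso
        have hh : D.act e a = a := hact
        rw [h1] at hh
        rw [← hh, b6_self] at hb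
        exact Bool.noConfusion hb
      · exfalso
        have hh : D.act e (D.act e a) = a := hact
        rw [h1, h2] at hh
        rw [add_eq_left.1 hh, b6_comm, b6_zero_left] at hb
        exact Bool.noConfusion hb
    subst hc
    rw [Fin.val_zero, pow_zero, mul_one] at hk1'
    rw [hk1', D.π_one] at hπpr
    have hb2 := congrArg (fun v => b6 v a) hπpr
    have ha2 := congrArg (fun v => b6 v b) hπpr
    simp only [b6_zero_left, b6_add_left, b6_sm_left, b6_self, b6_comm b a, hb] at hb2 ha2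
    fin_cases r
    · fin_cases p
      · rfl
      · simp at ha2
      · exfalso
        rw [show ((⟨2, by norm_num⟩ : Fin 4).val) = 2 from rfl, pow_two, hi2] at hk1'
        exact D.sub.ne_one (by simpa using hk1')
      · simp at ha2
    · simp at hb2
  · intro x hx hp
    have key : ∀ (p : Fin 4) (r : Fin 2), π x = sm (p.val % 2 == 1) a + sm (r.val == 1) b →
        ∃ k : Idx, k.2.2 = 0 ∧ nf i j e k = x := by
      intro p r hpr
      obtain ⟨hπpr, hQpr⟩ := hπij p r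
      rcases D.eq_or_eq_of_π_eq hQpr hx (by rw [hπpr, hpr]) with e' | e'
      · exact ⟨(p, r, 0), rfl, by rw [e']; simp [nf]⟩
      · refine ⟨(p + 2, r, 0), rfl, ?_⟩
        rw [e', ← hi2, nf, Fin.val_add, ← pow_eq_pow_mod _ R.i_pow_four, pow_add]
        simp only [Fin.val_zero, pow_zero, mul_one]
        rw [show ((2 : Fin 4) : ℕ) = 2 from rfl, pow_two, ← mul_assoc, ← mul_assoc,
          show i ^ p.val * i * i = i * i * i ^ p.val by
            rw [mul_assoc, ← pow_two, ← pow_add, ← pow_add, add_comm]]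
    rcases hp with e' | e' | e' | e'
    · exact key 0 0 (by simp [e', sm])
    · exact key 1 0 (by simp [e', sm])
    · exact key 0 1 (by simp [e', sm])
    · exact key 1 1 (by simp [e', sm])

/-- The two factors and their properties. -/
structure Pairs (D : Data z Q π) (θ e₁ i₁ j₁ e₂ i₂ j₂ : G) : Prop where
  A : Factor D θ (mk6 3) (mk6 13) e₁ i₁ j₁
  B : Factor D θ (mk6 12) (mk6 7) e₂ i₂ j₂
  act₁ : ∀ v, D.act e₁ v = rotA v
  act₂ : ∀ v, D.act e₂ v = rotB v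
  comm : ∀ k l : Idx, Commute (nf i₁ j₁ e₁ k) (nf i₂ j₂ e₂ l)

theorem exists_pairs : ∃ e₁ i₁ j₁ e₂ i₂ j₂, Pairs T.frame.data θ e₁ i₁ j₁ e₂ i₂ j₂ := by
  have D := T.frame.data
  obtain ⟨e₁, h1z, h1θ, h1c, h1v⟩ := T.exists_rot (p := (3, 13)) (by decide)
    (fun v => (rot_comm v).1) (fun v => (rot_cube v).1)
  obtain ⟨e₂, h2z, h2θ, h2c, h2v⟩ := T.exists_rot (p := (12, 7)) (by decide)
    (fun v => (rot_comm v).2.1) (fun v => (rot_cube v).2)
  have h1v' : ∀ v, D.act e₁ v = rotA v := h1v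
  have h2v' : ∀ v, D.act e₂ v = rotB v := h2v
  obtain ⟨qa, ba, a1, a2, a3, la⟩ := planeA_facts
  obtain ⟨qb, bb, b1, b2, b3, lb⟩ := planeB_facts
  obtain ⟨i₁, j₁, hA⟩ := T.exists_factor h1z h1θ h1c qa ba ((h1v' _).trans a1) ((h1v' _).trans a2)
    ((h1v' _).trans a3) la
  obtain ⟨i₂, j₂, hB⟩ := T.exists_factor h2z h2θ h2c qb bb ((h2v' _).trans b1) ((h2v' _).trans b2)
    ((h2v' _).trans b3) lb
  obtain ⟨-, -, fa12, fa7, -, -, fb3, fb13, -, -⟩ := rot_fixed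
  have c1i : Commute e₁ i₂ := D.comm_of_fixed h1z h1c hB.i_mem.1 (by rw [h1v', hB.i_mem.2.2, fa12])
  have c1j : Commute e₁ j₂ := D.comm_of_fixed h1z h1c hB.j_mem.1 (by rw [h1v', hB.j_mem.2.2, fa7])
  have c2i : Commute e₂ i₁ := D.comm_of_fixed h2z h2c hA.i_mem.1 (by rw [h2v', hA.i_mem.2.2, fb3])
  have c2j : Commute e₂ j₁ := D.comm_of_fixed h2z h2c hA.j_mem.1 (by rw [h2v', hA.j_mem.2.2, fb13])
  have orth : ∀ {x y}, x ∈ Q → y ∈ Q → b6 (π x) (π y) = false → Commute x y :=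
    fun hx hy h => (D.commute_iff hx hy).2 h
  have cii : Commute i₁ i₂ := orth hA.i_mem.1 hB.i_mem.1 (by rw [hA.i_mem.2.2, hB.i_mem.2.2]; decide)
  have cij : Commute i₁ j₂ := orth hA.i_mem.1 hB.j_mem.1 (by rw [hA.i_mem.2.2, hB.j_mem.2.2]; decide)
  have cji : Commute j₁ i₂ := orth hA.j_mem.1 hB.i_mem.1 (by rw [hA.j_mem.2.2, hB.i_mem.2.2]; decide)
  have cjj : Commute j₁ j₂ := orth hA.j_mem.1 hB.j_mem.1 (by rw [hA.j_mem.2.2, hB.j_mem.2.2]; decide)
  have cee : Commute e₁ e₂ := by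
    obtain ⟨c, hc⟩ : ∃ c, c = e₁ * e₂ * e₁⁻¹ * e₂⁻¹ := ⟨_, rfl⟩
    have h12 := Commute.mul_left (show Commute e₁ z from h1z) h2z
    have hcz : c * z = z * c := by
      rw [hc]; exact ((h12.mul_left (Commute.inv_left h1z)).mul_left (Commute.inv_left h2z)).eq
    have hcθ : c * θ = θ * c := by
      rw [hc]
      exact (((Commute.mul_left h1θ h2θ).mul_left (Commute.inv_left h1θ)).mul_left
        (Commute.inv_left h2θ)).eq
    have hcQ : c ∈ Q := D.mem_of_act hcz fun v => by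
      have e1i : e₁⁻¹ * z = z * e₁⁻¹ := (Commute.inv_left h1z).eq
      have e2i : e₂⁻¹ * z = z * e₂⁻¹ := (Commute.inv_left h2z).eq
      rw [hc, D.act_mul (h12.mul_left e1i).eq e2i, D.act_mul h12.eq e1i, D.act_mul h1z h2z]
      obtain ⟨w, rfl⟩ : ∃ w, rotB (rotA w) = v :=
        ⟨rotA (rotA (rotB (rotB v))), by rw [(rot_cube _).1, (rot_cube _).2]⟩
      rw [← h2v' (rotA w), (D.act_inv_cancel h2z _).1, ← h1v' w, (D.act_inv_cancel h1z _).1, h1v',
        h2v', h1v', (rot_comm w).2.2, h2v']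
    have cB : ∀ x y, Commute e₁ x → Commute e₁ y → e₂ * y = x * e₂ → c * x = x * c := fun x y hx hy h => by
      have h' : e₂⁻¹ * x = y * e₂⁻¹ := by rw [eq_mul_inv_iff_mul_eq, mul_assoc, ← h, inv_mul_cancel_left]
      rw [hc]
      calc e₁ * e₂ * e₁⁻¹ * e₂⁻¹ * x = e₁ * e₂ * e₁⁻¹ * (e₂⁻¹ * x) := by group
        _ = e₁ * e₂ * (e₁⁻¹ * y) * e₂⁻¹ := by rw [h']; group
        _ = e₁ * (e₂ * y) * e₁⁻¹ * e₂⁻¹ := by rw [(hy.inv_left).eq]; group
        _ = e₁ * x * (e₂ * e₁⁻¹ * e₂⁻¹) := by rw [h]; group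
        _ = _ := by rw [hx.eq]; group
    have cA : ∀ x y, Commute e₂ x → Commute e₂ y → e₁ * y = x * e₁ → c * x = x * c := fun x y hx hy h => by
      have h' : e₁⁻¹ * x = y * e₁⁻¹ := by rw [eq_mul_inv_iff_mul_eq, mul_assoc, ← h, inv_mul_cancel_left]
      rw [hc]
      calc e₁ * e₂ * e₁⁻¹ * e₂⁻¹ * x = e₁ * e₂ * e₁⁻¹ * (e₂⁻¹ * x) := by group
        _ = e₁ * e₂ * (e₁⁻¹ * x) * e₂⁻¹ := by rw [(hx.inv_left).eq]; group
        _ = e₁ * (e₂ * y) * e₁⁻¹ * e₂⁻¹ := by rw [h']; group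
        _ = (e₁ * y) * (e₂ * e₁⁻¹ * e₂⁻¹) := by rw [hy.eq]; group
        _ = _ := by rw [h]; group
    have hB' : e₂ * (j₂ * i₂⁻¹) = i₂ * e₂ := by
      rw [← mul_assoc, hB.rel.ej, mul_inv_eq_iff_eq_mul, mul_assoc i₂ e₂, hB.rel.ei, mul_assoc]
    have hA' : e₁ * (j₁ * i₁⁻¹) = i₁ * e₁ := by
      rw [← mul_assoc, hA.rel.ej, mul_inv_eq_iff_eq_mul, mul_assoc i₁ e₁, hA.rel.ei, mul_assoc]
    have k1 := cB i₂ (j₂ * i₂⁻¹) c1i (c1j.mul_right c1i.inv_right) hB'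
    have k2 := cB j₂ i₂ c1j c1i hB.rel.ei
    have k3 := cA i₁ (j₁ * i₁⁻¹) c2i (c2j.mul_right c2i.inv_right) hA'
    have k4 := cA j₁ i₁ c2j c2i hA.rel.ei
    rw [D.commute_iff hcQ hB.i_mem.1, hB.i_mem.2.2] at k1
    rw [D.commute_iff hcQ hB.j_mem.1, hB.j_mem.2.2] at k2
    rw [D.commute_iff hcQ hA.i_mem.1, hA.i_mem.2.2] at k3
    rw [D.commute_iff hcQ hA.j_mem.1, hA.j_mem.2.2] at k4
    have hlow := (low_iff _).1 ((T.θ_mem_iff hcQ).1 hcθ)
    have h0 : π c = 0 := by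
      rw [plane_expand (π c), k1, k2, k3, k4, hlow.1, hlow.2]
      simp [sm]
    rcases D.mem_of_π_zero hcQ h0 with e | e
    · rw [hc] at e
      show e₁ * e₂ = e₂ * e₁
      exact mul_inv_eq_iff_eq_mul.1 (mul_inv_eq_one.1 e)
    · exfalso
      have e' : e₁ * e₂ * e₁⁻¹ = z * e₂ := mul_inv_eq_iff_eq_mul.1 (hc ▸ e)
      have h := congrArg (fun r => r * r * r) e'
      rw [show e₁ * e₂ * e₁⁻¹ * (e₁ * e₂ * e₁⁻¹) * (e₁ * e₂ * e₁⁻¹) =
        e₁ * (e₂ * e₂ * e₂) * e₁⁻¹ by group, h2c, mul_one, mul_inv_cancel,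
        show z * e₂ * (z * e₂) * (z * e₂) = z * (e₂ * z) * (e₂ * z) * e₂ by group, h2z,
        show z * (z * e₂) * (z * e₂) * e₂ = z * z * (e₂ * z) * e₂ * e₂ by group, h2z,
        D.sub.mul_self, one_mul, mul_assoc, mul_assoc, ← mul_assoc e₂, h2c, mul_one] at h
      exact D.sub.ne_one h.symm
  have hword : ∀ {i j e : G} (x : G), Commute i x → Commute j x → Commute e x →
      ∀ k : Idx, Commute (nf i j e k) x := fun x h1 h2 h3 k =>
    (h1.pow_left _).mul_left ((h2.pow_left _).mul_left (h3.pow_left _))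
  exact ⟨e₁, i₁, j₁, e₂, i₂, j₂, hA, hB, h1v', h2v', fun k l =>
    hword _ (hword i₁ cii.symm cij.symm c2i l).symm
      (hword j₁ cji.symm cjj.symm c2j l).symm
      (hword e₁ c1i.symm c1j.symm cee.symm l).symm k⟩

end Four

end CfsgLib.SuzType
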