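import Cfsg.Agent.SuzType.ThreeNormal

/-!
# Isometries of the fixed space of the rotation as quadruples
-/

set_option autoImplicit false

namespace CfsgLib.SuzType

/-- The fixed vectors of `sigW`. -/
def lowList : List V6 := (List.range 16).map mk6

/-- The nonsingular fixed vectors. -/
def sixNs : List V6 := ([3, 13, 14, 12, 7, 11] : List ℕ).map mk6

/-- The possible images of `3, 13, 12, 7`. -/
def lowIsoList : List (V6 × V6 × V6 × V6) :=
  sixNs.flatMap fun a => (sixNs.filter fun c => b6 a c).flatMap fun c =>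
    (sixNs.filter fun x => !b6 a x && !b6 c x).flatMap fun x =>
      (sixNs.filter fun y => b6 x y && !b6 a y && !b6 c y).map fun y => (a, c, x, y)

/-- The map with the given images. -/
def app4 (L : V6 × V6 × V6 × V6) (v : V6) : V6 :=
  sm (b6 v (mk6 13)) L.1 + sm (b6 v (mk6 3)) L.2.1 + sm (b6 v (mk6 7)) L.2.2.1 +
    sm (b6 v (mk6 12)) L.2.2.2

/-- Commuting with a map on the fixed vectors. -/
def commOn (L : V6 × V6 × V6 × V6) (r : V6 → V6) : Bool :=
  lowList.all fun v => decide (app4 L (r v) = r (app4 L v))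

/-- Fixing the fixed vectors. -/
def idOn (f : V6 → V6) : Bool := lowList.all fun v => decide (f v = v)

theorem mem_lowList : ∀ v : V6, Low v → v ∈ lowList := by decide +kernel

theorem lowList_low : ∀ v ∈ lowList, Low v := by decide +kernel

theorem cube_commutes : (lowIsoList.all fun L =>
    !(idOn fun v => app4 L (app4 L (app4 L v))) || (commOn L rotA && commOn L rotB)) = true := by
  decide +kernel

theorem invol_pairs : ([(1, 1), (1, 2), (2, 1), (2, 2)].all fun p : ℕ × ℕ =>
    let C := lowIsoList.filter fun L => commOn L (fun v => rotA^[p.1] (rotB^[p.2] v)) &&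
      idOn (fun v => app4 L (app4 L v))
    C.all fun L => C.all fun M => !(idOn fun v => app4 L (app4 M (app4 L (app4 M v)))) ||
      idOn (app4 L) || idOn (app4 M) || idOn (fun v => app4 L (app4 M v))) = true := by
  decide +kernel

theorem fixed_both : ∀ i j : Fin 3, i ≠ 0 → j ≠ 0 → ∀ v : V6, Low v →
    rotA^[i.val] (rotB^[j.val] v) = v → v = 0 := by decide +kernel

namespace IsIso6

variable {f : V6 → V6}

theorem exists_low (hf : IsIso6 f) (hs : ∀ v, f (sigW v) = sigW (f v)) :
    ∃ L ∈ lowIsoList, ∀ v, Low v → f v = app4 L v := by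
  obtain ⟨-, -, -, -, l3, l13, l12, l7⟩ := sigW_facts
  refine ⟨(f (mk6 3), f (mk6 13), f (mk6 12), f (mk6 7)), ?_, fun v hv => ?_⟩
  · have h6 : ∀ v, Low v → q6 v = true → v ∈ sixNs := by decide +kernel
    have hmem : ∀ n, Low (mk6 n) → q6 (mk6 n) = true → f (mk6 n) ∈ sixNs := fun n hl hq =>
      h6 _ (hf.low hs hl) (by rw [hf.quad, hq])
    simp only [lowIsoList, List.mem_flatMap, List.mem_filter, List.mem_map, Prod.mk.injEq]
    refine ⟨_, hmem 3 l3 (by decide), _, ⟨hmem 13 l13 (by decide), ?_⟩, _,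
      ⟨hmem 12 l12 (by decide), ?_⟩, _, ⟨hmem 7 l7 (by decide), ?_⟩, rfl, rfl, rfl, rfl⟩
    all_goals simp only [Bool.and_eq_true, Bool.not_eq_true', hf.polar]
    all_goals decide
  · obtain ⟨h1, h2⟩ := (low_iff v).1 hv
    conv_lhs => rw [plane_expand v]
    simp only [hf.add, hf.map_sm, h1, h2, app4, show ∀ x : V6, sm false x = 0 from fun _ => rfl, add_zero]

end IsIso6

theorem commOn_spec {L : V6 × V6 × V6 × V6} {r : V6 → V6} (h : commOn L r = true) {v : V6}
    (hv : Low v) : app4 L (r v) = r (app4 L v) := by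
  simpa using List.all_eq_true.1 h v (mem_lowList v hv)

theorem idOn_spec {f : V6 → V6} (h : idOn f = true) {v : V6} (hv : Low v) : f v = v := by
  simpa using List.all_eq_true.1 h v (mem_lowList v hv)

theorem idOn_intro {f : V6 → V6} (h : ∀ v, Low v → f v = v) : idOn f = true :=
  List.all_eq_true.2 fun v hv => by simpa using h v (lowList_low v hv)

theorem commOn_intro {L : V6 × V6 × V6 × V6} {r : V6 → V6}
    (h : ∀ v, Low v → app4 L (r v) = r (app4 L v)) : commOn L r = true :=
  List.all_eq_true.2 fun v hv => by simpa using h v (lowList_low v hv)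

/-- An isometry cubing to the identity on the fixed space commutes with both rotations there. -/
theorem low_cube_commutes {f : V6 → V6} (hf : IsIso6 f) (hs : ∀ v, f (sigW v) = sigW (f v))
    (h : ∀ v, Low v → f (f (f v)) = v) :
    ∀ v, Low v → f (rotA v) = rotA (f v) ∧ f (rotB v) = rotB (f v) := by
  obtain ⟨L, hL, hLv⟩ := hf.exists_low hs
  have hlA : ∀ v, Low v → Low (rotA v) := by decide +kernel
  have hlB : ∀ v, Low v → Low (rotB v) := by decide +kernel
  have h3 := List.all_eq_true.1 cube_commutes L hL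
  rw [idOn_intro (fun v hv => by
    rw [← hLv v hv, ← hLv _ (hf.low hs hv), ← hLv _ (hf.low hs (hf.low hs hv)), h v hv])] at h3
  simp only [Bool.not_true, Bool.false_or, Bool.and_eq_true] at h3
  intro v hv
  rw [hLv _ (hlA v hv), hLv _ (hlB v hv), hLv v hv]
  exact ⟨commOn_spec h3.1 hv, commOn_spec h3.2 hv⟩

/-- Two commuting involutions commuting with a rotation of both planes: one of them or their
product is trivial. -/
theorem low_invol_pair {f g : V6 → V6} (hf : IsIso6 f) (hg : IsIso6 g)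
    (sf : ∀ v, f (sigW v) = sigW (f v)) (sg : ∀ v, g (sigW v) = sigW (g v)) {i j : Fin 3}
    (hi : i ≠ 0) (hj : j ≠ 0) (f2 : ∀ v, Low v → f (f v) = v) (g2 : ∀ v, Low v → g (g v) = v)
    (fg : ∀ v, Low v → f (g (f (g v))) = v)
    (fr : ∀ v, Low v → f (rotA^[i.val] (rotB^[j.val] v)) = rotA^[i.val] (rotB^[j.val] (f v)))
    (gr : ∀ v, Low v → g (rotA^[i.val] (rotB^[j.val] v)) = rotA^[i.val] (rotB^[j.val] (g v))) :
    (∀ v, Low v → f v = v) ∨ (∀ v, Low v → g v = v) ∨ ∀ v, Low v → f (g v) = v := by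
  obtain ⟨L, hL, hLv⟩ := hf.exists_low sf
  obtain ⟨M, hM, hMv⟩ := hg.exists_low sg
  have hlr : ∀ i j : Fin 3, ∀ v, Low v → Low (rotA^[i.val] (rotB^[j.val] v)) := by decide +kernel
  have hp : (i.val, j.val) ∈ ([(1, 1), (1, 2), (2, 1), (2, 2)] : List (ℕ × ℕ)) :=
    (by decide : ∀ a b : Fin 3, a ≠ 0 → b ≠ 0 →
      (a.val, b.val) ∈ ([(1, 1), (1, 2), (2, 1), (2, 2)] : List (ℕ × ℕ))) i j hi hj
  have h := List.all_eq_true.1 invol_pairs _ hp
  simp only [List.all_eq_true, List.mem_filter, Bool.and_eq_true] at h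
  have h' := h L ⟨hL, commOn_intro fun v hv => by rw [← hLv v hv, ← hLv _ (hlr i j v hv), fr v hv],
    idOn_intro fun v hv => by rw [← hLv v hv, ← hLv _ (hf.low sf hv), f2 v hv]⟩ M
    ⟨hM, commOn_intro fun v hv => by rw [← hMv v hv, ← hMv _ (hlr i j v hv), gr v hv],
    idOn_intro fun v hv => by rw [← hMv v hv, ← hMv _ (hg.low sg hv), g2 v hv]⟩
  rw [idOn_intro (f := fun v => app4 L (app4 M (app4 L (app4 M v)))) (fun v hv => by
    have l1 := hg.low sg hv
    have l2 := hf.low sf l1
    have l3 := hg.low sg l2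
    rw [← hMv v hv, ← hLv _ l1, ← hMv _ l2, ← hLv _ l3, fg v hv])] at h'
  simp only [Bool.not_true, Bool.false_or, Bool.or_eq_true] at h'
  rcases h' with (h' | h') | h'
  · exact Or.inl fun v hv => (hLv v hv).trans (idOn_spec h' hv)
  · exact Or.inr (Or.inl fun v hv => (hMv v hv).trans (idOn_spec h' hv))
  · refine Or.inr (Or.inr fun v hv => ?_)
    rw [hLv _ (hg.low sg hv), hMv v hv]
    exact idOn_spec (f := fun v => app4 L (app4 M v)) h' hv

end CfsgLib.SuzType
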