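import Cfsg.Agent.UFourType.Psu

/-!
# An element of order three of `PSU₄(3)` with a quaternion group and a commutator in its centralizer
-/

set_option autoImplicit false
set_option maxRecDepth 100000

namespace CfsgLib.SuzType.UModel

open Matrix CfsgLib.UThree CfsgLib.UFourThree CfsgLib.UFourType

/-- Two root elements. -/
def gC : List (List ℕ) := [[2, 7, 2, 0], [4, 0, 8, 0], [1, 7, 1, 0], [0, 0, 0, 1]]

/-- The second root element. -/
def hC : List (List ℕ) := [[2, 7, 3, 0], [4, 0, 5, 0], [3, 4, 1, 0], [0, 0, 0, 1]]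

/-- Their commutator. -/
def xC : List (List ℕ) := [[4, 4, 0, 0], [5, 7, 0, 0], [0, 0, 1, 0], [0, 0, 0, 1]]

/-- Two elements of order four of the other block. -/
def aC : List (List ℕ) := [[1, 0, 0, 0], [0, 1, 0, 0], [0, 0, 3, 0], [0, 0, 0, 6]]

/-- The second element of order four. -/
def bC : List (List ℕ) := [[1, 0, 0, 0], [0, 1, 0, 0], [0, 0, 0, 1], [0, 0, 2, 0]]

/-- Their square. -/
def zC : List (List ℕ) := [[1, 0, 0, 0], [0, 1, 0, 0], [0, 0, 2, 0], [0, 0, 0, 2]]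

/-- An element exchanging the blocks. -/
def wC : List (List ℕ) := [[0, 0, 1, 0], [0, 0, 0, 1], [1, 0, 0, 0], [0, 1, 0, 0]]

theorem ok_all : ([gC, hC, xC, aC, bC, zC, wC].all fun A => colsOK A && det4 A == 1) = true := by
  decide +kernel

theorem rels_all : (mul4 gC (mul4 hC (mul4 (star4 gC) (star4 hC))) == xC &&
    mul4 gC (star4 gC) == diag4 1 1 && mul4 hC (star4 hC) == diag4 1 1 &&
    mul4 xC (mul4 xC xC) == diag4 1 1 && mul4 gC xC == mul4 xC gC && mul4 hC xC == mul4 xC hC &&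
    mul4 aC xC == mul4 xC aC && mul4 bC xC == mul4 xC bC && mul4 aC aC == zC && mul4 bC bC == zC &&
    mul4 (mul4 aC bC) (mul4 aC bC) == zC && mul4 zC zC == diag4 1 1 &&
    get4 (mul4 xC wC) 0 2 != get4 (mul4 wC xC) 0 2 &&
    get4 (mul4 zC wC) 0 2 != get4 (mul4 wC zC) 0 2 &&
    ([gC, hC].all fun A => colsOK (star4 A) && det4 (star4 A) == 1)) = true := by decide +kernel

theorem exists_model (K : Type) [Field K] [Fintype K] (hK : Fintype.card K = 9) :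
    ∃ x g h a b z : Cfsg.PSU 4 K 3, x ≠ 1 ∧ x * x * x = 1 ∧ g * x = x * g ∧ h * x = x * h ∧
      g * h * g⁻¹ * h⁻¹ = x ∧ a * x = x * a ∧ b * x = x * b ∧ a * a = z ∧ b * b = z ∧
      a * b * (a * b) = z ∧ z ≠ 1 ∧ z * z = 1 := by
  classical
  haveI : CharP K 3 := by
    obtain ⟨p, hp⟩ := CharP.exists K
    obtain ⟨n, hn, e⟩ := FiniteField.card K p
    have : p ∣ 3 := by
      refine hn.dvd_of_dvd_pow (n := 2) ?_
      rw [show (3 : ℕ) ^ 2 = p ^ (n : ℕ) by omega]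
      exact dvd_pow_self p n.pos.ne'
    rcases (Nat.dvd_prime Nat.prime_three).1 this with h | h
    · exact absurd h hn.ne_one
    · exact h ▸ hp
  obtain ⟨ι, hι⟩ := exists_iota (F := K) hK
  let toM : Cfsg.SU 4 K 3 →* Matrix (Fin 4) (Fin 4) K :=
    (Cfsg.slToMat 4 K).comp (Cfsg.SU 4 K 3).subtype
  have toM_inj : Function.Injective toM := fun a b e => Subtype.ext (Subtype.ext e)
  have mk : ∀ A ∈ [gC, hC, xC, aC, bC, zC, wC], ∃ u : Cfsg.SU 4 K 3, toM u = mat4 ι A := fun A hA => by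
    have h := List.all_eq_true.1 ok_all A hA
    simp only [Bool.and_eq_true, beq_iff_eq] at h
    exact exists_su hι h.1 h.2
  have hr := rels_all
  simp only [Bool.and_eq_true, beq_iff_eq, bne_iff_ne, List.all_cons, List.all_nil, Bool.and_true] at hr
  obtain ⟨⟨⟨⟨⟨⟨⟨⟨⟨⟨⟨⟨⟨⟨rx, rg⟩, rh⟩, r3⟩, rgx⟩, rhx⟩, rax⟩, rbx⟩, raa⟩, rbb⟩, rab⟩, rzz⟩, rxw⟩, rzw⟩,
    ⟨cg, dg⟩, ch, dh⟩ := hr
  obtain ⟨g, hg⟩ := mk gC (by simp)
  obtain ⟨h, hh⟩ := mk hC (by simp)
  obtain ⟨x, hx⟩ := mk xC (by simp)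
  obtain ⟨a, ha⟩ := mk aC (by simp)
  obtain ⟨b, hb⟩ := mk bC (by simp)
  obtain ⟨z, hz⟩ := mk zC (by simp)
  obtain ⟨w, hw⟩ := mk wC (by simp)
  obtain ⟨g', hg'⟩ : ∃ u : Cfsg.SU 4 K 3, toM u = mat4 ι (star4 gC) := exists_su hι cg dg
  obtain ⟨h', hh'⟩ : ∃ u : Cfsg.SU 4 K 3, toM u = mat4 ι (star4 hC) := exists_su hι ch dh
  have key : ∀ {u v : Cfsg.SU 4 K 3} {A B : List (List ℕ)}, toM u = mat4 ι A → toM v = mat4 ι B →
      A = B → u = v := fun hu hv e => toM_inj (by rw [hu, hv, e])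
  have hm : ∀ {u v : Cfsg.SU 4 K 3} {A B : List (List ℕ)}, toM u = mat4 ι A → toM v = mat4 ι B →
      toM (u * v) = mat4 ι (mul4 A B) := fun hu hv => by rw [map_mul, hu, hv, ← mat4_mul hι]
  have h1 : toM 1 = mat4 ι (diag4 1 1) := by rw [map_one, mat4_one]
  have egi : g' = g⁻¹ := eq_inv_of_mul_eq_one_right (key (hm hg hg') h1 rg)
  have ehi : h' = h⁻¹ := eq_inv_of_mul_eq_one_right (key (hm hh hh') h1 rh)
  have ex : g * (h * (g' * h')) = x := key (hm hg (hm hh (hm hg' hh'))) hx rx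
  have ne : ∀ {u : Cfsg.SU 4 K 3} {A : List (List ℕ)}, toM u = mat4 ι A →
      get4 (mul4 A wC) 0 2 ≠ get4 (mul4 wC A) 0 2 → u ∉ Subgroup.center (Cfsg.SU 4 K 3) := by
    intro u A hu hne hc
    have e := congrArg toM ((Subgroup.mem_center_iff.1 hc w).symm)
    rw [hm hu hw, hm hw hu] at e
    refine hne (val9_injOn hι ?_ ?_ (congrFun (congrFun e 0) 2))
    · simp only [mul4, get4_tab4 _ (show 0 < 4 by norm_num) (show 2 < 4 by norm_num)]; exact addF_lt _ _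
    · simp only [mul4, get4_tab4 _ (show 0 < 4 by norm_num) (show 2 < 4 by norm_num)]; exact addF_lt _ _
  let q := QuotientGroup.mk' (Subgroup.center (Cfsg.SU 4 K 3))
  refine ⟨q x, q g, q h, q a, q b, q z, fun e => ne hx rxw ((QuotientGroup.eq_one_iff x).1 e), ?_, ?_, ?_,
    ?_, ?_, ?_, ?_, ?_, ?_, fun e => ne hz rzw ((QuotientGroup.eq_one_iff z).1 e), ?_⟩ <;>
    simp only [← map_mul, ← map_inv]
  · rw [mul_assoc, key (hm hx (hm hx hx)) h1 r3, map_one]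
  · rw [key (hm hg hx) (hm hx hg) rgx]
  · rw [key (hm hh hx) (hm hx hh) rhx]
  · rw [← egi, ← ehi, mul_assoc, mul_assoc, ex]
  · rw [key (hm ha hx) (hm hx ha) rax]
  · rw [key (hm hb hx) (hm hx hb) rbx]
  · rw [key (hm ha ha) hz raa]
  · rw [key (hm hb hb) hz rbb]
  · rw [key (hm (hm ha hb) (hm ha hb)) hz rab]
  · rw [key (hm hz hz) h1 rzz, map_one]

end CfsgLib.SuzType.UModel
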