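import Cfsg.Agent.SuzType.ThreeQuot
import Cfsg.Agent.SuzType.ThreeLow
import Cfsg.Agent.SuzType.ThreeModel
import Cfsg.Agent.Forms4.UnitarySimple

/-!
# The centralizer of `θ` is quasisimple, a triple cover of `PSU₄(3)`
-/

set_option autoImplicit false
set_option linter.style.haveILetI false

namespace CfsgLib.SuzType

open scoped commutatorElement

theorem rot_fix_sig : ∀ k : Fin 3, rotA (sigW^[k.val] a0) = sigW^[k.val] a0 ∧
    rotB (sigW^[k.val] a0) = sigW^[k.val] a0 ∧ rotA (sigW (sigW^[k.val] a0)) = sigW (sigW^[k.val] a0) ∧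
    rotB (sigW (sigW^[k.val] a0)) = sigW (sigW^[k.val] a0) := by decide +kernel

namespace Four

variable {G : Type*} [Group G] [Finite G] {z s θ t : G} {Q P : Subgroup G} {π : G → V6}
  (T : Four z Q π P s θ t)
include T

theorem exists_npow {x : G} (h : x ∈ Subgroup.zpowers θ) : ∃ k : ℕ, θ ^ k = x :=
  Submonoid.mem_powers_iff _ _ |>.1 (mem_powers_iff_mem_zpowers.2 h)

theorem zpowers_inN {x : G} (h : x ∈ Subgroup.zpowers θ) : InN z θ x := by
  obtain ⟨k, rfl⟩ := T.exists_npow h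
  exact InN.pow' T T.θ_inN k

theorem act_zpowers_low {x : G} (h : x ∈ Subgroup.zpowers θ) {v : V6} (hv : Low v) :
    T.frame.data.act x v = v := by
  obtain ⟨k, rfl⟩ := T.exists_npow h
  rw [T.frame.data.act_pow T.θ_comm_z, show T.frame.data.act θ = sigW from funext T.θ_act']
  exact Function.iterate_fixed hv k

/-- Commuting with the rotations on the fixed space suffices. -/
theorem comm_rot {c : G} (hc : InN z θ c)
    (h : ∀ v, Low v → T.frame.data.act c (rotA v) = rotA (T.frame.data.act c v) ∧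
      T.frame.data.act c (rotB v) = rotB (T.frame.data.act c v)) :
    (∀ v, T.frame.data.act c (rotA v) = rotA (T.frame.data.act c v)) ∧
      ∀ v, T.frame.data.act c (rotB v) = rotB (T.frame.data.act c v) := by
  have D := T.frame.data
  have hi := D.act_iso hc.1
  obtain ⟨k, hk⟩ := three_cases _ (T.act_three hc.1 (T.act_sig hc))
  obtain ⟨k1, k2, k3, k4⟩ := rot_fix_sig k
  obtain ⟨s1, -, -, -, l3, l13, l12, l7⟩ := sigW_facts
  obtain ⟨-, -, -, -, fa, fu, -, -, fb, fv⟩ := rot_fixed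
  have hu : D.act c u0 = sigW (sigW^[k.val] a0) := by rw [← s1, T.act_sig hc, hk]
  constructor
  · have hA : IsIso6 rotA := iso_pr (3, 13) (by decide)
    refine IsIso6.ext_planes (f := fun v => D.act c (rotA v)) (g := fun v => rotA (D.act c v))
      ⟨fun a b => by simp only [hA.add, hi.add], fun a => by rw [hi.quad, hA.quad]⟩
      ⟨fun a b => by simp only [hi.add, hA.add], fun a => by rw [hA.quad, hi.quad]⟩
      (h _ l3).1 (h _ l13).1 (h _ l12).1 (h _ l7).1 ?_ ?_
    · rw [fa, hk, k1]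
    · rw [fu, hu, k3]
  · have hB : IsIso6 rotB := iso_pr (12, 7) (by decide)
    refine IsIso6.ext_planes (f := fun v => D.act c (rotB v)) (g := fun v => rotB (D.act c v))
      ⟨fun a b => by simp only [hB.add, hi.add], fun a => by rw [hi.quad, hB.quad]⟩
      ⟨fun a b => by simp only [hi.add, hB.add], fun a => by rw [hB.quad, hi.quad]⟩
      (h _ l3).2 (h _ l13).2 (h _ l12).2 (h _ l7).2 ?_ ?_
    · rw [fb, hk, k2]
    · rw [fv, hu, k4]

variable {e₁ i₁ j₁ e₂ i₂ j₂ : G} (W : Pairs T.frame.data θ e₁ i₁ j₁ e₂ i₂ j₂)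
include W

/-- An element of order three modulo `θ` centralised by a quaternion group is conjugate to a
rotation of one plane. -/
theorem rot_class {n a b : G} (hn : InN z θ n) (ha : InN z θ a) (hb : InN z θ b)
    (hn3 : n * n * n ∈ Subgroup.zpowers θ) (hnθ : n ∉ Subgroup.zpowers θ)
    (ha2 : z⁻¹ * (a * a) ∈ Subgroup.zpowers θ) (hb2 : z⁻¹ * (b * b) ∈ Subgroup.zpowers θ)
    (hab2 : z⁻¹ * (a * b * (a * b)) ∈ Subgroup.zpowers θ)
    (han : a * n * a⁻¹ * n⁻¹ ∈ Subgroup.zpowers θ) (hbn : b * n * b⁻¹ * n⁻¹ ∈ Subgroup.zpowers θ) :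
    ∃ r ∈ Q, r * θ = θ * r ∧ ∃ k : ℕ, ∃ i : Fin 3, i ≠ 0 ∧
      (r * n * r⁻¹ = θ ^ k * e₁ ^ i.val ∨ r * n * r⁻¹ = θ ^ k * e₂ ^ i.val) := by
  have D := T.frame.data
  have hlowmul : ∀ {x : G}, x ∈ Subgroup.zpowers θ → ∀ {c : G}, InN z θ c → ∀ v, Low v →
      D.act (x * c) v = D.act c v := fun {x} hx {c} hc v hv => by
    rw [D.act_mul (T.zpowers_inN hx).1 hc.1,
      T.act_zpowers_low hx ((D.act_iso hc.1).low (T.act_sig hc) hv)]
  have hsq : ∀ {c : G}, InN z θ c → z⁻¹ * (c * c) ∈ Subgroup.zpowers θ → ∀ v, Low v →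
      D.act c (D.act c v) = v := fun {c} hc h v hv => by
    rw [← D.act_mul hc.1 hc.1, show c * c = z * (z⁻¹ * (c * c)) by group,
      D.act_mul rfl (T.zpowers_inN h).1, D.act_of_mem D.sub.z_mem, T.act_zpowers_low h hv]
  have hcn : ∀ {c : G}, InN z θ c → c * n * c⁻¹ * n⁻¹ ∈ Subgroup.zpowers θ → ∀ v, Low v →
      D.act c (D.act n v) = D.act n (D.act c v) := fun {c} hc h v hv => by
    rw [← D.act_mul hc.1 hn.1, show c * n = c * n * c⁻¹ * n⁻¹ * (n * c) by group,
      hlowmul h (InN.mul' T hn hc) v hv, D.act_mul hn.1 hc.1]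
  have hnn := InN.mul' T hn hn
  have hn3low : ∀ v, Low v → D.act n (D.act n (D.act n v)) = v := fun v hv => by
    rw [← D.act_mul hn.1 hn.1, ← D.act_mul hnn.1 hn.1, T.act_zpowers_low hn3 hv]
  obtain ⟨cA, cB⟩ := T.comm_rot hn
    (low_cube_commutes (D.act_iso hn.1) (T.act_sig hn) hn3low)
  obtain ⟨k, i, j, q, hq, hqθ, hnw⟩ := T.normal_form W hn cA cB
  have hwN := T.word_inN W k.val i.val j.val
  have hval : ∀ v, Low v → D.act n v = rotA^[i.val] (rotB^[j.val] v) := fun v hv => by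
    have hlr : ∀ i j : Fin 3, ∀ v, Low v → Low (rotA^[i.val] (rotB^[j.val] v)) := by decide +kernel
    rw [hnw, D.act_mul hwN.1 (D.Q_comm hq), D.act_of_mem hq, T.act_word W,
      Function.iterate_fixed (hlr i j v hv)]
  have hθk : Commute (θ ^ k.val) n := (Commute.pow_left (show Commute θ n from hn.2.symm) _)
  by_cases hi0 : i = 0
  · by_cases hj0 : j = 0
    · -- no rotation at all
      exfalso
      subst hi0 hj0
      rw [Fin.val_zero, pow_zero, pow_zero, mul_one, mul_one] at hnw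
      have hqk : Commute (θ ^ k.val) q := Commute.pow_left (show Commute θ q from hqθ.symm) _
      have e3 : n * n * n = (θ ^ k.val) ^ 3 * q ^ 3 := by
        rw [← hqk.mul_pow, hnw, pow_succ, pow_two]
      have hq3 : q ^ 3 = 1 := T.eq_one_of_Q_zpowers (pow_mem hq 3) (by
        have := mul_mem (inv_mem (pow_mem (Subgroup.npow_mem_zpowers θ k.val) 3)) hn3
        rwa [e3, inv_mul_cancel_left] at this)
      have hq4 : q ^ 4 = 1 := by
        rw [pow_succ, pow_succ, pow_two, mul_assoc (q * q)]; exact T.Qθ_pow_four hq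
      rw [pow_succ, hq3, one_mul] at hq4
      exact hnθ (by rw [hnw, hq4, mul_one]; exact Subgroup.npow_mem_zpowers θ _)
    · -- rotation of the second plane
      subst hi0
      rw [Fin.val_zero, pow_zero, mul_one] at hnw
      obtain ⟨m, hm⟩ : ∃ m, m = e₂ ^ j.val * q := ⟨_, rfl⟩
      have hmN : InN z θ m := hm ▸ InN.mul' T (InN.pow' T W.B.e_mem _) ⟨D.Q_comm hq, hqθ⟩
      have hnm : n = θ ^ k.val * m := by rw [hm, ← mul_assoc]; exact hnw
      have he := InN.pow' T W.B.e_mem j.val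
      have hmv : ∀ v, D.act m v = rotB^[j.val] v := fun v => by
        rw [hm, D.act_mul he.1 (D.Q_comm hq), D.act_of_mem hq, D.act_pow W.B.e_mem.1,
          show D.act e₂ = rotB from funext W.act₂]
      have hm3 : m * m * m = 1 := by
        refine T.eq_one_of_Q_zpowers (D.mem_of_act (Commute.mul_left (Commute.mul_left hmN.1 hmN.1) hmN.1).eq fun v => ?_) ?_
        · rw [D.act_mul (Commute.mul_left hmN.1 hmN.1).eq hmN.1, D.act_mul hmN.1 hmN.1, hmv, hmv, hmv,
            ← Function.iterate_add_apply, ← Function.iterate_add_apply,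
            iterate_mod3 _ (fun v => (rot_cube v).2), show (j.val + j.val + j.val) % 3 = 0 by omega]
          rfl
        · have hc : Commute (θ ^ k.val) m := Commute.pow_left (show Commute θ m from hmN.2.symm) _
          have := mul_mem (inv_mem (pow_mem (Subgroup.npow_mem_zpowers θ k.val) 3)) hn3
          rwa [show n * n * n = (θ ^ k.val) ^ 3 * (m * m * m) by
            rw [show m * m * m = m ^ 3 by rw [pow_succ, pow_two], ← hc.mul_pow, hnm, pow_succ, pow_two],
            inv_mul_cancel_left] at this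
      obtain ⟨r, hr, hrθ, hre⟩ := T.conj_in_Qθ he hmN (by
          rw [← pow_add, ← pow_add]
          rw [show j.val + j.val + j.val = 3 * j.val by ring, pow_mul, pow_succ, pow_two, W.B.rel.e3,
            one_pow]) hm3 (fun v => by
          rw [hmv, D.act_pow W.B.e_mem.1, show D.act e₂ = rotB from funext W.act₂])
      refine ⟨r, hr, hrθ, k.val, j, hj0, Or.inr ?_⟩
      rw [← hre, hnm, show r * (θ ^ k.val * m) * r⁻¹ = r * θ ^ k.val * r⁻¹ * (r * m * r⁻¹) by group,
        ((show Commute r θ from hrθ).pow_right k.val).eq]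
      group
  · by_cases hj0 : j = 0
    · -- rotation of the first plane
      subst hj0
      rw [Fin.val_zero, pow_zero, mul_one] at hnw
      obtain ⟨m, hm⟩ : ∃ m, m = e₁ ^ i.val * q := ⟨_, rfl⟩
      have hmN : InN z θ m := hm ▸ InN.mul' T (InN.pow' T W.A.e_mem _) ⟨D.Q_comm hq, hqθ⟩
      have hnm : n = θ ^ k.val * m := by rw [hm, ← mul_assoc]; exact hnw
      have he := InN.pow' T W.A.e_mem i.val
      have hmv : ∀ v, D.act m v = rotA^[i.val] v := fun v => by
        rw [hm, D.act_mul he.1 (D.Q_comm hq), D.act_of_mem hq, D.act_pow W.A.e_mem.1,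
          show D.act e₁ = rotA from funext W.act₁]
      have hm3 : m * m * m = 1 := by
        refine T.eq_one_of_Q_zpowers (D.mem_of_act (Commute.mul_left (Commute.mul_left hmN.1 hmN.1) hmN.1).eq fun v => ?_) ?_
        · rw [D.act_mul (Commute.mul_left hmN.1 hmN.1).eq hmN.1, D.act_mul hmN.1 hmN.1, hmv, hmv, hmv,
            ← Function.iterate_add_apply, ← Function.iterate_add_apply,
            iterate_mod3 _ (fun v => (rot_cube v).1), show (i.val + i.val + i.val) % 3 = 0 by omega]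
          rfl
        · have hc : Commute (θ ^ k.val) m := Commute.pow_left (show Commute θ m from hmN.2.symm) _
          have := mul_mem (inv_mem (pow_mem (Subgroup.npow_mem_zpowers θ k.val) 3)) hn3
          rwa [show n * n * n = (θ ^ k.val) ^ 3 * (m * m * m) by
            rw [show m * m * m = m ^ 3 by rw [pow_succ, pow_two], ← hc.mul_pow, hnm, pow_succ, pow_two],
            inv_mul_cancel_left] at this
      obtain ⟨r, hr, hrθ, hre⟩ := T.conj_in_Qθ he hmN (by
          rw [← pow_add, ← pow_add]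
          rw [show i.val + i.val + i.val = 3 * i.val by ring, pow_mul, pow_succ, pow_two, W.A.rel.e3,
            one_pow]) hm3 (fun v => by
          rw [hmv, D.act_pow W.A.e_mem.1, show D.act e₁ = rotA from funext W.act₁])
      refine ⟨r, hr, hrθ, k.val, i, hi0, Or.inl ?_⟩
      rw [← hre, hnm, show r * (θ ^ k.val * m) * r⁻¹ = r * θ ^ k.val * r⁻¹ * (r * m * r⁻¹) by group,
        ((show Commute r θ from hrθ).pow_right k.val).eq]
      group
    · -- both planes rotated
      exfalso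
      have hab := InN.mul' T ha hb
      have habn : a * b * n * (a * b)⁻¹ * n⁻¹ ∈ Subgroup.zpowers θ := by
        have hax : Commute a (b * n * b⁻¹ * n⁻¹) := by
          obtain ⟨m, hm⟩ := T.exists_npow hbn
          rw [← hm]; exact Commute.pow_right (show Commute a θ from ha.2) m
        rw [show a * b * n * (a * b)⁻¹ * n⁻¹ = a * (b * n * b⁻¹ * n⁻¹) * a⁻¹ * (a * n * a⁻¹ * n⁻¹) by group,
          hax.eq, mul_inv_cancel_right]
        exact mul_mem hbn han
      have hrn : ∀ {c : G}, InN z θ c → c * n * c⁻¹ * n⁻¹ ∈ Subgroup.zpowers θ → ∀ v, Low v →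
          D.act c (rotA^[i.val] (rotB^[j.val] v)) = rotA^[i.val] (rotB^[j.val] (D.act c v)) :=
        fun hc h v hv => by
          rw [← hval v hv, hcn hc h v hv, hval _ ((D.act_iso hc.1).low (T.act_sig hc) hv)]
      have finish : ∀ m : G, InN z θ m → z⁻¹ * (m * m) ∈ Subgroup.zpowers θ →
          m * n * m⁻¹ * n⁻¹ ∈ Subgroup.zpowers θ → (∀ v, Low v → D.act m v = v) → False := by
        intro m hm hm2 hmn hid
        have hlA : ∀ v, Low v → Low (rotA v) := by decide +kernel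
        have hlB : ∀ v, Low v → Low (rotB v) := by decide +kernel
        obtain ⟨mA, mB⟩ := T.comm_rot hm (fun v hv =>
          ⟨by rw [hid v hv, hid _ (hlA v hv)], by rw [hid v hv, hid _ (hlB v hv)]⟩)
        obtain ⟨l, i', j', q', hq', hq'θ, hmw⟩ := T.normal_form W hm mA mB
        have hlN := T.word_inN W l.val i'.val j'.val
        have hmval : ∀ v, D.act m v = sigW^[l.val] (rotA^[i'.val] (rotB^[j'.val] v)) := fun v => by
          rw [hmw, D.act_mul hlN.1 (D.Q_comm hq'), D.act_of_mem hq', T.act_word W]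
        obtain ⟨r3, -, r12, -, -, -⟩ := rotWord_vals l i' j'
        obtain ⟨-, -, -, -, l3, -, l12, -⟩ := sigW_facts
        have hi' : i' = 0 := (rot_inj i').1 (by rw [← r3, ← hmval, hid _ l3])
        have hj' : j' = 0 := (rot_inj j').2.1 (by rw [← r12, ← hmval, hid _ l12])
        subst hi' hj'
        rw [Fin.val_zero, pow_zero, pow_zero, mul_one, mul_one] at hmw
        have hc : Commute (θ ^ l.val) q' := Commute.pow_left (show Commute θ q' from hq'θ.symm) _
        have hq2 : q' * q' = z := by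
          refine T.eq_of_mod D.sub.z_mem (by rw [T.Qθ_pow_four hq', one_mul])
            (Commute.mul_left hq'θ hq'θ).eq ?_
          have := mul_mem hm2 (inv_mem (pow_mem (Subgroup.npow_mem_zpowers θ l.val) 2))
          rwa [show z⁻¹ * (m * m) * ((θ ^ l.val) ^ 2)⁻¹ = z⁻¹ * (q' * q') by
            rw [hmw, ← pow_two (θ ^ l.val * q'), hc.mul_pow, (hc.pow_pow 2 2).eq, pow_two q']
            group] at this
        have hqn : q' * n * q'⁻¹ * n⁻¹ = 1 := by
          refine T.eq_one_of_Q_zpowers ?_ ?_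
          · have := mul_mem hq' (D.sub.conj_mem hn.1 (inv_mem hq'))
            simpa [mul_assoc] using this
          · have hθl : Commute (θ ^ l.val) (q' * n * q'⁻¹) :=
              Commute.pow_left (show Commute θ (q' * n * q'⁻¹) from
                ((Commute.mul_left hq'θ hn.2).mul_left (Commute.inv_left hq'θ)).symm) _
            rwa [hmw, show θ ^ l.val * q' * n * (θ ^ l.val * q')⁻¹ =
              θ ^ l.val * (q' * n * q'⁻¹) * (θ ^ l.val)⁻¹ by group, hθl.eq, mul_inv_cancel_right] at hmn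
        have hlq := (T.θ_mem_iff hq').1 hq'θ
        have hfix : D.act n (π q') = π q' := by
          rw [D.act_π hn.1 hq']
          congr 1
          rw [mul_inv_eq_iff_eq_mul]
          exact (mul_inv_eq_iff_eq_mul.1 (mul_inv_eq_one.1 hqn)).symm
        rw [hval _ hlq] at hfix
        rcases D.mem_of_π_zero hq' (fixed_both i j hi0 hj0 _ hlq hfix) with e | e <;> rw [e] at hq2
        · rw [one_mul] at hq2; exact D.sub.ne_one hq2.symm
        · rw [D.sub.mul_self] at hq2; exact D.sub.ne_one hq2.symm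
      rcases low_invol_pair (D.act_iso ha.1) (D.act_iso hb.1) (T.act_sig ha) (T.act_sig hb) hi0 hj0
        (hsq ha ha2) (hsq hb hb2) (fun v hv => by
          rw [← D.act_mul ha.1 hb.1, ← D.act_mul ha.1 hb.1]
          exact hsq hab hab2 v hv) (hrn ha han) (hrn hb hbn) with h | h | h
      · exact finish a ha ha2 han h
      · exact finish b hb hb2 hbn h
      · exact finish (a * b) hab hab2 habn fun v hv => by rw [D.act_mul ha.1 hb.1]; exact h v hv

/-- A rotation which is a commutator of elements centralising it puts `θ` in the commutator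
subgroup. -/
theorem θ_mem_commutator_of {e g h : G} {k : ℕ} {ε : ℕ} (he : InN z θ e)
    (hinv : ∃ c, InN z θ c ∧ c * e * c⁻¹ = e⁻¹) (hε : θ ^ ε ≠ 1)
    (hconj : ∃ d, d * θ ^ ε * d⁻¹ = e) (he3 : e * e * e = 1)
    (hg : g * θ = θ * g) (hh : h * θ = θ * h)
    (hge : g * e * g⁻¹ * e⁻¹ ∈ Subgroup.zpowers θ) (hhe : h * e * h⁻¹ * e⁻¹ ∈ Subgroup.zpowers θ)
    (hgh : g * h * g⁻¹ * h⁻¹ = θ ^ k * e) :
    (⟨θ, Subgroup.mem_centralizer_singleton_iff.2 rfl⟩ : Subgroup.centralizer ({θ} : Set G)) ∈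
      commutator (Subgroup.centralizer ({θ} : Set G)) := by
  haveI : Fact (Nat.Prime 3) := ⟨Nat.prime_three⟩
  obtain ⟨C', hC'⟩ : ∃ C' : Subgroup G,
      C' = (commutator (Subgroup.centralizer ({θ} : Set G))).map (Subgroup.centralizer ({θ} : Set G)).subtype :=
    ⟨_, rfl⟩
  have hmem : ∀ {x y : G}, x * θ = θ * x → y * θ = θ * y → x * y * x⁻¹ * y⁻¹ ∈ C' := by
    intro x y hx hy
    rw [hC', commutator_def]
    exact ⟨_, Subgroup.commutator_mem_commutator (Subgroup.mem_top
      ⟨x, Subgroup.mem_centralizer_singleton_iff.2 hx⟩) (Subgroup.mem_top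
      ⟨y, Subgroup.mem_centralizer_singleton_iff.2 hy⟩), by simp [commutatorElement_def]⟩
  suffices h' : θ ∈ C' by
    rw [hC'] at h'
    obtain ⟨x, hx, hxe⟩ := h'
    exact (show x = ⟨θ, _⟩ from Subtype.ext hxe) ▸ hx
  by_contra hθ
  have hinter : ∀ x, x ∈ Subgroup.zpowers θ → x ∈ C' → x = 1 := by
    intro x hx hxC
    by_contra hne
    refine hθ ?_
    have hX : Subgroup.zpowers x = Subgroup.zpowers θ :=
      Subgroup.eq_of_le_of_card_ge (Subgroup.zpowers_le.2 hx) (by
        rw [Nat.card_zpowers, Nat.card_zpowers, T.orderOf_θ]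
        have h3 := (Subgroup.zpowers θ).orderOf_dvd_natCard hx
        rw [Nat.card_zpowers, T.orderOf_θ] at h3
        rcases (Nat.dvd_prime Nat.prime_three).1 h3 with h | h
        · exact absurd (orderOf_eq_one_iff.1 h) hne
        · omega)
    exact (Subgroup.zpowers_le.2 hxC) (hX ▸ Subgroup.mem_zpowers θ)
  have heC : e ∈ C' := by
    obtain ⟨c, hc, hce⟩ := hinv
    have h2 := hmem hc.2 he.2
    rw [hce, show e⁻¹ * e⁻¹ = e by
      rw [← mul_inv_rev, inv_eq_of_mul_eq_one_right (show e * e * e = 1 from he3)]] at h2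
    exact h2
  have hge' : g * e = e * g := mul_inv_eq_iff_eq_mul.1 (mul_inv_eq_one.1 (hinter _ hge (hmem hg he.2)))
  have hhe' : h * e = e * h := mul_inv_eq_iff_eq_mul.1 (mul_inv_eq_one.1 (hinter _ hhe (hmem hh he.2)))
  have hk : θ ^ k = 1 := hinter _ (Subgroup.npow_mem_zpowers θ k) (by
    have := mul_mem (hmem hg hh) (inv_mem heC)
    rwa [hgh, mul_inv_cancel_right] at this)
  rw [hk, one_mul] at hgh
  obtain ⟨d, hd⟩ := hconj
  have hgen : ∀ x, x * θ ^ ε = θ ^ ε * x → x * θ = θ * x := by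
    intro x hx
    have hθe : θ ∈ Subgroup.zpowers (θ ^ ε) := by
      have hX : Subgroup.zpowers (θ ^ ε) = Subgroup.zpowers θ :=
        Subgroup.eq_of_le_of_card_ge (Subgroup.zpowers_le.2 (Subgroup.npow_mem_zpowers θ ε)) (by
          rw [Nat.card_zpowers, Nat.card_zpowers, T.orderOf_θ]
          have h3 := (Subgroup.zpowers θ).orderOf_dvd_natCard (Subgroup.npow_mem_zpowers θ ε)
          rw [Nat.card_zpowers, T.orderOf_θ] at h3
          rcases (Nat.dvd_prime Nat.prime_three).1 h3 with h | h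
          · exact absurd (orderOf_eq_one_iff.1 h) hε
          · omega)
      exact hX ▸ Subgroup.mem_zpowers θ
    obtain ⟨m, hm⟩ := Subgroup.mem_zpowers_iff.1 hθe
    rw [← hm]
    exact (show Commute x (θ ^ ε) from hx).zpow_right m
  have hback : ∀ x, x * e = e * x → d⁻¹ * x * d * θ = θ * (d⁻¹ * x * d) := fun x hx => hgen _ (by
    rw [← hd] at hx
    calc d⁻¹ * x * d * θ ^ ε = d⁻¹ * (x * (d * θ ^ ε * d⁻¹)) * d := by group
      _ = _ := by rw [hx]; group)
  have hfin := hmem (hback g hge') (hback h hhe')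
  rw [show d⁻¹ * g * d * (d⁻¹ * h * d) * (d⁻¹ * g * d)⁻¹ * (d⁻¹ * h * d)⁻¹ =
    d⁻¹ * (g * h * g⁻¹ * h⁻¹) * d by group, hgh, ← hd] at hfin
  exact hε (hinter _ (Subgroup.npow_mem_zpowers θ ε) (by simpa [mul_assoc] using hfin))

end Four

namespace Four

variable {G : Type*} [Group G] [Finite G] {z s θ t : G} {Q P : Subgroup G} {π : G → V6}
  (T : Four z Q π P s θ t)
include T

/-- The structure of the centralizer and normalizer of `θ`. -/
theorem three_centralizer (K : Type) [Field K] [Fintype K] (hK : Fintype.card K = 9) :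
    Cfsg.IsQuasisimple (Subgroup.centralizer ({θ} : Set G)) ∧
      Nonempty ((Subgroup.centralizer ({θ} : Set G) ⧸ Zsub θ) ≃* Cfsg.PSU 4 K 3) ∧
      (Subgroup.centralizer ({θ} : Set G)).relIndex (Subgroup.normalizer (Subgroup.zpowers θ : Set G)) = 2 := by
  classical
  obtain ⟨e₁, i₁, j₁, e₂, i₂, j₂, W⟩ := T.exists_pairs
  obtain ⟨⟨f⟩, hinvol⟩ := T.quot_equiv_psu W K hK
  have hsimple : IsSimpleGroup (Cfsg.PSU 4 K 3) :=
    CfsgLib.Forms4.isSimpleGroup_PSU (q := 3) (by rw [hK]; norm_num) 4 (by norm_num) (by norm_num)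
  haveI hH : IsSimpleGroup (Subgroup.centralizer ({θ} : Set G) ⧸ Zsub θ) := f.isSimpleGroup
  obtain ⟨x0, g0, h0, a0', b0, z0, hx1, hx3, hgx, hhx, hgh, hax, hbx, ha2, hb2, hab2, hz1, hz2⟩ :=
    UModel.exists_model K hK
  haveI : Fact (Nat.Prime 2) := ⟨Nat.prime_two⟩
  have hz0 : orderOf (f.symm z0) = 2 := by
    rw [f.symm.orderOf_eq]
    exact orderOf_eq_prime (by rw [pow_two, hz2]) hz1
  obtain ⟨r0, hr0⟩ := isConj_iff.1 (hinvol _ T.zb hz0 T.orderOf_zb)
  obtain ⟨φ, hφ⟩ : ∃ φ : Cfsg.PSU 4 K 3 ≃* _, φ = f.symm.trans (MulAut.conj r0) := ⟨_, rfl⟩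
  have hφz : φ z0 = T.zb := by rw [hφ]; exact hr0
  have hcent : ∀ u, u * z0 = z0 * u → φ u ∈ Subgroup.centralizer ({T.zb} : Set _) := fun u hu =>
    Subgroup.mem_centralizer_singleton_iff.2 (by rw [← hφz, ← map_mul, hu, map_mul])
  have haz : a0' * z0 = z0 * a0' := by rw [← ha2, mul_assoc]
  have hbz : b0 * z0 = z0 * b0 := by rw [← hb2, mul_assoc]
  have hxz : x0 * z0 = z0 * x0 := by
    rw [← ha2, ← mul_assoc, ← hax, mul_assoc, ← hax, mul_assoc]
  obtain ⟨nN, hn⟩ := T.chi_surjective ⟨φ x0, hcent _ hxz⟩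
  obtain ⟨aN, ha⟩ := T.chi_surjective ⟨φ a0', hcent _ haz⟩
  obtain ⟨bN, hb⟩ := T.chi_surjective ⟨φ b0, hcent _ hbz⟩
  obtain ⟨g, hg⟩ := QuotientGroup.mk'_surjective (Zsub θ) (φ g0)
  obtain ⟨h, hh⟩ := QuotientGroup.mk'_surjective (Zsub θ) (φ h0)
  obtain ⟨n, hnd⟩ : ∃ n : Subgroup.centralizer ({θ} : Set G), n =
      ⟨(nN : G), Subgroup.mem_centralizer_singleton_iff.2 (T.mem_cent.1 nN.2).2⟩ := ⟨_, rfl⟩
  obtain ⟨a, had⟩ : ∃ a : Subgroup.centralizer ({θ} : Set G), a =
      ⟨(aN : G), Subgroup.mem_centralizer_singleton_iff.2 (T.mem_cent.1 aN.2).2⟩ := ⟨_, rfl⟩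
  obtain ⟨b, hbd⟩ : ∃ b : Subgroup.centralizer ({θ} : Set G), b =
      ⟨(bN : G), Subgroup.mem_centralizer_singleton_iff.2 (T.mem_cent.1 bN.2).2⟩ := ⟨_, rfl⟩
  have hqn : QuotientGroup.mk' (Zsub θ) n = φ x0 := hnd ▸ congrArg Subtype.val hn
  have hqa : QuotientGroup.mk' (Zsub θ) a = φ a0' := had ▸ congrArg Subtype.val ha
  have hqb : QuotientGroup.mk' (Zsub θ) b = φ b0 := hbd ▸ congrArg Subtype.val hb
  have hrel : ∀ u : Subgroup.centralizer ({θ} : Set G), QuotientGroup.mk' (Zsub θ) u = 1 →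
      (u : G) ∈ Subgroup.zpowers θ := fun u hu =>
    Subgroup.mem_subgroupOf.1 ((QuotientGroup.eq_one_iff (N := Zsub θ) u).1 hu)
  have hnN : InN z θ (n : G) := hnd ▸ T.mem_cent.1 nN.2
  have haN : InN z θ (a : G) := had ▸ T.mem_cent.1 aN.2
  have hbN : InN z θ (b : G) := hbd ▸ T.mem_cent.1 bN.2
  obtain ⟨zc, hzc⟩ : ∃ zc : Subgroup.centralizer ({θ} : Set G), zc = ⟨z, T.z_mem_Cθ⟩ := ⟨_, rfl⟩
  have hqz : QuotientGroup.mk' (Zsub θ) zc = φ z0 := hzc ▸ hφz.symm
  have hzc' : (zc : G) = z := by rw [hzc]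
  have k1 : (n : G) * n * n ∈ Subgroup.zpowers θ := hrel (n * n * n) (by
    rw [map_mul, map_mul, hqn, ← map_mul, ← map_mul, hx3, map_one])
  have k2 : (n : G) ∉ Subgroup.zpowers θ := fun hm => hx1 (φ.injective (by
    rw [map_one, ← hqn]
    exact (QuotientGroup.eq_one_iff (N := Zsub θ) n).2 (Subgroup.mem_subgroupOf.2 hm)))
  have k3 : z⁻¹ * ((a : G) * a) ∈ Subgroup.zpowers θ := by
    have := hrel (zc⁻¹ * (a * a)) (by
      rw [map_mul, map_inv, map_mul, hqz, hqa, ← map_mul, ha2, inv_mul_cancel])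
    simpa [hzc'] using this
  have k4 : z⁻¹ * ((b : G) * b) ∈ Subgroup.zpowers θ := by
    have := hrel (zc⁻¹ * (b * b)) (by
      rw [map_mul, map_inv, map_mul, hqz, hqb, ← map_mul, hb2, inv_mul_cancel])
    simpa [hzc'] using this
  have k5 : z⁻¹ * ((a : G) * b * ((a : G) * b)) ∈ Subgroup.zpowers θ := by
    have := hrel (zc⁻¹ * (a * b * (a * b))) (by
      rw [map_mul, map_inv, map_mul, map_mul, hqz, hqa, hqb, ← map_mul, ← map_mul, hab2, inv_mul_cancel])
    simpa [hzc'] using this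
  have k6 : (a : G) * n * (a : G)⁻¹ * (n : G)⁻¹ ∈ Subgroup.zpowers θ := hrel (a * n * a⁻¹ * n⁻¹) (by
    rw [map_mul, map_mul, map_mul, map_inv, map_inv, hqa, hqn, ← map_mul, hax, map_mul]; group)
  have k7 : (b : G) * n * (b : G)⁻¹ * (n : G)⁻¹ ∈ Subgroup.zpowers θ := hrel (b * n * b⁻¹ * n⁻¹) (by
    rw [map_mul, map_mul, map_mul, map_inv, map_inv, hqb, hqn, ← map_mul, hbx, map_mul]; group)
  obtain ⟨r, hrQ, hrθ, k, i, hi, hcase⟩ := T.rot_class W hnN haN hbN k1 k2 k3 k4 k5 k6 k7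
  obtain ⟨R, hR⟩ : ∃ R : Subgroup.centralizer ({θ} : Set G), (R : G) = r :=
    ⟨⟨r, Subgroup.mem_centralizer_singleton_iff.2 hrθ⟩, rfl⟩
  have hθpow : θ ^ i.val ≠ 1 := fun e => by
    rw [← orderOf_dvd_iff_pow_eq_one, T.orderOf_θ] at e
    exact hi (Fin.ext (Nat.eq_zero_of_dvd_of_lt e i.2))
  have hθmem : (⟨θ, Subgroup.mem_centralizer_singleton_iff.2 rfl⟩ :
      Subgroup.centralizer ({θ} : Set G)) ∈ commutator (Subgroup.centralizer ({θ} : Set G)) := by
    obtain ⟨⟨c1, hc1⟩, c2, hc2⟩ := T.exists_conj_rot W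
    obtain ⟨hi1, hi2⟩ := T.exists_invert W
    have gen : ∀ e : G, InN z θ e → e * e * e = 1 → (∃ c, c * θ * c⁻¹ = e) →
        (∃ c, InN z θ c ∧ c * e * c⁻¹ = e⁻¹) → r * (n : G) * r⁻¹ = θ ^ k * e ^ i.val →
        (⟨θ, Subgroup.mem_centralizer_singleton_iff.2 rfl⟩ : Subgroup.centralizer ({θ} : Set G)) ∈
          commutator (Subgroup.centralizer ({θ} : Set G)) := by
      intro e he he3 ⟨c, hc⟩ ⟨ci, hci, hcie⟩ hcase
      have hc' : Commute (θ ^ k) (e ^ i.val) := ((show Commute θ e from he.2.symm).pow_pow _ _)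
      have hgN : ((R * g * R⁻¹ : Subgroup.centralizer ({θ} : Set G)) : G) * θ = θ * _ :=
        Subgroup.mem_centralizer_singleton_iff.1 (R * g * R⁻¹).2
      have hhN : ((R * h * R⁻¹ : Subgroup.centralizer ({θ} : Set G)) : G) * θ = θ * _ :=
        Subgroup.mem_centralizer_singleton_iff.1 (R * h * R⁻¹).2
      have hcom : ∀ u : Subgroup.centralizer ({θ} : Set G), ∀ u0, QuotientGroup.mk' (Zsub θ) u = φ u0 →
          u0 * x0 = x0 * u0 → ((R * u * R⁻¹ : Subgroup.centralizer ({θ} : Set G)) : G) * e ^ i.val *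
            ((R * u * R⁻¹ : Subgroup.centralizer ({θ} : Set G)) : G)⁻¹ * (e ^ i.val)⁻¹ ∈
              Subgroup.zpowers θ := by
        intro u u0 hu hux
        have h1 := hrel (R * u * R⁻¹ * (R * n * R⁻¹) * (R * u * R⁻¹)⁻¹ * (R * n * R⁻¹)⁻¹) (by
          rw [show R * u * R⁻¹ * (R * n * R⁻¹) * (R * u * R⁻¹)⁻¹ * (R * n * R⁻¹)⁻¹ =
            R * (u * n * u⁻¹ * n⁻¹) * R⁻¹ by group, map_mul, map_mul _ R, map_mul, map_mul, map_mul,
            map_inv, map_inv, map_inv, hu, hqn, ← map_mul, hux, map_mul]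
          group)
        simp only [Subgroup.coe_mul, Subgroup.coe_inv, hR] at h1
        rw [hcase] at h1
        have hθu : Commute (θ ^ k) (r * (u : G) * r⁻¹) := Commute.pow_left (show Commute θ _ from
          (((Commute.mul_left hrθ (Subgroup.mem_centralizer_singleton_iff.1 u.2)).mul_left
            (Commute.inv_left hrθ))).symm) k
        rw [show r * (u : G) * r⁻¹ * (θ ^ k * e ^ i.val) * (r * (u : G) * r⁻¹)⁻¹ * (θ ^ k * e ^ i.val)⁻¹ =
          r * (u : G) * r⁻¹ * θ ^ k * e ^ i.val * (r * (u : G) * r⁻¹)⁻¹ * (e ^ i.val)⁻¹ * (θ ^ k)⁻¹ by group,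
          ← hθu.eq, mul_assoc (θ ^ k), mul_assoc (θ ^ k), mul_assoc (θ ^ k)] at h1
        have h2 := mul_mem (mul_mem (inv_mem (Subgroup.npow_mem_zpowers θ k)) h1)
          (Subgroup.npow_mem_zpowers θ k)
        simpa [hR, mul_assoc] using h2
      obtain ⟨l, hl⟩ := T.exists_npow (hrel (R * g * R⁻¹ * (R * h * R⁻¹) * (R * g * R⁻¹)⁻¹ *
          (R * h * R⁻¹)⁻¹ * (R * n * R⁻¹)⁻¹) (by
        rw [show R * g * R⁻¹ * (R * h * R⁻¹) * (R * g * R⁻¹)⁻¹ * (R * h * R⁻¹)⁻¹ * (R * n * R⁻¹)⁻¹ =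
          R * (g * h * g⁻¹ * h⁻¹ * n⁻¹) * R⁻¹ by group, map_mul, map_mul _ R, map_mul, map_mul, map_mul,
          map_mul, map_inv, map_inv, map_inv, map_inv, hg, hh, hqn, ← map_inv φ g0, ← map_inv φ h0,
          ← map_mul, ← map_mul, ← map_mul, hgh, mul_inv_cancel, mul_one, mul_inv_cancel]))
      simp only [Subgroup.coe_mul, Subgroup.coe_inv, hR] at hl
      refine T.θ_mem_commutator_of W (e := e ^ i.val) (k := l + k) (ε := i.val) (InN.pow' T he _)
        ⟨ci, hci, by rw [← conj_pow, hcie, inv_pow]⟩ hθpow ⟨c, by rw [← conj_pow, hc]⟩ ?_ hgN hhN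
        (hcom g g0 hg hgx) (hcom h h0 hh hhx) ?_
      · rw [← pow_add, ← pow_add, show i.val + i.val + i.val = 3 * i.val by ring, pow_mul, pow_succ,
          pow_two, he3, one_pow]
      · simp only [Subgroup.coe_mul, Subgroup.coe_inv, hR]
        rw [show θ ^ (l + k) * e ^ i.val = θ ^ l * (r * (n : G) * r⁻¹) by rw [hcase, pow_add, mul_assoc], hl]
        group
    rcases hcase with hcase | hcase
    · exact gen e₁ W.A.e_mem W.A.rel.e3 ⟨c1, hc1⟩ hi1 hcase
    · exact gen e₂ W.B.e_mem W.B.rel.e3 ⟨c2, hc2⟩ hi2 hcase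
  -- perfect
  have hne : ¬ ∀ u v : Subgroup.centralizer ({θ} : Set G) ⧸ Zsub θ, u * v = v * u := fun hc => hx1 (by
    refine φ.injective ?_
    rw [map_one, ← hgh, map_mul, map_mul, map_mul, map_inv, map_inv, hc (φ g0) (φ h0)]
    group)
  have hHp : commutator (Subgroup.centralizer ({θ} : Set G) ⧸ Zsub θ) = ⊤ := by
    refine (IsSimpleGroup.eq_bot_or_eq_top_of_normal _ inferInstance).resolve_left fun hb' => hne fun u v => ?_
    have hm : ⁅u, v⁆ ∈ commutator (Subgroup.centralizer ({θ} : Set G) ⧸ Zsub θ) := by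
      rw [commutator_def]
      exact Subgroup.commutator_mem_commutator (Subgroup.mem_top u) (Subgroup.mem_top v)
    rw [hb', Subgroup.mem_bot] at hm
    exact commutatorElement_eq_one_iff_mul_comm.1 hm
  have hZle : Zsub θ ≤ commutator (Subgroup.centralizer ({θ} : Set G)) := by
    intro x hx
    obtain ⟨m, hm⟩ := Subgroup.mem_zpowers_iff.1 (Subgroup.mem_subgroupOf.1 hx)
    rw [show x = (⟨θ, Subgroup.mem_centralizer_singleton_iff.2 rfl⟩ :
      Subgroup.centralizer ({θ} : Set G)) ^ m from Subtype.ext (by rw [SubgroupClass.coe_zpow]; exact hm.symm)]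
    exact zpow_mem hθmem m
  have hperf : commutator (Subgroup.centralizer ({θ} : Set G)) = ⊤ := by
    rw [eq_top_iff]
    intro x _
    have h1 : QuotientGroup.mk' (Zsub θ) x ∈
        (commutator (Subgroup.centralizer ({θ} : Set G))).map (QuotientGroup.mk' (Zsub θ)) := by
      rw [commutator_def, Subgroup.map_commutator, Subgroup.map_top_of_surjective _
        (QuotientGroup.mk'_surjective _), ← commutator_def, hHp]
      exact Subgroup.mem_top _
    obtain ⟨c, hc, hce⟩ := h1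
    have hd := hZle (QuotientGroup.eq.1 hce)
    have := mul_mem hc hd
    rwa [mul_inv_cancel_left] at this
  have hZ : Subgroup.center (Subgroup.centralizer ({θ} : Set G)) = Zsub θ := by
    refine le_antisymm (fun x hx => ?_) fun x hx => ?_
    · refine (QuotientGroup.eq_one_iff (N := Zsub θ) x).1 ?_
      have hc : (x : Subgroup.centralizer ({θ} : Set G) ⧸ Zsub θ) ∈ Subgroup.center _ :=
        Subgroup.mem_center_iff.2 fun y => by
          obtain ⟨y, rfl⟩ := QuotientGroup.mk_surjective y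
          rw [← QuotientGroup.mk_mul, ← QuotientGroup.mk_mul, Subgroup.mem_center_iff.1 hx y]
      have hbot := (IsSimpleGroup.eq_bot_or_eq_top_of_normal
        (Subgroup.center (Subgroup.centralizer ({θ} : Set G) ⧸ Zsub θ)) inferInstance).resolve_right
          fun e => hne fun u v => Subgroup.mem_center_iff.1 (e ▸ Subgroup.mem_top v) u
      rwa [hbot, Subgroup.mem_bot] at hc
    · refine Subgroup.mem_center_iff.2 fun y => Subtype.ext ?_
      obtain ⟨m, hm⟩ := Subgroup.mem_zpowers_iff.1 (Subgroup.mem_subgroupOf.1 hx)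
      show (y : G) * x = x * y
      rw [← hm]
      exact ((show Commute (y : G) θ from Subgroup.mem_centralizer_singleton_iff.1 y.2).zpow_right m).eq
  refine ⟨⟨Group.isPerfect_def.2 hperf, (QuotientGroup.quotientMulEquivOfEq hZ).isSimpleGroup⟩, ⟨f⟩, ?_⟩
  -- the index in the normalizer
  obtain ⟨c, hc, hcθ⟩ := T.exists_inverting_theta
  have hker : (Subgroup.zpowers θ).normalizerMonoidHom.ker =
      (Subgroup.centralizer ({θ} : Set G)).subgroupOf (Subgroup.normalizer (Subgroup.zpowers θ : Set G)) := by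
    rw [Subgroup.normalizerMonoidHom_ker, CfsgLib.LargeExtraspecial.centralizer_zpowers]
  show ((Subgroup.centralizer ({θ} : Set G)).subgroupOf
    (Subgroup.normalizer (Subgroup.zpowers θ : Set G))).index = 2
  rw [← hker, Subgroup.index_ker]
  have haut : Nat.card (MulAut (Subgroup.zpowers θ)) = 2 := by
    rw [IsCyclic.card_mulAut, Nat.card_zpowers, T.orderOf_θ, Nat.totient_prime Nat.prime_three]
  have hle := Nat.le_of_dvd (haut ▸ Nat.card_pos) (haut ▸ (Subgroup.zpowers θ).normalizerMonoidHom.range.card_subgroup_dvd_card)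
  have hne1 : Nat.card (Subgroup.zpowers θ).normalizerMonoidHom.range ≠ 1 := by
    intro h1
    have hcN : c ∈ Subgroup.normalizer (Subgroup.zpowers θ : Set G) := by
      rw [Subgroup.mem_normalizer_iff]
      intro x
      have hθi : c⁻¹ * θ * c = θ⁻¹ := by
        have e := congrArg (fun r => c⁻¹ * r⁻¹ * c) hcθ
        simpa [mul_assoc] using e.symm
      constructor
      · intro hx
        obtain ⟨m, rfl⟩ := Subgroup.mem_zpowers_iff.1 hx
        rw [← conj_zpow, hcθ]
        exact zpow_mem (inv_mem (Subgroup.mem_zpowers θ)) m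
      · intro hx
        obtain ⟨m, hm⟩ := Subgroup.mem_zpowers_iff.1 hx
        have hx' : x = (c⁻¹ * θ * c) ^ m := by
          rw [show (c⁻¹ * θ * c) ^ m = c⁻¹ * θ ^ m * c by
            rw [show c⁻¹ * θ * c = c⁻¹ * θ * (c⁻¹)⁻¹ by group, conj_zpow, inv_inv], hm]
          group
        rw [hx', hθi]
        exact zpow_mem (inv_mem (Subgroup.mem_zpowers θ)) m
    have hb := Subgroup.eq_bot_of_card_eq _ h1
    have hmem : (Subgroup.zpowers θ).normalizerMonoidHom ⟨c, hcN⟩ = 1 :=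
      Subgroup.mem_bot.1 (hb ▸ ⟨_, rfl⟩)
    rw [← MonoidHom.mem_ker, hker, Subgroup.mem_subgroupOf, Subgroup.mem_centralizer_singleton_iff] at hmem
    have hmem' : c * θ * c⁻¹ = θ := mul_inv_eq_iff_eq_mul.2 hmem
    rw [hcθ, inv_eq_iff_mul_eq_one, ← pow_two, ← orderOf_dvd_iff_pow_eq_one, T.orderOf_θ] at hmem'
    norm_num at hmem'
  have := Nat.card_pos (α := (Subgroup.zpowers θ).normalizerMonoidHom.range)
  omega

end Four

end CfsgLib.SuzType
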