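import Cfsg.Agent.SuzType.ThreeGroup

/-!
# Normal forms in the centralizer of `θ` in `C(z)`
-/

set_option autoImplicit false
set_option linter.style.haveILetI false

namespace CfsgLib.SuzType

open SLThree

theorem iterate_mod3 (f : V6 → V6) (hf : ∀ v, f (f (f v)) = v) : ∀ (n : ℕ) (v : V6),
    f^[n] v = f^[n % 3] v
  | 0, _ => rfl
  | 1, _ => rfl
  | 2, _ => rfl
  | n + 3, v => by
    rw [Function.iterate_add_apply]
    show f^[n] (f (f (f v))) = _
    rw [hf, iterate_mod3 f hf n, show (n + 3) % 3 = n % 3 by omega]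

theorem three_cases : ∀ v : V6, (v = a0 ∨ v = u0 ∨ v = mk6 48) → ∃ k : Fin 3, v = sigW^[k.val] a0 := by
  decide +kernel

theorem planeA_cases : ∀ v : V6, Low v → q6 v = true → rotB v = v → ∃ i : Fin 3, v = rotA^[i.val] (mk6 3) := by
  decide +kernel

theorem planeB_cases : ∀ v : V6, Low v → q6 v = true → rotA v = v → ∃ j : Fin 3, v = rotB^[j.val] (mk6 12) := by
  decide +kernel

theorem rotPairs_det : ∀ p ∈ rotPairs, (pr p (mk6 3) = mk6 13 → ∀ v, pr p v = rotA v) ∧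
    (pr p (mk6 12) = mk6 7 → ∀ v, pr p v = rotB v) := by decide +kernel

theorem sing_orbit : ∀ v : V6, Low v → q6 v = false → v ≠ 0 →
    ∃ i j : Fin 3, rotA^[i.val] (rotB^[j.val] s0) = v := by decide +kernel

theorem low_two : Low (mk6 2) ∧ b6 (mk6 2) s0 = true ∧ Low s0 := by decide +kernel

theorem low_pair_zero : ∀ v : V6, Low v → b6 v (mk6 3) = false → b6 v (mk6 13) = false →
    b6 v (mk6 12) = false → b6 v (mk6 7) = false → v = 0 := by decide +kernel

theorem swap_facts : okPair (48, 3) = true ∧ okPair (3, 12) = true ∧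
    (∀ v, sigW (sigW (pr (48, 3) v)) = pr (48, 3) (sigW v)) ∧
    (∀ v, sigW (pr (3, 12) v) = pr (3, 12) (sigW v)) ∧
    (∀ v, rotA (rotA (pr (3, 12) v)) = pr (3, 12) (rotA v)) ∧
    (∀ v, rotB (rotB (pr (3, 12) v)) = pr (3, 12) (rotB v)) := by decide +kernel

theorem rotA_image : ∀ v : V6, rotA v + v ∈ ({0, mk6 3, mk6 13, mk6 14} : Finset V6) := by
  decide +kernel

theorem rotB_image : ∀ v : V6, rotB v + v ∈ ({0, mk6 12, mk6 7, mk6 11} : Finset V6) := by
  decide +kernel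

namespace Four

variable {G : Type*} [Group G] [Finite G] {z s θ t : G} {Q P : Subgroup G} {π : G → V6}
  (T : Four z Q π P s θ t)
include T

theorem InN.mul' {c d : G} (hc : InN z θ c) (hd : InN z θ d) : InN z θ (c * d) :=
  ⟨(Commute.mul_left hc.1 hd.1).eq, (Commute.mul_left hc.2 hd.2).eq⟩

theorem InN.inv' {c : G} (hc : InN z θ c) : InN z θ c⁻¹ :=
  ⟨(Commute.inv_left hc.1).eq, (Commute.inv_left hc.2).eq⟩

theorem InN.pow' {c : G} (hc : InN z θ c) (n : ℕ) : InN z θ (c ^ n) :=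
  ⟨(Commute.pow_left hc.1 n).eq, (Commute.pow_left hc.2 n).eq⟩

theorem θ_inN : InN z θ θ := ⟨T.θ_comm_z, rfl⟩

theorem act_sig {c : G} (hc : InN z θ c) (v : V6) :
    T.frame.data.act c (sigW v) = sigW (T.frame.data.act c v) := by
  rw [← T.θ_act', ← T.θ_act', ← T.frame.data.act_mul hc.1 T.θ_comm_z, hc.2,
    T.frame.data.act_mul T.θ_comm_z hc.1]

/-- Elements of order three of `N` with the same action are conjugate by `C_Q(θ)`. -/
theorem conj_in_Qθ {x y : G} (hx : InN z θ x) (hy : InN z θ y) (hx3 : x * x * x = 1)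
    (hy3 : y * y * y = 1) (h : ∀ v, T.frame.data.act x v = T.frame.data.act y v) :
    ∃ r ∈ Q, r * θ = θ * r ∧ r * y * r⁻¹ = x := by
  have D := T.frame.data
  obtain ⟨r, ⟨hr, hrθ⟩, hre⟩ := conj_of_coset_two
    (R := Q ⊓ Subgroup.centralizer ({θ} : Set G)) (D.isPGroup_Q.to_le inf_le_left) hx3 hy3
    (fun r hr => ⟨D.sub.conj_mem hx.1 hr.1, Subgroup.mem_centralizer_singleton_iff.2
      ((Commute.mul_left hx.2 (Subgroup.mem_centralizer_singleton_iff.1 hr.2)).mul_left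
        (Commute.inv_left hx.2)).eq⟩)
    ⟨D.mem_of_act_eq hx.1 hy.1 h, Subgroup.mem_centralizer_singleton_iff.2
      (InN.mul' T (InN.inv' T hx) hy).2⟩
  exact ⟨r, hr, Subgroup.mem_centralizer_singleton_iff.1 hrθ, hre⟩

/-- An element of `C(z)` inverting `θ`. -/
theorem exists_inverting_theta : ∃ c, c * z = z * c ∧ c * θ * c⁻¹ = θ⁻¹ := by
  have D := T.frame.data
  obtain ⟨hok, -, hsw, -⟩ := swap_facts
  obtain ⟨c, hc, hcv⟩ := D.exists_pr hok
  obtain ⟨d, hd, hde, -⟩ := D.exists_conj_of_act hc T.θ_comm_z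
    (Commute.mul_left T.θ_comm_z T.θ_comm_z).eq T.θ_cube
    (y := θ * θ) (by
      calc θ * θ * (θ * θ) * (θ * θ) = θ * θ * θ * (θ * θ * θ) := by group
        _ = 1 := by rw [T.θ_cube, one_mul])
    (fun v => by rw [D.act_mul T.θ_comm_z T.θ_comm_z, T.θ_act', T.θ_act', T.θ_act', hcv, hcv, hsw])
  exact ⟨d, hd, by rw [hde]; exact eq_inv_of_mul_eq_one_left T.θ_cube⟩

variable {e₁ i₁ j₁ e₂ i₂ j₂ : G} (W : Pairs T.frame.data θ e₁ i₁ j₁ e₂ i₂ j₂)
include W

theorem word_inN (k i j : ℕ) : InN z θ (θ ^ k * e₁ ^ i * e₂ ^ j) :=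
  InN.mul' T (InN.mul' T (InN.pow' T T.θ_inN k) (InN.pow' T W.A.e_mem i)) (InN.pow' T W.B.e_mem j)

theorem act_word (k i j : ℕ) (v : V6) :
    T.frame.data.act (θ ^ k * e₁ ^ i * e₂ ^ j) v = sigW^[k] (rotA^[i] (rotB^[j] v)) := by
  have D := T.frame.data
  have h1 := InN.pow' T T.θ_inN k
  have h2 := InN.pow' T W.A.e_mem i
  rw [D.act_mul (InN.mul' T h1 h2).1 (InN.pow' T W.B.e_mem j).1, D.act_mul h1.1 h2.1,
    D.act_pow T.θ_comm_z, D.act_pow W.A.e_mem.1, D.act_pow W.B.e_mem.1,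
    show D.act θ = sigW from funext T.θ_act', show D.act e₁ = rotA from funext W.act₁,
    show D.act e₂ = rotB from funext W.act₂]

/-- Elements commuting with both rotations modulo `Q`. -/
theorem normal_form {c : G} (hc : InN z θ c)
    (hA : ∀ v, T.frame.data.act c (rotA v) = rotA (T.frame.data.act c v))
    (hB : ∀ v, T.frame.data.act c (rotB v) = rotB (T.frame.data.act c v)) :
    ∃ k i j : Fin 3, ∃ q ∈ Q, q * θ = θ * q ∧ c = θ ^ k.val * e₁ ^ i.val * e₂ ^ j.val * q := by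
  have D := T.frame.data
  have hi := D.act_iso hc.1
  obtain ⟨s1, -, -, -, l3, l13, l12, l7⟩ := sigW_facts
  obtain ⟨-, -, fa12, -, -, -, fb3, -, -, -⟩ := rot_fixed
  obtain ⟨k, hk⟩ := three_cases _ (T.act_three hc.1 (T.act_sig hc))
  obtain ⟨i, hi'⟩ := planeA_cases _ (hi.low (T.act_sig hc) l3) (by rw [hi.quad]; decide)
    (by rw [← hB, fb3])
  obtain ⟨j, hj'⟩ := planeB_cases _ (hi.low (T.act_sig hc) l12) (by rw [hi.quad]; decide)
    (by rw [← hA, fa12])
  obtain ⟨w, hw⟩ : ∃ w, w = θ ^ k.val * e₁ ^ i.val * e₂ ^ j.val := ⟨_, rfl⟩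
  have hwN : InN z θ w := hw ▸ T.word_inN W _ _ _
  obtain ⟨r3, r13, r12, r7, ra, ru⟩ := rotWord_vals k i j
  have hwv : ∀ v, D.act w v = sigW^[k.val] (rotA^[i.val] (rotB^[j.val] v)) :=
    fun v => hw ▸ T.act_word W _ _ _ v
  have heq := hi.ext_planes (D.act_iso hwN.1)
    (by rw [hwv, r3, hi'])
    (by rw [hwv, r13, ← rot_values.1, hA, hi', ← Function.iterate_succ_apply' rotA,
      ← Function.iterate_succ_apply rotA])
    (by rw [hwv, r12, hj'])
    (by rw [hwv, r7, ← rot_values.2.2.2.1, hB, hj', ← Function.iterate_succ_apply' rotB,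
      ← Function.iterate_succ_apply rotB])
    (by rw [hwv, ra, hk])
    (by rw [hwv, ru, ← s1, T.act_sig hc, hk, ← Function.iterate_succ_apply' sigW,
      ← Function.iterate_succ_apply sigW])
  exact ⟨k, i, j, w⁻¹ * c, D.mem_of_act_eq hwN.1 hc.1 (fun v => (heq v).symm),
    (InN.mul' T (InN.inv' T hwN) hc).2, by rw [← hw]; group⟩

/-- A power of two of a word lying in `⟨θ⟩ Q` forces the rotations to be trivial. -/
theorem two_elt {c q : G} {k i j : Fin 3} (hq : q ∈ Q) (hc : c = θ ^ k.val * e₁ ^ i.val * e₂ ^ j.val * q)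
    {m : ℕ} (h : c ^ 2 ^ m ∈ Subgroup.zpowers θ) : i = 0 ∧ j = 0 := by
  have D := T.frame.data
  have hwN := T.word_inN W k.val i.val j.val
  have hv : ∀ v, D.act c v = sigW^[k.val] (rotA^[i.val] (rotB^[j.val] v)) := fun v => by
    rw [hc, D.act_mul hwN.1 (D.Q_comm hq), D.act_of_mem hq, T.act_word W]
  have hcz : c * z = z * c := hc ▸ (Commute.mul_left hwN.1 (D.Q_comm hq)).eq
  have hS : ∀ n : ℕ, (∀ v, Low v → sigW^[n] v = v) := fun n v hv' => Function.iterate_fixed hv' n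
  have cA : Function.Commute rotA sigW := fun v => (rot_comm v).1
  have cB : Function.Commute rotB sigW := fun v => (rot_comm v).2.1
  have cAB : Function.Commute rotA rotB := fun v => (rot_comm v).2.2
  have hpow : ∀ n : ℕ, D.act (c ^ n) (mk6 3) = rotA^[i.val * n] (mk6 3) ∧
      D.act (c ^ n) (mk6 12) = rotB^[j.val * n] (mk6 12) := by
    intro n
    induction n with
    | zero => simp [D.act_one]
    | succ n ih =>
      have hfix := rot_fixed
      have hB3 : ∀ n, rotB^[n] (mk6 3) = mk6 3 := fun n => Function.iterate_fixed hfix.2.2.2.2.2.2.1 n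
      have hA12 : ∀ n, rotA^[n] (mk6 12) = mk6 12 := fun n => Function.iterate_fixed hfix.2.2.1 n
      obtain ⟨-, -, -, -, l3, -, l12, -⟩ := sigW_facts
      rw [pow_succ', D.act_mul hcz (Commute.pow_left hcz n).eq, D.act_mul hcz (Commute.pow_left hcz n).eq,
        ih.1, ih.2, hv, hv]
      constructor
      · rw [show rotB^[j.val] (rotA^[i.val * n] (mk6 3)) = rotA^[i.val * n] (mk6 3) by
            rw [← (cAB.iterate_iterate _ _).eq, hB3],
          ← Function.iterate_add_apply, ← (cA.iterate_iterate _ _).eq, hS _ _ l3,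
          show i.val * (n + 1) = i.val + i.val * n by ring]
      · rw [← Function.iterate_add_apply, (cAB.iterate_iterate _ _).eq, hA12,
          ← (cB.iterate_iterate _ _).eq, hS _ _ l12,
          show j.val * (n + 1) = j.val + j.val * n by ring]
  obtain ⟨n, hn⟩ := Subgroup.mem_zpowers_iff.1 h
  have hfix : ∀ v, Low v → D.act (c ^ 2 ^ m) v = v := fun v hv' => by
    have hθn : ∀ n : ℕ, D.act (θ ^ n) v = v := fun n => by
      rw [D.act_pow T.θ_comm_z, show D.act θ = sigW from funext T.θ_act', hS n v hv']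
    rw [← hn, show θ ^ n = θ ^ (n % 3).toNat by
      rw [← zpow_natCast θ (n % 3).toNat, Int.toNat_of_nonneg (Int.emod_nonneg _ (by norm_num))]
      conv_lhs => rw [← Int.emod_add_mul_ediv n 3, zpow_add, zpow_mul,
        show θ ^ (3 : ℤ) = 1 by rw [show (3 : ℤ) = ((3 : ℕ) : ℤ) from rfl, zpow_natCast, pow_succ, pow_two, T.θ_cube],
        one_zpow, mul_one], hθn]
  have h2 : 2 ^ m % 3 = 1 ∨ 2 ^ m % 3 = 2 := by
    clear h hn hfix
    induction m with
    | zero => left; rfl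
    | succ m ih => rw [pow_succ, Nat.mul_mod]; rcases ih with e | e <;> rw [e] <;> simp
  constructor
  · have := (hpow (2 ^ m)).1
    rw [hfix _ sigW_facts.2.2.2.2.1, iterate_mod3 _ (fun v => (rot_cube v).1), Nat.mul_mod] at this
    rcases h2 with e | e <;> rw [e] at this <;> revert this <;> fin_cases i <;> decide +kernel
  · have := (hpow (2 ^ m)).2
    rw [hfix _ sigW_facts.2.2.2.2.2.2.1, iterate_mod3 _ (fun v => (rot_cube v).2), Nat.mul_mod] at this
    rcases h2 with e | e <;> rw [e] at this <;> revert this <;> fin_cases j <;> decide +kernel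

/-- An element of `N` whose commutators with both rotations are two elements normalises trivially. -/
theorem comm_of_two {c : G} (hc : InN z θ c) {m : ℕ} :
    ((c * e₁ * c⁻¹ * e₁⁻¹) ^ 2 ^ m ∈ Subgroup.zpowers θ →
      ∀ v, T.frame.data.act c (rotA v) = rotA (T.frame.data.act c v)) ∧
    ((c * e₂ * c⁻¹ * e₂⁻¹) ^ 2 ^ m ∈ Subgroup.zpowers θ →
      ∀ v, T.frame.data.act c (rotB v) = rotB (T.frame.data.act c v)) := by
  have D := T.frame.data
  have hi := D.act_iso hc.1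
  obtain ⟨hrc, hrc'⟩ : (∀ p ∈ rotPairs, ∀ v, pr p (rotA v) = rotA (pr p v)) ∧
      (∀ p ∈ rotPairs, ∀ v, pr p (rotB v) = rotB (pr p v)) := by decide +kernel
  have h3 := InN.pow' T W.A.e_mem 2
  have gen : ∀ (e : G) (r : V6 → V6) (p : ℕ × ℕ), InN z θ e → (∀ v, D.act e v = r v) → p ∈ rotPairs →
      (∀ v, r v = pr p v) → ∃ p' ∈ rotPairs, InN z θ (c * e * c⁻¹ * e⁻¹) ∧
        (∀ v, D.act c (r v) = pr p' (D.act c v)) ∧
        (∀ v, D.act (c * e * c⁻¹ * e⁻¹) (r v) = pr p' v) := by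
    intro e r p he her hp hrp
    obtain ⟨p', hp', hp'v⟩ := hi.conj_rot (T.act_sig hc) hp
    have hce := InN.mul' T hc he
    refine ⟨p', hp', InN.mul' T (InN.mul' T hce (InN.inv' T hc)) (InN.inv' T he),
      fun v => by rw [hrp, hp'v], fun v => ?_⟩
    rw [← her v, D.act_mul (InN.mul' T hce (InN.inv' T hc)).1 (InN.inv' T he).1,
      (D.act_inv_cancel he.1 v).1, D.act_mul hce.1 (InN.inv' T hc).1, D.act_mul hc.1 he.1, her, hrp,
      hp'v, (D.act_inv_cancel hc.1 v).2]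
  obtain ⟨pa, hpa, hN1, hc1, hc1'⟩ := gen e₁ rotA (3, 13) W.A.e_mem W.act₁ (by decide) (fun _ => rfl)
  obtain ⟨pb, hpb, hN2, hc2, hc2'⟩ := gen e₂ rotB (12, 7) W.B.e_mem W.act₂ (by decide) (fun _ => rfl)
  have commA : ∀ p ∈ rotPairs, ∀ d, InN z θ d → (∀ v, D.act d (rotA v) = pr p v) →
      ∀ v, D.act d v = pr p (rotA (rotA v)) := fun p _ d _ h v => by
    rw [← h, (rot_cube v).1]
  have commB : ∀ p ∈ rotPairs, ∀ d, InN z θ d → (∀ v, D.act d (rotB v) = pr p v) →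
      ∀ v, D.act d v = pr p (rotB (rotB v)) := fun p _ d _ h v => by
    rw [← h, (rot_cube v).2]
  constructor
  · intro hm
    have hd := commA pa hpa _ hN1 hc1'
    obtain ⟨k, i, j, q, hq, -, e⟩ := T.normal_form W hN1
      (fun v => by rw [hd, hd, hrc _ hpa, hrc _ hpa, hrc _ hpa])
      (fun v => by rw [hd, hd, ← hrc' _ hpa, (rot_comm v).2.2, (rot_comm (rotA v)).2.2])
    obtain ⟨rfl, rfl⟩ := T.two_elt W hq e hm
    have hwN := T.word_inN W k.val 0 0
    have h := hc1' (mk6 3)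
    rw [e, Fin.val_zero, D.act_mul hwN.1 (D.Q_comm hq), D.act_of_mem hq, T.act_word W] at h
    rw [Function.iterate_zero, Function.iterate_zero, id, id, rot_values.1,
      Function.iterate_fixed sigW_facts.2.2.2.2.2.1] at h
    intro v
    rw [hc1, (rotPairs_det _ hpa).1 h.symm]
  · intro hm
    have hd := commB pb hpb _ hN2 hc2'
    obtain ⟨k, i, j, q, hq, -, e⟩ := T.normal_form W hN2
      (fun v => by rw [hd, hd, ← hrc _ hpb, (rot_comm _).2.2, (rot_comm v).2.2])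
      (fun v => by rw [hd, hd, hrc' _ hpb, hrc' _ hpb, hrc' _ hpb])
    obtain ⟨rfl, rfl⟩ := T.two_elt W hq e hm
    have hwN := T.word_inN W k.val 0 0
    have h := hc2' (mk6 12)
    rw [e, Fin.val_zero, D.act_mul hwN.1 (D.Q_comm hq), D.act_of_mem hq, T.act_word W] at h
    rw [Function.iterate_zero, Function.iterate_zero, id, id, rot_values.2.2.2.1,
      Function.iterate_fixed sigW_facts.2.2.2.2.2.2.2] at h
    intro v
    rw [hc2, (rotPairs_det _ hpb).2 h.symm]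

/-- `C_Q(θ)` is the product of the two quaternion groups. -/
theorem split_Qθ {x : G} (hx : x ∈ Q) (hxθ : x * θ = θ * x) :
    ∃ k l : Idx, k.2.2 = 0 ∧ l.2.2 = 0 ∧ x = nf i₁ j₁ e₁ k * nf i₂ j₂ e₂ l := by
  have D := T.frame.data
  have hl := (T.θ_mem_iff hx).1 hxθ
  obtain ⟨y, hy, hπy⟩ := D.surj (sm (b6 (π x) (mk6 13)) (mk6 3) + sm (b6 (π x) (mk6 3)) (mk6 13))
  obtain ⟨k, hk0, hk⟩ := W.A.full y hy (hπy.symm ▸ inPlane_sm _ _ _ _)
  obtain ⟨l, hl0, hl'⟩ := W.B.full (y⁻¹ * x) (mul_mem (inv_mem hy) hx) (by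
    rw [D.map_mul _ (inv_mem hy) _ hx, D.π_inv hy, hπy, add_comm, low_split _ hl]
    exact inPlane_sm _ _ _ _)
  exact ⟨k, l, hk0, hl0, by rw [hk, hl']; group⟩

/-- An element of `N` centralising `C_Q(θ)` lies in `⟨θ, z⟩`. -/
theorem central {c : G} (hc : InN z θ c) (h : ∀ q ∈ Q, q * θ = θ * q → c * q = q * c) :
    ∃ k : ℕ, c = θ ^ k ∨ c = θ ^ k * z := by
  have D := T.frame.data
  have hlow : ∀ v, Low v → D.act c v = v := fun v hv => by
    obtain ⟨q, hq, rfl⟩ := D.surj v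
    rw [D.act_π hc.1 hq, mul_inv_eq_iff_eq_mul.2 (h q hq ((T.θ_mem_iff hq).2 hv))]
  obtain ⟨-, -, -, -, l3, l13, l12, l7⟩ := sigW_facts
  have hi := D.act_iso hc.1
  have key : ∀ (r : V6 → V6), IsIso6 r → r a0 = a0 → r u0 = u0 → (∀ v, Low v → Low (r v)) →
      (∀ v, sigW (r v) = r (sigW v)) → ∀ v, D.act c (r v) = r (D.act c v) := by
    intro r hr ra ru rl rs v
    obtain ⟨k, hk⟩ := three_cases _ (T.act_three hc.1 (T.act_sig hc))
    have hrk : ∀ n : ℕ, r (sigW^[n] a0) = sigW^[n] a0 := fun n => by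
      rw [← (Function.Commute.iterate_left (f := sigW) (g := r) rs n).eq, ra]
    refine IsIso6.ext_planes (f := fun v => D.act c (r v)) (g := fun v => r (D.act c v))
      ⟨fun a b => by simp only [hr.add, hi.add], fun a => by rw [hi.quad, hr.quad]⟩
      ⟨fun a b => by simp only [hi.add, hr.add], fun a => by rw [hr.quad, hi.quad]⟩ ?_ ?_ ?_ ?_ ?_ ?_ v
    · rw [hlow _ (rl _ l3), hlow _ l3]
    · rw [hlow _ (rl _ l13), hlow _ l13]
    · rw [hlow _ (rl _ l12), hlow _ l12]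
    · rw [hlow _ (rl _ l7), hlow _ l7]
    · rw [ra, hk, hrk]
    · rw [ru, ← sigW_facts.1, T.act_sig hc, hk, ← Function.iterate_succ_apply' sigW, hrk]
  obtain ⟨-, -, -, -, fa, fu, -, -, fb, fv⟩ := rot_fixed
  obtain ⟨k, i, j, q, hq, hqθ, e⟩ := T.normal_form W hc
    (key rotA (iso_pr _ (by decide)) fa fu (by decide +kernel) (fun v => (rot_comm v).1.symm))
    (key rotB (iso_pr _ (by decide)) fb fv (by decide +kernel) (fun v => (rot_comm v).2.1.symm))
  obtain ⟨r3, -, r12, -, -, -⟩ := rotWord_vals k i j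
  have hwN := T.word_inN W k.val i.val j.val
  have hval : ∀ v, D.act c v = sigW^[k.val] (rotA^[i.val] (rotB^[j.val] v)) := fun v => by
    rw [e, D.act_mul hwN.1 (D.Q_comm hq), D.act_of_mem hq, T.act_word W]
  have hi0 : i = 0 := (rot_inj i).1 (by rw [← r3, ← hval, hlow _ l3])
  have hj0 : j = 0 := (rot_inj j).2.1 (by rw [← r12, ← hval, hlow _ l12])
  subst hi0 hj0
  rw [Fin.val_zero, pow_zero, pow_zero, mul_one, mul_one] at e
  have hqc : ∀ x ∈ Q, x * θ = θ * x → q * x = x * q := fun x hx hxθ => by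
    have h1 := h x hx hxθ
    rw [e, mul_assoc] at h1
    have h2 : θ ^ k.val * (q * x) = θ ^ k.val * (x * q) := by
      rw [h1, ← mul_assoc, ← mul_assoc, (Commute.pow_right hxθ _).eq]
    exact mul_left_cancel h2
  have b : ∀ v, Low v → b6 (π q) v = false := fun v hv => by
    obtain ⟨x, hx, rfl⟩ := D.surj v
    exact (D.commute_iff hq hx).1 (hqc x hx ((T.θ_mem_iff hx).2 hv))
  rcases D.mem_of_π_zero hq (low_pair_zero _ ((T.θ_mem_iff hq).1 hqθ) (b _ l3) (b _ l13) (b _ l12)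
    (b _ l7)) with rfl | rfl
  · exact ⟨k.val, Or.inl (by rw [e, mul_one])⟩
  · exact ⟨k.val, Or.inr e⟩

/-- The conjugates of `z` in `C_Q(θ)` other than `z` are conjugate to `s` in `N`. -/
theorem exists_conj_s {x : G} (hx : x ∈ Q) (hxθ : x * θ = θ * x) (hq : q6 (π x) = false)
    (h0 : π x ≠ 0) : ∃ c, InN z θ c ∧ c * s * c⁻¹ = x := by
  have D := T.frame.data
  obtain ⟨l2, b2, ls⟩ := low_two
  obtain ⟨i, j, hij⟩ := sing_orbit _ ((T.θ_mem_iff hx).1 hxθ) hq h0
  have hwN := T.word_inN W 0 i.val j.val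
  obtain ⟨w, hw⟩ : ∃ w, w = θ ^ 0 * e₁ ^ i.val * e₂ ^ j.val := ⟨_, rfl⟩
  rw [← hw] at hwN
  have hπ : π (w * s * w⁻¹) = π x := by
    rw [← D.act_π hwN.1 T.frame.pair.mem, T.frame.π_s, hw, T.act_word W, Function.iterate_zero, id, hij]
  rcases D.eq_or_eq_of_π_eq (D.sub.conj_mem hwN.1 T.frame.pair.mem) hx hπ with e | e
  · exact ⟨w, hwN, e.symm⟩
  · have hqm := D.sec_mem (mk6 2)
    have hqN : InN z θ (D.sec (mk6 2)) := ⟨D.Q_comm hqm, (T.θ_mem_iff hqm).2 (by rw [D.π_sec]; exact l2)⟩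
    refine ⟨w * D.sec (mk6 2), InN.mul' T hwN hqN, ?_⟩
    rw [e, show w * D.sec (mk6 2) * s * (w * D.sec (mk6 2))⁻¹ =
      w * (D.sec (mk6 2) * s * (D.sec (mk6 2))⁻¹) * w⁻¹ by group,
      D.sub.conj_of_not_commute hqm T.frame.pair.mem (fun h => by
        rw [D.commute_iff hqm T.frame.pair.mem, D.π_sec, T.frame.π_s, b2] at h
        exact Bool.noConfusion h),
      ← mul_assoc w z s, hwN.1]
    group

/-- Both order three elements are inverted in `N`. -/
theorem exists_invert : (∃ c, InN z θ c ∧ c * e₁ * c⁻¹ = e₁⁻¹) ∧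
    ∃ c, InN z θ c ∧ c * e₂ * c⁻¹ = e₂⁻¹ := by
  have D := T.frame.data
  obtain ⟨-, hok, -, hs, hA, hB⟩ := swap_facts
  obtain ⟨c0, hc0, hc0v⟩ := D.exists_pr hok
  obtain ⟨d, hd, hdθ, hdv⟩ := T.exists_lift hc0 (fun v => by rw [hc0v, hc0v, hs])
  have hdN : InN z θ d := ⟨hd, hdθ⟩
  have gen : ∀ (e : G) (r : V6 → V6), InN z θ e → e * e * e = 1 → (∀ v, D.act e v = r v) →
      (∀ v, r (r (pr (3, 12) v)) = pr (3, 12) (r v)) → ∃ c, InN z θ c ∧ c * e * c⁻¹ = e⁻¹ := by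
    intro e r he he3 her hr
    have hy := InN.mul' T (InN.mul' T hdN he) (InN.inv' T hdN)
    have hy3 : d * e * d⁻¹ * (d * e * d⁻¹) * (d * e * d⁻¹) = 1 := by
      rw [show d * e * d⁻¹ * (d * e * d⁻¹) * (d * e * d⁻¹) = d * (e * e * e) * d⁻¹ by group, he3]; group
    have hei : e⁻¹ = e * e := inv_eq_of_mul_eq_one_right (by rw [← mul_assoc, he3])
    obtain ⟨q, hq, hqθ, hqe⟩ := T.conj_in_Qθ (InN.inv' T he) hy (by
        rw [hei, show e * e * (e * e) * (e * e) = e * e * e * (e * e * e) by group, he3, one_mul])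
      hy3 (fun v => by
        rw [hei, D.act_mul he.1 he.1, her, her, D.act_mul (InN.mul' T hdN he).1 (InN.inv' T hdN).1,
          D.act_mul hd he.1, her]
        obtain ⟨w, rfl⟩ : ∃ w, D.act d w = v := ⟨_, (D.act_inv_cancel hd v).2⟩
        rw [(D.act_inv_cancel hd w).1, hdv, hdv, hc0v, hc0v, hr])
    exact ⟨q * d, InN.mul' T ⟨D.Q_comm hq, hqθ⟩ hdN, by rw [← hqe]; group⟩
  have c1 : e₁ * e₁ * e₁ = 1 := W.A.rel.e3
  exact ⟨gen e₁ rotA W.A.e_mem c1 W.act₁ hA, gen e₂ rotB W.B.e_mem W.B.rel.e3 W.act₂ hB⟩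

/-- Both order three elements are conjugate to `θ`. -/
theorem exists_conj_rot : (∃ c, c * θ * c⁻¹ = e₁) ∧ ∃ c, c * θ * c⁻¹ = e₂ := by
  have D := T.frame.data
  have hne : ∀ (e : G) (r : V6 → V6) (v : V6), (∀ v, D.act e v = r v) → r v ≠ v → e ∉ Q :=
    fun e r v h hv hQ => hv (by rw [← h, D.act_of_mem hQ])
  constructor
  · obtain ⟨c, -, hc⟩ := T.exists_conj_theta W.A.e_mem.1 W.A.rel.e3
      (hne _ _ (mk6 3) W.act₁ (by decide)) {0, mk6 3, mk6 13, mk6 14} (by decide)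
      (fun v => by rw [W.act₁]; exact rotA_image v)
    exact ⟨c, hc⟩
  · obtain ⟨c, -, hc⟩ := T.exists_conj_theta W.B.e_mem.1 W.B.rel.e3
      (hne _ _ (mk6 12) W.act₂ (by decide)) {0, mk6 12, mk6 7, mk6 11} (by decide)
      (fun v => by rw [W.act₂]; exact rotB_image v)
    exact ⟨c, hc⟩

end Four

end CfsgLib.SuzType
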