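import Cfsg.Agent.SuzType.ThreeNormal
import Cfsg.Agent.UFourType.Main
import Cfsg.Agent.CharPLocal.Basic

/-!
# The centralizer of `θ` modulo `θ` is of `U₄(3)` type
-/

set_option autoImplicit false
set_option linter.style.haveILetI false

namespace CfsgLib.SuzType

open SLThree

/-- `⟨θ⟩` inside its centralizer. -/
abbrev Zsub {G : Type*} [Group G] (θ : G) : Subgroup (Subgroup.centralizer ({θ} : Set G)) :=
  (Subgroup.zpowers θ).subgroupOf (Subgroup.centralizer ({θ} : Set G))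

instance Zsub_normal {G : Type*} [Group G] (θ : G) : (Zsub θ).Normal where
  conj_mem := fun x hx g => by
    rw [Subgroup.mem_subgroupOf] at hx ⊢
    obtain ⟨n, hn⟩ := Subgroup.mem_zpowers_iff.1 hx
    have h : Commute (g : G) θ := Subgroup.mem_centralizer_singleton_iff.1 g.2
    refine Subgroup.mem_zpowers_iff.2 ⟨n, ?_⟩
    simp only [Subgroup.coe_mul, Subgroup.coe_inv]
    rw [← hn, (h.zpow_right n).eq]
    group

namespace Four

variable {G : Type*} [Group G] [Finite G] {z s θ t : G} {Q P : Subgroup G} {π : G → V6}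
  (T : Four z Q π P s θ t)
include T

theorem orderOf_θ : orderOf θ = 3 := by
  haveI : Fact (Nat.Prime 3) := ⟨Nat.prime_three⟩
  refine orderOf_eq_prime (by rw [pow_succ, pow_two, T.θ_cube]) fun e => ?_
  have h : T.frame.data.act θ a0 = a0 :=
    (congrArg (fun r => T.frame.data.act r a0) e).trans (T.frame.data.act_one a0)
  rw [T.θ_act', sigW_facts.1] at h
  exact a0_ne.2.2 h.symm

theorem eq_one_of_Q_zpowers {x : G} (hx : x ∈ Q) (h : x ∈ Subgroup.zpowers θ) : x = 1 := by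
  have h1 := Q.orderOf_dvd_natCard hx
  have h2 := (Subgroup.zpowers θ).orderOf_dvd_natCard h
  rw [T.frame.data.card] at h1
  rw [Nat.card_zpowers, T.orderOf_θ] at h2
  exact orderOf_eq_one_iff.1 (Nat.eq_one_of_dvd_coprimes (by norm_num : Nat.Coprime 128 3) h1 h2)

/-- Elements of order dividing four commuting with `θ` are determined modulo `⟨θ⟩`. -/
theorem eq_of_mod {u v : G} (hu : u ∈ Q) (hv2 : v * v * (v * v) = 1) (hv : v * θ = θ * v)
    (h : u⁻¹ * v ∈ Subgroup.zpowers θ) : v = u := by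
  have D := T.frame.data
  obtain ⟨n, hn⟩ := Subgroup.mem_zpowers_iff.1 h
  have hc : Commute v (θ ^ (-n)) := (show Commute v θ from hv).zpow_right _
  have hu' : u = v * θ ^ (-n) := by rw [zpow_neg, hn]; group
  have hu4 : u * u * (u * u) = 1 := by
    rcases D.sub.sq_eq hu with e | e <;> rw [e]
    · exact one_mul 1
    · exact D.sub.mul_self
  have h4 : (θ ^ (-n)) ^ 4 = 1 := by
    have e1 : v ^ 4 = 1 := by rw [pow_succ, pow_succ, pow_two, mul_assoc (v * v)]; exact hv2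
    have e2 : u ^ 4 = 1 := by rw [pow_succ, pow_succ, pow_two, mul_assoc (u * u)]; exact hu4
    rw [hu', hc.mul_pow, e1, one_mul] at e2
    exact e2
  have h3 : (θ ^ (-n)) ^ 3 = 1 := by
    rw [← zpow_natCast (θ ^ (-n)), ← zpow_mul, mul_comm, zpow_mul, zpow_natCast, pow_succ, pow_two,
      T.θ_cube, one_zpow]
  rw [pow_succ, h3, one_mul] at h4
  rw [hu', h4, mul_one]

theorem Qθ_pow_four {u : G} (hu : u ∈ Q) : u * u * (u * u) = 1 := by
  rcases T.frame.data.sub.sq_eq hu with e | e <;> rw [e]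
  · exact one_mul 1
  · exact T.frame.data.sub.mul_self

theorem mem_cent {c : G} : c ∈ Subgroup.centralizer ({z, θ} : Set G) ↔ InN z θ c :=
  ⟨fun h => ⟨(Subgroup.mem_centralizer_iff.1 h z (Or.inl rfl)).symm,
    (Subgroup.mem_centralizer_iff.1 h θ (Or.inr rfl)).symm⟩,
  fun h => Subgroup.mem_centralizer_iff.2 fun x hx => by
    rcases hx with rfl | rfl
    · exact h.1.symm
    · exact h.2.symm⟩

theorem z_mem_Cθ : z ∈ Subgroup.centralizer ({θ} : Set G) :=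
  Subgroup.mem_centralizer_singleton_iff.2 T.θ_comm_z.symm

/-- The image of `z`. -/
abbrev zb : Subgroup.centralizer ({θ} : Set G) ⧸ Zsub θ :=
  QuotientGroup.mk' (Zsub θ) ⟨z, T.z_mem_Cθ⟩

theorem orderOf_zb : orderOf T.zb = 2 := by
  haveI : Fact (Nat.Prime 2) := ⟨Nat.prime_two⟩
  refine orderOf_eq_prime ?_ fun e => ?_
  · rw [← map_pow, show (⟨z, T.z_mem_Cθ⟩ : Subgroup.centralizer ({θ} : Set G)) ^ 2 = 1 from
      Subtype.ext (by rw [SubmonoidClass.coe_pow, pow_two]; exact T.frame.data.sub.mul_self), map_one]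
  · exact T.frame.data.sub.ne_one (T.eq_one_of_Q_zpowers T.frame.data.sub.z_mem
      (Subgroup.mem_subgroupOf.1 ((QuotientGroup.eq_one_iff (N := Zsub θ) _).1 e)))

theorem comm_zb_iff (a : Subgroup.centralizer ({θ} : Set G)) :
    QuotientGroup.mk' (Zsub θ) a ∈ Subgroup.centralizer ({T.zb} : Set _) ↔ (a : G) * z = z * a := by
  have D := T.frame.data
  have haθ : (a : G) * θ = θ * a := Subgroup.mem_centralizer_singleton_iff.1 a.2
  rw [Subgroup.mem_centralizer_singleton_iff]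
  constructor
  · intro h
    rw [← mul_inv_eq_iff_eq_mul, ← map_mul, ← map_inv, ← map_mul] at h
    have h' := QuotientGroup.eq.1 h.symm
    rw [Subgroup.mem_subgroupOf] at h'
    exact mul_inv_eq_iff_eq_mul.1 (T.eq_of_mod D.sub.z_mem (by
      rw [show (a : G) * z * (a : G)⁻¹ * ((a : G) * z * (a : G)⁻¹) *
        ((a : G) * z * (a : G)⁻¹ * ((a : G) * z * (a : G)⁻¹)) = (a : G) * (z * z * (z * z)) * (a : G)⁻¹
        by group, D.sub.mul_self]; group)
      (((Commute.mul_left haθ T.θ_comm_z.symm).mul_left (Commute.inv_left haθ))).eq h')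
  · intro h
    rw [← map_mul, ← map_mul]
    exact congrArg _ (Subtype.ext h)

/-- The map onto the centralizer of the image of `z`. -/
noncomputable def chi : Subgroup.centralizer ({z, θ} : Set G) →*
    Subgroup.centralizer ({T.zb} : Set (Subgroup.centralizer ({θ} : Set G) ⧸ Zsub θ)) :=
  ((QuotientGroup.mk' (Zsub θ)).comp
    (Subgroup.inclusion (Subgroup.centralizer_le (by simp)))).codRestrict _
    fun c => (T.comm_zb_iff _).2 (T.mem_cent.1 c.2).1

theorem chi_coe (c : Subgroup.centralizer ({z, θ} : Set G)) :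
    (T.chi c : Subgroup.centralizer ({θ} : Set G) ⧸ Zsub θ) = QuotientGroup.mk' (Zsub θ)
      ⟨(c : G), Subgroup.mem_centralizer_singleton_iff.2 (T.mem_cent.1 c.2).2⟩ := rfl

theorem chi_surjective : Function.Surjective T.chi := by
  rintro ⟨x, hx⟩
  obtain ⟨a, rfl⟩ := QuotientGroup.mk'_surjective (Zsub θ) x
  exact ⟨⟨(a : G), T.mem_cent.2 ⟨(T.comm_zb_iff a).1 hx, Subgroup.mem_centralizer_singleton_iff.1 a.2⟩⟩,
    rfl⟩

theorem chi_eq_one_iff (c : Subgroup.centralizer ({z, θ} : Set G)) :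
    T.chi c = 1 ↔ (c : G) ∈ Subgroup.zpowers θ := by
  rw [← Subtype.val_inj, OneMemClass.coe_one, T.chi_coe]
  exact QuotientGroup.eq_one_iff _

theorem card_cent_zb :
    Nat.card (Subgroup.centralizer ({T.zb} : Set (Subgroup.centralizer ({θ} : Set G) ⧸ Zsub θ))) =
      1152 := by
  have hk : Nat.card T.chi.ker = 3 := by
    rw [← T.orderOf_θ, ← Nat.card_zpowers]
    refine Nat.card_congr
      { toFun := fun c => ⟨_, (T.chi_eq_one_iff c.1).1 c.2⟩
        invFun := fun x => ⟨⟨(x : G), T.mem_cent.2 (by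
          obtain ⟨n, hn⟩ := Subgroup.mem_zpowers_iff.1 x.2
          rw [← hn]
          exact ⟨(Commute.zpow_left (show Commute θ z from T.θ_comm_z) n).eq,
            (Commute.zpow_left (Commute.refl θ) n).eq⟩)⟩, (T.chi_eq_one_iff _).2 x.2⟩
        left_inv := fun c => rfl
        right_inv := fun x => rfl }
  have h := T.chi.ker.card_mul_index
  rw [Subgroup.index_ker, hk, T.card_cent_z_θ, MonoidHom.range_eq_top.2 T.chi_surjective,
    Subgroup.card_top] at h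
  omega

theorem Qθ_le : Q ⊓ Subgroup.centralizer ({θ} : Set G) ≤ Subgroup.centralizer ({z, θ} : Set G) :=
  fun _ hx => T.mem_cent.2 ⟨T.frame.data.Q_comm hx.1, Subgroup.mem_centralizer_singleton_iff.1 hx.2⟩

/-- The image of `C_Q(θ)`. -/
noncomputable def Qbar :
    Subgroup (Subgroup.centralizer ({T.zb} : Set (Subgroup.centralizer ({θ} : Set G) ⧸ Zsub θ))) :=
  ((Q ⊓ Subgroup.centralizer ({θ} : Set G)).subgroupOf (Subgroup.centralizer ({z, θ} : Set G))).map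
    T.chi

theorem mem_Qbar {x : Subgroup.centralizer ({T.zb} : Set (Subgroup.centralizer ({θ} : Set G) ⧸ Zsub θ))} :
    x ∈ T.Qbar ↔ ∃ c : Subgroup.centralizer ({z, θ} : Set G), (c : G) ∈ Q ∧ T.chi c = x := by
  constructor
  · rintro ⟨c, hc, rfl⟩; exact ⟨c, hc.1, rfl⟩
  · rintro ⟨c, hc, rfl⟩
    exact ⟨c, ⟨hc, Subgroup.mem_centralizer_singleton_iff.2 (T.mem_cent.1 c.2).2⟩, rfl⟩

instance Qbar_normal : T.Qbar.Normal := by
  refine Subgroup.Normal.map ⟨fun x hx g => ?_⟩ _ T.chi_surjective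
  rw [Subgroup.mem_subgroupOf] at hx ⊢
  refine ⟨T.frame.data.sub.conj_mem (T.mem_cent.1 g.2).1 hx.1,
    Subgroup.mem_centralizer_singleton_iff.2 ?_⟩
  exact (T.mem_cent.1 ((g * x * g⁻¹).2)).2

theorem isPGroup_Qbar : IsPGroup 2 T.Qbar :=
  ((T.frame.data.isPGroup_Q.to_le inf_le_left).comap_of_injective _ (Subgroup.subtype_injective _)).map _

variable {e₁ i₁ j₁ e₂ i₂ j₂ : G} (W : Pairs T.frame.data θ e₁ i₁ j₁ e₂ i₂ j₂)
include W

/-- Products from the two factors, rotations first. -/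
theorem prod_form (k l : Idx) : ∃ q ∈ Q, q * θ = θ * q ∧
    nf i₁ j₁ e₁ k * nf i₂ j₂ e₂ l = θ ^ 0 * e₁ ^ k.2.2.val * e₂ ^ l.2.2.val * q := by
  have D := T.frame.data
  obtain ⟨qA, hqA⟩ : ∃ q, q = i₁ ^ k.1.val * j₁ ^ k.2.1.val := ⟨_, rfl⟩
  obtain ⟨qB, hqB⟩ : ∃ q, q = i₂ ^ l.1.val * j₂ ^ l.2.1.val := ⟨_, rfl⟩
  obtain ⟨w, hw⟩ : ∃ w, w = θ ^ 0 * e₁ ^ k.2.2.val * e₂ ^ l.2.2.val := ⟨_, rfl⟩
  have hwN : InN z θ w := hw ▸ T.word_inN W _ _ _
  have hQ : qA * qB ∈ Q := mul_mem (hqA ▸ mul_mem (pow_mem W.A.i_mem.1 _) (pow_mem W.A.j_mem.1 _))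
    (hqB ▸ mul_mem (pow_mem W.B.i_mem.1 _) (pow_mem W.B.j_mem.1 _))
  have hA : InN z θ qA := hqA ▸ InN.mul' T (InN.pow' T ⟨D.Q_comm W.A.i_mem.1, W.A.i_mem.2.1⟩ _)
    (InN.pow' T ⟨D.Q_comm W.A.j_mem.1, W.A.j_mem.2.1⟩ _)
  have hB : InN z θ qB := hqB ▸ InN.mul' T (InN.pow' T ⟨D.Q_comm W.B.i_mem.1, W.B.i_mem.2.1⟩ _)
    (InN.pow' T ⟨D.Q_comm W.B.j_mem.1, W.B.j_mem.2.1⟩ _)
  refine ⟨w⁻¹ * (qA * qB) * w, ?_, (InN.mul' T (InN.mul' T (InN.inv' T hwN) (InN.mul' T hA hB)) hwN).2, ?_⟩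
  · have := D.sub.conj_mem (InN.inv' T hwN).1 hQ
    rwa [inv_inv] at this
  · have hc : Commute (e₁ ^ k.2.2.val) qB := by
      have := W.comm (0, 0, k.2.2) (l.1, l.2.1, 0)
      simpa [nf, hqB] using this
    rw [← hw, show w * (w⁻¹ * (qA * qB) * w) = qA * qB * w by group, hw, pow_zero, one_mul, nf, nf, hqA]
    calc i₁ ^ k.1.val * (j₁ ^ k.2.1.val * e₁ ^ k.2.2.val) * (i₂ ^ l.1.val * (j₂ ^ l.2.1.val * e₂ ^ l.2.2.val))
        = i₁ ^ k.1.val * j₁ ^ k.2.1.val * (e₁ ^ k.2.2.val * qB) * e₂ ^ l.2.2.val := by rw [hqB]; group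
      _ = _ := by rw [hc.eq]; group

theorem nf_inN (k l : Idx) : InN z θ (nf i₁ j₁ e₁ k * nf i₂ j₂ e₂ l) := by
  obtain ⟨q, hq, hqθ, e⟩ := T.prod_form W k l
  rw [e]
  exact InN.mul' T (T.word_inN W _ _ _) ⟨T.frame.data.Q_comm hq, hqθ⟩

/-- The recognition applies. -/
theorem quot_equiv_psu (K : Type) [Field K] [Fintype K] (hK : Fintype.card K = 9) :
    Nonempty ((Subgroup.centralizer ({θ} : Set G) ⧸ Zsub θ) ≃* Cfsg.PSU 4 K 3) ∧
      ∀ x y : Subgroup.centralizer ({θ} : Set G) ⧸ Zsub θ, orderOf x = 2 → orderOf y = 2 → IsConj x y := by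
  classical
  haveI : Fact (Nat.Prime 2) := ⟨Nat.prime_two⟩
  have D := T.frame.data
  have hz0 : ∀ k : Idx, nf i₁ j₁ e₁ k = nf i₁ j₁ e₁ k * nf i₂ j₂ e₂ 0 := fun k => by
    rw [W.B.rel.nf_zero, mul_one]
  have hz0' : ∀ l : Idx, nf i₂ j₂ e₂ l = nf i₁ j₁ e₁ 0 * nf i₂ j₂ e₂ l := fun l => by
    rw [W.A.rel.nf_zero, one_mul]
  obtain ⟨HA, ⟨fA⟩, hHA⟩ := SLThree.exists_equiv W.A.rel W.A.inj
  obtain ⟨HB, ⟨fB⟩, hHB⟩ := SLThree.exists_equiv W.B.rel W.B.inj
  have hAN : HA ≤ Subgroup.centralizer ({z, θ} : Set G) := fun x hx => by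
    obtain ⟨k, rfl⟩ := (hHA x).1 hx
    rw [hz0]; exact T.mem_cent.2 (T.nf_inN W k 0)
  have hBN : HB ≤ Subgroup.centralizer ({z, θ} : Set G) := fun x hx => by
    obtain ⟨l, rfl⟩ := (hHB x).1 hx
    rw [hz0']; exact T.mem_cent.2 (T.nf_inN W 0 l)
  obtain ⟨ψA, hψA⟩ : ∃ f, f = T.chi.comp (Subgroup.inclusion hAN) := ⟨_, rfl⟩
  obtain ⟨ψB, hψB⟩ : ∃ f, f = T.chi.comp (Subgroup.inclusion hBN) := ⟨_, rfl⟩
  -- injectivity: no element of a factor is a nontrivial power of θ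
  have hexp : ∀ k l : Idx, nf i₁ j₁ e₁ k * nf i₂ j₂ e₂ l ∈ Subgroup.zpowers θ →
      k.2.2 = 0 ∧ l.2.2 = 0 := by
    intro k l h
    obtain ⟨q, hq, -, e⟩ := T.prod_form W k l
    exact T.two_elt W (k := 0) (i := k.2.2) (j := l.2.2) hq e (m := 0) (by rw [pow_zero, pow_one]; exact h)
  have hsame : ∀ k l : Idx, nf i₁ j₁ e₁ k * nf i₂ j₂ e₂ l ∈ Subgroup.zpowers θ →
      nf i₁ j₁ e₁ k * nf i₂ j₂ e₂ l = 1 := by
    intro k l h
    obtain ⟨h1, h2⟩ := hexp k l h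
    obtain ⟨q, hq, -, e⟩ := T.prod_form W k l
    rw [h1, h2, Fin.val_zero, pow_zero, pow_zero, pow_zero, one_mul, one_mul, one_mul] at e
    rw [e] at h ⊢
    exact T.eq_one_of_Q_zpowers hq h
  have injA : Function.Injective ψA := by
    rw [injective_iff_map_eq_one]
    intro x hx
    rw [hψA, MonoidHom.comp_apply, T.chi_eq_one_iff] at hx
    obtain ⟨k, hk⟩ := (hHA x).1 x.2
    refine Subtype.ext ?_
    show (x : G) = 1
    rw [← hk, hz0]
    refine hsame k 0 ?_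
    rw [← hz0, hk]; exact hx
  have injB : Function.Injective ψB := by
    rw [injective_iff_map_eq_one]
    intro x hx
    rw [hψB, MonoidHom.comp_apply, T.chi_eq_one_iff] at hx
    obtain ⟨l, hl⟩ := (hHB x).1 x.2
    refine Subtype.ext ?_
    show (x : G) = 1
    rw [← hl, hz0']
    refine hsame 0 l ?_
    rw [← hz0', hl]; exact hx
  have hcomm : ∀ a b, Commute (ψA a) (ψB b) := fun a b => by
    rw [hψA, hψB, MonoidHom.comp_apply, MonoidHom.comp_apply]
    refine Commute.map ?_ _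
    obtain ⟨k, hk⟩ := (hHA a).1 a.2
    obtain ⟨l, hl⟩ := (hHB b).1 b.2
    refine Subtype.ext ?_
    show (a : G) * b = b * a
    rw [← hk, ← hl]
    exact (W.comm k l).eq
  have hAB : ∀ a ∈ ψA.range, ∀ b ∈ ψB.range, Commute a b := by
    rintro _ ⟨a, rfl⟩ _ ⟨b, rfl⟩; exact hcomm a b
  have hsup : ∀ x ∈ ψA.range ⊔ ψB.range, ∃ k l : Idx, ∀ h : InN z θ (nf i₁ j₁ e₁ k * nf i₂ j₂ e₂ l),
      x = T.chi ⟨_, T.mem_cent.2 h⟩ := by
    intro x hx
    rw [← MonoidHom.noncommCoprod_range ψA ψB hcomm] at hx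
    obtain ⟨⟨a, b⟩, rfl⟩ := hx
    obtain ⟨k, hk⟩ := (hHA a).1 a.2
    obtain ⟨l, hl⟩ := (hHB b).1 b.2
    refine ⟨k, l, fun h => ?_⟩
    rw [MonoidHom.noncommCoprod_apply, hψA, hψB, MonoidHom.comp_apply, MonoidHom.comp_apply, ← map_mul]
    refine congrArg _ (Subtype.ext ?_)
    exact congrArg₂ (· * ·) hk.symm hl.symm
  have hn₁ : (ψA.range.subgroupOf (ψA.range ⊔ ψB.range)).Normal := by
    rw [← Subgroup.normalizer_eq_top_iff, eq_top_iff]
    have h : ψA.range ⊔ ψB.range ≤ Subgroup.normalizer (ψA.range : Set _) :=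
      sup_le Subgroup.le_normalizer ((show ψB.range ≤ Subgroup.centralizer (ψA.range : Set _) from
        fun b hb => Subgroup.mem_centralizer_iff.2 fun a ha => (hAB a ha b hb).eq).trans
          (Subgroup.centralizer_le_normalizer _))
    intro x _
    have hx := h x.2
    rw [Subgroup.mem_normalizer_iff] at hx ⊢
    intro y
    exact hx y
  have hn₂ : (ψB.range.subgroupOf (ψA.range ⊔ ψB.range)).Normal := by
    rw [← Subgroup.normalizer_eq_top_iff, eq_top_iff]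
    have h : ψA.range ⊔ ψB.range ≤ Subgroup.normalizer (ψB.range : Set _) :=
      sup_le ((show ψA.range ≤ Subgroup.centralizer (ψB.range : Set _) from
        fun a ha => Subgroup.mem_centralizer_iff.2 fun b hb => (hAB a ha b hb).eq.symm).trans
          (Subgroup.centralizer_le_normalizer _)) Subgroup.le_normalizer
    intro x _
    have hx := h x.2
    rw [Subgroup.mem_normalizer_iff] at hx ⊢
    intro y
    exact hx y
  have hzN : InN z θ z := ⟨rfl, T.θ_comm_z.symm⟩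
  have hzchi : ((T.chi ⟨z, T.mem_cent.2 hzN⟩ : Subgroup.centralizer ({T.zb} : Set _)) :
      Subgroup.centralizer ({θ} : Set G) ⧸ Zsub θ) = T.zb := rfl
  have hzA : z ∈ HA := (hHA z).2 ⟨(2, 0, 0), by simp [nf, pow_two, W.A.i2]⟩
  have hzB : z ∈ HB := (hHB z).2 ⟨(2, 0, 0), by simp [nf, pow_two, W.B.i2]⟩
  have hmeet : (ψA.range ⊓ ψB.range).map
      (Subgroup.centralizer ({T.zb} : Set (Subgroup.centralizer ({θ} : Set G) ⧸ Zsub θ))).subtype =
      Subgroup.zpowers T.zb := by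
    refine le_antisymm ?_ (Subgroup.zpowers_le.2 ⟨T.chi ⟨z, T.mem_cent.2 hzN⟩, ⟨⟨⟨z, hzA⟩, by rw [hψA]; rfl⟩,
      ⟨⟨z, hzB⟩, by rw [hψB]; rfl⟩⟩, hzchi⟩)
    rintro _ ⟨x, ⟨⟨a, ha⟩, b, hb⟩, rfl⟩
    obtain ⟨k, hk⟩ := (hHA a).1 a.2
    obtain ⟨l, hl⟩ := (hHB b).1 b.2
    have h1 : T.chi (Subgroup.inclusion hAN a * (Subgroup.inclusion hBN b)⁻¹) = 1 := by
      rw [map_mul, map_inv]
      rw [hψA] at ha; rw [hψB] at hb
      rw [show T.chi (Subgroup.inclusion hAN a) = x from ha,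
        show T.chi (Subgroup.inclusion hBN b) = x from hb, mul_inv_cancel]
    rw [T.chi_eq_one_iff] at h1
    have h1' : (a : G) * ((b : G))⁻¹ ∈ Subgroup.zpowers θ := h1
    obtain ⟨l', hl'⟩ := (hHB _).1 (inv_mem b.2)
    have h2 := hsame k l' (by rw [hk, hl']; exact h1')
    rw [hk, hl', mul_inv_eq_one] at h2
    -- the common element commutes with its factor
    have haQ : (a : G) ∈ Q ∧ (π (a : G) = 0) := by
      obtain ⟨hc, -⟩ := hexp k l' (by rw [hk, hl']; exact h1')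
      obtain ⟨p, r, c⟩ := k
      simp only at hc
      subst hc
      have hak : (a : G) = i₁ ^ p.val * j₁ ^ r.val := by
        rw [← hk, nf, Fin.val_zero, pow_zero, mul_one]
      have haQ : (a : G) ∈ Q := hak ▸ mul_mem (pow_mem W.A.i_mem.1 _) (pow_mem W.A.j_mem.1 _)
      refine ⟨haQ, ?_⟩
      have hcx : ∀ l, Commute (a : G) (nf i₁ j₁ e₁ l) := fun l0 => by
        rw [h2, ← hl]; exact (W.comm l0 l).symm
      have hcy : ∀ k0, Commute (a : G) (nf i₂ j₂ e₂ k0) := fun k0 => by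
        rw [← hk]; exact W.comm _ k0
      have ci : Commute (a : G) i₁ := by simpa [nf] using hcx (1, 0, 0)
      have cj : Commute (a : G) j₁ := by simpa [nf] using hcx (0, 1, 0)
      have ci' : Commute (a : G) i₂ := by simpa [nf] using hcy (1, 0, 0)
      have cj' : Commute (a : G) j₂ := by simpa [nf] using hcy (0, 1, 0)
      have key : ∀ {y : G} {v : V6}, y ∈ Q ∧ y * θ = θ * y ∧ π y = v → Commute (a : G) y →
          b6 (π (a : G)) v = false := fun hy hc => hy.2.2 ▸ (D.commute_iff haQ hy.1).1 hc.eq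
      exact low_pair_zero _ ((T.θ_mem_iff haQ).1 (T.mem_cent.1 (hAN a.2)).2) (key W.A.i_mem ci)
        (key W.A.j_mem cj) (key W.B.i_mem ci') (key W.B.j_mem cj')
    have hx : x = T.chi (Subgroup.inclusion hAN a) := by rw [← ha, hψA]; rfl
    rw [hx]
    rcases D.mem_of_π_zero haQ.1 haQ.2 with e | e
    · rw [show Subgroup.inclusion hAN a = 1 from Subtype.ext e, map_one, map_one]
      exact one_mem _
    · rw [show Subgroup.inclusion hAN a = ⟨z, T.mem_cent.2 hzN⟩ from Subtype.ext e]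
      exact Subgroup.mem_zpowers _
  -- the two core of the product
  have hQle : T.Qbar ≤ ψA.range ⊔ ψB.range := by
    intro x hx
    obtain ⟨c, hc, rfl⟩ := T.mem_Qbar.1 hx
    obtain ⟨k, l, -, -, e⟩ := T.split_Qθ W hc (T.mem_cent.1 c.2).2
    have e' : T.chi c = ψA ⟨_, (hHA _).2 ⟨k, rfl⟩⟩ * ψB ⟨_, (hHB _).2 ⟨l, rfl⟩⟩ := by
      rw [hψA, hψB, MonoidHom.comp_apply, MonoidHom.comp_apply, ← map_mul]
      exact congrArg _ (Subtype.ext e)
    rw [e']
    exact mul_mem (le_sup_left (b := ψB.range) ⟨_, rfl⟩) (le_sup_right (a := ψA.range) ⟨_, rfl⟩)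
  have htwo : ∀ x ∈ ψA.range ⊔ ψB.range, ∀ m : ℕ, x ^ 2 ^ m = 1 → x ∈ T.Qbar := by
    intro x hx m hm
    obtain ⟨k, l, h⟩ := hsup x hx
    have hN := T.nf_inN W k l
    rw [h hN, ← map_pow, T.chi_eq_one_iff, SubmonoidClass.coe_pow] at hm
    obtain ⟨q, hq, -, e⟩ := T.prod_form W k l
    obtain ⟨h1, h2⟩ := T.two_elt W (k := 0) (i := k.2.2) (j := l.2.2) hq e hm
    rw [h1, h2, Fin.val_zero, pow_zero, pow_zero, pow_zero, one_mul, one_mul, one_mul] at e
    exact T.mem_Qbar.2 ⟨_, e ▸ hq, (h hN).symm⟩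
  have hQeq : T.Qbar = (Cfsg.pCore 2 ↥(ψA.range ⊔ ψB.range)).map (ψA.range ⊔ ψB.range).subtype := by
    refine le_antisymm ?_ ?_
    · intro x hx
      refine ⟨⟨x, hQle hx⟩, ?_, rfl⟩
      exact le_sSup (a := T.Qbar.subgroupOf (ψA.range ⊔ ψB.range))
        (s := {N : Subgroup ↥(ψA.range ⊔ ψB.range) | N.Normal ∧ IsPGroup 2 N})
        ⟨Subgroup.Normal.subgroupOf inferInstance _,
          T.isPGroup_Qbar.comap_of_injective _ (Subgroup.subtype_injective _)⟩ hx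
    · rintro _ ⟨x, hx, rfl⟩
      obtain ⟨m, hm⟩ := CfsgLib.LargeExtraspecial.isPGroup_pCore 2 _ ⟨x, hx⟩
      refine htwo _ x.2 m ?_
      have h1 : x ^ 2 ^ m = 1 := congrArg Subtype.val hm
      exact congrArg Subtype.val h1
  -- the generalized Fitting subgroup
  have hcore : Cfsg.pCore 2 (Subgroup.centralizer ({T.zb} : Set (Subgroup.centralizer ({θ} : Set G) ⧸ Zsub θ))) =
      T.Qbar := by
    refine le_antisymm (fun x hx => ?_) (le_sSup ⟨T.Qbar_normal, T.isPGroup_Qbar⟩)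
    obtain ⟨c, rfl⟩ := T.chi_surjective x
    have hcN := T.mem_cent.1 c.2
    haveI := CfsgLib.LargeExtraspecial.pCore_normal' 2
      (Subgroup.centralizer ({T.zb} : Set (Subgroup.centralizer ({θ} : Set G) ⧸ Zsub θ)))
    have hpow : ∀ d : Subgroup.centralizer ({z, θ} : Set G), T.chi d ∈ Cfsg.pCore 2 _ →
        ∃ m : ℕ, (d : G) ^ 2 ^ m ∈ Subgroup.zpowers θ := by
      intro d hd
      obtain ⟨m, hm⟩ := CfsgLib.LargeExtraspecial.isPGroup_pCore 2 _ ⟨_, hd⟩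
      have h1 : T.chi d ^ 2 ^ m = 1 := congrArg Subtype.val hm
      rw [← map_pow, T.chi_eq_one_iff, SubmonoidClass.coe_pow] at h1
      exact ⟨m, h1⟩
    have hcom : ∀ e : Subgroup.centralizer ({z, θ} : Set G),
        ∃ m : ℕ, ((c : G) * e * (c : G)⁻¹ * (e : G)⁻¹) ^ 2 ^ m ∈ Subgroup.zpowers θ := by
      intro e
      refine hpow (c * e * c⁻¹ * e⁻¹) ?_
      have := mul_mem hx (Subgroup.Normal.conj_mem inferInstance _ (inv_mem hx) (T.chi e))
      rw [show T.chi (c * e * c⁻¹ * e⁻¹) = T.chi c * (T.chi e * (T.chi c)⁻¹ * (T.chi e)⁻¹) by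
        rw [map_mul, map_mul, map_mul, map_inv, map_inv]; group]
      exact this
    obtain ⟨m1, hm1⟩ := hcom ⟨e₁, T.mem_cent.2 W.A.e_mem⟩
    obtain ⟨m2, hm2⟩ := hcom ⟨e₂, T.mem_cent.2 W.B.e_mem⟩
    obtain ⟨k, i, j, q, hq, hqθ, e⟩ := T.normal_form W hcN ((T.comm_of_two W hcN).1 hm1)
      ((T.comm_of_two W hcN).2 hm2)
    obtain ⟨m, hm⟩ := hpow c hx
    obtain ⟨rfl, rfl⟩ := T.two_elt W hq e hm
    refine T.mem_Qbar.2 ⟨⟨q, T.mem_cent.2 ⟨D.Q_comm hq, hqθ⟩⟩, hq, ?_⟩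
    rw [← mul_inv_eq_one, ← map_inv, ← map_mul, T.chi_eq_one_iff]
    show q * (c : G)⁻¹ ∈ _
    rw [e, Fin.val_zero, pow_zero, pow_zero, mul_one, mul_one,
      show q * (θ ^ k.val * q)⁻¹ = (θ ^ k.val)⁻¹ by group]
    exact inv_mem (Subgroup.npow_mem_zpowers θ _)
  have hcent : Subgroup.centralizer (T.Qbar : Set _) ≤ T.Qbar := by
    intro x hx
    obtain ⟨c, rfl⟩ := T.chi_surjective x
    have hcN := T.mem_cent.1 c.2
    obtain ⟨k, hk⟩ := T.central W hcN fun q hq hqθ => by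
      have hqN : InN z θ q := ⟨D.Q_comm hq, hqθ⟩
      have h := Subgroup.mem_centralizer_iff.1 hx (T.chi ⟨q, T.mem_cent.2 hqN⟩)
        (T.mem_Qbar.2 ⟨_, hq, rfl⟩)
      have h' : T.chi (⟨q, T.mem_cent.2 hqN⟩⁻¹ * (c * ⟨q, T.mem_cent.2 hqN⟩ * c⁻¹)) = 1 := by
        rw [map_mul, map_mul, map_mul, map_inv, map_inv, ← h]; group
      rw [T.chi_eq_one_iff] at h'
      exact mul_inv_eq_iff_eq_mul.1 (T.eq_of_mod hq (T.Qθ_pow_four (D.sub.conj_mem hcN.1 hq))
        (InN.mul' T (InN.mul' T hcN hqN) (InN.inv' T hcN)).2 h')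
    rcases hk with e | e
    · refine T.mem_Qbar.2 ⟨1, one_mem _, ?_⟩
      rw [map_one, eq_comm, T.chi_eq_one_iff, e]
      exact Subgroup.npow_mem_zpowers θ k
    · refine T.mem_Qbar.2 ⟨⟨z, T.mem_cent.2 hzN⟩, D.sub.z_mem, ?_⟩
      rw [← mul_inv_eq_one, ← map_inv, ← map_mul, T.chi_eq_one_iff]
      show z * (c : G)⁻¹ ∈ _
      rw [e, show z * (θ ^ k * z)⁻¹ = (θ ^ k)⁻¹ by group]
      exact inv_mem (Subgroup.npow_mem_zpowers θ k)
  have hF : Cfsg.generalizedFittingSubgroup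
      (Subgroup.centralizer ({T.zb} : Set (Subgroup.centralizer ({θ} : Set G) ⧸ Zsub θ))) = T.Qbar := by
    rw [CfsgLib.CharPLocal.generalizedFittingSubgroup_eq_pCore (p := 2) (by rw [hcore]; exact hcent), hcore]
  -- the conjugate `s` of `z`
  obtain ⟨ρ, hρz, hρs, hρθ, -⟩ := T.exists_rho
  have hsN : InN z θ s := ⟨D.Q_comm T.frame.pair.mem, T.θ_comm_s.symm⟩
  have hnwc : ∃ g : Subgroup.centralizer ({θ} : Set G) ⧸ Zsub θ,
      (∃ hq : g * T.zb * g⁻¹ ∈ Subgroup.centralizer ({T.zb} : Set _),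
        (⟨g * T.zb * g⁻¹, hq⟩ : Subgroup.centralizer ({T.zb} : Set _)) ∈ T.Qbar) ∧
        g * T.zb * g⁻¹ ≠ T.zb := by
    refine ⟨QuotientGroup.mk' _ ⟨ρ, Subgroup.mem_centralizer_singleton_iff.2 hρθ⟩, ?_⟩
    have e : QuotientGroup.mk' (Zsub θ) ⟨ρ, Subgroup.mem_centralizer_singleton_iff.2 hρθ⟩ * T.zb *
        (QuotientGroup.mk' (Zsub θ) ⟨ρ, Subgroup.mem_centralizer_singleton_iff.2 hρθ⟩)⁻¹ =
        (T.chi ⟨s, T.mem_cent.2 hsN⟩ : Subgroup.centralizer ({θ} : Set G) ⧸ Zsub θ) := by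
      rw [← map_inv, ← map_mul, ← map_mul, T.chi_coe]
      exact congrArg _ (Subtype.ext hρz)
    rw [e]
    refine ⟨⟨(T.chi _).2, T.mem_Qbar.2 ⟨_, T.frame.pair.mem, rfl⟩⟩, fun h => ?_⟩
    rw [T.chi_coe] at h
    have h' := QuotientGroup.eq.1 h
    rw [Subgroup.mem_subgroupOf] at h'
    exact T.frame.pair.ne (T.eq_of_mod T.frame.pair.mem (by rw [D.sub.mul_self, one_mul])
      T.θ_comm_z.symm h').symm
  have hQQg : ∀ g : Subgroup.centralizer ({θ} : Set G) ⧸ Zsub θ,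
      g * T.zb * g⁻¹ ∈ T.Qbar.map (Subgroup.centralizer ({T.zb} : Set _)).subtype → g * T.zb * g⁻¹ ≠ T.zb →
      Nat.card ↥((T.Qbar.map (Subgroup.centralizer ({T.zb} : Set _)).subtype) ⊓
        (T.Qbar.map (Subgroup.centralizer ({T.zb} : Set _)).subtype).map (MulAut.conj g).toMonoidHom) = 4 := by
    intro g hg hne
    obtain ⟨a, rfl⟩ := QuotientGroup.mk'_surjective (Zsub θ) g
    have haθ : (a : G) * θ = θ * a := Subgroup.mem_centralizer_singleton_iff.1 a.2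
    have hmemQ : ∀ {y : Subgroup.centralizer ({θ} : Set G) ⧸ Zsub θ},
        y ∈ T.Qbar.map (Subgroup.centralizer ({T.zb} : Set _)).subtype ↔
        ∃ q, ∃ (_ : q ∈ Q) (hθ : q ∈ Subgroup.centralizer ({θ} : Set G)),
          QuotientGroup.mk' (Zsub θ) ⟨q, hθ⟩ = y := by
      intro y
      constructor
      · rintro ⟨x, hx, rfl⟩
        obtain ⟨c, hc, rfl⟩ := T.mem_Qbar.1 hx
        exact ⟨c, hc, _, rfl⟩
      · rintro ⟨q, hq, hθ, rfl⟩
        exact ⟨T.chi ⟨q, T.mem_cent.2 ⟨D.Q_comm hq, Subgroup.mem_centralizer_singleton_iff.1 hθ⟩⟩,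
          T.mem_Qbar.2 ⟨_, hq, rfl⟩, rfl⟩
    obtain ⟨x, hxQ, hxθ, hxe⟩ := hmemQ.1 hg
    have hxθ' : x * θ = θ * x := Subgroup.mem_centralizer_singleton_iff.1 hxθ
    have hax : (a : G) * z * (a : G)⁻¹ = x := by
      rw [← map_inv, ← map_mul, ← map_mul] at hxe
      refine T.eq_of_mod hxQ ?_ ((Commute.mul_left haθ T.θ_comm_z.symm).mul_left
        (Commute.inv_left haθ)).eq (by
          have := QuotientGroup.eq.1 hxe
          rwa [Subgroup.mem_subgroupOf] at this)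
      rw [show (a : G) * z * (a : G)⁻¹ * ((a : G) * z * (a : G)⁻¹) *
        ((a : G) * z * (a : G)⁻¹ * ((a : G) * z * (a : G)⁻¹)) = (a : G) * (z * z * (z * z)) * (a : G)⁻¹
        by group, D.sub.mul_self]
      group
    have hx2 : x * x = 1 := by
      rw [← hax, show (a : G) * z * (a : G)⁻¹ * ((a : G) * z * (a : G)⁻¹) = (a : G) * (z * z) * (a : G)⁻¹
        by group, D.sub.mul_self]; group
    have hπx : π x ≠ 0 := fun h => by
      rcases D.mem_of_π_zero hxQ h with e | e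
      · rw [e, conj_eq_one_iff] at hax
        exact D.sub.ne_one hax
      · refine hne ?_
        rw [← hxe]
        exact congrArg _ (Subtype.ext e)
    obtain ⟨c, hcN, hcs⟩ := T.exists_conj_s W hxQ hxθ' ((D.sq x hxQ).1 hx2) hπx
    obtain ⟨n, hn⟩ : ∃ n, n = (c * ρ)⁻¹ * (a : G) := ⟨_, rfl⟩
    have hnN : InN z θ n := by
      refine ⟨?_, ?_⟩
      · rw [← mul_inv_eq_iff_eq_mul, hn,
          show (c * ρ)⁻¹ * (a : G) * z * ((c * ρ)⁻¹ * (a : G))⁻¹ =
            (c * ρ)⁻¹ * ((a : G) * z * (a : G)⁻¹) * (c * ρ) by group, hax, ← hcs, ← hρz]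
        group
      · rw [hn]
        exact ((Commute.inv_left (Commute.mul_left hcN.2 hρθ)).mul_left haθ).eq
    have ha : (a : G) = c * ρ * n := by rw [hn]; group
    have hρ3 : ρ * (z * s) * ρ⁻¹ = z := by
      rw [show ρ * (z * s) * ρ⁻¹ = ρ * z * ρ⁻¹ * (ρ * s * ρ⁻¹) by group, hρz, hρs, ← mul_assoc,
        T.frame.s_comm, mul_assoc, T.frame.s_mul_self, mul_one]
    have hpre : ∀ e, MemE z s e → ∃ e', MemE z s e' ∧ ρ * e' * ρ⁻¹ = e := by
      intro e he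
      rcases he with h | h | h | h
      · exact ⟨1, Or.inl rfl, by rw [h]; group⟩
      · exact ⟨z * s, Or.inr (Or.inr (Or.inr rfl)), h ▸ hρ3⟩
      · exact ⟨z, Or.inr (Or.inl rfl), h ▸ hρz⟩
      · exact ⟨s, Or.inr (Or.inr (Or.inl rfl)), h ▸ hρs⟩
    have hEθ : ∀ e, MemE z s e → e * θ = θ * e := fun e he =>
      (T.frame.memE_comm he T.θ_comm_z T.θ_comm_s).symm
    have hcE : ∀ b : Bool × Bool, c * zE z s b.1 b.2 * c⁻¹ ∈ Q ∧
        c * zE z s b.1 b.2 * c⁻¹ ∈ Subgroup.centralizer ({θ} : Set G) := fun b =>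
      ⟨D.sub.conj_mem hcN.1 (T.frame.memE_mem (T.frame.memE_zE _ _)).1,
        Subgroup.mem_centralizer_singleton_iff.2 ((Commute.mul_left hcN.2
          (hEθ _ (T.frame.memE_zE b.1 b.2))).mul_left (Commute.inv_left hcN.2)).eq⟩
    let f : Bool × Bool → ↥((T.Qbar.map (Subgroup.centralizer ({T.zb} : Set _)).subtype) ⊓
        (T.Qbar.map (Subgroup.centralizer ({T.zb} : Set _)).subtype).map
          (MulAut.conj (QuotientGroup.mk' (Zsub θ) a)).toMonoidHom) := fun b =>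
      ⟨QuotientGroup.mk' (Zsub θ) ⟨_, (hcE b).2⟩, hmemQ.2 ⟨_, (hcE b).1, _, rfl⟩, by
        obtain ⟨e', he', hee⟩ := hpre _ (T.frame.memE_zE b.1 b.2)
        have heQ := (T.frame.memE_mem he').1
        have hq1 : n⁻¹ * e' * n ∈ Q := by
          have := D.sub.conj_mem (InN.inv' T hnN).1 heQ
          rwa [inv_inv] at this
        have hq2 : n⁻¹ * e' * n * θ = θ * (n⁻¹ * e' * n) :=
          ((Commute.mul_left (InN.inv' T hnN).2 (hEθ _ he')).mul_left hnN.2).eq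
        refine ⟨_, hmemQ.2 ⟨_, hq1, Subgroup.mem_centralizer_singleton_iff.2 hq2, rfl⟩, ?_⟩
        show QuotientGroup.mk' (Zsub θ) a * _ * (QuotientGroup.mk' (Zsub θ) a)⁻¹ = _
        rw [← map_inv, ← map_mul, ← map_mul]
        refine congrArg _ (Subtype.ext ?_)
        show (a : G) * (n⁻¹ * e' * n) * (a : G)⁻¹ = c * zE z s b.1 b.2 * c⁻¹
        rw [← hee, ha]; group⟩
    have hbij : Function.Bijective f := by
      constructor
      · intro b b' h
        have h1 := QuotientGroup.eq.1 (congrArg Subtype.val h)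
        rw [Subgroup.mem_subgroupOf] at h1
        have h2 := T.eq_of_mod (hcE b).1 (T.Qθ_pow_four (hcE b').1)
          (Subgroup.mem_centralizer_singleton_iff.1 (hcE b').2) h1
        obtain ⟨u, v⟩ := T.frame.zE_inj (mul_left_cancel (mul_right_cancel h2))
        exact (Prod.ext u v).symm
      · rintro ⟨y, hy1, y2, hy2, hy⟩
        obtain ⟨q1, hq1, hq1θ, rfl⟩ := hmemQ.1 hy1
        obtain ⟨q2, hq2, hq2θ, rfl⟩ := hmemQ.1 hy2
        have hy' : QuotientGroup.mk' (Zsub θ) a * QuotientGroup.mk' (Zsub θ) ⟨q2, hq2θ⟩ *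
            (QuotientGroup.mk' (Zsub θ) a)⁻¹ = QuotientGroup.mk' (Zsub θ) ⟨q1, hq1θ⟩ := hy
        rw [← map_inv, ← map_mul, ← map_mul] at hy'
        have h1 := QuotientGroup.eq.1 hy'.symm
        rw [Subgroup.mem_subgroupOf] at h1
        have hq2' : q2 * θ = θ * q2 := Subgroup.mem_centralizer_singleton_iff.1 hq2θ
        have heq : (a : G) * q2 * (a : G)⁻¹ = q1 := T.eq_of_mod hq1 (by
            rw [show (a : G) * q2 * (a : G)⁻¹ * ((a : G) * q2 * (a : G)⁻¹) *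
              ((a : G) * q2 * (a : G)⁻¹ * ((a : G) * q2 * (a : G)⁻¹)) =
              (a : G) * (q2 * q2 * (q2 * q2)) * (a : G)⁻¹ by group, T.Qθ_pow_four hq2]; group)
          (((Commute.mul_left haθ hq2').mul_left (Commute.inv_left haθ))).eq h1
        have hP : c⁻¹ * q1 * c ∈ P := by
          rw [← heq, ha, show c⁻¹ * (c * ρ * n * q2 * (c * ρ * n)⁻¹) * c =
            ρ * (n * q2 * n⁻¹) * ρ⁻¹ by group]
          exact T.frame.conj_Q_mem hρz (D.sub.conj_mem hnN.1 hq2)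
        have hQ : c⁻¹ * q1 * c ∈ Q := by
          have := D.sub.conj_mem (InN.inv' T hcN).1 hq1
          rwa [inv_inv] at this
        obtain ⟨i, j, hij⟩ := T.frame.exists_zE (T.frame.memE_of_mem hQ hP)
        refine ⟨(i, j), Subtype.ext (show QuotientGroup.mk' (Zsub θ) ⟨_, (hcE (i, j)).2⟩ =
          QuotientGroup.mk' (Zsub θ) ⟨q1, hq1θ⟩ from congrArg _ (Subtype.ext ?_))⟩
        show c * zE z s i j * c⁻¹ = q1
        rw [← hij]; group
    rw [← Nat.card_eq_of_bijective f hbij, Nat.card_eq_fintype_card]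
    rfl
  obtain ⟨he, -, hinv⟩ := CfsgLib.UFourType.recognition T.zb T.orderOf_zb ψA.range ψB.range hn₁ hn₂
    ((MonoidHom.ofInjective injA).symm.trans fA) ((MonoidHom.ofInjective injB).symm.trans fB)
    hmeet T.Qbar hQeq hF hnwc (by rw [T.card_cent_zb]; norm_num) hQQg K hK
  exact ⟨he, hinv⟩

end Four

end CfsgLib.SuzType
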