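import Cfsg.Agent.SuzType.KQuot
import Cfsg.Agent.S0215

/-!
# The centralizer of an anisotropic involution
-/

set_option autoImplicit false
set_option linter.style.haveILetI false

namespace CfsgLib.SuzType

open CfsgLib.LargeExtraspecial

namespace Four

variable {G : Type*} [Group G] [Finite G] {z s θ t : G} {Q P : Subgroup G} {π : G → V6}
  (T : Four z Q π P s θ t)
include T

/-- An element of `C(z) ∩ C(t)` swapping `s, z * s` and normalising the four group. -/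
theorem exists_m_four : ∃ m, m * z = z * m ∧ m * t = t * m ∧ m * s * m⁻¹ = z * s ∧
    m * (θ * t * θ⁻¹) * m⁻¹ = t * (θ * t * θ⁻¹) := by
  have F := T.frame
  obtain ⟨m, hmz, hmt, hms⟩ := F.exists_m T.cl
  refine ⟨m, hmz, hmt, hms, ?_⟩
  obtain ⟨q, hq, hqz, hqs, -, hqb⟩ := F.exists_not_comm
  obtain ⟨d, hd⟩ : ∃ d, d = q * m := ⟨_, rfl⟩
  have hdz : d * z = z * d := hd ▸ (Commute.mul_left hqz hmz).eq
  have hds : d * s = s * d := by
    refine mul_inv_eq_iff_eq_mul.1 ?_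
    rw [hd, show q * m * s * (q * m)⁻¹ = q * (m * s * m⁻¹) * q⁻¹ by group, hms,
      show q * (z * s) * q⁻¹ = q * z * q⁻¹ * (q * s * q⁻¹) by group, F.conj_z_of_mem hq, hqs,
      ← mul_assoc, F.data.sub.mul_self, one_mul]
  have h1 := T.cl.conjC hdz hds
  rw [show d * t * d⁻¹ = q * t * q⁻¹ by
    rw [hd, show q * m * t * (q * m)⁻¹ = q * (m * t * m⁻¹) * q⁻¹ by group,
      mul_inv_eq_iff_eq_mul.2 hmt]] at h1
  obtain ⟨ga, gu⟩ := h1.unique (T.cl.conjQ hq hqb)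
  rw [pair48.2.1] at ga
  have g48 : pU (F.data.act d (mk6 48)) = mk6 16 := by
    rw [← pair48.2.1, (F.data.act_iso hdz).add, pU_add, ga, gu]; decide
  have h2 := T.cl1.conjC hdz hds
  rw [gu, g48, show d * (θ * t * θ⁻¹) * d⁻¹ = q * (m * (θ * t * θ⁻¹) * m⁻¹) * q⁻¹ by
    rw [hd]; group] at h2
  have hqb' : b6 (π q⁻¹) s0 = true := by rw [F.data.π_inv hq]; exact hqb
  have h3 := h2.conjQ (inv_mem hq) hqb'
  rw [show q⁻¹ * (q * (m * (θ * t * θ⁻¹) * m⁻¹) * q⁻¹) * q⁻¹⁻¹ = m * (θ * t * θ⁻¹) * m⁻¹ by group] at h3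
  have h4 := T.cl.mul T.cl1
  rw [pair48.2.1, pair48.2.2.1] at h4
  have e1 : u0 + mk6 16 = mk6 48 := by decide
  rw [e1, show mk6 16 = a0 from rfl] at h3
  obtain ⟨i, j, e⟩ := h4.eq_zE_mul h3
  -- `ρ` forces the `E`-part to be trivial
  obtain ⟨ρ, hρz, hρs, hρθ, hρt⟩ := T.exists_rho
  have hρK := T.rho_mem_K hρθ hρt
  have hρzs : ρ * (z * s) * ρ⁻¹ = z := by
    rw [show ρ * (z * s) * ρ⁻¹ = ρ * z * ρ⁻¹ * (ρ * s * ρ⁻¹) by group, hρz, hρs, ← mul_assoc,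
      F.s_comm, mul_assoc, F.s_mul_self, mul_one]
  have hmi : m⁻¹ * s * m = z * s := by
    have h : m * (z * s) * m⁻¹ = s := by
      rw [show m * (z * s) * m⁻¹ = m * z * m⁻¹ * (m * s * m⁻¹) by group,
        mul_inv_eq_iff_eq_mul.2 hmz, hms, ← mul_assoc, F.data.sub.mul_self, one_mul]
    conv_lhs => rw [← h]
    group
  have hmiz : m⁻¹ * z * m = z := by rw [mul_assoc, ← hmz, inv_mul_cancel_left]
  have hmizs : m⁻¹ * (z * s) * m = s := by rw [← hms]; group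
  obtain ⟨n, hn⟩ : ∃ n, n = m⁻¹ * ρ * m := ⟨_, rfl⟩
  have hnt : n * t = t * n := by
    rw [hn]; exact ((Commute.mul_left (Commute.inv_left hmt) hρt).mul_left hmt).eq
  have hρn : ρ * n ∈ Kgrp θ t := by
    refine (T.zK_iff.2 ⟨mul_inv_eq_iff_eq_mul.1 ?_, mul_inv_eq_iff_eq_mul.1 ?_,
      (Commute.mul_left hρt hnt).eq⟩).2
    · rw [hn, show ρ * (m⁻¹ * ρ * m) * z * (ρ * (m⁻¹ * ρ * m))⁻¹ =
        ρ * (m⁻¹ * (ρ * (m * z * m⁻¹) * ρ⁻¹) * m) * ρ⁻¹ by group, mul_inv_eq_iff_eq_mul.2 hmz, hρz,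
        hmi, hρzs]
    · rw [hn, show ρ * (m⁻¹ * ρ * m) * s * (ρ * (m⁻¹ * ρ * m))⁻¹ =
        ρ * (m⁻¹ * (ρ * (m * s * m⁻¹) * ρ⁻¹) * m) * ρ⁻¹ by group, hms, hρzs, hmiz, hρz]
  have hnK : n ∈ Kgrp θ t := by
    have := mul_mem (inv_mem hρK) hρn
    rwa [inv_mul_cancel_left] at this
  have hfix : ρ * (m * (θ * t * θ⁻¹) * m⁻¹) * ρ⁻¹ = m * (θ * t * θ⁻¹) * m⁻¹ := by
    rw [show ρ * (m * (θ * t * θ⁻¹) * m⁻¹) * ρ⁻¹ = m * (n * (θ * t * θ⁻¹) * n⁻¹) * m⁻¹ by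
      rw [hn]; group, mul_inv_eq_iff_eq_mul.2 (mem_Kgrp.1 hnK).2]
  rw [e, show ρ * (zE z s i j * (t * (θ * t * θ⁻¹))) * ρ⁻¹ =
    ρ * zE z s i j * ρ⁻¹ * (ρ * (t * (θ * t * θ⁻¹)) * ρ⁻¹) by group,
    T.conj_memV hρK (Or.inr (Or.inr (Or.inr rfl)))] at hfix
  have hE := mul_right_cancel hfix
  obtain ⟨hz1, hs1, hzs', hzs1, hzsz, hzss⟩ := F.zs_facts
  cases i <;> cases j
  · rw [e, F.zE_ff, one_mul]
  · rw [F.zE_ft, hρs] at hE; exact absurd hE hzss
  · rw [F.zE_tf, hρz] at hE; exact absurd hE.symm hzs'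
  · rw [F.zE_tt, hρzs] at hE; exact absurd hE.symm hzsz

/-- An element of `C(z) ∩ C(t)` centralises or swaps the other elements of the four group. -/
theorem zt_conj_t1 {c : G} (hc : c * z = z * c) (hct : c * t = t * c) :
    (c * s = s * c ∧ c * (θ * t * θ⁻¹) * c⁻¹ = θ * t * θ⁻¹) ∨
    (c * s * c⁻¹ = z * s ∧ c * (θ * t * θ⁻¹) * c⁻¹ = t * (θ * t * θ⁻¹)) := by
  rcases T.frame.comm_zt_cases T.cl hc hct with e | e
  · left
    have hcs := mul_inv_eq_iff_eq_mul.1 e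
    exact ⟨hcs, mul_inv_eq_iff_eq_mul.2 (T.comm_t1_of_zst hc hcs hct)⟩
  · right
    refine ⟨e, ?_⟩
    obtain ⟨m, hmz, hmt, hms, hm1⟩ := T.exists_m_four
    have h := T.comm_t1_of_zst (c := m⁻¹ * c) (Commute.mul_left (Commute.inv_left hmz) hc).eq
      (mul_inv_eq_iff_eq_mul.1 (by
        rw [show m⁻¹ * c * s * (m⁻¹ * c)⁻¹ = m⁻¹ * (c * s * c⁻¹) * m by group, e, ← hms]; group))
      (Commute.mul_left (Commute.inv_left hmt) hct).eq
    rw [show c * (θ * t * θ⁻¹) * c⁻¹ = m * (m⁻¹ * c * (θ * t * θ⁻¹) * (m⁻¹ * c)⁻¹) * m⁻¹ by group,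
      mul_inv_eq_iff_eq_mul.2 h, hm1]

/-- A conjugate of `θ t θ⁻¹` under `C(t)` commuting with `z` is in the four group. -/
theorem conj_t1_of_comm_z {w : G} (hw : w * t = t * w)
    (hz : w * (θ * t * θ⁻¹) * w⁻¹ * z = z * (w * (θ * t * θ⁻¹) * w⁻¹)) :
    w * (θ * t * θ⁻¹) * w⁻¹ = θ * t * θ⁻¹ ∨ w * (θ * t * θ⁻¹) * w⁻¹ = t * (θ * t * θ⁻¹) := by
  have F := T.frame
  obtain ⟨y, hy⟩ : ∃ y, y = w⁻¹ * z * w := ⟨_, rfl⟩
  have hyK : y ∈ Kgrp θ t := by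
    have h1 := (Commute.conj_iff w⁻¹).2 (show Commute z t from T.cl.comm_z.symm)
    have h2 := (Commute.conj_iff w⁻¹).2 (show Commute z (w * (θ * t * θ⁻¹) * w⁻¹) from hz.symm)
    rw [mul_inv_eq_iff_eq_mul.2 (Commute.inv_left hw).eq, inv_inv, ← hy] at h1
    rw [show w⁻¹ * (w * (θ * t * θ⁻¹) * w⁻¹) * w⁻¹⁻¹ = θ * t * θ⁻¹ by group, inv_inv, ← hy] at h2
    exact mem_Kgrp.2 ⟨h1.eq, h2.eq⟩
  have hyz : IsConj z y := hy ▸ isConj_iff.2 ⟨w⁻¹, by rw [inv_inv]⟩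
  have hy2 : y * y = 1 := by
    rw [hy, show w⁻¹ * z * w * (w⁻¹ * z * w) = w⁻¹ * (z * z) * w by group, F.data.sub.mul_self]; group
  have hyV : ¬ MemV θ t y := fun hv => by
    refine T.not_isConj_memV_mul hv (fun e => ?_) (Or.inl rfl) (by rwa [mul_one])
    rw [hy] at e
    refine F.data.sub.ne_one (conj_eq_one_iff.1 (show w⁻¹ * z * w⁻¹⁻¹ = 1 by rw [inv_inv, e]))
  obtain ⟨v, g, hv, hg, hvg⟩ := T.exists_conj_z hyK hy2 hyV
  have hv1 := T.eq_one_of_isConj hv hg (hvg ▸ hyz)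
  rw [hv1, one_mul] at hvg
  have hgt : g * (θ * t * θ⁻¹) * g⁻¹ = θ * t * θ⁻¹ := mul_inv_eq_iff_eq_mul.2 (mem_Kgrp.1 hg).2
  have hwgz : w * g * z = z * (w * g) := by
    refine mul_inv_eq_iff_eq_mul.1 ?_
    rw [show w * g * z * (w * g)⁻¹ = w * (g * z * g⁻¹) * w⁻¹ by group, ← hvg, hy]
    group
  have hwgt : w * g * t = t * (w * g) := (Commute.mul_left hw (mem_Kgrp.1 hg).1).eq
  have he : w * (θ * t * θ⁻¹) * w⁻¹ = w * g * (θ * t * θ⁻¹) * (w * g)⁻¹ := by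
    conv_lhs => rw [← hgt]
    group
  rw [he]
  rcases T.zt_conj_t1 hwgz hwgt with ⟨-, e⟩ | ⟨-, e⟩
  · exact Or.inl e
  · exact Or.inr e

/-- A two-group above `C(z) ∩ C(t)` inside `C(t)` is equal to it. -/
theorem eq_of_two_subgroup_zt {S : Subgroup G} (hS : IsPGroup 2 S)
    (hSt : ∀ x ∈ S, x * t = t * x) (hle : Subgroup.centralizer ({z, t} : Set G) ≤ S) :
    S = Subgroup.centralizer ({z, t} : Set G) := by
  have : Fact (Nat.Prime 2) := ⟨Nat.prime_two⟩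
  have F := T.frame
  have hmem : ∀ {c : G}, c ∈ Subgroup.centralizer ({z, t} : Set G) ↔ c * z = z * c ∧ c * t = t * c :=
    fun {c} => by
      rw [Subgroup.mem_centralizer_iff]
      simp only [Set.mem_insert_iff, Set.mem_singleton_iff, forall_eq_or_imp, forall_eq]
      exact and_congr eq_comm eq_comm
  refine le_antisymm ?_ hle
  by_contra hne
  obtain ⟨S0, hS0⟩ : ∃ S0, S0 = Subgroup.centralizer ({z, t} : Set G) := ⟨_, rfl⟩
  rw [← hS0] at hne hle hmem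
  have hlt : S0.subgroupOf S < ⊤ := lt_top_iff_ne_top.2 fun e => hne (Subgroup.subgroupOf_eq_top.1 e)
  have hnil : Group.IsNilpotent S := hS.isNilpotent
  obtain ⟨x, hxN, hxT⟩ :=
    SetLike.exists_of_lt (Group.normalizerCondition_of_isNilpotent (S0.subgroupOf S) hlt)
  refine hxT ((hmem).2 ⟨mul_inv_eq_iff_eq_mul.1 ?_, hSt x x.2⟩ : (x : G) ∈ S0)
  obtain ⟨y, hy⟩ : ∃ y, y = (x : G) * z * (x : G)⁻¹ := ⟨_, rfl⟩
  rw [← hy]
  have hzS : z ∈ S0 := hmem.2 ⟨rfl, T.cl.comm_z.symm⟩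
  have hyS : y ∈ S0 := hy ▸ (Subgroup.mem_normalizer_iff.1 hxN ⟨z, hle hzS⟩).1 hzS
  have hcen : ∀ u ∈ S0, u * y = y * u := by
    intro u hu
    have h' : (x : G)⁻¹ * u * ((x : G)⁻¹)⁻¹ ∈ S0 :=
      (Subgroup.mem_normalizer_iff.1 (inv_mem hxN) ⟨u, hle hu⟩).1 hu
    rw [inv_inv] at h'
    have h2 := (Commute.conj_iff (x : G)).2 (show Commute ((x : G)⁻¹ * u * x) z from (hmem.1 h').1)
    rw [show (x : G) * ((x : G)⁻¹ * u * x) * (x : G)⁻¹ = u by group, ← hy] at h2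
    exact h2.eq
  have hsS : s ∈ S0 := hmem.2 ⟨F.s_comm, T.cl.comm_s.symm⟩
  have hyT : y ∈ Subgroup.centralizer ({z, s, t} : Set G) :=
    T.mem_Tgrp.2 ⟨(hmem.1 hyS).1, (hcen s hsS).symm, (hmem.1 hyS).2⟩
  have hyz : IsConj z y := hy ▸ isConj_iff.2 ⟨x, rfl⟩
  rcases T.central_cases hyT (fun u hu => hcen u (hmem.2 ⟨(T.mem_Tgrp.1 hu).1, (T.mem_Tgrp.1 hu).2.2⟩))
    hyz with r | r | r
  · exact r
  all_goals
    exfalso
    obtain ⟨m, hmz, hmt, hms⟩ := F.exists_m T.cl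
    have h := mul_inv_eq_iff_eq_mul.2 (hcen m (hmem.2 ⟨hmz, hmt⟩))
    rw [r] at h
  · exact F.zs_facts.2.2.2.2.2 (hms.symm.trans h)
  · rw [show m * (z * s) * m⁻¹ = m * z * m⁻¹ * (m * s * m⁻¹) by group,
      mul_inv_eq_iff_eq_mul.2 hmz, hms, ← mul_assoc, F.data.sub.mul_self, one_mul] at h
    exact F.zs_facts.2.2.2.2.2 h.symm

theorem isPGroup_zt : IsPGroup 2 (Subgroup.centralizer ({z, t} : Set G)) := by
  have : Fact (Nat.Prime 2) := ⟨Nat.prime_two⟩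
  refine IsPGroup.of_card (n := 9) ?_
  rw [show (2 : ℕ) ^ 9 = 512 by norm_num, ← T.frame.card_cent_zt T.cl]
  refine Nat.card_congr (Equiv.subtypeEquivRight fun c => ?_)
  rw [Subgroup.mem_centralizer_iff]
  simp only [Set.mem_insert_iff, Set.mem_singleton_iff, forall_eq_or_imp, forall_eq]
  exact and_congr eq_comm eq_comm

/-- `C(t)` normalises the four group. -/
theorem X_normalizes {w : G} (hw : w * t = t * w) :
    w * (θ * t * θ⁻¹) * w⁻¹ = θ * t * θ⁻¹ ∨ w * (θ * t * θ⁻¹) * w⁻¹ = t * (θ * t * θ⁻¹) := by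
  have : Fact (Nat.Prime 2) := ⟨Nat.prime_two⟩
  have F := T.frame
  obtain ⟨u, hu⟩ : ∃ u, u = θ * t * θ⁻¹ := ⟨_, rfl⟩
  have hut : u * t = t * u := hu ▸ T.comm_t1.symm
  have hu2 : u * u = 1 := hu ▸ T.t1_sq
  have hu1 : u ≠ 1 := fun e => T.t_ne_one (conj_eq_one_iff.1 (hu ▸ e))
  have hut' : u ≠ t := fun e => by
    have h1 := T.cl1
    rw [← hu, e] at h1
    exact a0_ne.2.2 (T.cl.unique h1).1
  -- the quotient of `C(t)` by `⟨t⟩`
  obtain ⟨X, hX⟩ : ∃ X, X = Subgroup.centralizer ({t} : Set G) := ⟨_, rfl⟩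
  have hXm : ∀ {c : G}, c ∈ X ↔ c * t = t * c := fun {c} => by
    rw [hX, Subgroup.mem_centralizer_singleton_iff]
  obtain ⟨tk, htk⟩ : ∃ tk : Subgroup X, tk = Subgroup.zpowers ⟨t, hXm.2 rfl⟩ := ⟨_, rfl⟩
  haveI : tk.Normal := by
    refine ⟨fun n hn g => ?_⟩
    rw [htk] at hn ⊢
    obtain ⟨k, rfl⟩ := Subgroup.mem_zpowers_iff.1 hn
    have hc : Commute g ⟨t, hXm.2 rfl⟩ := Subtype.ext (hXm.1 g.2)
    rw [(hc.zpow_right k).eq, mul_inv_cancel_right]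
    exact Subgroup.mem_zpowers_iff.2 ⟨k, rfl⟩
  have htk' : ∀ {c : X}, (c : X ⧸ tk) = 1 ↔ (c : G) = 1 ∨ (c : G) = t := by
    intro c
    rw [QuotientGroup.eq_one_iff, htk, Subgroup.mem_zpowers_iff]
    constructor
    · rintro ⟨k, rfl⟩
      have h2 : t ^ (2 : ℤ) = 1 := by rw [zpow_two, T.t_sq]
      rw [SubgroupClass.coe_zpow]
      show t ^ k = 1 ∨ t ^ k = t
      rcases Int.even_or_odd k with ⟨j, rfl⟩ | ⟨j, rfl⟩
      · left; rw [← two_mul, zpow_mul, h2, one_zpow]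
      · right; rw [zpow_add, zpow_mul, h2, one_zpow, one_mul, zpow_one]
    · rintro (e | e)
      · exact ⟨0, Subtype.ext (by simpa using e.symm)⟩
      · exact ⟨1, Subtype.ext (by simpa using e.symm)⟩
  obtain ⟨φ, hφ⟩ : ∃ φ : X →* X ⧸ tk, φ = QuotientGroup.mk' tk := ⟨_, rfl⟩
  have hφs : Function.Surjective φ := hφ ▸ QuotientGroup.mk'_surjective tk
  have hφ1 : ∀ {c : X}, φ c = 1 ↔ (c : G) = 1 ∨ (c : G) = t := fun {c} => hφ ▸ htk'
  have hkp : IsPGroup 2 φ.ker := by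
    intro c
    refine ⟨1, Subtype.ext (Subtype.ext ?_)⟩
    rw [pow_one, SubmonoidClass.coe_pow, SubmonoidClass.coe_pow]
    rcases hφ1.1 c.2 with e | e <;> rw [e]
    · exact one_pow 2
    · rw [pow_two, T.t_sq]; rfl
  obtain ⟨S0, hS0⟩ : ∃ S0 : Subgroup X,
      S0 = (Subgroup.centralizer ({z, t} : Set G)).subgroupOf X := ⟨_, rfl⟩
  have hle : Subgroup.centralizer ({z, t} : Set G) ≤ X := by
    rw [hX]; exact Subgroup.centralizer_le (by simp)
  have hS0p : IsPGroup 2 S0 := hS0 ▸ T.isPGroup_zt.comap_subtype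
  have hSmem : ∀ {c : X}, φ c ∈ S0.map φ → (c : G) * z = z * c := by
    rintro c ⟨d, hd, e⟩
    have h : φ (d⁻¹ * c) = 1 := by rw [map_mul, map_inv, e, inv_mul_cancel]
    have hdz : (d : G) * z = z * d := by
      rw [hS0] at hd
      exact (Subgroup.mem_centralizer_iff.1 (Subgroup.mem_subgroupOf.1 hd) z (by simp)).symm
    rcases hφ1.1 h with e' | e'
    · have : (c : G) = d := by
        rw [Subgroup.coe_mul, Subgroup.coe_inv, inv_mul_eq_one] at e'; exact e'.symm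
      rw [this]; exact hdz
    · have : (c : G) = d * t := by
        rw [Subgroup.coe_mul, Subgroup.coe_inv, inv_mul_eq_iff_eq_mul] at e'; exact e'
      rw [this]
      exact (Commute.mul_left hdz T.cl.comm_z).eq
  let Sy : Sylow 2 (X ⧸ tk) :=
    { toSubgroup := S0.map φ
      isPGroup' := hS0p.map φ
      is_maximal' := fun {R} hR hSR => by
        have h := T.eq_of_two_subgroup_zt ((hR.comap_of_ker_isPGroup φ hkp).map X.subtype)
          (fun x hx => hXm.1 (Subgroup.map_subtype_le _ hx)) (fun c hc => by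
            refine ⟨⟨c, hle hc⟩, hSR ⟨⟨c, hle hc⟩, ?_, rfl⟩, rfl⟩
            rw [hS0]; exact hc)
        refine le_antisymm (fun r hr => ?_) hSR
        obtain ⟨c, rfl⟩ := hφs r
        refine ⟨c, ?_, rfl⟩
        rw [hS0, ← h]
        exact ⟨c, hr, rfl⟩ }
  obtain ⟨uX, huX⟩ : ∃ uX : X, (uX : G) = u := ⟨⟨u, hXm.2 hut⟩, rfl⟩
  have hord : orderOf (φ uX) = 2 := by
    refine CfsgLib.CITGroups.orderOf_two_of_mul_self ?_ ?_
    · rw [← map_mul, hφ1]; left; rw [Subgroup.coe_mul, huX, hu2]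
    · rw [Ne, hφ1, huX]; exact fun e => e.elim hu1 hut'
  have huz : u * z = z * u := hu ▸ T.cl1.comm_z
  obtain ⟨M, hMn, hModd, hM⟩ := Cfsg.Agent.S0215.result (P := Sy) (φ uX) hord
    ⟨uX, by
      show uX ∈ S0
      rw [hS0, Subgroup.mem_subgroupOf, huX, Subgroup.mem_centralizer_iff]
      simp only [Set.mem_insert_iff, Set.mem_singleton_iff, forall_eq_or_imp, forall_eq]
      exact ⟨huz.symm, hut.symm⟩, rfl⟩
    (fun g hg => by
      obtain ⟨g, rfl⟩ := hφs g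
      rw [← map_inv, ← map_mul, ← map_mul] at hg ⊢
      have hc := hSmem hg
      rw [Subgroup.coe_mul, Subgroup.coe_mul, Subgroup.coe_inv, huX, hu] at hc
      rw [← mul_inv_eq_one, ← map_inv, ← map_mul, hφ1, Subgroup.coe_mul, Subgroup.coe_inv,
        Subgroup.coe_mul, Subgroup.coe_mul, Subgroup.coe_inv, huX, mul_inv_eq_one, hu]
      rcases T.conj_t1_of_comm_z (hXm.1 g.2) hc with e | e
      · exact Or.inl e
      · right
        rw [e, mul_inv_eq_iff_eq_mul])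
  haveI := hMn
  -- the odd normal subgroup is trivial
  have hfree : ∀ y : X, (y : G) ≠ 1 → IsConj z (y : G) → (y : G) * y = 1 →
      IsPGroup 2 (Subgroup.centralizer ({(y : G), t} : Set G)) →
      ∀ x ∈ M, φ y * x * φ y = x⁻¹ := by
    intro y hy1 hyz hy2 hyp
    have hyy : φ y * φ y = 1 := by rw [← map_mul, hφ1]; left; exact hy2
    refine CfsgLib.CITGroups.inverts_of_fixedPointFree hyy (fun x hx => ?_) fun x hx hc => ?_
    · have h := hMn.conj_mem x hx (φ y)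
      rwa [inv_eq_of_mul_eq_one_right hyy] at h
    · obtain ⟨c, rfl⟩ := hφs x
      have hcy : φ (c * y * c⁻¹ * y⁻¹) = 1 := by
        rw [map_mul, map_mul, map_mul, map_inv, map_inv, ← hc]; group
      have hct : (c : G) * t = t * c := hXm.1 c.2
      have hcy' : (c : G) * y = y * c := by
        rcases hφ1.1 hcy with e | e <;>
          simp only [Subgroup.coe_mul, Subgroup.coe_inv] at e
        · exact mul_inv_eq_iff_eq_mul.1 (mul_inv_eq_one.1 e)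
        · exfalso
          rw [mul_inv_eq_iff_eq_mul] at e
          -- `t * y` would be conjugate to `z`
          have h1 : IsConj z (t * y) := e ▸ hyz.trans (isConj_iff.2 ⟨c, rfl⟩)
          have hyK : (y : G) * t = t * y := hXm.1 y.2
          obtain ⟨g, hg⟩ := isConj_iff.1 hyz
          have hgt : (g⁻¹ * t * g) * z = z * (g⁻¹ * t * g) := by
            have h := (Commute.conj_iff g⁻¹).2 (show Commute t (y : G) from hyK.symm)
            rw [← hg, show g⁻¹ * (g * z * g⁻¹) * g⁻¹⁻¹ = z by group, inv_inv] at h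
            exact h.eq
          have hn : ¬ IsConj z (g⁻¹ * t * g) := fun hh => T.not_isConj_z
            (hh.trans (isConj_iff.2 ⟨g, by group⟩))
          obtain ⟨d, hd, hdt⟩ := F.exists_conj_t T.cl hgt
            (by rw [show g⁻¹ * t * g * (g⁻¹ * t * g) = g⁻¹ * (t * t) * g by group, T.t_sq]; group)
            (fun e' => T.t_ne_one (conj_eq_one_iff.1 (show g⁻¹ * t * g⁻¹⁻¹ = 1 by rw [inv_inv, e'])))
            hn
          refine T.not_isConj_memV_mul (Or.inr (Or.inl rfl)) T.t_ne_one (Or.inr (Or.inl rfl))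
            (h1.trans (IsConj.symm (isConj_iff.2 ⟨g * d, ?_⟩)))
          rw [show g * d * (t * z) * (g * d)⁻¹ = g * (d * t * d⁻¹) * g⁻¹ * (g * (d * z * d⁻¹) * g⁻¹) by group,
            hdt, mul_inv_eq_iff_eq_mul.2 hd, hg]
          group
      refine CfsgLib.CITGroups.eq_one_of_odd_mem ((hyp.comap_subtype (K := X)).map φ) ⟨c, ?_, rfl⟩
        (hModd.of_dvd_nat ?_)
      · show (c : G) ∈ Subgroup.centralizer ({(y : G), t} : Set G)
        rw [Subgroup.mem_centralizer_iff]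
        simp only [Set.mem_insert_iff, Set.mem_singleton_iff, forall_eq_or_imp, forall_eq]
        exact ⟨hcy'.symm, hct.symm⟩
      · have := orderOf_dvd_natCard (⟨φ c, hx⟩ : M)
        rwa [Subgroup.orderOf_mk] at this
  obtain ⟨ρ, hρz, hρs, hρθ, hρt⟩ := T.exists_rho
  have hpconj : ∀ g : G, g * t = t * g → IsPGroup 2 (Subgroup.centralizer ({g * z * g⁻¹, t} : Set G)) := by
    intro g hg
    refine (T.isPGroup_zt.map (MulAut.conj g).toMonoidHom).to_le fun c hc => ⟨g⁻¹ * c * g, ?_, by simp [mul_assoc]⟩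
    rw [SetLike.mem_coe, Subgroup.mem_centralizer_iff]
    rw [Subgroup.mem_centralizer_iff] at hc
    simp only [Set.mem_insert_iff, Set.mem_singleton_iff, forall_eq_or_imp, forall_eq] at hc ⊢
    constructor
    · have h := (Commute.conj_iff g⁻¹).2 (show Commute (g * z * g⁻¹) c from hc.1)
      rw [show g⁻¹ * (g * z * g⁻¹) * g⁻¹⁻¹ = z by group, inv_inv] at h
      exact h.eq
    · exact ((Commute.mul_right (Commute.inv_right hg.symm) hc.2).mul_right hg.symm).eq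
  have hzX : z ∈ X := hXm.2 T.cl.comm_z.symm
  have hsX : s ∈ X := hXm.2 T.cl.comm_s.symm
  obtain ⟨hz1, hs1, hzs', hzs1, hzsz, hzss⟩ := F.zs_facts
  have f1 := hfree ⟨z, hzX⟩ hz1 (IsConj.refl z) F.data.sub.mul_self (by
    have := hpconj 1 (by simp); rwa [one_mul, inv_one, mul_one] at this)
  have f2 := hfree ⟨s, hsX⟩ hs1 F.isConj_z_s F.s_mul_self (by
    have := hpconj ρ hρt; rwa [hρz] at this)
  have hρ2 : ρ * ρ * z * (ρ * ρ)⁻¹ = z * s := by
    rw [show ρ * ρ * z * (ρ * ρ)⁻¹ = ρ * (ρ * z * ρ⁻¹) * ρ⁻¹ by group, hρz, hρs]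
  have f3 := hfree ⟨z * s, mul_mem hzX hsX⟩ hzs1 (show IsConj z (z * s) from isConj_iff.2 ⟨ρ * ρ, hρ2⟩) (by
    show z * s * (z * s) = 1
    rw [Commute.mul_mul_mul_comm (show Commute s z from F.s_comm) z s, F.data.sub.mul_self,
      F.s_mul_self, one_mul]) (by
    have := hpconj (ρ * ρ) (Commute.mul_left hρt hρt).eq; rwa [hρ2] at this)
  have hMbot : ∀ x ∈ M, x = 1 := by
    intro x hx
    have e3 := f3 x hx
    rw [show (⟨z * s, mul_mem hzX hsX⟩ : X) = ⟨z, hzX⟩ * ⟨s, hsX⟩ from rfl, map_mul] at e3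
    have hcomm : φ ⟨z, hzX⟩ * φ ⟨s, hsX⟩ = φ ⟨s, hsX⟩ * φ ⟨z, hzX⟩ := by
      rw [← map_mul, ← map_mul]; exact congrArg φ (Subtype.ext F.s_comm.symm)
    have e2 : φ ⟨s, hsX⟩ * x⁻¹ * φ ⟨s, hsX⟩ = x := by
      rw [f2 _ (inv_mem hx), inv_inv]
    have e4 : φ ⟨z, hzX⟩ * φ ⟨s, hsX⟩ * x * (φ ⟨z, hzX⟩ * φ ⟨s, hsX⟩) = x := by
      calc φ ⟨z, hzX⟩ * φ ⟨s, hsX⟩ * x * (φ ⟨z, hzX⟩ * φ ⟨s, hsX⟩)
          = φ ⟨z, hzX⟩ * φ ⟨s, hsX⟩ * x * (φ ⟨s, hsX⟩ * φ ⟨z, hzX⟩) := by rw [hcomm]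
        _ = φ ⟨z, hzX⟩ * (φ ⟨s, hsX⟩ * x * φ ⟨s, hsX⟩) * φ ⟨z, hzX⟩ := by group
        _ = φ ⟨z, hzX⟩ * x⁻¹ * φ ⟨z, hzX⟩ := by rw [f2 x hx]
        _ = x := by rw [f1 _ (inv_mem hx), inv_inv]
    have hxx : x = x⁻¹ := e4.symm.trans e3
    by_contra hx1
    have h2 := orderOf_dvd_natCard (⟨x, hx⟩ : M)
    rw [Subgroup.orderOf_mk, CfsgLib.CITGroups.orderOf_two_of_mul_self
      (by calc x * x = x * x⁻¹ := by rw [← hxx]
            _ = 1 := mul_inv_cancel x) hx1] at h2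
    rw [Nat.odd_iff] at hModd
    omega
  obtain ⟨wX, hwX⟩ : ∃ wX : X, (wX : G) = w := ⟨⟨w, hXm.2 hw⟩, rfl⟩
  have h := hMbot _ (hM (φ wX))
  rw [← map_inv, ← map_inv, ← map_mul, ← map_mul, ← map_mul, hφ1] at h
  simp only [Subgroup.coe_mul, Subgroup.coe_inv, huX, hwX] at h
  rw [← hu]
  rcases h with e | e
  · left
    rw [mul_inv_eq_iff_eq_mul]
    have := mul_inv_eq_iff_eq_mul.1 (mul_inv_eq_one.1 e)
    exact this.symm
  · right
    rw [mul_inv_eq_iff_eq_mul, mul_inv_eq_iff_eq_mul] at e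
    -- `u w = t w u`
    have : w * u * w⁻¹ = t * u := by
      rw [mul_inv_eq_iff_eq_mul, mul_assoc t u w, e, ← mul_assoc t, ← mul_assoc t, T.t_sq, one_mul]
    exact this

/-- `K` is normal in `C(t)`. -/
theorem conj_mem_of_comm_t {w x : G} (hw : w * t = t * w) (hx : x ∈ Kgrp θ t) :
    w * x * w⁻¹ ∈ Kgrp θ t := by
  obtain ⟨h1, h2⟩ := mem_Kgrp.1 hx
  have e1 := (Commute.conj_iff w).2 (show Commute x t from h1)
  rw [mul_inv_eq_iff_eq_mul.2 hw] at e1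
  have e2 := (Commute.conj_iff w).2 (show Commute x (θ * t * θ⁻¹) from h2)
  refine mem_Kgrp.2 ⟨e1.eq, ?_⟩
  rcases T.X_normalizes hw with e | e <;> rw [e] at e2
  · exact e2.eq
  · have h := (Commute.mul_right e1 e2).eq
    rwa [← mul_assoc t, T.t_sq, one_mul] at h

/-- The conjugates of `z` centralising `t` form one class of `K`. -/
theorem exists_conj_of_zType {x : G} (hx : x * t = t * x) (hc : IsConj z x) :
    ∃ g ∈ Kgrp θ t, x = g * z * g⁻¹ := by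
  have F := T.frame
  obtain ⟨g, hg⟩ := isConj_iff.1 hc
  have hgt : (g⁻¹ * t * g) * z = z * (g⁻¹ * t * g) := by
    have h := (Commute.conj_iff g⁻¹).2 (show Commute t x from hx.symm)
    rw [← hg, show g⁻¹ * (g * z * g⁻¹) * g⁻¹⁻¹ = z by group, inv_inv] at h
    exact h.eq
  obtain ⟨d, hd, hdt⟩ := F.exists_conj_t T.cl hgt
    (by rw [show g⁻¹ * t * g * (g⁻¹ * t * g) = g⁻¹ * (t * t) * g by group, T.t_sq]; group)
    (fun e' => T.t_ne_one (conj_eq_one_iff.1 (show g⁻¹ * t * g⁻¹⁻¹ = 1 by rw [inv_inv, e'])))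
    (fun hh => T.not_isConj_z (hh.trans (isConj_iff.2 ⟨g, by group⟩)))
  have hgd : g * d * t = t * (g * d) := by
    refine mul_inv_eq_iff_eq_mul.1 ?_
    rw [show g * d * t * (g * d)⁻¹ = g * (d * t * d⁻¹) * g⁻¹ by group, hdt]; group
  have hxx : x = g * d * z * (g * d)⁻¹ := by
    rw [show g * d * z * (g * d)⁻¹ = g * (d * z * d⁻¹) * g⁻¹ by group,
      mul_inv_eq_iff_eq_mul.2 hd, hg]
  have hxK : x ∈ Kgrp θ t := hxx ▸ T.conj_mem_of_comm_t hgd T.z_mem_K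
  have hx2 : x * x = 1 := by
    rw [← hg, show g * z * g⁻¹ * (g * z * g⁻¹) = g * (z * z) * g⁻¹ by group, F.data.sub.mul_self]; group
  obtain ⟨v, k, hv, hk, hxe⟩ := T.exists_conj_z hxK hx2 fun hv => by
    refine T.not_isConj_memV_mul hv (fun e => ?_) (Or.inl rfl) (by rwa [mul_one])
    rw [← hg] at e
    exact F.data.sub.ne_one (conj_eq_one_iff.1 e)
  refine ⟨k, hk, ?_⟩
  rw [hxe, T.eq_one_of_isConj hv hk (hxe ▸ hc), one_mul]

/-- The order of `C(t)`. -/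
theorem card_cent_t : Nat.card (Subgroup.centralizer ({t} : Set G)) = 161280 := by
  classical
  obtain ⟨m, hmz, hmt, hms, hm1⟩ := T.exists_m_four
  have hXm : ∀ {c : G}, c ∈ Subgroup.centralizer ({t} : Set G) ↔ c * t = t * c := fun {c} =>
    Subgroup.mem_centralizer_singleton_iff
  have ht1 : t * (θ * t * θ⁻¹) ≠ θ * t * θ⁻¹ := fun e => T.t_ne_one (mul_eq_right.1 e)
  have hmK : m ∉ Kgrp θ t := fun h => by
    rw [mul_inv_eq_iff_eq_mul.2 (mem_Kgrp.1 h).2] at hm1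
    exact ht1 hm1.symm
  let f : Kgrp θ t × Bool → Subgroup.centralizer ({t} : Set G) := fun p =>
    ⟨(if p.2 then m else 1) * p.1, hXm.2 (by
      rcases p with ⟨k, _ | _⟩
      · simpa using (mem_Kgrp.1 k.2).1
      · exact (Commute.mul_left hmt (mem_Kgrp.1 k.2).1).eq)⟩
  have hf : Function.Bijective f := by
    constructor
    · rintro ⟨a, b⟩ ⟨a', b'⟩ h
      have h' : (if b then m else 1) * (a : G) = (if b' then m else 1) * (a' : G) :=
        congrArg Subtype.val h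
      cases b <;> cases b' <;> simp only [if_true, Bool.false_eq_true, if_false, one_mul] at h'
      · rw [Subtype.ext h']
      · exfalso; exact hmK (by
          rw [show m = (a : G) * (a' : G)⁻¹ by rw [h']; group]; exact mul_mem a.2 (inv_mem a'.2))
      · exfalso; exact hmK (by
          rw [show m = (a' : G) * (a : G)⁻¹ by rw [← h']; group]; exact mul_mem a'.2 (inv_mem a.2))
      · rw [Subtype.ext (mul_left_cancel h')]
    · rintro ⟨w, hw⟩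
      rcases T.X_normalizes (hXm.1 hw) with e | e
      · exact ⟨(⟨w, mem_Kgrp.2 ⟨hXm.1 hw, mul_inv_eq_iff_eq_mul.1 e⟩⟩, false),
          Subtype.ext (one_mul _)⟩
      · refine ⟨(⟨m⁻¹ * w, mem_Kgrp.2 ⟨(Commute.mul_left (Commute.inv_left hmt) (hXm.1 hw)).eq,
          mul_inv_eq_iff_eq_mul.1 ?_⟩⟩, true), Subtype.ext (mul_inv_cancel_left m w)⟩
        rw [show m⁻¹ * w * (θ * t * θ⁻¹) * (m⁻¹ * w)⁻¹ = m⁻¹ * (w * (θ * t * θ⁻¹) * w⁻¹) * m by group,
          e, ← hm1]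
        group
  rw [← Nat.card_eq_of_bijective f hf, Nat.card_prod, T.card_K, Nat.card_eq_fintype_card (α := Bool),
    Fintype.card_bool]

end Four

end CfsgLib.SuzType
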